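/-
Hyperfocal subgroups and strongly closed subgroups; a nilpotency criterion through weakly embedded subgroups.
-/
import Cfsg.Agent.Fus.Tate
import Cfsg.Agent.Fus.Nilp
import Cfsg.Agent.Fus.SmallEss3
import Cfsg.Agent.Grp.Frattini

set_option autoImplicit false

namespace CL.Fus

open Cfsg Cfsg.FusionSystem Subgroup
open scoped commutatorElement

variable {Ω : Type*} [Group Ω] {S T P Q R X Y Z K U : Subgroup Ω} {p : ℕ} {F : FusionSystem S} [hp : Fact p.Prime]

theorem exists_le_card_mul_eq [Finite T] (hT : IsPGroup p T) (hK : frat T ≤ K) (hKT : K ≤ T) (hUT : U ≤ T)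
    (hU : ¬ U ≤ K) : ∃ Q, K ≤ Q ∧ Q ≤ T ∧ ¬ U ≤ Q ∧ p * Nat.card Q = Nat.card T := by
  have := (normal_subgroupOf_iff_le_normalizer hKT).2 (le_normalizer_of_frat_le hT hK hKT)
  have hs := QuotientGroup.mk'_surjective (K.subgroupOf T)
  have h1 : frattini (T ⧸ K.subgroupOf T) = ⊥ := by
    rw [← CL.Grp.map_frattini_of_surjective_pGroup hT _ hs, Subgroup.map_eq_bot_iff, QuotientGroup.ker_mk', ← frat_subgroupOf]
    exact subgroupOf_mono T hK
  obtain ⟨M, hM, hM'⟩ := CL.Grp.exists_isCoatom_not_le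
    (N := (U.subgroupOf T).map (QuotientGroup.mk' (K.subgroupOf T))) fun k => hU fun x hx => by
      rw [h1, le_bot_iff, Subgroup.map_eq_bot_iff, QuotientGroup.ker_mk'] at k
      exact k (show (⟨x, hUT hx⟩ : T) ∈ U.subgroupOf T from hx)
  refine ⟨(M.comap (QuotientGroup.mk' _)).map T.subtype, fun x hx => ⟨⟨x, hKT hx⟩, ?_, rfl⟩, map_subtype_le _,
    fun k => hM' (map_le_iff_le_comap.2 fun x hx => (mem_map_iff_mem T.subtype_injective).1 (k hx)), ?_⟩
  · have : QuotientGroup.mk' (K.subgroupOf T) ⟨x, hKT hx⟩ = 1 := (QuotientGroup.eq_one_iff _).2 hx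
    rw [SetLike.mem_coe, mem_comap, this]
    exact one_mem _
  · rw [card_map_of_injective T.subtype_injective, ← (M.comap (QuotientGroup.mk' _)).index_mul_card,
      index_comap_of_surjective _ hs, (CL.Grp.isCoatom_iff_index_eq_pGroup (hT.to_quotient _)).1 hM]

variable [Finite S]

theorem exists_normalized_card_eq (hS : IsPGroup p S) (hXY : X ≤ Y) (hY : Y ≤ S) (hX : S ≤ normalizer (X : Set Ω))
    (hY' : S ≤ normalizer (Y : Set Ω)) {b : ℕ} (h1 : Nat.card X ≤ p ^ b) (h2 : p ^ b ≤ Nat.card Y) :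
    ∃ K, X ≤ K ∧ K ≤ Y ∧ S ≤ normalizer (K : Set Ω) ∧ Nat.card K = p ^ b := by
  have := (normal_subgroupOf_iff_le_normalizer (hXY.trans hY)).2 hX
  have := (normal_subgroupOf_iff_le_normalizer hY).2 hY'
  obtain ⟨K, hK, h3, h4, h5⟩ := CL.Grp.exists_normal_card_eq_pow_between hS (subgroupOf_mono S hXY) (b := b)
    ((Nat.card_congr (subgroupOfEquivOfLe (hXY.trans hY)).toEquiv).trans_le h1)
    (h2.trans_eq (Nat.card_congr (subgroupOfEquivOfLe hY).toEquiv).symm)
  refine ⟨K.map S.subtype, fun x hx => ⟨⟨x, hY (hXY hx)⟩, h3 hx, rfl⟩, map_le_iff_le_comap.2 h4,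
    (normal_subgroupOf_iff_le_normalizer (map_subtype_le K)).1 ?_, (card_map_of_injective S.subtype_injective).trans h5⟩
  rwa [subgroupOf, comap_map_eq_self_of_injective S.subtype_injective]

omit hp in
theorem PLoc.top_of_stronglyClosed (hX : F.StronglyClosed X) (h : PLoc F p X ⊤) : PLoc F p S ⊤ := fun P α hα => by
  obtain ⟨h1, g, hg, h2, -⟩ := nMor_top_iff.1 hα
  exact h P α (nMor_top_iff.2 ⟨hg.le.trans' le_sup_left |>.trans (StronglyClosed.normalizerIn_eq hX).ge, g,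
    hg.mono (sup_le_sup_left hX.1 P), h2, StronglyClosed.img_eq hX hg (hX.1.trans le_sup_right)⟩)

theorem hyperfocal_le_of_pLoc (hS : IsPGroup p S) (hF : F.IsSaturated p) (hX : F.StronglyClosed X)
    (h : PLoc F p X ⊤) : F.hyperfocalSubgroup p ≤ X := hyperfocal_le_iff.2 fun P hP α hα hc x hx => by
  obtain ⟨γ, hγ, hγc, e⟩ := exists_coprime_lift hS hF hX hP hα hc
  have hm := (mem_autGroup_iff (sup_le hP hX.1)).1 hγ
  obtain ⟨k, hk⟩ := h _ γ (nMor_top_iff.2 ⟨hm.le.trans (StronglyClosed.normalizerIn_eq hX).ge, _,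
    hm.mono (sup_le le_rfl le_sup_right), fun _ _ => rfl, StronglyClosed.img_eq hX hm le_sup_right⟩)
  have h1 : γ = 1 := orderOf_eq_one_iff.1 (Nat.eq_one_of_dvd_coprimes (hγc.pow_right k) dvd_rfl (orderOf_dvd_of_pow_eq_one hk))
  have h2 := Subgroup.inv_mem _ (e x hx)
  rwa [h1, autFun_one (mem_sup_left hx), mul_inv_rev, inv_inv] at h2

theorem hyperfocal_le_bot_of_card_le (hS : IsPGroup p S) (hF : F.IsSaturated p) (hZ : F.StronglyClosed Z)
    (hc : Nat.card Z ≤ p) (hU : F.hyperfocalSubgroup p ≤ Z) (h : PLoc F p S ⊤) : F.hyperfocalSubgroup p ≤ ⊥ :=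
  hyperfocal_le_iff.2 fun P hP α hα hα' x hx => by
    have := finite_of_le hP
    have := finite_of_le hZ.1
    have h1 : α = 1 := eq_one_of_fix_of_comm (T := Z) (hS.to_le hP) hα'
      (fun x hx => hU (inv_mul_mem_hyperfocal' hP hα hα' hx)) fun z hz hzZ => by
        by_cases h1 : z = 1
        · rw [h1, (homOn_autFun α).map_one]
        have h2 : Nat.card Z = p := le_antisymm hc (by
          simpa using mul_card_le_of_lt (hS.to_le hZ.1) (bot_lt_iff_ne_bot.2 fun e => h1 (mem_bot.1 (e ▸ hzZ))))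
        have h3 : Z ≤ P := fun v hv => by
          obtain ⟨m, rfl⟩ := exists_eq_zpow_of_card_prime h2 hzZ h1 hv
          exact zpow_mem hz m
        have hm := ((mem_autGroup_iff hP).1 hα).mono h3
        have h4 := StronglyClosed.img_eq hZ hm le_rfl
        obtain ⟨β, hβ⟩ := exists_aut_of_img_eq hm.homOn hm.injOn h4
        obtain ⟨g, hg, e⟩ := hm.extend_centralizerIn (h4.symm ▸ receptive_of_fullyCentralized hS hF
          (WeaklyClosed.isFullyCentralized (StronglyClosed.weaklyClosed hZ)))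
        have h5 : S ≤ Z ⊔ centralizerIn S Z := fun a ha => mem_sup_right ⟨ha, fun v hv => by
          have := comm_mem_of_card_le hS (K := ⊥) bot_le hZ.1 le_normalizer_of_normal ha (le_normalizer_of_normal (mem_top a))
            (StronglyClosed.le_normalizer hZ ha) (by simpa using hc) hv
          rw [mem_bot, inv_mul_eq_one, eq_mul_inv_iff_mul_eq] at this
          exact this⟩
        have hg' := hg.mono h5
        obtain ⟨k, hk⟩ := h Z β (nMor_top_iff.2 ⟨le_inf hZ.1 (hZ.1.trans le_normalizer), g,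
          hg'.mono (sup_le hZ.1 le_rfl), fun v hv => (e v hv).trans (hβ v hv), hg'.img_eq_self le_rfl fun _ => hg'.mem⟩)
        rw [hβ z hzZ, mulAut_eq_one_of_card_prime h2 hk, autFun_one hzZ]
    rw [h1, autFun_one hx, inv_mul_cancel]
    exact one_mem _

theorem hyperfocal_le_of_card_le (hS : IsPGroup p S) (hF : F.IsSaturated p) (hX : F.StronglyClosed X)
    (hY : F.StronglyClosed Y) (hXY : X ≤ Y) (hc : Nat.card Y ≤ p * Nat.card X) (hU : F.hyperfocalSubgroup p ≤ Y)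
    (h : PLoc F p S ⊤) : F.hyperfocalSubgroup p ≤ X := by
  have := StronglyClosed.normal_subgroupOf hX
  have := finite_of_le hX.1
  obtain ⟨E, hE⟩ := exists_isFactorSystem_mk' hX
  have h1 := hyperfocal_le_bot_of_card_le (IsFactorSystem.isPGroup hE hS) (IsFactorSystem.isSaturated hS hF hX hE)
    (IsFactorSystem.stronglyClosed_img hE hY)
    (Nat.le_of_mul_le_mul_right ((IsFactorSystem.card_img_mul hE hY.1 hXY).trans_le hc) Nat.card_pos)
    ((IsFactorSystem.hyperfocal_eq hS hF hX hE).trans_le (img_mono _ hU))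
    (PLoc.factor hE hX le_rfl ((IsFactorSystem.pre_top hE).symm ▸ h))
  rw [IsFactorSystem.hyperfocal_eq hS hF hX hE, ← le_preimageAlong_iff (hyperfocalSubgroup_le F p),
    IsFactorSystem.pre_bot hE] at h1
  exact h1

/-- Tate's theorem modulo a strongly closed subgroup. -/
theorem hyperfocal_le_of_le_sup_frat (hS : IsPGroup p S) (hF : F.IsSaturated p) (hY : F.StronglyClosed Y)
    (h : F.hyperfocalSubgroup p ≤ Y ⊔ frat S) : F.hyperfocalSubgroup p ≤ Y := by
  have := StronglyClosed.normal_subgroupOf hY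
  obtain ⟨E, hE⟩ := exists_isFactorSystem_mk' hY
  have hS' := IsFactorSystem.isPGroup hE hS
  have h1 := hyperfocal_le_of_le_sup_frattini hS' (IsFactorSystem.isSaturated hS hF hY hE) (L := ⊥) bot_le
    le_normalizer_of_normal
    (le_sup_of_le_left (by
      rw [IsFactorSystem.hyperfocal_eq hS hF hY hE, ← le_preimageAlong_iff (hyperfocalSubgroup_le F p)]
      refine h.trans (sup_le (IsFactorSystem.le_pre hE _) ?_)
      rintro _ ⟨x, hx, rfl⟩
      refine mem_preimageAlong.2 ⟨x.2, ⟨QuotientGroup.mk x, mem_top _⟩, ?_, (ext_coe (QuotientGroup.mk' _) x).symm⟩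
      exact CL.Grp.map_frattini_le_pGroup hS' ((QuotientGroup.mk' _).codRestrict ⊤ fun _ => mem_top _) ⟨x, hx, rfl⟩))
  rw [IsFactorSystem.hyperfocal_eq hS hF hY hE, ← le_preimageAlong_iff (hyperfocalSubgroup_le F p),
    IsFactorSystem.pre_bot hE] at h1
  exact h1

/-- `Q` is weakly embedded in `F` -/
def WeakEmb (F : FusionSystem S) (Q : Subgroup Ω) : Prop :=
  ∃ P, F.StronglyClosed P ∧ F.StronglyClosed (Q ⊔ P) ∧ F.StronglyClosed (Q ⊓ P)

omit hp [Finite S] in
theorem WeakEmb.inf (h : WeakEmb F Q) (hT : F.StronglyClosed T) (hQ : Q ≤ T) :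
    ∃ P, P ≤ T ∧ F.StronglyClosed P ∧ F.StronglyClosed (Q ⊔ P) ∧ F.StronglyClosed (Q ⊓ P) := by
  obtain ⟨P, h1, h2, h3⟩ := h
  refine ⟨P ⊓ T, inf_le_right, StronglyClosed.inf h1 hT, ?_, inf_assoc Q P T ▸ StronglyClosed.inf h3 hT⟩
  rw [← CL.Grp.dedekind_left ((hQ.trans hT.1).trans (StronglyClosed.le_normalizer h1)) hQ]
  exact StronglyClosed.inf h2 hT

theorem exists_stronglyClosed_card_eq (hS : IsPGroup p S) (hF : F.IsSaturated p) {k : ℕ} (hk : p ^ k ≤ Nat.card S)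
    (h : ∀ Q, Q ≤ S → Nat.card Q = p ^ k → WeakEmb F Q) : ∃ H, F.StronglyClosed H ∧ Nat.card H = p ^ k := by
  obtain ⟨N, ⟨hN, hN1⟩, hN2⟩ := exists_max_of_bdd (fun N => F.StronglyClosed N ∧ Nat.card N ≤ p ^ k)
    ⟨⊥, stronglyClosed_bot F, card_bot.trans_le (pow_pos hp.out.pos k)⟩ (fun N => Nat.card N) _ fun _ h => h.2
  rcases hN1.eq_or_lt with h1 | h1
  · exact ⟨N, hN, h1⟩
  obtain ⟨M, ⟨hM, hM1⟩, hM2⟩ := (measure fun M : Subgroup Ω => Nat.card M).wf.has_min
    {M | F.StronglyClosed M ∧ N < M} ⟨S, stronglyClosed_self F, lt_of_le_of_ne hN.1 fun e => (h1.trans_le hk).ne (e ▸ rfl)⟩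
  have := finite_of_le hM.1
  obtain ⟨Q, hNQ, hQM, -, hQ⟩ := exists_normalized_card_eq hS hM1.le hM.1 (StronglyClosed.le_normalizer hN)
    (StronglyClosed.le_normalizer hM) h1.le (not_lt.1 fun k => (card_lt_of_lt hM1).not_ge (hN2 M ⟨hM, k.le⟩))
  obtain ⟨P, hPM, hP, h2, h3⟩ := (h Q (hQM.trans hM.1) hQ).inf hM hQM
  refine ⟨Q, ?_, hQ⟩
  by_cases h4 : P ≤ N
  · rwa [sup_eq_left.2 (h4.trans hNQ)] at h2
  · have h5 : N ⊔ P = M := eq_of_le_of_card_ge (sup_le hM1.le hPM)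
      (not_lt.1 (hM2 _ ⟨StronglyClosed.sup hS hF hN hP, left_lt_sup.2 h4⟩))
    have h6 := StronglyClosed.sup hS hF hN h3
    rwa [inf_comm, ← CL.Grp.dedekind_left (hN.1.trans (StronglyClosed.le_normalizer hP)) hNQ, h5,
      inf_eq_right.2 hQM] at h6

theorem eq_inner_of_weakEmb (hS : IsPGroup p S) (hF : F.IsSaturated p) {k : ℕ} (hk : p ^ (k + 1) ≤ Nat.card S)
    (h : ∀ Q, Q ≤ S → Nat.card Q = p ^ k → WeakEmb F Q)
    (h' : ∀ H, F.StronglyClosed H → Nat.card H = p ^ k → PLoc F p H ⊤) : F = innerFusionSystem S := by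
  have hkk : p ^ k ≤ p ^ (k + 1) := Nat.pow_le_pow_right hp.out.pos k.le_succ
  obtain ⟨H, hH, hH1⟩ := exists_stronglyClosed_card_eq hS hF (hkk.trans hk) h
  have hUH := hyperfocal_le_of_pLoc hS hF hH (h' H hH hH1)
  obtain ⟨T, hHT, hTS, hTn, hT1⟩ := exists_normalized_card_eq hS hH.1 le_rfl (StronglyClosed.le_normalizer hH)
    le_normalizer (hH1.trans_le hkk) hk
  have hUT := hUH.trans hHT
  have hT := stronglyClosed_of_hyperfocal_le hS hF hUT hTS hTn
  have := finite_of_le hTS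
  have hΦ : frat T ≤ frat S := (frat_le_iff (hS.to_le hTS)).2
    ⟨(commutator_mono hTS hTS).trans ((frat_le_iff hS).1 le_rfl).1, fun x hx => ((frat_le_iff hS).1 le_rfl).2 x (hTS hx)⟩
  refine eq_inner_of_hyperfocal_le_frattini hS hF (by_contra fun hc => ?_)
  obtain ⟨X, ⟨hX, hXT, hX1⟩, hX2⟩ := exists_max_of_bdd
    (fun X => F.StronglyClosed X ∧ X ≤ T ∧ ¬ F.hyperfocalSubgroup p ≤ X ⊔ frat T)
    ⟨⊥, stronglyClosed_bot F, bot_le, fun k => hc (k.trans (sup_le bot_le hΦ))⟩ (fun N => Nat.card N) _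
    fun _ h => card_le_of_le h.1.1
  obtain ⟨Q, hXQ, hQT, hQ, hQ1⟩ := exists_le_card_mul_eq (hS.to_le hTS) le_sup_right (sup_le hXT (frat_le T)) hUT hX1
  have hQ2 : Nat.card Q = p ^ k := Nat.eq_of_mul_eq_mul_left hp.out.pos (by rw [hQ1, hT1, pow_succ'])
  obtain ⟨P, hPT, hP, h2, h3⟩ := (h Q (hQT.trans hTS) hQ2).inf hT hQT
  have h4 : ¬ P ≤ Q := fun k => by
    rw [sup_eq_left.2 k] at h2
    exact hQ (hyperfocal_le_of_pLoc hS hF h2 (h' Q h2 hQ2))
  have key : ∀ Y, F.StronglyClosed Y → Y ≤ T → ¬ Y ≤ X → F.hyperfocalSubgroup p ≤ (X ⊔ Y) ⊔ frat T :=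
    fun Y hY hYT hYX => by_contra fun k => by
      have := finite_of_le (sup_le hX.1 hY.1)
      exact (card_lt_of_lt (left_lt_sup.2 hYX)).not_ge (hX2 _ ⟨StronglyClosed.sup hS hF hX hY, sup_le hXT hYT, k⟩)
  have h5 : Q ⊓ P ≤ X := by_contra fun k => hQ ((key _ h3 (inf_le_left.trans hQT) k).trans
    (sup_le (sup_le (le_sup_left.trans hXQ) inf_le_left) (le_sup_right.trans hXQ)))
  have hY := StronglyClosed.sup hS hF hX hP
  refine hX1 (le_sup_of_le_left (hyperfocal_le_of_card_le hS hF hX hY le_sup_left ?_ (hyperfocal_le_of_le_sup_frat hS hF hY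
    ((key P hP hPT fun k => h4 (k.trans (le_sup_left.trans hXQ))).trans (sup_le_sup_left hΦ _)))
    ((h' H hH hH1).top_of_stronglyClosed hH)))
  have h6 := CL.Grp.card_sup_mul_card_inf (hX.1.trans (StronglyClosed.le_normalizer hP))
  have h7 := CL.Grp.card_sup_mul_card_inf ((hQT.trans hTS).trans (StronglyClosed.le_normalizer hP))
  have := finite_of_le hQT
  have := finite_of_le (inf_le_left : Q ⊓ P ≤ Q)
  rw [show X ⊓ P = Q ⊓ P from le_antisymm (inf_le_inf_right P (le_sup_left.trans hXQ)) (le_inf h5 inf_le_right)] at h6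
  have h8 : Nat.card P ≤ p * Nat.card (Q ⊓ P : Subgroup Ω) := Nat.le_of_mul_le_mul_left (c := Nat.card Q) (by
    rw [← h7, ← mul_assoc, mul_comm _ p, hQ1]
    exact Nat.mul_le_mul_right _ (card_le_of_le (sup_le hQT hPT))) Nat.card_pos
  refine Nat.le_of_mul_le_mul_right (c := Nat.card (Q ⊓ P : Subgroup Ω)) ?_ Nat.card_pos
  rw [h6, mul_comm p, mul_assoc]
  exact Nat.mul_le_mul_left _ h8

end CL.Fus
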