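/-
Weights of an endomorphism on sections of prime order, and their behaviour under commutators.
-/
import Cfsg.Agent.Fus.MaxCl3
import Cfsg.Agent.Fus.SmallEss3
import Cfsg.Agent.Fus.Yoshida

set_option autoImplicit false

namespace CL.Fus

open Cfsg Cfsg.FusionSystem Subgroup CL.Fgs
open scoped commutatorElement

local notation "γ[" G ", " j "]" => Subgroup.lowerCentralSeries (⊤ : Subgroup G) j

section Grp

variable {G : Type*} [Group G] {σ : G →* G} {M N K L : Subgroup G} {a b : ℤ} {x y : G}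

/-- `σ` acts on `M` modulo `N` as the `a`-th power map -/
def PowOn (σ : G →* G) (M N : Subgroup G) (a : ℤ) : Prop := ∀ x ∈ M, (x ^ a)⁻¹ * σ x ∈ N

theorem inv_mul_mem_iff_mk [N.Normal] : (x ^ a)⁻¹ * y ∈ N ↔ (y : G ⧸ N) = (x : G ⧸ N) ^ a := by
  rw [← QuotientGroup.eq, QuotientGroup.mk_zpow, eq_comm]

theorem PowOn.mono (h : PowOn σ M N a) (hM : K ≤ M) (hN : N ≤ L) : PowOn σ K L a := fun x hx => hN (h x (hM hx))

theorem PowOn.inf (h : PowOn σ M N a) (hK : ∀ x ∈ K, σ x ∈ K) : PowOn σ (M ⊓ K) (N ⊓ K) a := fun x hx =>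
  ⟨h x hx.1, K.mul_mem (K.inv_mem (K.zpow_mem hx.2 a)) (hK x hx.2)⟩

theorem powOn_of_elem [N.Normal] (hN : ∀ x ∈ N, σ x ∈ N) (h : (x ^ a)⁻¹ * σ x ∈ N) (hM : M ≤ N ⊔ zpowers x) :
    PowOn σ M N a := fun y hy => by
  obtain ⟨n, hn, _, ⟨i, rfl⟩, rfl⟩ := mem_sup_of_normal_left.1 (hM hy)
  rw [inv_mul_mem_iff_mk] at h ⊢
  simp only [map_mul, map_zpow, QuotientGroup.mk_mul, QuotientGroup.mk_zpow, (QuotientGroup.eq_one_iff _).2 hn,
    (QuotientGroup.eq_one_iff _).2 (hN n hn), one_mul, h, ← zpow_mul, mul_comm]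

theorem PowOn.comm {M₁ N₁ M₂ N₂ : Subgroup G} [N.Normal] (h₁ : PowOn σ M₁ N₁ a) (h₂ : PowOn σ M₂ N₂ b)
    (l₂ : N₂ ≤ M₂) (c₁ : ⁅N₁, M₂⁆ ≤ N) (c₂ : ⁅M₁, N₂⁆ ≤ N) (hx : x ∈ M₁) (hy : y ∈ M₂) (cx : ⁅⁅x, y⁆, x⁆ ∈ N)
    (cy : ⁅⁅x, y⁆, y⁆ ∈ N) : (⁅x, y⁆ ^ (a * b))⁻¹ * σ ⁅x, y⁆ ∈ N := by
  have hu := h₁ x hx
  have hv := h₂ y hy
  have e1 : σ x = x ^ a * ((x ^ a)⁻¹ * σ x) := (mul_inv_cancel_left _ _).symm
  have e2 : σ y = y ^ b * ((y ^ b)⁻¹ * σ y) := (mul_inv_cancel_left _ _).symm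
  set u := (x ^ a)⁻¹ * σ x
  set v := (y ^ b)⁻¹ * σ y
  have k1 := (commute_mk_of_mem (c₁ (commutator_mem_commutator hu (mul_mem (zpow_mem hy b) (l₂ hv))))).commutator_eq
  have k2 := (commute_mk_of_mem (c₂ (commutator_mem_commutator (zpow_mem hx a) hv))).commutator_eq
  have k3 : Commute (x : G ⧸ N) ⁅(x : G ⧸ N), (y : G ⧸ N)⁆ := (commute_mk_of_mem cx).symm
  have k4 : Commute (y : G ⧸ N) ⁅(x : G ⧸ N), (y : G ⧸ N)⁆ := (commute_mk_of_mem cy).symm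
  rw [inv_mul_mem_iff_mk, map_commutatorElement, e1, e2]
  change ⁅((x ^ a * u : G) : G ⧸ N), ((y ^ b * v : G) : G ⧸ N)⁆ = ⁅(x : G ⧸ N), (y : G ⧸ N)⁆ ^ (a * b)
  rw [QuotientGroup.mk_mul N (x ^ a), commutatorElement_mul_left_eq_conj_mul, k1, mul_one, mul_inv_cancel, one_mul,
    QuotientGroup.mk_mul, commutatorElement_mul_right_eq_mul_conj, k2, mul_one, mul_inv_cancel_right,
    QuotientGroup.mk_zpow, QuotientGroup.mk_zpow, CL.Grp.comm_zpow_right, CL.Grp.comm_zpow_left k3, zpow_mul]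
  rw [CL.Grp.comm_zpow_left k3]
  exact k4.zpow_right a

variable {p : ℕ} [hp : Fact p.Prime]

theorem dvd_sub_of_pow (hx : x ∉ N) (hxp : x ^ p ∈ N) (h₁ : (x ^ a)⁻¹ * y ∈ N) (h₂ : (x ^ b)⁻¹ * y ∈ N) :
    (p : ℤ) ∣ a - b := by_contra fun k => hx (mem_of_zpow_mem_of_not_dvd hxp (m := a - b) (by
      have := mul_mem h₂ (Subgroup.inv_mem _ h₁)
      rwa [mul_inv_rev, inv_inv, mul_assoc, mul_inv_cancel_left, ← zpow_neg, ← zpow_add, neg_add_eq_sub] at this) k)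

theorem exists_powOn [N.Normal] (hN : ∀ x ∈ N, σ x ∈ N) (hM : ∀ x ∈ M, σ x ∈ M) (hNM : N ≤ M)
    (h : N.relIndex M = p) : ∃ a, PowOn σ M N a := by
  obtain ⟨x, hx, hxN⟩ := SetLike.exists_of_lt (lt_of_le_of_ne hNM fun e => hp.out.ne_one (by
    rw [← h, e, relIndex_self]))
  obtain ⟨a, ha⟩ := exists_zpow_inv_mul_mem_of_relIndex hNM h hx (le_normalizer_of_normal (mem_top x)) hxN (hM x hx)
  refine ⟨a, powOn_of_elem hN ha ((CL.Grp.eq_or_eq_of_relIndex_prime le_sup_left (sup_le hNM (zpowers_le.2 hx))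
    (h ▸ hp.out)).resolve_left fun e => hxN (e.le (mem_sup_right (mem_zpowers x)))).ge⟩

variable [Finite G]

theorem mem_of_map_mem (hσ : Function.Injective σ) (hN : ∀ x ∈ N, σ x ∈ N) (h : σ x ∈ N) : x ∈ N := by
  have h1 : N.map σ = N := eq_of_le_of_card_ge (map_le_iff_le_comap.2 hN) (card_map_of_injective hσ).ge
  rwa [← h1, mem_map_iff_mem hσ] at h

omit hp in
theorem not_dvd_of_pow (hσ : Function.Injective σ) (hN : ∀ x ∈ N, σ x ∈ N) (hx : x ∉ N) (hxp : x ^ p ∈ N)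
    (h : (x ^ a)⁻¹ * σ x ∈ N) : ¬ (p : ℤ) ∣ a := by
  rintro ⟨k, rfl⟩
  rw [zpow_mul, zpow_natCast, mul_mem_cancel_left (Subgroup.inv_mem _ (zpow_mem hxp k))] at h
  exact hx (mem_of_map_mem hσ hN h)

omit [Finite G] in
theorem map_mem_lcs (σ : G →* G) (j : ℕ) (x : G) (hx : x ∈ γ[G, j]) : σ x ∈ γ[G, j] :=
  Subgroup.lowerCentralSeries_mono j (le_top : (⊤ : Subgroup G).map σ ≤ ⊤)
    ((Subgroup.map_lowerCentralSeries ⊤ σ j).le (mem_map_of_mem σ hx))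

theorem map_mem_of_comm (hσ : Function.Injective σ) (hK : ∀ x ∈ K, σ x ∈ K) (hN : ∀ x ∈ N, σ x ∈ N)
    (h : ∀ y ∈ K, ⁅y, x⁆ ∈ N) : ∀ y ∈ K, ⁅y, σ x⁆ ∈ N := fun y hy => by
  obtain ⟨y, rfl⟩ := Finite.surjective_of_injective hσ y
  rw [← map_commutatorElement]
  exact hN _ (h y (mem_of_map_mem hσ hK hy))

theorem map_mem_twoStep (hσ : Function.Injective σ) (j : ℕ) (x : G) (hx : x ∈ twoStep G j) : σ x ∈ twoStep G j :=
  mem_twoStep.2 (map_mem_of_comm hσ (map_mem_lcs σ j) (map_mem_lcs σ _) (mem_twoStep.1 hx))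

instance normal_twoStep {G : Type*} [Group G] (j : ℕ) : (twoStep G j).Normal :=
  ⟨fun x hx g => by
    have := mul_mem (lcs_one_le_twoStep j (CL.Grp.comm_mem_commutator g x)) hx
    simpa [commutatorElement_def] using this⟩

theorem index_twoStep {n j : ℕ} (h : MaxCl p n G) (h1 : 1 ≤ j) (hj : j + 3 ≤ n) :
    (twoStep G j).index = p ∧ (γ[G, 1]).relIndex (twoStep G j) = p := by
  obtain ⟨t, ht, ht1⟩ := exists_mem_twoStep h h1
  have h2 := relIndex_mul_index (lcs_one_le_twoStep (G := G) j)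
  rw [h.index_lcs le_rfl (by omega)] at h2
  have h3 := CL.Grp.dvd_relIndex_of_not_le h.isPGroup (H := γ[G, 1]) (K := twoStep G j) fun k => ht1 (k ht)
  have h4 := CL.Grp.mul_index_dvd_index_of_lt h.isPGroup
    (lt_top_iff_ne_top.2 (twoStep_ne_top h.isPGroup (j := j) (by rw [h.cl]; omega)))
  rw [index_top, mul_one] at h4
  obtain ⟨a, ha⟩ := h3
  obtain ⟨b, hb⟩ := h4
  rw [ha, hb, mul_mul_mul_comm, ← sq, ← mul_one (p ^ (1 + 1))] at h2
  have h5 := Nat.eq_of_mul_eq_mul_left (pow_pos hp.out.pos 2) h2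
  rw [ha, hb, Nat.eq_one_of_mul_eq_one_left h5, Nat.eq_one_of_mul_eq_one_right h5, mul_one]
  exact ⟨rfl, rfl⟩

/-- the weight on `γ (j + 1) / γ (j + 2)` is the product of the weights on `γ j / γ (j + 1)` and `G / twoStep j` -/
theorem PowOn.lcs_succ {n j : ℕ} (h : MaxCl p n G) (h1 : 1 ≤ j) (hj : j + 3 ≤ n) (ha : PowOn σ γ[G, j] γ[G, j + 1] a)
    (hb : PowOn σ ⊤ (twoStep G j) b) : PowOn σ γ[G, j + 1] γ[G, j + 2] (a * b) := by
  obtain ⟨x, hx, hx'⟩ := SetLike.exists_of_lt (h.lcs_succ_lt (j := j) (by omega))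
  obtain ⟨s, -, hs⟩ := SetLike.exists_of_lt
    (lt_top_iff_ne_top.2 (twoStep_ne_top h.isPGroup (j := j) (by rw [h.cl]; omega)))
  have h2 := comm_mem_lcs_succ hx s
  exact powOn_of_elem (map_mem_lcs σ _) (ha.comm hb le_top (commutator_mono le_rfl le_top)
    (commutator_lcs_twoStep_le j) hx (mem_top s) (comm_mem_lcs_succ h2 _) (comm_mem_lcs_succ h2 _))
    (h.sup_zpowers_eq (by omega) h2 fun k => hs (h.mem_twoStep_of h1 hx hx' k)).ge

theorem PowOn.lcs_one {n : ℕ} (h : MaxCl p n G) {C : Subgroup G} (hC : C ≠ ⊤) (h1 : γ[G, 1] < C)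
    (ha : PowOn σ C γ[G, 1] a) (hb : PowOn σ ⊤ C b) : PowOn σ γ[G, 1] γ[G, 2] (a * b) := by
  obtain ⟨t, ht, ht1⟩ := SetLike.exists_of_lt h1
  obtain ⟨s, -, hs⟩ := SetLike.exists_of_lt (lt_top_iff_ne_top.2 hC)
  have e := eq_sup_zpowers_of_maxCl h hC h1.le ht ht1
  have h2 := CL.Grp.comm_mem_commutator t s
  refine powOn_of_elem (map_mem_lcs σ _) (ha.comm hb le_top le_rfl ?_ ht (mem_top s)
    (comm_mem_lcs_succ (j := 1) h2 _) (comm_mem_lcs_succ (j := 1) h2 _)) (h.sup_zpowers_eq le_rfl h2 fun k => ?_).ge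
  · rw [e]
    refine CL.Grp.commutator_sup_left_le (commutator_mono le_rfl le_top) (CL.Grp.commutator_sup_right_le ?_
      ((commutator_eq_bot_iff_le_centralizer.2 (le_centralizer _)).le.trans bot_le))
    rw [commutator_comm]
    exact commutator_mono le_rfl le_top
  · exact h.comm_notMem_lcs_two ht1 (e ▸ hs) (by rw [← commutatorElement_inv]; exact Subgroup.inv_mem _ k)

/-- weights on a group of maximal class of order `p ^ 5` whose two-step centralizer is not abelian -/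
theorem powOn_five (h : MaxCl p 5 G) (hna : ¬ IsMulCommutative (twoStep G 1)) (hσ : Function.Injective σ)
    (ha : PowOn σ ⊤ (twoStep G 1) a) : PowOn σ (twoStep G 1) γ[G, 1] (a ^ 2) ∧ PowOn σ γ[G, 3] ⊥ (a ^ 5) := by
  obtain ⟨hi, hi'⟩ := index_twoStep h (j := 1) le_rfl (by omega)
  obtain ⟨b, hb⟩ := exists_powOn (map_mem_lcs σ 1) (map_mem_twoStep hσ 1) (lcs_one_le_twoStep 1) hi'
  obtain ⟨t, ht, ht1⟩ := exists_mem_twoStep h (j := 1) le_rfl
  have hC := twoStep_ne_top h.isPGroup (j := 1) (by rw [h.cl]; omega)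
  have h4 : γ[G, 4] = ⊥ := h.lcs_eq_bot (by omega)
  have h12 := twoStep_eq_of_le h le_rfl (j := 2) le_rfl (twoStep_one_le_two h)
  have w1 := hb.lcs_one h hC (lt_of_le_of_ne (lcs_one_le_twoStep 1) fun e => ht1 (e ▸ ht)) ha
  have w3 := (w1.lcs_succ h le_rfl (by omega) ha).lcs_succ h (by omega) le_rfl (h12 ▸ ha)
  have e := eq_sup_zpowers_of_maxCl h hC (lcs_one_le_twoStep 1) ht ht1
  have c1 : ⁅γ[G, 1], γ[G, 1]⁆ ≤ ⊥ := h4 ▸ commutator_lcs_self_le h (j := 1) le_rfl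
  obtain ⟨x, hx, hxt⟩ : ∃ x ∈ γ[G, 1], ⁅x, t⁆ ≠ 1 := by
    by_contra! k
    have k1 : ⁅γ[G, 1], zpowers t⁆ ≤ ⊥ := by
      rw [le_bot_iff, commutator_comm, commutator_eq_bot_iff_le_centralizer, zpowers_le]
      exact fun x hx => commutatorElement_eq_one_iff_mul_comm.1 (k x hx)
    have k2 : ⁅twoStep G 1, twoStep G 1⁆ ≤ ⊥ := by
      rw [e]
      refine CL.Grp.commutator_sup_left_le (CL.Grp.commutator_sup_right_le c1 k1) (CL.Grp.commutator_sup_right_le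
        ((commutator_comm _ _).le.trans k1) (commutator_eq_bot_iff_le_centralizer.2 (le_centralizer _)).le)
    exact hna ⟨⟨fun u v => Subtype.ext (commutatorElement_eq_one_iff_mul_comm.1
      (k2 (commutator_mem_commutator u.2 v.2)))⟩⟩
  have h3 := mem_twoStep.1 ht x hx
  have k := w1.comm hb (N := ⊥) (lcs_one_le_twoStep 1)
    (by rw [h12, ← h4]; exact commutator_lcs_twoStep_le 2) c1 hx ht (h4 ▸ comm_mem_lcs_succ h3 _)
    (h4 ▸ comm_mem_lcs_succ h3 _)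
  have hp3 : ∀ z ∈ γ[G, 3], z ^ p ∈ (⊥ : Subgroup G) := fun z hz =>
    pow_eq_one_of_card (by rw [h.card_lcs (by omega)]; norm_num) hz
  have d1 := dvd_sub_of_pow (N := ⊥) hxt (hp3 _ h3) k (h4 ▸ w3 _ h3)
  obtain ⟨s, -, hs⟩ := SetLike.exists_of_lt (lt_top_iff_ne_top.2 hC)
  have na := not_dvd_of_pow hσ (map_mem_twoStep hσ 1) hs (lcs_one_le_twoStep 1 (h.pow_mem_lcs_one s)) (ha s (mem_top s))
  have nb := not_dvd_of_pow hσ (map_mem_lcs σ 1) ht1 (h.pow_mem_lcs_one t) (hb t ht)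
  have hp' : Prime (p : ℤ) := Nat.prime_iff_prime_int.1 hp.out
  obtain ⟨d, hd⟩ : (p : ℤ) ∣ b - a ^ 2 :=
    ((hp'.dvd_or_dvd (show (p : ℤ) ∣ b * (a * (b - a ^ 2)) by convert d1 using 1; ring)).resolve_left nb |>
      hp'.dvd_or_dvd).resolve_left na
  refine ⟨fun u hu => ?_, fun z hz => ?_⟩
  · have := hb u hu
    rw [inv_mul_mem_iff_mk] at this ⊢
    rw [this, show b = a ^ 2 + p * d by omega, zpow_add, zpow_mul, zpow_natCast, ← QuotientGroup.mk_pow,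
      (QuotientGroup.eq_one_iff _).2 (h.pow_mem_lcs_one u), one_zpow, mul_one]
  · have := w3 z hz
    rwa [h4, show b * a * a * a = a ^ 5 + p * (d * a ^ 3) by rw [show b = a ^ 2 + p * d by omega]; ring, zpow_add,
      zpow_mul, zpow_natCast, mem_bot.1 (hp3 z hz), one_zpow, mul_one] at this

theorem exists_base_perm_nine : ∃ (A : Subgroup (Equiv.Perm (Fin 9))) (a z : Equiv.Perm (Fin 9)),
    (∀ x ∈ A, x ^ 3 = 1) ∧ (∀ x ∈ A, ∀ y ∈ A, x * y = y * x) ∧ 27 ≤ Nat.card A ∧ a ∈ A ∧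
      z ∈ normalizer (A : Set (Equiv.Perm (Fin 9))) ∧ z ^ 3 ^ 1 = 1 ∧ ⁅⁅a, z⁆, z⁆ ≠ 1 := by
  have : Fact (Nat.Prime 3) := ⟨by norm_num⟩
  obtain ⟨a, b, c, z, ⟨e1, e2, e3⟩, ⟨p1, p2, p3, p4⟩, ⟨c1, c2, c3⟩, ⟨f1, f2, f3, f4, f5, f6⟩, k5⟩ :
      ∃ a b c z : Equiv.Perm (Fin 9), (z * a * z⁻¹ = b ∧ z * b * z⁻¹ = c ∧ z * c * z⁻¹ = a) ∧
        (a ^ 3 = 1 ∧ b ^ 3 = 1 ∧ c ^ 3 = 1 ∧ z ^ 3 ^ 1 = 1) ∧ (a * b = b * a ∧ a * c = c * a ∧ b * c = c * b) ∧
        (a ≠ 1 ∧ a 3 = 3 ∧ b 3 ≠ 3 ∧ a 6 = 6 ∧ b 6 = 6 ∧ c 6 ≠ 6) ∧ ⁅⁅a, z⁆, z⁆ ≠ 1 :=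
    ⟨Equiv.swap 0 1 * Equiv.swap 1 2, Equiv.swap 3 4 * Equiv.swap 4 5, Equiv.swap 6 7 * Equiv.swap 7 8,
      Equiv.swap 0 3 * Equiv.swap 3 6 * (Equiv.swap 1 4 * Equiv.swap 4 7) * (Equiv.swap 2 5 * Equiv.swap 5 8),
      by decide +kernel⟩
  have h1 : ∀ x ∈ closure {a, b, c}, ∀ y ∈ closure {a, b, c}, x * y = y * x := fun x hx y hy =>
    congrArg Subtype.val ((isMulCommutative_closure (k := {a, b, c}) (by
      rintro _ (rfl | rfl | rfl) _ (rfl | rfl | rfl) <;> simp only [*])).is_comm.comm ⟨x, hx⟩ ⟨y, hy⟩)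
  have h2 : ∀ x ∈ closure {a, b, c}, x ^ 3 = 1 := fun x hx => by
    induction hx using closure_induction with
    | mem x hx => rcases hx with rfl | rfl | rfl <;> assumption
    | one => exact one_pow 3
    | mul x y hx hy ihx ihy => rw [Commute.mul_pow (h1 x hx y hy), ihx, ihy, one_mul]
    | inv x _ ih => rw [inv_pow, ih, inv_one]
  have h3 : IsPGroup 3 (closure {a, b, c}) := fun x => ⟨1, Subtype.ext ((pow_one 3).symm ▸ h2 x x.2)⟩
  have l1 : zpowers a ≤ zpowers a ⊔ zpowers b := le_sup_left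
  have l2 : zpowers a ⊔ zpowers b ≤ closure {a, b, c} :=
    sup_le (zpowers_le.2 (subset_closure (by simp))) (zpowers_le.2 (subset_closure (by simp)))
  have k1 := mul_card_le_of_lt (h3.to_le (l1.trans l2)) (bot_lt_iff_ne_bot.2 (zpowers_ne_bot.2 f1))
  have k2 := mul_card_le_of_lt (h3.to_le l2) (lt_of_le_of_ne l1 fun e => f3
    ((zpowers_le.2 f2 : zpowers a ≤ MulAction.stabilizer _ (3 : Fin 9)) (e.ge (mem_sup_right (mem_zpowers b)))))
  have k3 := mul_card_le_of_lt h3 (lt_of_le_of_ne l2 fun e => f6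
    ((sup_le (zpowers_le.2 f4) (zpowers_le.2 f5) : zpowers a ⊔ zpowers b ≤ MulAction.stabilizer _ (6 : Fin 9))
      (e.ge (subset_closure (by simp : c ∈ _)))))
  rw [card_bot] at k1
  refine ⟨closure {a, b, c}, a, z, h2, h1, by omega, subset_closure (by simp), ?_, p4, k5⟩
  refine mem_normalizer_of_finite fun x hx =>
    (closure_le ((closure {a, b, c}).comap (MulAut.conj z).toMonoidHom)).2 ?_ hx
  intro y hy
  refine subset_closure ?_
  rcases hy with hy | hy | hy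
  · exact Or.inr (Or.inl (hy ▸ e1))
  · exact Or.inr (Or.inr (hy ▸ e2))
  · exact Or.inl (hy ▸ e3)

/-- A group of order `3 ^ 5` with centre of order `3` does not map onto `C₃ ≀ C₃`. -/
theorem not_surjective_sylow_perm_nine [Fact (Nat.Prime 3)] (hG : Nat.card G = 3 ^ 5) (hZ : Nat.card (center G) = 3)
    (W : Sylow 3 (Equiv.Perm (Fin (3 ^ 2)))) (f : G →* (W : Subgroup (Equiv.Perm (Fin (3 ^ 2))))) :
    ¬ Function.Surjective f := fun hf => by
  obtain ⟨A, a, z, hA, hA', hAc, ha, hz, hz3, haz⟩ :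
    ∃ (A : Subgroup (Equiv.Perm (Fin (3 ^ 2)))) (a z : Equiv.Perm (Fin (3 ^ 2))),
      (∀ x ∈ A, x ^ 3 = 1) ∧ (∀ x ∈ A, ∀ y ∈ A, x * y = y * x) ∧ 27 ≤ Nat.card A ∧ a ∈ A ∧
        z ∈ normalizer (A : Set (Equiv.Perm (Fin (3 ^ 2)))) ∧ z ^ 3 ^ 1 = 1 ∧ ⁅⁅a, z⁆, z⁆ ≠ 1 := exists_base_perm_nine
  have hA3 : IsPGroup 3 A := fun x => ⟨1, Subtype.ext ((pow_one 3).symm ▸ hA x x.2)⟩
  obtain ⟨V, hV⟩ := (hA3.to_sup_of_normal_left' (isPGroup_zpowers_of_pow_eq_one (k := 1) hz3)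
    (zpowers_le.2 hz)).exists_le_sylow
  let g := (Sylow.equiv W V).toMonoidHom.comp f
  have hg : Function.Surjective g := (Sylow.equiv W V).surjective.comp hf
  have hG3 : IsPGroup 3 G := .of_card hG
  have h1 : Nat.card g.ker = 3 := by
    have := g.ker.index_mul_card
    rw [index_ker, MonoidHom.range_eq_top.2 hg, card_top, CL.Transfer.card_sylow_perm_sq, hG] at this
    omega
  have h2 : center G ≤ g.ker := by
    have := hG3.isNilpotent
    rw [← (CL.Grp.eq_or_eq_of_relIndex_prime bot_le (inf_le_right : g.ker ⊓ center G ≤ _)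
      (by rw [relIndex_bot_left, hZ]; exact Fact.out)).resolve_left
        (CL.Grp.inf_center_ne_bot fun e => by rw [e, card_bot] at h1; omega)]
    exact inf_le_left
  obtain ⟨x, hx⟩ := hg ⟨a, hV (mem_sup_left ha)⟩
  obtain ⟨y, hy⟩ := hg ⟨z, hV (mem_sup_right (mem_zpowers z))⟩
  have h3 : γ[G, 3] ≠ ⊥ := fun e => haz (by
    have k : ⁅⁅x, y⁆, y⁆ ∈ center G := commutator_top_right_eq_bot_iff_le_center.1 e
      (comm_mem_lcs_succ (j := 1) (CL.Grp.comm_mem_commutator x y) y)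
    have k2 := congrArg Subtype.val (MonoidHom.mem_ker.1 (h2 k))
    rwa [map_commutatorElement, map_commutatorElement, hx, hy] at k2)
  have hm : MaxCl 3 5 G := by
    have := hG3.isNilpotent
    have h4 := CL.Grp.nilpotencyClass_le_of_card_dvd_pow (p := 3) 3 G hG.dvd
    rw [Ne, Subgroup.lowerCentralSeries_eq_bot_iff_nilpotencyClass_le] at h3
    exact ⟨hG, by omega, by omega⟩
  have h4 : ∀ u ∈ (A.subgroupOf V).comap g, ∀ v ∈ (A.subgroupOf V).comap g, ⁅u, v⁆ ∈ g.ker := fun u hu v hv => by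
    rw [MonoidHom.mem_ker, map_commutatorElement, commutatorElement_eq_one_iff_mul_comm]
    exact Subtype.ext (hA' _ hu _ hv)
  refine absurd (eq_four_of_three hm (by omega) (H := (A.subgroupOf V).comap g) (U := g.ker) (fun e => h3 ?_)
    (fun u hu => ?_) h4 ?_).1 (by omega)
  · have k : γ[G, 1] ≤ center G := (commutator_le.2 fun u _ v _ => h4 u (e ▸ mem_top u) v (e ▸ mem_top v)).trans
      (eq_of_le_of_card_ge h2 (h1.trans hZ.symm).le).ge
    exact eq_bot_iff.2 ((lcs_anti (by omega : 2 ≤ 3)).trans (commutator_top_right_eq_bot_iff_le_center.2 k).le)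
  · rw [MonoidHom.mem_ker, map_pow]
    exact Subtype.ext (hA _ hu)
  · have k1 := ((A.subgroupOf V).comap g).index_mul_card
    have k2 := (A.subgroupOf V).index_mul_card
    rw [index_comap_of_surjective _ hg, hG] at k1
    rw [Nat.card_congr (subgroupOfEquivOfLe (le_sup_left.trans hV)).toEquiv, CL.Transfer.card_sylow_perm_sq] at k2
    have k3 : (A.subgroupOf V).index ≤ 3 := by
      have := Nat.mul_le_mul_left (A.subgroupOf V).index hAc
      omega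
    have := Nat.mul_le_mul_right (Nat.card ((A.subgroupOf V).comap g)) k3
    omega

end Grp

end CL.Fus
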