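/-
Extension of morphisms to `S`, elementary abelian essential subgroups of order `p ^ 3`, and invariant characters.
-/
import Cfsg.Agent.Fus.Weights
import Cfsg.Agent.Fus.AxisEss
import Cfsg.Agent.Fus.EssExt
import Cfsg.Agent.Fus.RankTwoRes
import Cfsg.Agent.Fus.WeakEmb

set_option autoImplicit false

namespace CL.Fus

open Cfsg Cfsg.FusionSystem Subgroup
open scoped commutatorElement

/-- a group of order prime to `p` acting on `G / G'` with a nontrivial fixed point leaves a character invariant -/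
theorem exists_inv_hom {p : ℕ} [hp : Fact p.Prime] {G Γ O : Type*} [Group G] [Finite G] [Group Γ] [Group O] [Finite O]
    (hG : IsPGroup p G) (π : Γ →* O) (hπ : Function.Surjective π) (ρ : Γ →* MulAut G)
    (hker : ∀ γ, π γ = 1 → ∀ x, x⁻¹ * ρ γ x ∈ commutator G) (hO : ¬ p ∣ Nat.card O) {w : G} (hw : w ∉ commutator G)
    (hw' : ∀ γ, w⁻¹ * ρ γ w ∈ commutator G) :
    ∃ l : G →* Multiplicative (ZMod p), (∃ x, l x ≠ 1) ∧ ∀ γ x, l (ρ γ x) = l x := by
  have := Fintype.ofFinite O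
  have key : ∀ {x y : G}, x⁻¹ * y ∈ commutator G → Abelianization.of y = Abelianization.of x := fun h =>
    (QuotientGroup.eq.2 h).symm
  let ψ : O → G →* Abelianization G := fun q => Abelianization.of.comp (ρ (Function.surjInv hπ q)).toMonoidHom
  have hψ : ∀ γ x, ψ (π γ) x = Abelianization.of (ρ γ x) := fun γ x => by
    have := key (hker (Function.surjInv hπ (π γ) * γ⁻¹) (by
      rw [map_mul, map_inv, Function.surjInv_eq hπ, mul_inv_cancel]) (ρ γ x))
    simpa [ψ] using this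
  have hψ' : ∀ q γ x, ψ q (ρ γ x) = ψ (q * π γ) x := fun q γ x => by
    obtain ⟨δ, rfl⟩ := hπ q
    rw [← map_mul, hψ, hψ, map_mul, MulAut.mul_apply]
  let T : G →* Abelianization G := ∏ q, ψ q
  have hT : ∀ γ x, T (ρ γ x) = T x := fun γ x => by
    simp only [T, MonoidHom.finsetProd_apply, hψ']
    exact Equiv.prod_comp (Equiv.mulRight (π γ)) fun q => ψ q x
  have hTw : T w ≠ 1 := fun e => by
    have e1 : T w = Abelianization.of w ^ Nat.card O := by
      simp only [T, MonoidHom.finsetProd_apply]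
      rw [Finset.prod_congr rfl fun q _ => (show ψ q w = Abelianization.of w by
        obtain ⟨δ, rfl⟩ := hπ q
        rw [hψ, key (hw' δ)]), Finset.prod_const, Finset.card_univ, Nat.card_eq_fintype_card]
    obtain ⟨k, hk⟩ := hG w
    have e2 : Abelianization.of w ^ p ^ k = 1 := by rw [← map_pow, hk, map_one]
    have e3 := pow_gcd_eq_one.2 ⟨e1.symm.trans e, e2⟩
    rw [(Nat.Coprime.pow_right k ((Nat.Prime.coprime_iff_not_dvd hp.out).2 hO).symm).gcd_eq_one, pow_one] at e3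
    exact hw ((QuotientGroup.eq_one_iff w).1 e3)
  obtain ⟨M, hM, hKM, hi⟩ := CL.Grp.exists_normal_index_eq_ge hG (H := T.ker) fun e => hTw (e.ge (mem_top w))
  let e : G ⧸ M ≃* Multiplicative (ZMod p) := mulEquivOfPrimeCardEq (p := p) hi (by simp)
  obtain ⟨x, hx⟩ : ∃ x, x ∉ M := by
    by_contra! k
    exact hp.out.ne_one (hi.symm.trans (index_eq_one.2 (eq_top_iff.2 fun x _ => k x)))
  refine ⟨e.toMonoidHom.comp (QuotientGroup.mk' M), ⟨x, fun k => hx ((QuotientGroup.eq_one_iff x).1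
    (e.map_eq_one_iff.1 k))⟩, fun γ x => congrArg e (QuotientGroup.eq.2 (hKM ?_))⟩
  rw [MonoidHom.mem_ker, map_mul, map_inv, hT, inv_mul_cancel]

variable {Ω : Type*} [Group Ω] {S P Q A E H : Subgroup Ω} {p : ℕ} {F : FusionSystem S} {f g : Ω → Ω}
variable [hp : Fact p.Prime]

theorem isTv_of_cen (hab : ∀ x ∈ E, ∀ y ∈ E, x * y = y * x) (hel : ∀ x ∈ E, x ^ p = 1) (hHE : H ≤ E)
    (hi : H.relIndex E = p) {a x : Ω} (ha : a ∈ normalizer (E : Set Ω)) (hc : ∀ y ∈ H, a * y * a⁻¹ = y) (hx : x ∈ E)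
    (hxH : x ∉ H) (hu : x⁻¹ * (a * x * a⁻¹) ∈ H) (hne : a * x * a⁻¹ ≠ x) :
    IsTv p (conjAut E ha) ⟨x⁻¹ * (a * x * a⁻¹), hHE hu⟩ where
  pow := Subtype.ext (hel _ (hHE hu))
  ne_one := fun e => hne (inv_mul_eq_one.1 (congrArg Subtype.val e)).symm
  fix := Subtype.ext (hc _ hu)
  comm := fun y => coe_mem_zpowers_iff.1 (by
    obtain ⟨m, hm⟩ := exists_zpow_inv_mul_mem_of_relIndex hHE hi hx
      (centralizer_le_normalizer _ fun y hy => hab y (hHE hy) x hx) hxH y.2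
    have hc' : Commute x⁻¹ (a * x * a⁻¹) := hab _ (Subgroup.inv_mem _ hx) _ (conj_mem_of_mem_normalizer ha hx)
    refine ⟨m, ?_⟩
    show (x⁻¹ * (a * x * a⁻¹)) ^ m = (y : Ω)⁻¹ * (a * y * a⁻¹)
    have e : (y : Ω) = ((x ^ m)⁻¹ * y) * x ^ m := by
      rw [hab _ (hHE hm) _ (zpow_mem hx m), mul_inv_cancel_left]
    rw [hc'.mul_zpow, conj_zpow, e, ← conj_mul, hc _ hm]
    group)

variable [Finite S]

theorem exists_extend_top (hS : IsPGroup p S) (hF : F.IsSaturated p)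
    (h : ∀ B, F.IsEssential p B → ∀ g, Mor F P g → ¬ ∀ x ∈ P, g x ∈ B) (hf : Mor F P f) :
    ∃ g, Mor F S g ∧ ∀ x ∈ P, g x = f x := by
  refine alperin_induction hS hF (fun f => ∃ g, Mor F S g ∧ ∀ x ∈ P, g x = f x) (fun f e =>
    ⟨_, mor_id F le_rfl, fun x hx => (e x hx).symm⟩) ?_ hf
  rintro f k a A hf ⟨g, hg, e⟩ (rfl | hA) ha - hfA hk
  · exact ⟨_, hg.comp ha fun x hx => hg.mem hx, fun x hx => by rw [hk x hx, e x hx]⟩
  · exact absurd hfA (h A hA f hf)

/-- an `Aut_F(S)`-fixed nontrivial element of `S / S'` forces a wreath quotient when `foc(F) = S` -/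
theorem exists_wreath_of_fix (hS : IsPGroup p S) (hF : F.IsSaturated p) (hfoc : S ≤ F.focalSubgroup) {w : S}
    (hw : w ∉ commutator S) (hw' : ∀ γ ∈ F.autGroup S, w⁻¹ * γ w ∈ commutator S) :
    ∃ (W : Sylow p (Equiv.Perm (Fin (p ^ 2)))) (f : S →* (W : Subgroup (Equiv.Perm (Fin (p ^ 2))))),
      Function.Surjective f := by
  have := finite_autGroup F S
  obtain ⟨l, ⟨x, hx⟩, hl⟩ := exists_inv_hom hS (outMk F S) (QuotientGroup.mk'_surjective _) (F.autGroup S).subtype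
    (fun γ h x => by
      obtain ⟨a, ha, e⟩ := mem_Inn_iff.1 (outMk_eq_one_iff.1 h)
      have e1 : (γ : MulAut S) x = ⟨a, ha⟩ * x * ⟨a, ha⟩⁻¹ := Subtype.ext ((autFun_apply _ x.2).symm.trans (e x x.2))
      have := CL.Grp.comm_mem_commutator x⁻¹ ⟨a, ha⟩
      rw [coe_subtype, e1]
      simpa [commutatorElement_def, mul_assoc] using this)
    (sylIn_Inn_top hS hF).not_dvd_relIndex hw fun γ => hw' γ γ.2
  refine yoshida_hom hS hF l (fun f hf x y e => ?_) (hfoc x.2) hx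
  have e1 := hf.img_eq_self le_rfl fun x hx => hf.mem hx
  have := hl ⟨hf.equiv e1, hf.mem_autGroup fun _ => rfl⟩ x
  rwa [show (F.autGroup S).subtype ⟨hf.equiv e1, _⟩ x = y from Subtype.ext e] at this

/-- an elementary abelian essential subgroup of order `p ^ 3` has index `p` in its normalizer -/
theorem IsEssential.relIndex_of_cube (hS : IsPGroup p S) (hF : F.IsSaturated p) (hE : F.IsEssential p E)
    (hc : Nat.card E = p ^ 3) (hab : ∀ x ∈ E, ∀ y ∈ E, x * y = y * x) (hel : ∀ x ∈ E, x ^ p = 1) :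
    E.relIndex (normalizerIn S E) = p := by
  have hES := IsEssential.le hE
  have := finite_of_le hES
  have hN := hS.to_le (normalizerIn_le S E)
  have hlt := lt_normalizerIn hS (IsEssential.lt_top hS hF hE)
  have h1 := hp.out.one_lt
  obtain ⟨k, hk⟩ := hN.index (E.subgroupOf _)
  change E.relIndex (normalizerIn S E) = _ at hk
  by_contra hne
  have hk2 : p ^ 2 ≤ E.relIndex (normalizerIn S E) := by
    rw [hk] at hne ⊢
    rcases k with _ | _ | k
    · exact absurd (relIndex_eq_one.1 hk) (not_le_of_gt hlt)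
    · exact absurd (pow_one p) hne
    · exact Nat.pow_le_pow_right hp.out.pos (by omega)
  obtain ⟨H, -, hHE, hHn, hH⟩ := exists_normalized_card_eq hN (X := ⊥) (b := 2) bot_le hlt.le
    (by rw [normalizer_eq_top]; exact le_top) (normalizerIn_le_normalizer S E) (by simpa using Nat.one_le_pow _ _ hp.out.pos)
    (hc ▸ Nat.pow_le_pow_right hp.out.pos (by omega))
  have := finite_of_le hHE
  have hi : H.relIndex E = p := by
    have := CL.Grp.card_eq_relIndex_mul_card hHE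
    rw [hc, hH, pow_succ'] at this
    exact (Nat.eq_of_mul_eq_mul_right (pow_pos hp.out.pos 2) this).symm
  have hcm : ∀ a ∈ normalizerIn S E, ∀ x ∈ E, x⁻¹ * (a * x * a⁻¹) ∈ H := fun a ha x hx =>
    comm_mem_of_card_le hS hHE hES (hlt.le.trans hHn) ha.1 (hHn ha) ha.2 (by rw [hc, hH, pow_succ']) hx
  obtain ⟨a, ha, hac, haE⟩ : ∃ a ∈ normalizerIn S E, (∀ y ∈ H, a * y * a⁻¹ = y) ∧ a ∉ E := by
    by_contra! k
    have := relIndex_le_of_section hS (K := ⊥) (R := E) bot_le (hHE.trans hlt.le) (normalizerIn_le S E)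
      (by rw [normalizer_eq_top]; exact le_top) hHn (by simp [hH]) fun a ha h => k a ha fun y hy =>
        (inv_mul_eq_one.1 (mem_bot.1 (h y hy))).symm
    nlinarith
  obtain ⟨x, hx, hxH⟩ : ∃ x ∈ E, x ∉ H := by
    by_contra! k
    exact hp.out.ne_one (hi.symm.trans (relIndex_eq_one.2 k))
  have hgen : ∀ {u v : Ω}, u ∈ E → u ∉ H → v ∈ E → ∃ m : ℤ, (u ^ m)⁻¹ * v ∈ H := fun hu huH hv =>
    exists_zpow_inv_mul_mem_of_relIndex hHE hi hu (hHn (hlt.le hu)) huH hv
  have hz := isTv_of_cen hab hel hHE hi ha.2 hac hx hxH (hcm a ha x hx) fun e =>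
    haE (IsCentric.centralizerIn_le hE.1 ⟨ha.1, mem_centralizer_of_conj_eq fun y hy => by
      obtain ⟨m, hm⟩ := hgen hx hxH hy
      rw [← mul_inv_cancel_left (x ^ m) y, ← conj_mul, ← conj_zpow, e, hac _ hm]⟩)
  set z : E := ⟨_, hHE (hcm a ha x hx)⟩
  have ht := IsEssential.conjAut_mem_extAut hS hF hE ha.1 ha.2
  have ht1 := IsEssential.conjAut_notMem_Inn hE ha.1 ha.2 haE
  have key : ∀ β ∈ F.autGroup E, (β z : Ω) ∈ H → β ∈ extAut F E := fun β hβ h =>
    IsEssential.mem_extAut_of_closure hS hF hE ht ht1 ht ht1 ⟨1, by rw [pow_one, hz.pow_eq_one]⟩ hβ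
      (IsTv.isPGroup_closure (hS.to_le hES) (fun a b => Subtype.ext (hab a a.2 b b.2)) hz (hz.conj β)
        (Subtype.ext (hac _ h)))
  obtain ⟨γ, hγ, hγ1⟩ := IsEssential.exists_notMem_extAut hS hF hE
  have key2 : ∀ n ∈ normalizerIn S E, autFun γ⁻¹ (n * γ z * n⁻¹) ∈ H → n ∈ E := fun n hn h => by
    by_contra k
    obtain ⟨j, hj⟩ := hN ⟨n, hn⟩
    refine hγ1 ((Subgroup.inv_mem_iff _).1 (IsEssential.mem_extAut_of_conj hS hF hE
      (IsEssential.conjAut_mem_extAut hS hF hE hn.1 hn.2) (IsEssential.conjAut_notMem_Inn hE hn.1 hn.2 k)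
      ⟨j, ?_⟩ (Subgroup.inv_mem _ hγ) (key _ (mul_mem (mul_mem (Subgroup.inv_mem _ hγ)
        (conjAut_mem_autGroup F hES hn.2 hn.1)) (Subgroup.inv_mem _ (Subgroup.inv_mem _ hγ))) ?_)))
    · rw [conjAut, ← map_pow, ← map_one E.normalizerMonoidHom]
      exact congrArg _ (Subtype.ext (congrArg Subtype.val hj :))
    · rwa [autFun_apply _ (conj_mem_of_mem_normalizer hn.2 (γ z).2)] at h
  have hz0 : autFun γ⁻¹ (γ z) ∈ H := by
    rw [← autFun_apply _ z.2, autFun_inv_apply _ z.2]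
    exact hcm a ha x hx
  let φ : normalizerIn S E ⧸ E.subgroupOf (normalizerIn S E) → H := fun q => Quotient.liftOn' q
    (fun n => ⟨_, hcm n n.2 _ (γ z).2⟩) fun n n' h => Subtype.ext (by
      have h' := hab _ (mem_subgroupOf.1 (QuotientGroup.leftRel_apply.1 h)) _ (γ z).2
      show _ * (_ * _ * _) = _ * (_ * _ * _)
      congr 1
      calc (n : Ω) * γ z * (n : Ω)⁻¹ = n * (γ z * ((n : Ω)⁻¹ * n')) * (n' : Ω)⁻¹ := by group
        _ = n' * γ z * (n' : Ω)⁻¹ := by erw [← h']; simp [mul_assoc])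
  have hφ : Function.Injective φ := fun q q' => Quotient.inductionOn₂' q q' fun n n' h => by
    have h' : (n : Ω) * γ z * (n : Ω)⁻¹ = n' * γ z * (n' : Ω)⁻¹ := mul_left_cancel (congrArg Subtype.val h)
    refine Quotient.sound' (QuotientGroup.leftRel_apply.2 (mem_subgroupOf.2 (key2 _ (n⁻¹ * n').2 ?_)))
    have : ((n⁻¹ * n' : normalizerIn S E) : Ω) * γ z * ((n⁻¹ * n' : normalizerIn S E) : Ω)⁻¹ = γ z := by
      calc _ = (n : Ω)⁻¹ * (n' * γ z * (n' : Ω)⁻¹) * n := by simp [mul_assoc]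
        _ = γ z := by rw [← h']; group
    rwa [this]
  obtain ⟨y, hyH, hy, hy1⟩ : ∃ y ∈ H, autFun γ⁻¹ y ∈ H ∧ y ≠ 1 := by
    by_contra! k
    have h2 := relIndex_le_of_le_right (H := H) (img_le_iff.2 fun y hy => autFun_mem γ⁻¹ (hHE hy))
      (hi ▸ hp.out.ne_zero : H.relIndex E ≠ 0)
    rw [← inf_relIndex_right, show H ⊓ img (autFun γ⁻¹) H = ⊥ from eq_bot_iff.2 fun y hy => by
      obtain ⟨y, hy', rfl⟩ := ((homOn_autFun γ⁻¹).mono hHE).mem_img.1 hy.2
      rw [k y hy' hy.1, (homOn_autFun γ⁻¹).map_one]; exact one_mem _, relIndex_bot_left,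
      ((homOn_autFun γ⁻¹).mono hHE).card_img ((autFun_injOn γ⁻¹).mono hHE), hH, hi] at h2
    nlinarith
  obtain ⟨q, hq⟩ := (hφ.bijective_of_nat_card_le (hH.trans_le hk2)).2 ⟨y, hyH⟩
  induction q using Quotient.inductionOn' with | h n => ?_
  have hq' : (γ z : Ω)⁻¹ * (n * γ z * (n : Ω)⁻¹) = y := congrArg Subtype.val hq
  have hn := key2 n n.2 (by
    rw [← mul_inv_cancel_left (γ z : Ω) (n * γ z * (n : Ω)⁻¹), hq', (homOn_autFun γ⁻¹).map_mul (γ z).2 (hHE hyH)]
    exact mul_mem hz0 hy)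
  exact hy1 (by rw [← hq', hab _ hn _ (γ z).2]; group)

end CL.Fus
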