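/-
Essential subgroups of rank at most three in saturated 2-fusion systems: the outer automizer behaves like `S₃`.
-/
import Cfsg.Agent.Fus.EssCube
import Cfsg.Agent.Fus.CopAut

set_option autoImplicit false

namespace CL.Fus.Bi

open Cfsg Cfsg.FusionSystem Subgroup
open scoped commutatorElement

/-- An involutory automorphism of an elementary abelian group of order at most `8` is a transvection. -/
theorem exists_isTv {V : Type*} [Group V] [Finite V] (hc : ∀ x y : V, Commute x y) (hel : ∀ x : V, x ^ 2 = 1)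
    (h8 : Nat.card V ≤ 8) {t : MulAut V} (h1 : t ≠ 1) (h2 : t * t = 1) : ∃ z, IsTv 2 t z := by
  let φ : V →* V := MonoidHom.mk' (fun y => y⁻¹ * t y) fun a b => by
    rw [map_mul, mul_inv_rev, mul_assoc, mul_assoc, ← mul_assoc a⁻¹, (hc b⁻¹ _).eq, mul_assoc, mul_assoc,
      (hc (t b) b⁻¹).eq]
  have hφ : ∀ y, φ y = y⁻¹ * t y := fun _ => rfl
  have htt : ∀ y, t (t y) = y := fun y => by rw [← MulAut.mul_apply, h2, MulAut.one_apply]
  have hinv : ∀ y : V, y⁻¹ = y := fun y => inv_eq_of_mul_eq_one_left (by rw [← pow_two, hel])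
  have hfix : ∀ y, t (φ y) = φ y := fun y => by rw [hφ, map_mul, htt, hinv, (hc _ _).eq]
  have hle : φ.range ≤ φ.ker := by
    rintro _ ⟨y, rfl⟩
    rw [MonoidHom.mem_ker, hφ, hfix, inv_mul_cancel]
  have h3 := φ.ker.card_mul_index
  rw [index_ker] at h3
  have h4 := card_le_of_le hle
  have h5 : Nat.card φ.range ≤ 2 := by nlinarith
  obtain ⟨x, hx⟩ : ∃ x, t x ≠ x := by
    by_contra! h
    exact h1 (MulEquiv.ext h)
  have hz : φ x ≠ 1 := fun h => hx (inv_mul_eq_one.1 h).symm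
  have h6 : zpowers (φ x) = φ.range := by
    refine eq_of_le_of_card_ge (zpowers_le.2 ⟨x, rfl⟩) (h5.trans ?_)
    rw [Nat.card_zpowers, orderOf_eq_prime (hel _) hz]
  exact ⟨φ x, hel _, hz, hfix x, fun y => h6 ▸ ⟨y, rfl⟩⟩

theorem eq_or_of_mem_zpowers {V : Type*} [Group V] {z y : V} (hz : z ^ 2 = 1) (h : y ∈ zpowers z) : y = 1 ∨ y = z := by
  obtain ⟨i, rfl⟩ := h
  have h2 : z ^ (2 : ℤ) = 1 := by exact_mod_cast hz
  rcases Int.even_or_odd' i with ⟨k, rfl | rfl⟩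
  · left; simp only [zpow_mul, h2, one_zpow]
  · right; simp only [zpow_add_one, zpow_mul, h2, one_zpow, one_mul]

theorem isPGroup_ker_fratAut {G : Type*} [Group G] [Finite G] (hG : IsPGroup 2 G) : IsPGroup 2 (fratAut G).ker :=
  isPGroup_of_coprime_eq_one fun α hα hc => mulAut_eq_one_of_comm_comm_frattini hG hc (C := frattini G)
    (fun x hx => (QuotientGroup.eq_one_iff _).1 (by
      rw [← fratAut_mk, MonoidHom.mem_ker.1 hα, MulAut.one_apply, QuotientGroup.eq_one_iff]; exact hx))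
    (fun x => QuotientGroup.eq.1 (by rw [← fratAut_mk, MonoidHom.mem_ker.1 hα, MulAut.one_apply]))
    fun x _ => QuotientGroup.eq.1 (by rw [← fratAut_mk, MonoidHom.mem_ker.1 hα, MulAut.one_apply])

variable {Ω : Type*} [Group Ω] {S E : Subgroup Ω} {F : FusionSystem S} [Finite S]

theorem ess_data (hS : IsPGroup 2 S) (hF : F.IsSaturated 2) (hE : F.IsEssential 2 E) (h8 : (frattini E).index ≤ 8) :
    ∃ (s : Ω) (hs : s ∈ normalizer (E : Set Ω)), s ∈ S ∧ s ∉ E ∧
      (∀ g ∈ S, g ∈ normalizer (E : Set Ω) → g ∈ E ∨ g * s ∈ E) ∧ ∃ α : MulAut E, α ^ 3 = 1 ∧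
        conjAut E hs * α * (conjAut E hs)⁻¹ * α ∈ Inn E ∧ ∃ x ∈ E, ∀ y, y = x⁻¹ * autFun α x →
          y⁻¹ * (s * y * s⁻¹) ∉ frat E ∧ (y⁻¹ * (s * y * s⁻¹))⁻¹ * autFun α (y⁻¹ * (s * y * s⁻¹)) ∉ frat E := by
  have hES := IsEssential.le hE
  have := finite_of_le hES
  have hEp := hS.to_le hES
  have hN := hS.to_le (normalizerIn_le S E)
  have hlt := lt_normalizerIn hS (IsEssential.lt_top hS hF hE)
  haveI : (E.subgroupOf (normalizerIn S E)).Normal :=
    (normal_subgroupOf_iff_le_normalizer hlt.le).2 (normalizerIn_le_normalizer S E)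
  obtain ⟨⟨s, hsS, hs⟩, -, hsE, hs2, hsc⟩ := CL.Grp.exists_central_mod_of_not_le hN
    (N := E.subgroupOf (normalizerIn S E)) (M := ⊤) fun h => hlt.not_ge fun x hx =>
      h (mem_top (⟨x, hx⟩ : normalizerIn S E))
  replace hsE : s ∉ E := hsE
  replace hs2 : s ^ 2 ∈ E := hs2
  replace hsc : ∀ g ∈ S, g ∈ normalizer (E : Set Ω) → ⁅s, g⁆ ∈ E := fun g h1 h2 => hsc ⟨g, h1, h2⟩
  haveI := CL.Grp.isMulCommutative_quotient_frattini hEp
  have hc : ∀ x y : E ⧸ frattini E, Commute x y := fun x y => mul_comm' x y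
  have hel := CL.Grp.quotient_frattini_pow_eq_one hEp
  have hinv : ∀ y : E ⧸ frattini E, y * y = 1 := fun y => by rw [← pow_two, hel]
  set ρ := fratAut E with hρ
  have hI : ∀ ι ∈ Inn E, ρ ι = 1 := fun ι hι => by
    obtain ⟨a, ha, e⟩ := mem_Inn_iff.1 hι
    ext ⟨x⟩
    have e1 : ι x = ⟨a, ha⟩ * x * ⟨a, ha⟩⁻¹ := Subtype.ext ((autFun_apply _ x.2).symm.trans (e x x.2))
    change ((ι x : E) : E ⧸ frattini E) = (x : E ⧸ frattini E)
    rw [e1, QuotientGroup.mk_mul, QuotientGroup.mk_mul, QuotientGroup.mk_inv, (hc _ (x : E ⧸ frattini E)).eq,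
      mul_inv_cancel_right]
  have hcI : ∀ a (ha : a ∈ normalizer (E : Set Ω)), a ∈ E → conjAut E ha ∈ Inn E := fun a ha h =>
    mem_Inn_iff.2 ⟨a, h, fun x hx => autFun_conjAut ha hx⟩
  set t := conjAut E hs with ht
  have ht2 : t * t ∈ Inn E := by
    rw [ht, ← conjAut_mul]
    exact hcI _ _ (by rwa [← pow_two])
  have hρ1 : ρ t ≠ 1 := fun h => hsE (mem_of_comm_frat hS hE.1 (IsEssential.isRadical hS hE) le_rfl
    (fun γ _ x hx => autFun_mem γ hx) hsS hs
    (fun x hx => E.mul_mem (E.inv_mem hx) (conj_mem_of_mem_normalizer hs hx)) fun x hx =>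
      (mem_frat_iff (E.mul_mem (E.inv_mem hx) (conj_mem_of_mem_normalizer hs hx))).2 (QuotientGroup.eq.1
        (show ((⟨x, hx⟩ : E) : E ⧸ frattini E) = ρ t (⟨x, hx⟩ : E) by rw [h, MulAut.one_apply])))
  obtain ⟨z, hz⟩ := exists_isTv hc hel (by rwa [← index_eq_card]) hρ1 (by rw [← map_mul, hI _ ht2])
  have hte := IsEssential.conjAut_mem_extAut hS hF hE hsS hs
  have ht1 := IsEssential.conjAut_notMem_Inn hE hsS hs hsE
  have hpe : ∀ g ∈ S, ∀ hg : g ∈ normalizer (E : Set Ω), ∃ k, conjAut E hg ^ 2 ^ k = 1 := fun g h1 hg => by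
    obtain ⟨k, hk⟩ := isPGroup_autInducedBy hS E ⟨_, conjAut_mem_autInducedBy hg h1⟩
    exact ⟨k, congrArg Subtype.val hk⟩
  have key : ∀ β ∈ F.autGroup E, ρ t (ρ β z) = ρ β z → β ∈ extAut F E := fun β hβ h => by
    refine IsEssential.mem_extAut_of_closure hS hF hE hte ht1 hte ht1 (hpe s hsS hs) hβ ?_
    have h1 := IsTv.isPGroup_closure (hEp.to_quotient _) hc hz (hz.conj (ρ β)) h
    refine (h1.comap_of_ker_isPGroup ρ (isPGroup_ker_fratAut hEp)).to_le ((closure_le _).2 ?_)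
    rintro _ (rfl | rfl)
    · exact subset_closure (Or.inl rfl)
    · exact subset_closure (Or.inr (by simp [ht]))
  obtain ⟨γ, hγ, hγ1⟩ := IsEssential.exists_notMem_extAut hS hF hE
  have hz' := hz.conj (ρ γ)
  set z' := ρ γ z with hz'd
  set t' := ρ γ * ρ t * (ρ γ)⁻¹ with ht'
  have key2 : ∀ v, t' v = v → ρ t ((ρ γ)⁻¹ v) = (ρ γ)⁻¹ v := fun v h => by
    conv_rhs => rw [← h, ht']
    simp
  have e : ρ t z' ≠ z' := fun h => hγ1 (key γ hγ h)
  have e' : t' z ≠ z := fun h => hγ1 ((Subgroup.inv_mem_iff _).1 (key γ⁻¹ (Subgroup.inv_mem _ hγ)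
    (by rw [map_inv]; exact key2 z h)))
  have f1 : ρ t z' = z' * z := by
    rcases eq_or_of_mem_zpowers hz.pow (hz.comm z') with h | h
    · exact absurd (inv_mul_eq_one.1 h).symm e
    · rw [← h, mul_inv_cancel_left]
  have f2 : t' z = z * z' := by
    rcases eq_or_of_mem_zpowers hz'.pow (hz'.comm z) with h | h
    · exact absurd (inv_mul_eq_one.1 h).symm e'
    · rw [← h, mul_inv_cancel_left]
  have K : ∀ g ∈ S, ∀ hg : g ∈ normalizer (E : Set Ω), t' (ρ (conjAut E hg) z') = ρ (conjAut E hg) z' → g ∈ E :=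
    fun g hgS hg h => by
      by_contra hgE
      refine hγ1 ((Subgroup.inv_mem_iff _).1 (IsEssential.mem_extAut_of_conj hS hF hE
        (IsEssential.conjAut_mem_extAut hS hF hE hgS hg) (IsEssential.conjAut_notMem_Inn hE hgS hg hgE)
        (hpe g hgS hg) (Subgroup.inv_mem _ hγ) (key _ (mul_mem (mul_mem (Subgroup.inv_mem _ hγ)
          (conjAut_mem_autGroup F hES hg hgS)) (Subgroup.inv_mem _ (Subgroup.inv_mem _ hγ))) ?_)))
      simpa using key2 _ h
  have par : ∀ (v : E ⧸ frattini E) (i : ℤ), v ^ i = 1 ∨ v ^ i = v := fun v i =>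
    eq_or_of_mem_zpowers (hel v) ⟨i, rfl⟩
  refine ⟨s, hs, hsS, hsE, fun g hgS hg => ?_, ?_⟩
  · set τ := ρ (conjAut E hg) with hτ
    have hcm : ρ t * τ = τ * ρ t := by
      rw [← commutatorElement_eq_one_iff_mul_comm, hτ, ← map_commutatorElement, commutatorElement_def, ht,
        ← conjAut_inv, ← conjAut_inv, ← conjAut_mul, ← conjAut_mul, ← conjAut_mul]
      exact hI _ (hcI _ _ (hsc g hgS hg))
    have hτz : τ z = z := by
      have h1 := hz.conj τ
      rw [← hcm, mul_inv_cancel_right] at h1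
      exact (eq_or_of_mem_zpowers hz.pow (h1.mem_zpowers_of_isTv hz hρ1)).resolve_left h1.ne_one
    obtain ⟨a, b, c, h1, h2, h3⟩ := hz.exists_decomp hc hz' e e' (τ z')
    have hb : z' ^ b = z' := (par z' b).resolve_left fun h => e (τ.injective (by
      rw [← MulAut.mul_apply, ← hcm, MulAut.mul_apply, h3, h, mul_one, map_mul, map_zpow, hz.fix, h1]))
    rcases par z a with h | h
    · exact Or.inl (K g hgS hg (by rw [← hτ, h3, h, hb, one_mul, map_mul, hz'.fix, h2]))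
    · refine Or.inr (K _ (S.mul_mem hgS hsS) (mul_mem hg hs) ?_)
      have h4 : ρ (conjAut E (mul_mem hg hs)) z' = z' * c := by
        rw [conjAut_mul hg hs, map_mul, MulAut.mul_apply, ← hτ, ← ht, f1, map_mul τ, hτz, h3, h, hb, (hc _ z).eq,
          ← mul_assoc, ← mul_assoc, hinv, one_mul]
      rw [h4, map_mul, hz'.fix, h2]
  · set α₀ := t * (γ * t * γ⁻¹) with hα₀
    have hρα : ρ α₀ = ρ t * t' := by simp only [hα₀, ht', map_mul, map_inv]
    have g1 : ρ α₀ z = z' := by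
      rw [hρα, MulAut.mul_apply, f2, map_mul, hz.fix, f1, (hc z' z).eq, ← mul_assoc, hinv, one_mul]
    have g2 : ρ α₀ z' = z' * z := by rw [hρα, MulAut.mul_apply, hz'.fix, f1]
    have g3 : ρ α₀ ^ 3 = 1 := by
      have g4 : ρ α₀ (z' * z) = z := by rw [map_mul, g1, g2, (hc _ z').eq, ← mul_assoc, hinv, one_mul]
      ext v
      obtain ⟨a, b, c, h1, h2, rfl⟩ := hz.exists_decomp hc hz' e e' v
      have g5 : ρ α₀ c = c := by rw [hρα, MulAut.mul_apply, h2, h1]
      simp only [pow_succ, pow_zero, one_mul, MulAut.mul_apply, map_mul (ρ α₀) _ c, map_mul (ρ α₀) (_ ^ a),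
        map_zpow, g1, g2, g4, g5, MulAut.one_apply]
    obtain ⟨k, hk⟩ := isPGroup_ker_fratAut hEp ⟨α₀ ^ 3, by rw [MonoidHom.mem_ker, map_pow]; exact g3⟩
    replace hk : (α₀ ^ 3) ^ 2 ^ k = 1 := congrArg Subtype.val hk
    have hρ4 : ρ (α₀ ^ 4 ^ k) = ρ α₀ := by
      obtain ⟨m, hm⟩ : ∃ m, 4 ^ k = 3 * m + 1 := ⟨4 ^ k / 3, by
        have : 4 ^ k % 3 = 1 := by rw [Nat.pow_mod]; simp
        omega⟩
      rw [map_pow, hm, pow_succ, pow_mul, g3, one_pow, one_mul]
    obtain ⟨x, hx⟩ := QuotientGroup.mk_surjective z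
    refine ⟨α₀ ^ 4 ^ k, ?_, ?_, x, x.2, ?_⟩
    · rw [← pow_mul, mul_comm, pow_mul, show 4 ^ k = 2 ^ k * 2 ^ k from mul_pow 2 2 k, pow_mul, hk, one_pow]
    · have h1 : t * α₀ * t⁻¹ * α₀ ∈ Inn E := by
        have := mul_mem ht2 ((innNormal E).conj_mem _ ht2 γ)
        convert this using 1
        simp only [hα₀, mul_assoc, inv_mul_cancel_left]
      rw [← QuotientGroup.eq_one_iff, QuotientGroup.mk_mul, ← conj_pow, QuotientGroup.mk_pow, QuotientGroup.mk_pow]
      rw [← QuotientGroup.eq_one_iff, QuotientGroup.mk_mul] at h1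
      rw [eq_inv_of_mul_eq_one_left h1, inv_pow, inv_mul_cancel]
    · intro y hy
      obtain ⟨y', hy', rfl⟩ : ∃ y' : E, (y' : E ⧸ frattini E) = z * z' ∧ y = y' := ⟨x⁻¹ * (α₀ ^ 4 ^ k) x, by
        rw [QuotientGroup.mk_mul, QuotientGroup.mk_inv, ← fratAut_mk, ← hρ, hρ4, hx, g1,
          inv_eq_of_mul_eq_one_left (hinv z)], by rw [hy, autFun_apply _ x.2]; rfl⟩
      have h1 : ((y'⁻¹ * t y' : E) : E ⧸ frattini E) = z := by
        rw [QuotientGroup.mk_mul, QuotientGroup.mk_inv, ← fratAut_mk, ← hρ, hy', map_mul, hz.fix, f1, ← mul_assoc z,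
          inv_mul_cancel_left]
      have h2 : (y' : Ω)⁻¹ * (s * y' * s⁻¹) = (y'⁻¹ * t y' : E) := rfl
      rw [h2, autFun_apply _ (y'⁻¹ * t y').2, ← Subgroup.coe_inv, ← Subgroup.coe_mul, mem_frat_iff (Subtype.property _),
        mem_frat_iff (Subtype.property _), ← QuotientGroup.eq_one_iff, ← QuotientGroup.eq]
      refine ⟨fun h => hz.ne_one (h1.symm.trans h), fun h => e ?_⟩
      have h3 : z = ρ (α₀ ^ 4 ^ k) z := by
        conv_rhs => rw [← h1]
        exact h1.symm.trans h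
      rw [hρ4, g1] at h3
      rw [← h3, hz.fix]

end CL.Fus.Bi
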