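/-
Non-metacyclic bicyclic 2-groups: the basic structure.
-/
import Cfsg.Agent.Inv.Bicyc
import Cfsg.Agent.Grp.Ito
import Cfsg.Agent.Fus.Meta2
import Cfsg.Agent.Fus.BiEss

set_option autoImplicit false

namespace CL.Fus.Bi

open Cfsg Subgroup CL.Grp CL.Fgs CL.Inv
open scoped commutatorElement

variable {X : Type*} [Group X]

/-- The metacyclic maximal subgroup `⟨a⟩ X'`. -/
abbrev Lx (a : X) : Subgroup X := zpowers a ⊔ commutator X

/-- The facts on a non-metacyclic bicyclic 2-group that are used. -/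
structure St (a : X) : Prop where
  pg : IsPGroup 2 X
  nm : ¬ IsMetacyclic X
  ab : ∀ u ∈ commutator X, ∀ v ∈ commutator X, Commute u v
  a2 : a ^ 2 ∉ commutator X
  mc : IsMetacyclic (Lx a)
  idx : (Lx a).index = 2
  ex : ∃ t, t ∉ Lx a ∧ t ^ 2 ∈ commutator X

theorem mem_comm_iff {g : X} : g ∈ commutator X ↔ Abelianization.of g = 1 := by
  rw [← Abelianization.ker_of]; rfl

theorem comm_mem (u v : X) : ⁅u, v⁆ ∈ commutator X := commutator_mem_commutator (mem_top u) (mem_top v)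

theorem memL {a g : X} : g ∈ Lx a ↔ ∃ i : ℤ, (a ^ i)⁻¹ * g ∈ commutator X := by
  rw [Lx, sup_comm]
  exact mem_sup_zpowers_iff (by rw [normalizer_eq_top]; trivial)

theorem st_of_bic [Finite X] {x y : X} (hX : IsPGroup 2 X) (hm : ¬ IsMetacyclic X) (h : Bic x y) : St x := by
  obtain ⟨⟨u, v, hu, hv, h1⟩, h2, -⟩ := h.not_mc_facts hX hm
  have hx : x ∈ Lx x := mem_sup_left (mem_zpowers x)
  have hy : y ∉ Lx x := fun hy => by
    have h3 : zpowers x = ⊤ := frattini_nongenerating (eq_top_iff.2 ((h.eq_top hx hy).ge.trans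
      (sup_le_sup_left (commutator_le_frattini hX) _)))
    haveI : (zpowers x).Normal := h3 ▸ normal_top
    exact hm (mc_of_gen h.sup)
  have hy2 : y ^ (2 : ℤ) ∈ Lx x := mem_of_zpow_odd hX hv (by
    rw [← zpow_mul]; exact (mul_mem_cancel_left (zpow_mem hx _)).1 (mem_sup_right h1))
  have hi : ∀ i j : ℤ, x ^ i * y ^ j ∈ Lx x ↔ Even j := fun i j => by
    rw [mul_mem_cancel_left (zpow_mem hx i)]
    exact ⟨fun h1 => by_contra fun hj => hy (mem_of_zpow_odd hX (Int.not_even_iff_odd.1 hj) h1),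
      fun ⟨r, hr⟩ => by rw [hr, ← two_mul, zpow_mul]; exact zpow_mem hy2 r⟩
  refine ⟨hX, hm, fun p hp q hq => ?_, h2, h.mc_of_mem hX (fun e => hy (e ▸ mem_top y)) hx,
    index_eq_two_iff.2 ⟨y, fun g => ?_⟩, x ^ u * y ^ v, fun h3 => ?_, ?_⟩
  · have hf : IsFact ⊤ (zpowers x) (zpowers y) := isFact_top_iff.2 fun g => by
      obtain ⟨i, j, rfl⟩ := h g
      exact ⟨_, ⟨i, rfl⟩, _, ⟨j, rfl⟩, rfl⟩
    exact commutatorElement_eq_one_iff_commute.1
      (mem_bot.1 (hf.commutator_commutator_eq_bot ▸ commutator_mem_commutator hp hq))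
  · obtain ⟨i, j, rfl⟩ := h g
    rw [mul_assoc, ← zpow_add_one, hi, hi, Int.even_add_one]
    by_cases hj : Even j <;> simp [hj]
  · exact Int.not_even_iff_odd.2 hv ((hi u v).1 h3)
  · rw [mem_comm_iff] at h1 ⊢
    rw [← h1]
    simp only [map_pow, map_mul, map_zpow, mul_pow, mul_comm (2 : ℤ), zpow_mul, zpow_ofNat]

/-- In a subgroup of order at most four, two distinct nontrivial involutions generate everything. -/
theorem mem_four {K : Subgroup X} [Finite K] (hK : Nat.card K ≤ 4) {p q : X} (hp : p ∈ K) (hq : q ∈ K) (p1 : p ≠ 1)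
    (q1 : q ≠ 1) (pq : q ≠ p) (p2 : p ^ 2 = 1) {u : X} (hu : u ∈ K) : u = 1 ∨ u = p ∨ u = q ∨ u = p * q := by
  classical
  by_contra h
  push Not at h
  obtain ⟨h1, h2, h3, h4⟩ := h
  have e1 : p * q ≠ 1 := fun e => pq (by rw [← inv_eq_of_mul_eq_one_right e, inv_eq_of_mul_eq_one_right (sq p ▸ p2)])
  have e2 : p * q ≠ p := by simpa using q1
  have e3 : p * q ≠ q := by simpa using p1
  have h5 : ({u, 1, p, q, p * q} : Finset X).card = 5 := by
    rw [Finset.card_insert_of_notMem (by simp [h1, h2, h3, h4]),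
      Finset.card_insert_of_notMem (by simp [p1.symm, q1.symm, e1.symm]),
      Finset.card_insert_of_notMem (by simp [pq.symm, e2.symm]), Finset.card_pair e3.symm]
  have h6 := Nat.card_le_card_of_injective (fun v : ({u, 1, p, q, p * q} : Finset X) => (⟨v, by
    have := v.2
    simp only [Finset.mem_insert, Finset.mem_singleton] at this
    rcases this with e | e | e | e | e <;> rw [e]
    exacts [hu, K.one_mem, hp, hq, K.mul_mem hp hq]⟩ : K)) fun _ _ e => Subtype.ext (Subtype.mk.inj e)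
  rw [Nat.card_eq_fintype_card, Fintype.card_coe, h5] at h6
  omega

theorem uniq_inv {D : Subgroup X} [Finite D] (hD : IsCyclic D) {u v : X} (hu : u ∈ D) (hv : v ∈ D) (u2 : u ^ 2 = 1)
    (v2 : v ^ 2 = 1) (v1 : v ≠ 1) : u = 1 ∨ u = v := by
  have h1 := mem_zpowers_of_orderOf_dvd_of_isCyclic (G := D) (x := ⟨u, hu⟩) (z := ⟨v, hv⟩) (by
    rw [← Subgroup.orderOf_coe, ← Subgroup.orderOf_coe, orderOf_eq_prime v2 v1]
    exact orderOf_dvd_of_pow_eq_one u2)
  obtain ⟨i, hi⟩ := h1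
  exact eq_or_of_mem_zpowers v2 ⟨i, congrArg Subtype.val hi⟩

theorem comm_le_of_gen {r s : X} (gen : ∀ K : Subgroup X, r ∈ K → s ∈ K → K = ⊤) {N : Subgroup X}
    (hr : r ∈ normalizer (N : Set X)) (hs : s ∈ normalizer (N : Set X)) (h : ⁅r, s⁆ ∈ N) : commutator X ≤ N := by
  rw [commutator_def, ← gen (closure {r, s}) (subset_closure (Or.inl rfl)) (subset_closure (Or.inr rfl))]
  exact commutator_closure_pair_le hr hs h

theorem mem_norm_zpowers [Finite X] {g c : X} (h : g * c * g⁻¹ ∈ zpowers c) : g ∈ normalizer (zpowers c : Set X) :=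
  mem_normalizer_of_finite (P := zpowers c) fun x ⟨i, hi⟩ => by rw [← hi, ← conj_zpow]; exact zpow_mem h i

/-- A two-generator group with an abelian maximal subgroup has a cyclic derived group. -/
theorem cyc_of_gen [Finite X] {r s : X} (gen : ∀ K : Subgroup X, r ∈ K → s ∈ K → K = ⊤)
    (h1 : Commute r (s * r * s⁻¹)) (h2 : Commute r (s ^ 2)) : IsCyclic (commutator X) := by
  refine Subgroup.isCyclic_of_le (comm_le_of_gen gen (N := zpowers ⁅r, s⁆) (mem_norm_zpowers ?_)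
    (mem_norm_zpowers ?_) (mem_zpowers _))
  · rw [show ⁅r, s⁆ = r * (s * r * s⁻¹)⁻¹ by group, ((Commute.refl r).mul_right h1.inv_right).eq,
      mul_inv_cancel_right]
    exact mem_zpowers _
  · have e : s * ⁅r, s⁆ * s⁻¹ = ⁅r, s⁆⁻¹ := by
      calc s * ⁅r, s⁆ * s⁻¹ = s * r * s⁻¹ * (s ^ 2 * r⁻¹ * (s ^ 2)⁻¹) := by group
        _ = _ := by rw [← h2.inv_left.eq]; group
    rw [e]
    exact inv_mem (mem_zpowers _)

namespace St

variable [Finite X] {a : X} (h : St a)
include h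

omit [Finite X] in
theorem mul_memL {u v : X} (hu : u ∉ Lx a) (hv : v ∉ Lx a) : u * v ∈ Lx a :=
  (mul_mem_iff_of_index_two h.idx).2 (iff_of_false hu hv)

theorem gen {g : X} (hg : g ∉ Lx a) (K : Subgroup X) (ha : a ∈ K) (hK : g ∈ K) : K = ⊤ := by
  refine eq_top_of_sup_eq_top_of_le_frattini (commutator_le_frattini h.pg) (eq_top_iff.2 fun x _ => ?_)
  have hL : Lx a ≤ commutator X ⊔ K := sup_le ((zpowers_le.2 ha).trans le_sup_right) le_sup_left
  by_cases hx : x ∈ Lx a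
  · exact hL hx
  · exact (mul_mem_cancel_right (mem_sup_right hK)).1 (hL (h.mul_memL hx hg))

theorem cle {g : X} (hg : g ∉ Lx a) (N : Subgroup X) [N.Normal] (hc : ⁅a, g⁆ ∈ N) : commutator X ≤ N :=
  comm_le_of_gen (h.gen hg) (by rw [normalizer_eq_top]; trivial) (by rw [normalizer_eq_top]; trivial) hc

theorem memF {g : X} : g ∈ frattini X ↔ ∃ i : ℤ, (a ^ (2 * i))⁻¹ * g ∈ commutator X := by
  have e : ∀ g : X, g ∈ commutator X ⊔ zpowers (a ^ (2 : ℤ)) ↔ ∃ i : ℤ, (a ^ (2 * i))⁻¹ * g ∈ commutator X :=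
    fun g => by
      rw [mem_sup_zpowers_iff (by rw [normalizer_eq_top]; trivial)]
      simp only [zpow_mul]
  refine ⟨fun hg => (e g).1 ((frattini_le_iff_pGroup h.pg).2 ⟨le_sup_left, fun x => (e _).2 ?_⟩ hg), fun ⟨i, hi⟩ =>
    (mul_mem_cancel_left (inv_mem (zpow_mem_frattini_of_even h.pg a (even_two_mul i)))).1
      (commutator_le_frattini h.pg hi)⟩
  obtain ⟨t, ht, ht2⟩ := h.ex
  by_cases hx : x ∈ Lx a
  · obtain ⟨i, hi⟩ := memL.1 hx
    refine ⟨i, ?_⟩
    rw [mem_comm_iff] at hi ⊢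
    simp only [map_mul, map_inv, map_pow, map_zpow] at hi ⊢
    rw [← inv_mul_eq_one.1 hi, mul_comm 2 i, zpow_mul, zpow_ofNat, inv_mul_cancel]
  · obtain ⟨i, hi⟩ := memL.1 (h.mul_memL hx ht)
    refine ⟨i, ?_⟩
    rw [mem_comm_iff] at hi ht2 ⊢
    simp only [map_mul, map_inv, map_pow, map_zpow] at hi ht2 ⊢
    rw [mul_comm 2 i, zpow_mul, inv_mul_eq_one.1 hi, zpow_ofNat, mul_pow, ht2, mul_one, inv_mul_cancel]

theorem FL : frattini X ≤ Lx a := fun _ hg => let ⟨_, hi⟩ := h.memF.1 hg; memL.2 ⟨_, hi⟩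

theorem even_of_mem {K : Subgroup X} (ha : a ∉ K) {i : ℤ} (hi : a ^ i ∈ K) : Even i :=
  by_contra fun h1 => ha (mem_of_zpow_odd h.pg (Int.not_even_iff_odd.1 h1) hi)

/-- An element of `L` whose square lies in the derived group is a Frattini element. -/
theorem sqF {g : X} (hg : g ∈ Lx a) (h2 : g ^ 2 ∈ commutator X) : g ∈ frattini X := by
  obtain ⟨i, hi⟩ := memL.1 hg
  have h3 : (a ^ 2) ^ i ∈ commutator X := by
    rw [mem_comm_iff] at hi h2 ⊢
    simp only [map_mul, map_inv, map_pow, map_zpow] at hi h2 ⊢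
    rw [← zpow_natCast, ← zpow_mul, mul_comm, zpow_mul, inv_mul_eq_one.1 hi, zpow_natCast, h2]
  obtain ⟨r, rfl⟩ : Even i := by_contra fun h1 => h.a2 (mem_of_zpow_odd h.pg (Int.not_even_iff_odd.1 h1) h3)
  exact h.memF.2 ⟨r, by rwa [two_mul]⟩

theorem rank (K : Subgroup X) : (frattini K).index ≤ 8 := by
  have h1 : frattini K ≤ (Lx a).subgroupOf K := fun x hx =>
    h.FL (map_subtype_frattini_le_pGroup h.pg K ⟨x, hx, rfl⟩)
  have h2 : IsMetacyclic ((Lx a).subgroupOf K) := mc_of_injective h.mc (K.subtype.subgroupComap _)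
    fun x y e => Subtype.ext (Subtype.ext (congrArg (fun v : Lx a => (v : X)) e))
  have h3 := Nat.le_of_dvd (by norm_num) (mc_index_dvd h2 ((frattini K).subgroupOf _) (n := 2) fun x =>
    pow_mem_frattini (h.pg.to_subgroup K) x.1)
  have h4 : (Lx a).relIndex K ≤ 2 := by
    haveI := normal_of_index_eq_two h.idx
    exact Nat.le_of_dvd two_pos (h.idx ▸ relIndex_dvd_index_of_normal _ _)
  rw [← relIndex_mul_index h1]
  exact (Nat.mul_le_mul h3 h4).trans (by norm_num)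

/-- An element outside `L` with central square inverts the derived group. -/
theorem inverts {g : X} (hg : g ∉ Lx a) (h2 : g ^ 2 ∈ center X) {w : X} (hw : w ∈ commutator X) :
    g * w * g⁻¹ = w⁻¹ := by
  let I : Subgroup X :=
    { carrier := {w | w ∈ commutator X ∧ g * w * g⁻¹ = w⁻¹}
      one_mem' := ⟨one_mem _, by simp⟩
      mul_mem' := fun {u v} hu hv => ⟨mul_mem hu.1 hv.1, by
        rw [← conj_mul, hu.2, hv.2, (h.ab u hu.1 v hv.1).eq, mul_inv_rev]⟩
      inv_mem' := fun {u} hu => ⟨inv_mem hu.1, by rw [← conj_inv, hu.2]⟩ }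
  haveI : I.Normal := ⟨fun w hw k => ⟨Normal.conj_mem inferInstance _ hw.1 k, by
    have h1 := (h.ab _ (comm_mem g k) _ (Normal.conj_mem inferInstance _ (inv_mem hw.1) k)).eq
    calc g * (k * w * k⁻¹) * g⁻¹ = ⁅g, k⁆ * (k * (g * w * g⁻¹) * k⁻¹) * ⁅g, k⁆⁻¹ := by group
      _ = _ := by rw [hw.2, h1]; group⟩⟩
  refine (h.cle hg I ⟨comm_mem a g, ?_⟩ hw).2
  have h3 := Subgroup.mem_center_iff.1 h2 a⁻¹
  calc g * ⁅a, g⁆ * g⁻¹ = g * a * g⁻¹ * (g ^ 2 * a⁻¹) * (g ^ 2)⁻¹ := by group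
    _ = _ := by rw [← h3]; group

theorem aut : IsPGroup 2 (MulAut X) := by
  have hc : ∀ (α : MulAut X) g, α g ∈ commutator X ↔ g ∈ commutator X := fun α g =>
    SetLike.ext_iff.1 (characteristic_iff_comap_eq.1 (inferInstance : (commutator X).Characteristic) α) g
  let C : Subgroup X :=
    { carrier := {g | ∃ w : X, (w ^ 4)⁻¹ * g ^ 2 ∈ commutator X}
      one_mem' := ⟨1, by simp⟩
      mul_mem' := by
        rintro u v ⟨w, hw⟩ ⟨y, hy⟩
        refine ⟨w * y, ?_⟩
        rw [mem_comm_iff] at hw hy ⊢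
        simp only [map_mul, map_inv, map_pow] at hw hy ⊢
        rw [mul_pow, mul_pow, inv_mul_eq_one.1 hw, inv_mul_eq_one.1 hy, inv_mul_cancel]
      inv_mem' := by
        rintro u ⟨w, hw⟩
        refine ⟨w⁻¹, ?_⟩
        rw [mem_comm_iff] at hw ⊢
        simp only [map_mul, map_inv, map_pow] at hw ⊢
        rw [inv_pow, inv_pow, inv_mul_eq_one.1 hw, inv_mul_cancel] }
  have hF : frattini X ≤ C := (frattini_le_iff_pGroup h.pg).2 ⟨fun x hx => ⟨1, by simpa using pow_mem hx 2⟩,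
    fun x => ⟨x, by rw [← pow_mul, inv_mul_cancel]; exact one_mem _⟩⟩
  have hCL : ∀ g ∈ C, g ∈ Lx a → g ∈ frattini X := by
    rintro g ⟨w, hw⟩ hg
    refine (mul_mem_cancel_left (inv_mem (pow_mem_frattini h.pg w))).1 (h.sqF
      (mul_mem (inv_mem (h.FL (pow_mem_frattini h.pg w))) hg) ?_)
    rw [mem_comm_iff] at hw ⊢
    simp only [map_mul, map_inv, map_pow] at hw ⊢
    rwa [mul_pow, inv_pow, ← pow_mul]
  obtain ⟨t, ht, ht2⟩ := h.ex
  have htC : t ∈ C := ⟨1, by simpa using ht2⟩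
  have hCi : ∀ u v : X, u ∉ C → v ∉ C → u⁻¹ * v ∈ C := fun u v hu hv => by
    have key : ∀ u : X, u ∉ C → a⁻¹ * u ∈ C := fun u hu => by
      obtain ⟨i, hi⟩ : ∃ i : ℤ, (a ^ i)⁻¹ * u ∈ C := by
        by_cases h1 : u ∈ Lx a
        · obtain ⟨i, hi⟩ := memL.1 h1
          exact ⟨i, hF (commutator_le_frattini h.pg hi)⟩
        · obtain ⟨i, hi⟩ := memL.1 (h.mul_memL h1 ht)
          exact ⟨i, (mul_mem_cancel_right htC).1 (hF (commutator_le_frattini h.pg (by rwa [mul_assoc])))⟩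
      rcases Int.even_or_odd' i with ⟨r, rfl | rfl⟩
      · exact absurd ((mul_mem_cancel_left (inv_mem (hF (zpow_mem_frattini_of_even h.pg a (even_two_mul r))))).1 hi) hu
      · have := mul_mem (hF (zpow_mem_frattini_of_even h.pg a (even_two_mul r))) hi
        convert this using 1
        group
    have := mul_mem (inv_mem (key u hu)) (key v hv)
    convert this using 1
    group
  refine IsPGroup.of_equiv (isPGroup_of_coprime_eq_one (H := ⊤) fun α _ hα => ?_) topEquiv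
  have hC : ∀ (α : MulAut X), ∀ x ∈ C, α x ∈ C := fun α x ⟨w, hw⟩ => ⟨α w, by
    rw [← map_pow, ← map_pow, ← map_inv, ← map_mul, hc]; exact hw⟩
  refine mulAut_eq_one_of_comm_comm_frattini h.pg hα (hC α) (fun x => ?_) fun x hx => ?_
  · by_cases hx : x ∈ C
    · exact mul_mem (inv_mem hx) (hC α x hx)
    · exact hCi _ _ hx fun h1 => hx (by simpa using hC α⁻¹ _ h1)
  · refine hCL _ (mul_mem (inv_mem hx) (hC α x hx)) ((mul_mem_iff_of_index_two h.idx).2 ?_)
    rw [Subgroup.inv_mem_iff]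
    exact ⟨fun h1 => h.FL ((aut_mem_frattini α).2 (hCL x hx h1)),
      fun h1 => h.FL ((aut_mem_frattini α).1 (hCL _ (hC α x hx) h1))⟩

/-- The involutions of the derived group. -/
def U (h : St a) : Subgroup X where
  carrier := {w | w ∈ commutator X ∧ w ^ 2 = 1}
  one_mem' := ⟨one_mem _, one_pow _⟩
  mul_mem' := fun {u v} hu hv => ⟨mul_mem hu.1 hv.1, by rw [(h.ab u hu.1 v hv.1).mul_pow, hu.2, hv.2, one_mul]⟩
  inv_mem' := fun {u} hu => ⟨inv_mem hu.1, by rw [inv_pow, hu.2, inv_one]⟩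

omit [Finite X] in
theorem normal_U : h.U.Normal :=
  ⟨fun w hw k => ⟨Normal.conj_mem inferInstance _ hw.1 k, by rw [conj_pow, hw.2]; simp⟩⟩

omit [Finite X] in
theorem card_le_four {E : Subgroup X} (hE : E ≤ Lx a) (h2 : ∀ e ∈ E, e ^ 2 = 1) : Nat.card E ≤ 4 :=
  Nat.le_of_dvd (by norm_num) (mc_card_dvd (mc_of_injective h.mc (inclusion hE) (inclusion_injective hE)) (n := 2)
    fun x => Subtype.ext (h2 x x.2))

omit [Finite X] in
theorem cardU : Nat.card h.U ≤ 4 := h.card_le_four (fun _ hw => mem_sup_right hw.1) fun _ hw => hw.2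

theorem exists_U (hn : ¬ IsCyclic (commutator X)) (d : X) : ∃ u ∈ h.U, u ≠ 1 ∧ u ≠ d := by
  have h1 := sq_le_card_omegaOne_of_not_isCyclic (h.pg.to_subgroup (commutator X))
    ⟨⟨fun u v => Subtype.ext (h.ab u u.2 v v.2)⟩⟩ hn
  have h2 : omegaOne 2 (commutator X) ≤ h.U := (closure_le _).2 fun _ hw => hw
  by_contra! h3
  have h4 := Nat.card_le_card_of_injective (fun u : h.U => (u : X) = 1) fun u v e => Subtype.ext (by
    by_cases hu : (u : X) = 1
    · rw [hu, e.to_iff.1 hu]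
    · rw [h3 u u.2 hu, h3 v v.2 fun h4 => hu (e.to_iff.2 h4)])
  have h5 := card_le_of_le h2
  rw [Nat.card_eq_fintype_card (α := Prop), Fintype.card_prop] at h4
  omega

theorem exists_z0 (hn : ¬ IsCyclic (commutator X)) : ∃ z ∈ h.U, z ≠ 1 ∧ z ∈ center X ∧
    ∀ u ∈ h.U, ∀ g : X, ⁅g, u⁆ = 1 ∨ ⁅g, u⁆ = z := by
  haveI := h.normal_U
  haveI := h.pg.isNilpotent
  obtain ⟨u, hu, u1, -⟩ := h.exists_U hn 1
  obtain ⟨⟨z, hz, hzc⟩, z1⟩ := ne_bot_iff_exists_ne_one.1
    (inf_center_ne_bot (N := h.U) fun e => u1 (mem_bot.1 (e ▸ hu)))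
  replace z1 : z ≠ 1 := fun e => z1 (Subtype.ext e)
  refine ⟨z, hz, z1, hzc, fun u hu g => ?_⟩
  by_cases hc : u ∈ center X
  · exact Or.inl (commutatorElement_eq_one_iff_mul_comm.2 (Subgroup.mem_center_iff.1 hc g))
  have u1 : u ≠ 1 := fun e => hc (e ▸ one_mem _)
  have uz : u ≠ z := fun e => hc (e ▸ hzc)
  have hc' : g * u * g⁻¹ ∉ center X := fun e => hc (by simpa [mul_assoc] using Normal.conj_mem inferInstance _ e g⁻¹)
  rcases mem_four h.cardU hz hu z1 u1 uz hz.2 (Normal.conj_mem inferInstance _ hu g) with e | e | e | e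
  · exact absurd (e ▸ one_mem _) hc'
  · exact absurd (e ▸ hzc) hc'
  · left; rw [commutatorElement_def, e, mul_inv_cancel]
  · right; rw [commutatorElement_def, e, mul_inv_cancel_right]

theorem idxU (hn : ¬ IsCyclic (commutator X)) {u v : X} (hu : u ∉ centralizer (h.U : Set X))
    (hv : v ∉ centralizer (h.U : Set X)) : u * v ∈ centralizer (h.U : Set X) := by
  obtain ⟨z, hz, z1, hzc, hc⟩ := h.exists_z0 hn
  obtain ⟨w, hw, w1, wz⟩ := h.exists_U hn z
  have key : ∀ g : X, ⁅g, w⁆ = 1 → g ∈ centralizer (h.U : Set X) := fun g hg x hx => by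
    have h1 : Commute g w := commutatorElement_eq_one_iff_commute.1 hg
    have h2 : Commute g z := Subgroup.mem_center_iff.1 hzc g
    rcases mem_four h.cardU hz hw z1 w1 wz hz.2 hx with rfl | rfl | rfl | rfl
    exacts [by simp, h2.symm, h1.symm, (h2.mul_right h1).symm]
  refine key _ ?_
  calc ⁅u * v, w⁆ = u * ⁅v, w⁆ * u⁻¹ * ⁅u, w⁆ := by group
    _ = 1 := by
      rw [(hc w hw u).resolve_left fun e => hu (key u e), (hc w hw v).resolve_left fun e => hv (key v e),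
        Subgroup.mem_center_iff.1 hzc u, mul_inv_cancel_right, ← pow_two, hz.2]

theorem FU (hn : ¬ IsCyclic (commutator X)) : frattini X ≤ centralizer (h.U : Set X) :=
  (frattini_le_iff_pGroup h.pg).2 ⟨fun w hw u hu => (h.ab u hu.1 w hw).eq, fun x => by
    by_cases hx : x ∈ centralizer (h.U : Set X)
    · exact pow_mem hx 2
    · rw [pow_two]; exact h.idxU hn hx hx⟩

/-- The involutions of `L` lie in `U`. -/
theorem invU (hn : ¬ IsCyclic (commutator X)) {g : X} (hg : g ∈ Lx a) (h2 : g ^ 2 = 1) : g ∈ h.U := by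
  obtain ⟨z, hz, z1, -⟩ := h.exists_U hn 1
  obtain ⟨w, hw, w1, wz⟩ := h.exists_U hn z
  have hc := h.FU hn (h.sqF hg (h2 ▸ one_mem _))
  have h4 := h.card_le_four (E := h.U ⊔ zpowers g) (sup_le (fun _ hw => mem_sup_right hw.1) (zpowers_le.2 hg))
    fun e he => by
      obtain ⟨m, hm⟩ := (mem_sup_zpowers_iff (centralizer_le_normalizer _ hc)).1 he
      have h3 : Commute (g ^ m) ((g ^ m)⁻¹ * e) := (Commute.zpow_left (hc _ hm).symm m)
      rw [← mul_inv_cancel_left (g ^ m) e, h3.mul_pow, hm.2, ← zpow_natCast, ← zpow_mul, mul_comm m, zpow_mul,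
        zpow_natCast, h2, one_zpow, one_mul]
  rcases mem_four h4 (mem_sup_left hz) (mem_sup_left hw) z1 w1 wz hz.2 (mem_sup_right (mem_zpowers g)) with
    rfl | rfl | rfl | rfl
  exacts [one_mem _, hz, hw, mul_mem hz hw]

/-- The class of an element that inverts the derived group is its whole coset. -/
theorem cls (hn : ¬ IsCyclic (commutator X)) {g : X} (hg : g ∉ Lx a)
    (hi : ∀ w ∈ commutator X, g * w * g⁻¹ = w⁻¹) {u : X} (hu : u ∈ commutator X) : ∃ k : X, ⁅k, g⁆ = u := by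
  let B : Subgroup X :=
    { carrier := {v | ∃ w ∈ commutator X, w ^ 2 = v}
      one_mem' := ⟨1, one_mem _, one_pow _⟩
      mul_mem' := by
        rintro _ _ ⟨u, hu, rfl⟩ ⟨v, hv, rfl⟩
        exact ⟨u * v, mul_mem hu hv, (h.ab u hu v hv).mul_pow 2⟩
      inv_mem' := by
        rintro _ ⟨u, hu, rfl⟩
        exact ⟨u⁻¹, inv_mem hu, inv_pow u 2⟩ }
  haveI hB : B.Normal := ⟨by
    rintro _ ⟨w, hw, rfl⟩ k
    exact ⟨_, Normal.conj_mem inferInstance _ hw k, conj_pow⟩⟩
  let π := QuotientGroup.mk' B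
  have lift : ∀ k : X, π ⁅k, g⁆ = π u → ∃ k : X, ⁅k, g⁆ = u := fun k e => by
    obtain ⟨w, hw, e1⟩ : ⁅k, g⁆⁻¹ * u ∈ B := QuotientGroup.eq.1 e
    refine ⟨w * k, ?_⟩
    calc ⁅w * k, g⁆ = w * ⁅k, g⁆ * w⁻¹ * (w * (g * w * g⁻¹)⁻¹) := by group
      _ = ⁅k, g⁆ * w ^ 2 := by rw [hi w hw, (h.ab w hw _ (comm_mem k g)).eq, pow_two]; group
      _ = u := by rw [e1, mul_inv_cancel_left]
  have h4 : Nat.card ((commutator X).map π) ≤ 4 := Nat.le_of_dvd (by norm_num) (mc_card_dvd (n := 2)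
    (mc_of_surjective (mc_of_injective h.mc (inclusion le_sup_right) (inclusion_injective _))
      (π.subgroupMap _) (π.subgroupMap_surjective _)) (by
      rintro ⟨_, w, hw, rfl⟩
      exact Subtype.ext ((QuotientGroup.eq_one_iff (w ^ 2)).2 ⟨w, hw, rfl⟩)))
  set c := ⁅a, g⁆ with hc
  have hcA : c ∈ commutator X := comm_mem a g
  have c2 : π c ^ 2 = 1 := (QuotientGroup.eq_one_iff (c ^ 2)).2 ⟨c, hcA, rfl⟩
  have ci : (π c)⁻¹ = π c := inv_eq_of_mul_eq_one_right (sq (π c) ▸ c2)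
  have hac : ¬ Commute (π a) (π c) := fun e => by
    have h1 : π c ∈ center (X ⧸ B) := Subgroup.mem_center_iff.2 fun y => by
      obtain ⟨y, rfl⟩ := QuotientGroup.mk'_surjective B y
      have h2 := h.gen hg ((centralizer {π c}).comap π) (mem_centralizer_singleton_iff.2 e)
        (mem_centralizer_singleton_iff.2 (by
          rw [← mul_inv_eq_iff_eq_mul, ← map_inv, ← map_mul, ← map_mul, hi c hcA, map_inv, ci]))
      exact mem_centralizer_singleton_iff.1 (show y ∈ (centralizer {π c}).comap π from h2 ▸ mem_top y)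
    haveI : (zpowers (π c)).Normal := ⟨fun n hn y => by
      rw [Subgroup.mem_center_iff.1 ((zpowers_le.2 h1) hn) y, mul_inv_cancel_right]; exact hn⟩
    have h3 := h.cle hg ((zpowers (π c)).comap π) (mem_zpowers _)
    refine hn ((eq_of_sup_frat (zpowers_le.2 hcA) fun w hw => ?_) ▸ inferInstance)
    obtain ⟨i, hi⟩ := h3 hw
    obtain ⟨v, hv, e1⟩ : (c ^ i)⁻¹ * w ∈ B := QuotientGroup.eq.1 hi
    exact (mul_mem_cancel_left (inv_mem (mem_sup_left (zpow_mem (mem_zpowers c) i)))).1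
      (mem_sup_right (e1 ▸ pow_mem_frat (h.pg.to_subgroup _) hv))
  have hm : ∀ k : X, π k * π c * (π k)⁻¹ ∈ (commutator X).map π := fun k =>
    ⟨k * c * k⁻¹, Normal.conj_mem inferInstance _ hcA k, by simp⟩
  have c1 : ∀ k : X, π k * π c * (π k)⁻¹ ≠ 1 := fun k e => hac (by
    rw [show π c = 1 by simpa [mul_inv_eq_one] using e]; exact Commute.one_right _)
  have c0 : π c ≠ 1 := by simpa using c1 1
  have hq : π a * π c * (π a)⁻¹ ≠ π c := fun e => hac (mul_inv_eq_iff_eq_mul.1 e)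
  have four : ∀ {v}, v ∈ (commutator X).map π → _ := fun {v} hv =>
    mem_four h4 (mem_map_of_mem π hcA) (hm a) c0 (c1 a) hq c2 hv
  rcases four (mem_map_of_mem π hu) with e | e | e | e
  · exact lift 1 (by simp [e])
  · exact lift a e.symm
  · refine lift a⁻¹ ?_
    have e1 : π ⁅a⁻¹, g⁆ = π a⁻¹ * π c * (π a⁻¹)⁻¹ := by
      rw [← ci, ← map_inv, ← map_inv, ← map_mul, ← map_mul, hc]; congr 1; group
    rw [e1, e]
    rcases four (hm a⁻¹) with e2 | e2 | e2 | e2
    · exact absurd e2 (c1 _)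
    · exact absurd (by rw [map_inv] at e2; exact (Commute.inv_left_iff.1 (mul_inv_eq_iff_eq_mul.1 e2))) hac
    · exact e2
    · exfalso
      refine hac (mem_centralizer_singleton_iff.1 (mem_of_zpow_odd (h.pg.to_quotient B) (j := 3) (by decide)
        (mem_centralizer_singleton_iff.2 ?_)))
      rw [map_inv, inv_inv] at e2
      set p := π c
      set b := π a
      have hcm : Commute p (b * p * b⁻¹) := by
        have := (h.ab c hcA _ (Normal.conj_mem inferInstance _ hcA a)).map π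
        simpa using this
      have e3 : b ^ 2 * p * (b ^ 2)⁻¹ = b⁻¹ * p * b := by
        have e4 : p = b * p * b⁻¹ * (b ^ 2 * p * (b ^ 2)⁻¹) := by
          calc p = b * (b⁻¹ * p * b) * b⁻¹ := by group
            _ = _ := by rw [e2]; group
        rw [e2, hcm.eq, ← inv_mul_eq_iff_eq_mul.2 e4, conj_inv, ci]
      calc b ^ (3 : ℤ) * p = b * (b ^ 2 * p * (b ^ 2)⁻¹) * b ^ 2 := by group
        _ = _ := by rw [e3]; group
  · refine lift (a ^ 2) ?_
    have := (h.ab c hcA _ (Normal.conj_mem inferInstance _ hcA a)).map π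
    rw [e, ← map_inv, ← map_mul, ← map_mul, this.eq, ← map_mul, hc]
    congr 1
    rw [pow_two]
    group

end St

end CL.Fus.Bi
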