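/-
Saturated fusion systems on `CL.C3.G`: definitions and interfaces for the classification.
-/
import Cfsg.Agent.Fus.C3S
import Cfsg.Agent.Fus.C3D
import Cfsg.Agent.Fus.C3MAll
import Cfsg.Agent.Fus.Iso2

set_option autoImplicit false
set_option Elab.async false

namespace CL.C3

open Subgroup Cfsg Cfsg.FusionSystem CL.Fus

attribute [local irreducible] mul inv

/-- fusion systems on `G` -/
abbrev FS := FusionSystem (⊤ : Subgroup G)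

/-! ### Subgroups -/

def lE2 : List ℕ := [1, 3, 9, 27, 81, 243, 729, 0, 6561]
def lE3 : List ℕ := [1, 3, 9, 27, 81, 0, 729, 2187, 6561]
def lE4 (s : ℕ) : List ℕ := [1, 3, 9, 27, 81, 243, 0, 0, s]
def S4 : List ℕ := [8748, 9477, 10206, 10935, 11664, 12393]
def lR : List ℕ := [1, 3, 9, 27, 81, 0, 729, 2187, 0]
def lR5 : List ℕ := [1, 3, 9, 27, 0, 0, 729, 0, 0]
def lB : List ℕ := [1, 3, 9, 0, 0, 0, 729, 2187, 0]
def lW3 : List ℕ := [1, 3, 0, 27, 0, 0, 0, 0, 0]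

instance okE2 : Fact (okE lE2 = true) := ⟨by decide +kernel⟩
instance okE3 : Fact (okE lE3 = true) := ⟨by decide +kernel⟩
theorem okE4 : ∀ s ∈ S4, okE (lE4 s) = true := by decide +kernel
instance okR : Fact (okE lR = true) := ⟨by decide +kernel⟩
instance okR5 : Fact (okE lR5 = true) := ⟨by decide +kernel⟩
instance okB : Fact (okE lB = true) := ⟨by decide +kernel⟩
instance okW3 : Fact (okE lW3 = true) := ⟨by decide +kernel⟩

noncomputable abbrev E2 : Subgroup G := PS lE2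
noncomputable abbrev E3 : Subgroup G := PS lE3
noncomputable abbrev E4 (s : ℕ) : Subgroup G := PS (lE4 s)
noncomputable abbrev RR : Subgroup G := PS lR
noncomputable abbrev R5 : Subgroup G := PS lR5
noncomputable abbrev BB : Subgroup G := PS lB
noncomputable abbrev W3 : Subgroup G := PS lW3

/-- the candidates for essential subgroups -/
def Ess (A : Subgroup G) : Prop := A = L 8 ∨ A = E2 ∨ A = E3 ∨ ∃ s ∈ S4, A = E4 s

/-- an automorphism of `A` in `F` -/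
def Au (F : FS) (A : Subgroup G) (f : G → G) : Prop := Mor F A f ∧ Iv f A

section
variable {F F' : FS} {A : Subgroup G} {f g : G → G}

theorem Au.comp (hf : Au F A f) (hg : Au F A g) : Au F A fun x => g (f x) :=
  ⟨hf.1.comp hg.1 hf.2, fun x hx => hg.2 _ (hf.2 x hx)⟩

theorem Au.inv (hf : Au F A f) : ∃ g, Au F A g ∧ (∀ x ∈ A, g (f x) = x) ∧ ∀ x ∈ A, f (g x) = x := by
  obtain ⟨g, hg, h2, -, -⟩ := hf.1.exists_inv
  rw [hf.1.img_eq_self le_rfl hf.2] at hg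
  refine ⟨g, ⟨hg, fun y hy => ?_⟩, h2, fun y hy => ?_⟩ <;> obtain ⟨x, hx, rfl⟩ := onto hf.1 le_rfl hf.2 hy
  · rwa [h2 x hx]
  · rw [h2 x hx]

theorem au_conj (F : FS) {c : G} (hc : c ∈ normalizer (A : Set G)) : Au F A fun x => c * x * c⁻¹ :=
  ⟨mor_conj F le_top (mem_top c), fun _ hx => conj_mem_of_mem_normalizer hc hx⟩

theorem au_conj' (F : FS) [h : A.Normal] (c : G) : Au F A fun x => c * x * c⁻¹ :=
  ⟨mor_conj F le_top (mem_top c), fun x hx => h.conj_mem x hx c⟩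

theorem Au.aut (hf : Au F A f) : ∃ α ∈ F.autGroup A, ∀ x ∈ A, autFun α x = f x :=
  hf.1.exists_aut (hf.1.img_eq_self le_rfl hf.2)

theorem au_autFun {α : MulAut A} (h : α ∈ F.autGroup A) : Au F A (autFun α) :=
  ⟨mor_autFun le_top h, fun _ hx => autFun_mem α hx⟩

theorem Au.res (hf : Au F A f) {B : Subgroup G} (hB : B ≤ A) (h : Iv f B) : Au F B f := ⟨hf.1.mono hB, h⟩

/-- maps which agree on generators -/
theorem eq_of_gens (hf : HomOn A f) (hg : HomOn A g) {E : List ℕ} (hE : Ech A E)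
    (h : ∀ k < 9, f (e (E.getD k 0)) = g (e (E.getD k 0))) : ∀ x ∈ A, f x = g x := fun x hx => by
  obtain ⟨y, hy, rfl⟩ := hE.le (H := (hf.toHom.eqLocus hg.toHom).map A.subtype)
    (fun k hk => ⟨⟨_, hE.mem hk⟩, h k hk, rfl⟩) hx
  exact hy

theorem normal_of_gens {E : List ℕ} (hE : Ech A E)
    (h : ∀ i < 9, ∀ j < 9, e (3 ^ i) * e (E.getD j 0) * (e (3 ^ i))⁻¹ ∈ A) : A.Normal :=
  normalizer_eq_top_iff.1 (eq_top_of fun i hi => nrm_of_gens hE (h i hi))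

instance : E2.Normal := normal_of_gens (ech_PS _) (by decide +kernel)
instance : E3.Normal := normal_of_gens (ech_PS _) (by decide +kernel)
instance : RR.Normal := normal_of_gens (ech_PS _) (by decide +kernel)
instance : R5.Normal := normal_of_gens (ech_PS _) (by decide +kernel)
instance : W3.Normal := normal_of_gens (ech_PS _) (by decide +kernel)

end

/-! ### The diagonal automorphisms -/

/-- the generators inverted by `tau s` -/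
def sm (s : ℕ) : ℕ := [0, 330, 216, 402, 63, 373, 231, 429].getD s 0

/-- negation of digits -/
noncomputable def tnA (m n : ℕ) : ℕ → ℕ → ℕ :=
  Nat.rec (motive := fun _ => ℕ → ℕ → ℕ) (fun _ _ => 0) (fun _ ih o x => frc (Nat.mod x 3) fun d =>
    Nat.add (Nat.mul 3 (frc (Nat.div x 3) fun y => frc (Nat.succ o) fun o' => ih o' y))
      (Bool.rec d (Nat.mod (Nat.mul 2 d) 3) (Nat.testBit m o))) n

/-- the diagonal automorphisms, `s < 8`; the bits of `s` are the signs on `e 6561`, `e 2187`, `e 243` -/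
noncomputable def tau (s : ℕ) (x : G) : G := e (frc (sm s) fun m => tnA m 9 0 x.v)

theorem nf_tnA {γ : ℕ → G} (m : ℕ) : ∀ n o x, (∀ k < o + n, γ k ^ 3 = 1) → tnA m n o x < 3 ^ n ∧
    nf γ n o (tnA m n o x) = nf (fun k => if m.testBit k then (γ k)⁻¹ else γ k) n o x
  | 0, _, _, _ => ⟨Nat.one_pos, rfl⟩
  | n + 1, o, x, h => by
    obtain ⟨h1, h2⟩ := nf_tnA m n (o + 1) (x / 3) fun k hk => h k (by omega)
    have e0 : tnA m (n + 1) o x = 3 * tnA m n (o + 1) (x / 3) + Bool.rec (x % 3) (2 * (x % 3) % 3) (m.testBit o) := rfl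
    have h3 : (Bool.rec (x % 3) (2 * (x % 3) % 3) (m.testBit o) : ℕ) < 3 := by
      cases m.testBit o <;> exact Nat.mod_lt _ (by norm_num)
    refine ⟨by rw [e0, pow_succ]; omega, ?_⟩
    rw [e0, nf, nf, Nat.mul_add_div (by norm_num), Nat.div_eq_of_lt h3, add_zero, h2, Nat.mul_add_mod,
      Nat.mod_eq_of_lt h3]
    congr 1
    cases m.testBit o
    · rfl
    · show γ o ^ (2 * (x % 3) % 3) = (γ o)⁻¹ ^ (x % 3)
      rw [← pow_eq_pow_mod _ (h o (by omega)), pow_mul, eq_inv_of_mul_eq_one_left ((pow_succ _ 2).symm.trans (h o (by omega)))]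

theorem rel_id : Rel fun k => e (3 ^ k) := ⟨by decide +kernel, by decide +kernel⟩

theorem hom_ext {φ ψ : G →* G} (h : ∀ k < 9, φ (e (3 ^ k)) = ψ (e (3 ^ k))) : φ = ψ :=
  MonoidHom.ext fun x => show x ∈ φ.eqLocus ψ from (eq_top_of h : φ.eqLocus ψ = ⊤) ▸ mem_top x

theorem el_id (x : G) : el (fun k => e (3 ^ k)) x.v = x :=
  DFunLike.congr_fun (hom_ext (φ := homOf rel_id) (ψ := MonoidHom.id G) fun _ hk => homOf_gen rel_id hk) x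

/-- the images of the generators -/
noncomputable def γT (s k : ℕ) : G := if (sm s).testBit k then (e (3 ^ k))⁻¹ else e (3 ^ k)

theorem rel_tau : ∀ s < 8, Rel (γT s) := fun s hs =>
  ⟨(by decide +kernel : ∀ s < 8, ∀ i < 9, γT s i ^ 3 = el (γT s) (pp i)) s hs,
    (by decide +kernel : ∀ s < 8, ∀ i < 9, ∀ j < i, γT s j * γT s i = γT s i * el (γT s) (cc i j)) s hs⟩

theorem tau_eq {s : ℕ} (hs : s < 8) (x : G) : tau s x = homOf (rel_tau s hs) x := by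
  obtain ⟨h1, h2⟩ := nf_tnA (γ := fun k => e (3 ^ k)) (sm s) 9 0 x.v (by decide +kernel)
  have := el_id (e (tnA (sm s) 9 0 x.v))
  rw [e_v h1] at this
  exact this.symm.trans h2

theorem tau_mul {s : ℕ} (hs : s < 8) (x y : G) : tau s (x * y) = tau s x * tau s y := by
  simp only [tau_eq hs, map_mul]

/-- `tau s` as a homomorphism -/
noncomputable def tauH (s : ℕ) (hs : s < 8) : G →* G := MonoidHom.mk' (tau s) (tau_mul hs)

theorem tau_tau {s t : ℕ} (hs : s < 8) (ht : t < 8) (x : G) : tau s (tau t x) = tau (s ^^^ t) x :=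
  DFunLike.congr_fun (hom_ext (φ := (tauH s hs).comp (tauH t ht)) (ψ := tauH (s ^^^ t) (Nat.xor_lt_two_pow (n := 3) hs ht))
    ((by decide +kernel : ∀ s < 8, ∀ t < 8, ∀ k < 9, tau s (tau t (e (3 ^ k))) = tau (s ^^^ t) (e (3 ^ k))) s hs t ht)) x

theorem tau_zero (x : G) : tau 0 x = x :=
  DFunLike.congr_fun (hom_ext (φ := tauH 0 (by norm_num)) (ψ := MonoidHom.id G)
    (by decide +kernel : ∀ k < 9, tau 0 (e (3 ^ k)) = e (3 ^ k))) x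

theorem tau_self {s : ℕ} (hs : s < 8) (x : G) : tau s (tau s x) = x := by rw [tau_tau hs hs, Nat.xor_self, tau_zero]

/-- `tau s` as an automorphism -/
noncomputable def tauE (s : ℕ) (hs : s < 8) : MulAut G := ⟨⟨tau s, tau s, tau_self hs, tau_self hs⟩, tau_mul hs⟩

theorem mor_univ (α : MulAut G) : Mor (univFS ⊤) ⊤ α :=
  mor_univFS.2 ⟨homOn_hom α.toMonoidHom ⊤, α.injective.injOn, le_rfl, fun _ _ => mem_top _⟩

theorem mor_tau_univ {s : ℕ} (hs : s < 8) : Mor (univFS ⊤) ⊤ (tau s) := mor_univ (tauE s hs)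

theorem iv_tau_L {s : ℕ} (hs : s < 8) {k : ℕ} (hk : k ≤ 9) : Iv (tau s) (L k) :=
  maps_L (mor_tau_univ hs) hk le_top fun j hj => L_mono hj
    ((by decide +kernel : ∀ s < 8, ∀ j < 9, tau s (e (3 ^ j)) ∈ L (j + 1)) s hs j (by omega))

theorem iv_tau_E2 {s : ℕ} (hs : s < 8) : Iv (tau s) E2 := iv_gens (mor_tau_univ hs) (ech_PS _) le_top
  ((by decide +kernel : ∀ s < 8, ∀ k < 9, tau s (e (lE2.getD k 0)) ∈ E2) s hs)

theorem iv_tau_E3 {s : ℕ} (hs : s < 8) : Iv (tau s) E3 := iv_gens (mor_tau_univ hs) (ech_PS _) le_top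
  ((by decide +kernel : ∀ s < 8, ∀ k < 9, tau s (e (lE3.getD k 0)) ∈ E3) s hs)

/-- every automorphism of `G` in `F` is inner times diagonal -/
def Tor0 (F : FS) : Prop := ∀ f, Mor F ⊤ f → ∃ g : G, ∃ s < 8, Mor F ⊤ (tau s) ∧ ∀ x, f x = g * tau s x * g⁻¹

/-- `F` is saturated and in standard position -/
structure Tor (F : FS) : Prop where
  sat : F.IsSaturated 3
  tor : Tor0 F
  t1 : Mor F ⊤ (tau 1)
  t2 : Mor F ⊤ (tau 2)

/-- `w ∘ tau s = tau t ∘ w` on `A` -/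
def Tw (w : G → G) (A : Subgroup G) (s t : ℕ) : Prop := ∀ x ∈ A, w (tau s x) = tau t (w x)

/-- the map with the images `l` of the generators `E` lies in `F` -/
def Wm (F : FS) (E l : List ℕ) : Prop := ∃ f, Mor F (PS E) f ∧ ∀ k < 9, f (e (E.getD k 0)) = e (l.getD k 0)

def lE1 : List ℕ := [1, 3, 9, 27, 81, 243, 729, 2187, 0]
instance okE1 : Fact (okE lE1 = true) := ⟨by decide +kernel⟩
theorem L8_eq : L 8 = PS lE1 := ((ech_L (by norm_num)).congr (by decide)).eq_PS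

def lW1 (m : ℕ) : List ℕ := [9, 3, 1, 81, 27, [243, 254, 262].getD m 0, 2187, 729, 0]
def lW2 (m : ℕ) : List ℕ := [1, 27, 243 + m, 3, 81, [9, 11, 10].getD m 0, 6561, 0, 729]
def lw3 : List ℕ := [1, 3, 9, 1458, 4374, 0, 27, 81, 6561]

/-- the normal form of a system with trivial core -/
structure Ty (F : FS) (m : ℕ) : Prop extends Tor F where
  w1 : Wm F lE1 (lW1 0)
  w2 : Wm F lE2 (lW2 m)
  w3 : Wm F lE3 lw3

/-- automorphisms which do not extend -/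
def NE1 (F : FS) : Prop := ∃ f, Au F (L 8) f ∧ f (e 729) ∉ L 7
def NE2 (F : FS) : Prop := ∃ f, Au F E2 f ∧ f (e 729) ∉ L 7
def NE3 (F : FS) : Prop := ∃ f, Au F E3 f ∧ f (e 27) ∉ L 4

/-! ### Essential subgroups -/

/-- `F` is generated by the automorphisms of `G` and of the candidates -/
def Gen (F : FS) : Prop := ∀ (T : Subgroup G) (E : FusionSystem T),
  (∀ A a, (A = ⊤ ∨ Ess A) → Au F A a → Mor E A a) → F.IsSubsystemOf E

/-- the centre is strongly closed -/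
def ZI (F : FS) : Prop := ∀ P f, Mor F P f → ∀ x ∈ P, x ∈ L 1 → f x ∈ L 1

def StJ0 : Prop := ∀ F : FS, F.IsSaturated 3 → ¬ F.IsEssential 3 (L 6)

def StJ1 : Prop := ∀ F : FS, F.IsSaturated 3 → ∀ A, F.IsEssential 3 A → L 6 ≤ A → A ≠ L 6 → Ess A

def StL2 : Prop := ∀ F : FS, F.IsSaturated 3 → ZI F → ∀ A, F.IsEssential 3 A → L 2 ≤ A →
  (∀ f, Au F A f → Iv f (L 2)) → L 6 ≤ A ∨ A = E3

def StB0 : Prop := ∀ F : FS, F.IsSaturated 3 → ¬ F.IsEssential 3 BB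

def StL1 : Prop := ∀ F : FS, F.IsSaturated 3 → ZI F → ∀ r ∈ RP, e r ∉ L 6 → F.IsEssential 3 (CM 1 (e r)) →
  ∀ α ∈ F.autGroup (CM 1 (e r)), ∀ x ∈ L 2, (autFun α x = e r ∨ autFun α x = (e r)⁻¹) → α ∈ extAut F (CM 1 (e r))

def StL0 : Prop := ∀ F : FS, F.IsSaturated 3 → ∀ r ∈ RP, e r ∉ L 6 → F.IsEssential 3 (C (e r)) →
  ∀ f, Au F (C (e r)) f → ∀ x ∈ L 1, ¬ (f x = e r ∨ f x = (e r)⁻¹)

def StGen : Prop := ∀ F : FS, F.IsSaturated 3 → Gen F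

/-! ### Invariant subgroups, extension of automorphisms -/

/-- characteristic subgroups -/
structure StI : Prop where
  i0 : ∀ (F : FS) f, Mor F ⊤ f → ∀ k, Iv f (L k)
  i1 : ∀ (F : FS) f, Au F (L 8) f → Iv f (L 6) ∧ Iv f (L 5) ∧ Iv f (L 3)
  i2 : ∀ (F : FS) f, Au F E2 f → Iv f (L 6) ∧ Iv f (L 1)
  i3 : ∀ (F : FS) f, Au F E3 f → Iv f (L 1) ∧ Iv f (L 2) ∧ Iv f (L 3) ∧ Iv f R5 ∧ Iv f RR

/-- the automorphisms of `A` which map `t` into `M` extend to `G` -/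
def ExtP (A M : Subgroup G) (t : G) : Prop := ∀ F : FS, F.IsSaturated 3 → ∀ f, Au F A f → f t ∈ M →
  ∃ k, Mor F ⊤ k ∧ ∀ x ∈ A, k x = f x

/-- the extendable automorphisms have two double cosets -/
def FourP (A M : Subgroup G) (t : G) : Prop := ∀ F : FS, F.IsSaturated 3 → ∀ f w, Au F A f → Au F A w → f t ∉ M →
  w t ∉ M → ∃ g k, Mor F ⊤ k ∧ Iv k A ∧ ∀ x ∈ A, f x = g * w (k x) * g⁻¹

structure StX : Prop where
  x1 : ExtP (L 8) (L 7) (e 729)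
  x2 : ExtP E2 (L 7) (e 729)
  x3 : ExtP E3 (L 4) (e 27)

def StX4 : Prop := ∀ s ∈ S4, ExtP (E4 s) (L 1) (e 1)

structure StF : Prop where
  f1 : FourP (L 8) (L 7) (e 729)
  f2 : FourP E2 (L 7) (e 729)
  f3 : FourP E3 (L 4) (e 27)
  f4 : ∀ s ∈ S4, FourP (E4 s) (L 1) (e 1)

/-! ### The action on `J = L 6` -/

section
open MM

/-- digits -/
def dg (x : G) (k : ℕ) : ZMod 3 := ((x.v / 3 ^ k % 3 : ℕ) : ZMod 3)

/-- coordinates on `L 6` -/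
def vec (x : G) : Vec := fun i => dg x i

/-- the matrix `g` describes `f` on `L 6` -/
def Rep (f : G → G) (g : GL6) : Prop := ∀ x ∈ L 6, vec (f x) = g • vec x

/-- the matrix of conjugation by `c` -/
def uOf (c : G) : GL6 := u (dg c 8) (dg c 7) (dg c 6 + dg c 8 * dg c 7)

/-- the automiser of `L 6` -/
def Gam (F : FS) : Subgroup GL6 where
  carrier := {g | ∃ f, Au F (L 6) f ∧ Rep f g}
  one_mem' := ⟨_, ⟨mor_id F le_top, fun _ h => h⟩, fun x _ => (one_smul _ _).symm⟩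
  mul_mem' := by
    rintro a b ⟨f, hf, h1⟩ ⟨g, hg, h2⟩
    exact ⟨_, ⟨hg.1.comp hf.1 hg.2, fun x hx => hf.2 _ (hg.2 x hx)⟩, fun x hx => by
      rw [h1 _ (hg.2 x hx), h2 x hx, mul_smul]⟩
  inv_mem' := by
    rintro a ⟨f, hf, h1⟩
    obtain ⟨g, hg, h2, -, -⟩ := hf.1.exists_inv
    rw [hf.1.img_eq_self le_rfl hf.2] at hg
    refine ⟨g, ⟨hg, fun y hy => ?_⟩, fun y hy => ?_⟩ <;> obtain ⟨x, hx, rfl⟩ := onto hf.1 le_rfl hf.2 hy
    · rwa [h2 x hx]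
    · rw [h2 x hx, h1 x hx, inv_smul_smul]

structure StPsi : Prop where
  add : ∀ x ∈ L 6, ∀ y ∈ L 6, vec (x * y) = vec x + vec y
  inj : ∀ x ∈ L 6, ∀ y ∈ L 6, vec x = vec y → x = y
  surj : ∀ v, ∃ x ∈ L 6, vec x = v
  ex : ∀ (F : FS) f, Au F (L 6) f → ∃ g, Rep f g
  conj : ∀ c : G, Rep (fun x => c * x * c⁻¹) (uOf c)
  usurj : ∀ i j k, ∃ c : G, uOf c = u i j k
  syl : ∀ F : FS, F.IsSaturated 3 → Syl (Gam F)

end

namespace MM

def W1 : GL6 :=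
  ⟨!![0, 0, 1, 0, 0, 0; 0, 1, 0, 0, 0, 0; 1, 0, 0, 0, 0, 0; 0, 0, 0, 0, 1, 0; 0, 0, 0, 1, 0, 0; 0, 0, 0, 0, 0, 1],
    !![0, 0, 1, 0, 0, 0; 0, 1, 0, 0, 0, 0; 1, 0, 0, 0, 0, 0; 0, 0, 0, 0, 1, 0; 0, 0, 0, 1, 0, 0; 0, 0, 0, 0, 0, 1],
    by decide, by decide⟩

def W2M (m : ZMod 3) : Matrix (Fin 6) (Fin 6) (ZMod 3) :=
  !![1, 0, m, 0, 0, -m; 0, 0, 0, 1, 0, 0; 0, 0, 0, 0, 0, 1; 0, 1, 0, 0, 0, 0; 0, 0, 0, 0, 1, 0; 0, 0, 1, 0, 0, 0]

theorem W2M_sq : ∀ m, W2M m * W2M m = 1 := by decide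

def W2 (m : ZMod 3) : GL6 := ⟨W2M m, W2M m, W2M_sq m, W2M_sq m⟩

def N1 (Γ : Subgroup GL6) : Prop :=
  ∃ g ∈ Γ, (∃ j k, j ≠ 0 ∧ g * u 0 0 1 * g⁻¹ = u 0 j k) ∧ ∃ j k, g * u 0 1 0 * g⁻¹ = u 0 j k

def N2 (Γ : Subgroup GL6) : Prop :=
  ∃ g ∈ Γ, (∃ i k, i ≠ 0 ∧ g * u 0 0 1 * g⁻¹ = u i 0 k) ∧ ∃ i k, g * u 1 0 0 * g⁻¹ = u i 0 k

/-- an element of order 4 in the centraliser of a regular unipotent element -/
def StN4a : Prop := ∀ Γ : Subgroup GL6, U ≤ Γ → ∀ ε k : ZMod 3, ε ≠ 0 → ∀ g ∈ Γ,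
  (g * u 1 ε k * g⁻¹ = u 1 ε k ∨ g * u 1 ε k * g⁻¹ = (u 1 ε k)⁻¹) → ¬ Stab g Z1 →
  ∃ j ∈ Γ, j * j = -1 ∧ j * u 1 ε 0 = u 1 ε 0 * j

def StN4b : Prop := ∀ Γ, Syl Γ → ∀ ε : ZMod 3, ε ≠ 0 → ∀ j ∈ Γ, j * j = -1 → j * u 1 ε 0 = u 1 ε 0 * j →
  N1 Γ ∧ N2 Γ ∧ ¬ (W1 ∈ Γ ∧ W2 0 ∈ Γ)

/-- the group `2 M₁₂` -/
def M12 : Subgroup GL6 := closure {u 1 0 0, u 0 1 0, W1, W2 2}

structure StMu : Prop where
  no1 : ∀ Γ, Syl Γ → W1 ∈ Γ → W2 1 ∉ Γ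
  neg : -1 ∈ M12
  ex : ∀ ε k : ZMod 3, ε ≠ 0 → ∃ g ∈ M12, g * u 1 ε k = u 1 ε k * g ∧ ¬ Stab g Z1

end MM

def StN4 : Prop := ∀ F : FS, F.IsSaturated 3 → ∀ s ∈ S4, ∀ f, Au F (E4 s) f → f (e 1) ∉ L 1 →
  NE1 F ∧ NE2 F ∧ ¬ (Wm F lE1 (lW1 0) ∧ Wm F lE2 (lW2 0))

def StTy : Prop := ∀ (F : FS) m, m < 3 → Ty F m → m = 0 ∨ (m = 2 ∧ Mor F ⊤ (tau 4))

def StW4 : Prop := ∀ F F' : FS, Ty F 2 → Ty F' 2 → ∀ s ∈ S4, ∃ w, Au F (E4 s) w ∧ Mor F' (E4 s) w ∧ w (e 1) ∉ L 1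

/-! ### Normal forms -/

def StC0 : Prop := ∀ F : FS, F.IsSaturated 3 → F.core = ⊥ → NE1 F ∧ NE2 F ∧ NE3 F

/-- signs of automorphisms -/
def StSg : Prop := ∀ α : MulAut G, ∃ s < 8, ∀ k < 9, ∀ x ∈ L (k + 1), x⁻¹ * α (tau s x) ∈ L k

def StTor0 : Prop := ∀ F : FS, F.IsSaturated 3 → ∃ (F' : FS) (θ η : G → G), FIso F F' θ η ∧ Tor0 F'

def StT12 : Prop := ∀ F : FS, F.IsSaturated 3 → Tor0 F → NE1 F → NE2 F → Tor F

/-- normalising the four-group -/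
def StN : Prop := ∀ (F : FS) A w, Au F A w → (∀ s < 4, Iv (tau s) A) →
  (∀ s < 4, ∃ g ∈ A, ∃ t < 4, ∀ x ∈ A, w (tau s x) = g * tau t (w x) * g⁻¹) →
  ∃ h ∈ A, ∀ s < 4, ∃ t < 4, Tw (fun x => h * w x * h⁻¹) A s t

def V1 (F : FS) : Prop := ∃ w, Au F (L 8) w ∧ Tw w (L 8) 1 3 ∧ Tw w (L 8) 2 2 ∧ w (e 729) ∉ L 7 ∧
  w (e 243) * (e 243)⁻¹ ∈ L 5
def V2 (F : FS) : Prop := ∃ w, Au F E2 w ∧ Tw w E2 1 1 ∧ Tw w E2 2 3 ∧ w (e 729) ∉ L 7 ∧ w (e 1) = e 1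
def V3 (F : FS) : Prop := ∃ w, Au F E3 w ∧ Tw w E3 1 1 ∧ Tw w E3 2 2 ∧ w (e 27) ∉ L 4 ∧ w (e 1) = e 1

def StV1 : Prop := ∀ F : FS, Tor F → NE1 F → V1 F
def StV2 : Prop := ∀ F : FS, Tor F → NE2 F → V2 F
def StV3 : Prop := ∀ F : FS, Tor F → NE3 F → V3 F

def StW1 : Prop := ∀ F : FS, Tor F → V1 F → ∃ m < 3, Wm F lE1 (lW1 m)
def StW2 : Prop := ∀ F : FS, Tor F → V2 F → ∃ m < 3, Wm F lE2 (lW2 m)
def StW3 : Prop := ∀ F : FS, Tor F → V3 F → Wm F lE3 lw3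

def StZ : Prop := ∀ F : FS, Tor F → ∀ m < 3, Wm F lE1 (lW1 m) →
  ∃ (F' : FS) (θ η : G → G), FIso F F' θ η ∧ Tor F' ∧ Wm F' lE1 (lW1 0)

def StCl : Prop := ∀ F : FS, F.IsSaturated 3 → F.core = ⊥ →
  ∃ (F' : FS) (θ η : G → G), ∃ m < 3, FIso F F' θ η ∧ Ty F' m

def StUq : Prop := ∀ (F F' : FS) m, m < 3 → Ty F m → Ty F' m → (Mor F ⊤ (tau 4) → Mor F' ⊤ (tau 4)) → F ≤ F'

/-! ### The systems of the groups -/

/-- fusion of elements -/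
def Cj (F : FS) (x y : G) : Prop := ∃ P f, Mor F P f ∧ x ∈ P ∧ f x = y

def StCF : Prop := ∀ F : FS, ((∃ y ∉ L 6, Cj F (e 1) y) ∨
  ((∃ x ∈ L 6, x ∉ L 5 ∧ Cj F (e 1) x) ∧ ∃ x ∈ L 6, ∃ y ∉ L 6, Cj F x y)) → F.core = ⊥

def StR : Prop := ∀ (Γ : Type) [Group Γ] [Finite Γ] (ι : G →* Γ), Real ι →
  ∃ F : FS, F.IsSaturated 3 ∧ F.IsRealizable 3 ∧ ∀ x y, Cj F x y ↔ IsConj (ι x) (ι y)

def StFin : Prop := ∀ F : FS, F.IsSaturated 3 → F.core = ⊥ → F.IsRealizable 3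

end CL.C3
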