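/-
Saturated fusion systems on `CL.C3.G`: the elementary abelian subgroups `J` and `B` are not essential.
-/
import Cfsg.Agent.Fus.C3F

set_option autoImplicit false
set_option Elab.async false

namespace CL.C3

open Subgroup Cfsg Cfsg.FusionSystem CL.Fus

attribute [local irreducible] mul inv

namespace J0x

open MM

theorem r_one : Rep (autFun (1 : MulAut (L 6))) 1 := fun x hx => by rw [autFun_one hx, one_smul]

theorem r_mul {α β : MulAut (L 6)} {g k : GL6} (h1 : Rep (autFun α) g) (h2 : Rep (autFun β) k) :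
    Rep (autFun (α * β)) (g * k) := fun x hx => by
  rw [autFun_mul _ _ hx, h1 _ (autFun_mem β hx), h2 x hx, mul_smul]

theorem r_inv {α : MulAut (L 6)} {g : GL6} (h1 : Rep (autFun α) g) : Rep (autFun α⁻¹) g⁻¹ := fun x hx => by
  rw [eq_inv_smul_iff, ← h1 _ (autFun_mem α⁻¹ hx), autFun_apply_inv _ hx]

theorem r_pow {α : MulAut (L 6)} {g : GL6} (h1 : Rep (autFun α) g) (n : ℕ) : Rep (autFun (α ^ n)) (g ^ n) := by
  induction n with
  | zero => simpa using r_one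
  | succ n ih => rw [pow_succ, pow_succ]; exact r_mul ih h1

theorem r_left (h : StPsi) {α β : MulAut (L 6)} {g : GL6} (h1 : Rep (autFun α) g) (h2 : Rep (autFun β) g) : α = β :=
  aut_ext fun x hx => h.inj _ (autFun_mem α hx) _ (autFun_mem β hx) ((h1 x hx).trans (h2 x hx).symm)

theorem r_right (h : StPsi) {f : G → G} {g k : GL6} (h1 : Rep f g) (h2 : Rep f k) : g = k :=
  Units.ext (Matrix.mulVec_injective (funext fun v => by
    obtain ⟨x, hx, rfl⟩ := h.surj v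
    exact (h1 x hx).symm.trans (h2 x hx)))

end J0x

open J0x MM in
theorem stJ0 (h : StPsi) : StJ0 := by
  intro F hF hA
  have := Fact.mk Nat.prime_three
  let H : Subgroup GL6 :=
    { carrier := {g | ∃ α ∈ extAut F (L 6), Rep (autFun α) g}
      one_mem' := ⟨1, one_mem _, r_one⟩
      mul_mem' := fun ⟨α, h1, h2⟩ ⟨β, h3, h4⟩ => ⟨_, mul_mem h1 h3, r_mul h2 h4⟩
      inv_mem' := fun ⟨α, h1, h2⟩ => ⟨_, Subgroup.inv_mem _ h1, r_inv h2⟩ }
  have hG : ∀ α ∈ F.autGroup (L 6), ∀ g, Rep (autFun α) g → g ∈ Gam F := fun α hα g hg => ⟨_, au_autFun hα, hg⟩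
  have hse : SE (Gam F) H :=
    { toSyl := h.syl F hF
      hU := by
        rintro _ ⟨i, j, k, rfl⟩
        obtain ⟨c, hc⟩ := h.usurj i j k
        have hn : c ∈ normalizer (L 6 : Set G) := by rw [normalizer_eq_top]; exact mem_top c
        exact ⟨conjAut _ hn, IsEssential.conjAut_mem_extAut pT hF hA (mem_top c) hn, fun x hx => by
          rw [autFun_conjAut hn hx, ← hc]; exact h.conj c x hx⟩
      hH := fun g ⟨α, h1, h2⟩ => hG α (extAut_le F _ h1) g h2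
      se := by
        rintro g ⟨f, hf, hg⟩ t ⟨τ, hτ, ht⟩ ⟨t1, k, hk⟩ ⟨σ, hσ, hs⟩
        obtain ⟨α, hα, e1⟩ := hf.aut
        have hg' : Rep (autFun α) g := fun x hx => by rw [e1 x hx, hg x hx]
        refine ⟨α, IsEssential.mem_extAut_of_conj pT hF hA hτ (fun hi => t1 ?_)
          ⟨k, r_left h (r_pow ht _) (hk ▸ r_one)⟩ hα ?_, hg'⟩
        · obtain ⟨a, ha, e2⟩ := mem_Inn_iff.1 hi
          exact r_right h ht fun x hx => by rw [e2 x hx, J_comm ha hx, mul_inv_cancel_right, one_smul]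
        · rwa [r_left h (r_mul (r_mul hg' ht) (r_inv hg')) hs] }
  obtain ⟨γ, hγ, hn⟩ := IsEssential.exists_notMem_extAut pT hF hA
  obtain ⟨g, hg⟩ := h.ex F _ (au_autFun hγ)
  obtain ⟨α, h1, h2⟩ := (stM _ _ hse).ge (hG γ hγ g hg)
  exact hn (r_left h h2 hg ▸ h1)

namespace B0x

theorem lt3 {A B : Subgroup G} (h : A ≤ B) {y : G} (hy : y ∈ B) (hy' : y ∉ A) : 3 * Nat.card A ≤ Nat.card B := by
  have := Fact.mk Nat.prime_three
  obtain ⟨a, ha⟩ := IsPGroup.iff_card.1 (pG.to_subgroup A)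
  obtain ⟨b, hb⟩ := IsPGroup.iff_card.1 (pG.to_subgroup B)
  have h1 : Nat.card A < Nat.card B := not_le.1 fun k => hy' (eq_of_le_of_card_ge h k ▸ hy)
  rw [ha, hb] at h1 ⊢
  rw [← pow_succ']
  exact Nat.pow_le_pow_right (by norm_num) ((Nat.pow_lt_pow_iff_right (by norm_num)).1 h1)

theorem three {D : Subgroup G} {p : G} (hp : p ∈ D) (h1 : p ≠ 1) : 3 ≤ Nat.card D := by
  simpa using lt3 bot_le hp (by rwa [mem_bot])

theorem nine {D : Subgroup G} {p q : G} (hp : p ∈ D) (hq : q ∈ D) (h1 : p ≠ 1) (h2 : q ∉ zpowers p) :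
    9 ≤ Nat.card D := by
  have h3 := three (mem_zpowers p) h1
  have h4 := lt3 (zpowers_le_of_mem hp) hq h2
  omega

theorem B_comm {a b : G} (ha : a ∈ BB) (hb : b ∈ BB) : a * b = b * a := by
  have := comm_of_gens (ech_PS lB) (ech_PS lB) (k := 0) (by decide +kernel) ha hb
  rwa [L_zero, mem_bot, mul_inv_eq_one, mul_inv_eq_iff_eq_mul] at this

theorem B_cube : ∀ x ∈ BB, x ^ 3 = 1 := (ech_PS lB).all (by decide +kernel)

theorem V_le : L 3 ≤ BB := L_le (by norm_num) (by decide +kernel)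

theorem card_B : Nat.card BB = 243 := (ech_PS lB).card

theorem B_nrm {X : Subgroup G} (hX : X ≤ BB) : BB ≤ normalizer (X : Set G) := fun b hb =>
  mem_normalizer_of_finite fun x hx => by rwa [B_comm hb (hX hx), mul_inv_cancel_right]

theorem E3_nrm : E3 ≤ normalizer (BB : Set G) := le_nrm_of_gens (ech_PS _) (ech_PS _) (by decide +kernel)

theorem L5_E3 : L 5 ≤ E3 := L_le (by norm_num) (by decide +kernel)

theorem lk_V {y t : G} (hy : y ∈ BB) (ht : t ∈ L 5) : lk y t ∈ L 3 :=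
  comm_of_gens (ech_PS lB) (ech_L (by norm_num)) (by decide +kernel) hy ht

theorem lk_one {y t : G} (hy : y ∈ L 3) (ht : t ∈ L 5) : lk y t = 1 := by
  rw [lk, A_comm (L_mono (by norm_num) hy) ht]; group

theorem lk_mul {y t t' : G} (hy : y ∈ BB) (ht : t ∈ L 5) (ht' : t' ∈ L 5) : lk y (t * t') = lk y t * lk y t' := by
  calc lk y (t * t') = lk y t * (t * lk y t') * t⁻¹ := by simp only [lk]; group
    _ = _ := by rw [A_comm ht (L_mono (by norm_num) (lk_V hy ht'))]; group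

theorem lk_pow {y t : G} (hy : y ∈ BB) (ht : t ∈ L 5) (n : ℕ) : lk y (t ^ n) = lk y t ^ n := by
  induction n with
  | zero => simp [lk]
  | succ n ih => rw [pow_succ, lk_mul hy (pow_mem ht n) ht, ih, pow_succ]

theorem idx {D X : Subgroup G} (hX : X ≤ BB) (h : D ≤ X) (hc : Nat.card X = 27) (h9 : 9 ≤ Nat.card D) {y : G}
    (hy : y ∈ X) (hy' : y ∉ D) {x : G} (hx : x ∈ X) : ∃ j < 3, x * y ^ j ∈ D := by
  have h1 := lt3 (le_sup_left : D ≤ D ⊔ zpowers y) (mem_sup_right (mem_zpowers y)) hy'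
  rw [← eq_of_le_of_card_ge (sup_le h (zpowers_le_of_mem hy)) (by omega)] at hx
  obtain ⟨d, hd, z, hz, rfl⟩ := (mem_sup_of_le_normalizer'
    ((zpowers_le_of_mem (hX hy)).trans (B_nrm (h.trans hX)))).1 hx
  obtain ⟨n, rfl⟩ := (isOfFinOrder_of_finite y).mem_powers_iff_mem_zpowers.2 hz
  refine ⟨2 * n % 3, Nat.mod_lt _ (by norm_num), ?_⟩
  change d * y ^ n * _ ∈ D
  rw [← pow_eq_pow_mod _ (B_cube y (hX hy)), mul_assoc, ← pow_add, show n + 2 * n = 3 * n by ring, pow_mul,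
    B_cube y (hX hy), one_pow, mul_one]
  exact hd

theorem card_V : Nat.card (L 3) = 27 := card_L (by norm_num)

theorem ex_t {W : Subgroup G} (hW : W ≤ BB) (hc : Nat.card W = 27) (h9 : 9 ≤ Nat.card (L 3 ⊓ W : Subgroup G)) :
    ∃ t ∈ L 5, t ∉ BB ∧ ∀ y ∈ W, lk y t ∈ W := by
  have m27 : e 27 ∈ L 5 := by decide
  have m81 : e 81 ∈ L 5 := by decide
  by_cases h0 : W ≤ L 3
  · exact ⟨e 27, m27, by decide +kernel, fun y hy => by rw [lk_one (h0 hy) m27]; exact one_mem _⟩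
  obtain ⟨y0, hy0, hy0'⟩ := SetLike.not_le_iff_exists.1 h0
  obtain ⟨t, ht, ht', h1⟩ : ∃ t ∈ L 5, t ∉ BB ∧ lk y0 t ∈ L 3 ⊓ W := by
    by_cases h2 : lk y0 (e 27) ∈ L 3 ⊓ W
    · exact ⟨_, m27, by decide +kernel, h2⟩
    obtain ⟨j, hj, h3⟩ := idx V_le inf_le_left card_V h9 (lk_V (hW hy0) m27) h2 (lk_V (hW hy0) m81)
    exact ⟨e 81 * e 27 ^ j, mul_mem m81 (pow_mem m27 j), (by decide +kernel : ∀ j < 3, e 81 * e 27 ^ j ∉ BB) j hj,
      by rwa [lk_mul (hW hy0) m81 (pow_mem m27 j), lk_pow (hW hy0) m27]⟩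
  refine ⟨t, ht, ht', fun y hy => ?_⟩
  obtain ⟨j, -, h3⟩ := idx hW inf_le_right hc h9 hy0 (fun k => hy0' k.1) hy
  have h4 : y0 ∈ lkSub W t := ⟨le_normalizer hy0, h1.2⟩
  have h5 : y * y0 ^ j ∈ lkSub W t := ⟨le_normalizer h3.2, by rw [lk_one h3.1 ht]; exact one_mem _⟩
  exact ((mul_mem_cancel_right (pow_mem h4 j)).1 h5).2

variable {F : FS}

theorem c1 (hF : F.IsSaturated 3) (hA : F.IsEssential 3 BB) {δ : MulAut BB} (hδ : δ ∈ F.autGroup BB) {x y : G}
    (hx : x ∈ L 3) (hy : y ∈ L 3) (x1 : x ≠ 1) (hxy : y ∉ zpowers x) (fx : autFun δ x ∈ L 3)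
    (fy : autFun δ y ∈ L 3) : δ ∈ extAut F BB := by
  have := Fact.mk Nat.prime_three
  have hm := mor_autFun le_top hδ
  have hW : img (autFun δ) (L 3) ≤ BB := img_le_iff.2 fun x hx => autFun_mem δ (V_le hx)
  have h9 : 9 ≤ Nat.card (L 3 ⊓ img (autFun δ) (L 3) : Subgroup G) :=
    nine ⟨fx, mem_img_of_mem _ hx⟩ ⟨fy, mem_img_of_mem _ hy⟩ (map_ne_one hm (V_le hx) x1) (by
      rintro ⟨n, hn⟩
      exact hxy ⟨n, hm.injOn (zpow_mem (V_le hx) n) (V_le hy) ((hm.homOn.map_zpow (V_le hx) n).trans hn)⟩)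
  obtain ⟨t, ht, ht', h1⟩ := ex_t hW ((hm.card_img' V_le).trans card_V) h9
  have m27 : e 27 ∈ L 5 := by decide
  have n27 := E3_nrm (L5_E3 m27)
  have nt := E3_nrm (L5_E3 ht)
  have e1 : ∀ x ∈ BB, x⁻¹ * autFun (conjAut BB nt) x = lk x⁻¹ t := fun x hx => by
    rw [autFun_conjAut nt hx]; simp only [lk]; group
  have e2 : ∀ y ∈ BB, (autFun δ y)⁻¹ * autFun (δ * conjAut BB n27 * δ⁻¹) (autFun δ y) = autFun δ (lk y⁻¹ (e 27)) :=
    fun y hy => by
      rw [autFun_mul _ _ (autFun_mem δ hy), autFun_inv_apply _ hy, autFun_mul _ _ hy, ← hm.homOn.map_inv hy,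
        ← hm.homOn.map_mul (inv_mem hy) (autFun_mem _ hy), autFun_conjAut n27 hy]
      congr 1
      simp only [lk]; group
  have a1 : ∀ x ∈ BB, x⁻¹ * autFun (δ * conjAut BB n27 * δ⁻¹) x ∈ img (autFun δ) (L 3) := fun x hx => by
    rw [← autFun_apply_inv δ hx, e2 _ (autFun_mem _ hx)]
    exact mem_img_of_mem _ (lk_V (inv_mem (autFun_mem _ hx)) m27)
  have a2 : ∀ x ∈ img (autFun δ) (L 3), x⁻¹ * autFun (δ * conjAut BB n27 * δ⁻¹) x = 1 := fun x hx => by
    obtain ⟨y, hy, rfl⟩ := (hm.mem_img' V_le).1 hx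
    rw [e2 y (V_le hy), lk_one (inv_mem hy) m27, hm.homOn.map_one]
  have b1 : img (autFun δ) (L 3) ≤ lkSub (img (autFun δ) (L 3)) t := fun y hy => ⟨le_normalizer hy, h1 y hy⟩
  have b2 : L 3 ≤ lkSub (img (autFun δ) (L 3)) t := fun y hy =>
    ⟨B_nrm hW (V_le hy), by rw [lk_one hy ht]; exact one_mem _⟩
  refine IsEssential.mem_extAut_of_closure pT hF hA (IsEssential.conjAut_mem_extAut pT hF hA (mem_top t) nt)
    (IsEssential.conjAut_notMem_Inn hA (mem_top t) nt ht') (IsEssential.conjAut_mem_extAut pT hF hA (mem_top _) n27)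
    (IsEssential.conjAut_notMem_Inn hA (mem_top _) n27 (by decide +kernel)) (conjAut_pow n27) hδ
    (pgrp_of_chain 4 (fun i => [⊥, L 3 ⊓ img (autFun δ) (L 3), img (autFun δ) (L 3),
      lkSub (img (autFun δ) (L 3)) t].getD i ⊤) rfl le_top (fun i hi => ?_) (fun i hi x hx hx' => ?_)
      fun i hi x hx hx' => ?_)
  · interval_cases i
    exacts [bot_le, inf_le_right, b1, le_top]
  · rw [e1 x hx]
    interval_cases i
    · exact mem_bot.2 (lk_one (inv_mem hx'.1) ht)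
    · exact ⟨lk_V (inv_mem hx) ht, h1 _ (inv_mem hx')⟩
    · exact (inv_mem (show x ∈ lkSub (img (autFun δ) (L 3)) t from hx')).2
    · exact b2 (lk_V (inv_mem hx) ht)
  · interval_cases i
    · exact mem_bot.2 (a2 x hx'.2)
    · rw [a2 x hx']; exact one_mem _
    · exact a1 x hx
    · exact b1 (a1 x hx)

def TW : ℕ := 0x14421442144226282628262805950595059526282628262805950595059514421442144205950595059514421442144226282628262806670667066715141514151424812481248115141514151424812481248106670667066724812481248106670667066715141514151425532553255304000400040016a616a616a604000400040016a616a616a625532553255316a616a616a625532553255304000400040016a616a616a615141514151414421442144215141514151414421442144216a616a616a614421442144216a616a616a615141514151424812481248126282628262825532553255326282628262825532553255324812481248125532553255324812481248126282628262805950595059504000400040006670667066704000400040006670667066705950595059506670667066705950595059504000400040025532553255314421442144206670667066714421442144206670667066725532553255306670667066725532553255314421442144205950595059524812481248116a616a616a624812481248116a616a616a605950595059516a616a616a6059505950595248124812481151415141514040004000400262826282628040004000400262826282628151415141514262826282628151415141514040004000400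

def wv (n s m : ℕ) : ℕ := Nat.mod (Nat.shiftRight TW (Nat.add (Nat.mul 16 n) s)) m

def An (p y1 y2 u : G) (c d k l : ℕ) : Prop :=
  u ∈ E3 ∧ u ∉ BB ∧ y1 * p ^ c ∈ L 7 ∧ y1 * p ^ c ≠ 1 ∧ y2 * p ^ d ∉ L 7 ∧ u * (y1 * p ^ c) * u⁻¹ = y1 * p ^ k ∧
    u * (y2 * p ^ d) * u⁻¹ = y1 * y2 * p ^ l

noncomputable instance (p y1 y2 u : G) (c d k l : ℕ) : Decidable (An p y1 y2 u c d k l) := by
  unfold An; infer_instance

theorem ani : ∀ i < 3, ∀ v < 9, ∀ w < 9, An (e ([10, 14, 17].getD i 0)) (e 729 * e v) (e 2187 * e w)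
    (e (6561 + 27 * wv (81 * i + 9 * v + w) 0 16)) (wv (81 * i + 9 * v + w) 4 4) (wv (81 * i + 9 * v + w) 6 4)
    (wv (81 * i + 9 * v + w) 8 4) (wv (81 * i + 9 * v + w) 12 4) := by decide +kernel

theorem iso : ∀ p ∈ L 3, p = 1 ∨ (∃ i < 3, p = e ([10, 14, 17].getD i 0) ∨ p⁻¹ = e ([10, 14, 17].getD i 0)) ∨
    ∃ y ∈ [729, 2187, 2916, 5103], ∃ t < 9, e y ∈ BB ∧ e y ∉ L 3 ∧ e (27 * t) ∉ BB ∧ lk (e y) (e (27 * t)) = p :=
  all_L (by decide +kernel)

theorem c2 {W : Subgroup G} (hW : W ≤ BB) (hc : Nat.card W = 27) :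
    ∃ u ∈ E3, u ∉ BB ∧ ∃ s ∈ W, ∃ s' ∈ W, s ≠ 1 ∧ s' ∉ zpowers s ∧ u * s * u⁻¹ ∈ W ∧ u * s' * u⁻¹ ∈ W := by
  have m27 : e 27 ∈ L 5 := by decide
  have h1 := CL.Grp.card_sup_mul_card_inf (H := L 3) (K := W) (V_le.trans (B_nrm hW))
  have h2 := card_le_of_le (sup_le V_le hW)
  rw [card_V, hc] at h1
  rw [card_B] at h2
  obtain ⟨⟨p, hp⟩, p1⟩ := ne_bot_iff_exists_ne_one.1 (show L 3 ⊓ W ≠ ⊥ from fun k => by
    rw [k, card_bot] at h1; omega)
  have p1' : p ≠ 1 := fun k => p1 (Subtype.ext k)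
  have fx : ∀ x ∈ L 3, ∀ t ∈ L 5, t * x * t⁻¹ = x := fun x hx t ht => by
    rw [A_comm ht (L_mono (by norm_num) hx), mul_inv_cancel_right]
  by_cases h3 : ∃ q ∈ L 3 ⊓ W, q ∉ zpowers p
  · obtain ⟨q, hq, hq'⟩ := h3
    exact ⟨e 27, L5_E3 m27, by decide +kernel, p, hp.2, q, hq.2, p1', hq', by rw [fx p hp.1 _ m27]; exact hp.2,
      by rw [fx q hq.1 _ m27]; exact hq.2⟩
  push Not at h3
  have h4 : Nat.card (L 3 ⊓ W : Subgroup G) ≤ 3 := (card_le_of_le h3).trans (by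
    rw [Nat.card_zpowers]
    exact Nat.le_of_dvd (by norm_num) (orderOf_dvd_of_pow_eq_one (B_cube p (hW hp.2))))
  have h5 : L 3 ⊔ W = BB := eq_of_le_of_card_ge (sup_le V_le hW) (by rw [card_B]; nlinarith)
  have h6 : ∀ y ∈ BB, ∃ v ∈ L 3, y * v ∈ W := fun y hy => by
    rw [← h5] at hy
    obtain ⟨v, hv, w, hw, rfl⟩ := (mem_sup_of_le_normalizer (V_le.trans (B_nrm hW))).1 hy
    exact ⟨v⁻¹, inv_mem hv, B_nrm hW (V_le hv) |> fun k => conj_mem_of_mem_normalizer k hw⟩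
  rcases iso p hp.1 with h | ⟨i, hi, h⟩ | ⟨y, -, t, ht, y1, y2, t1, h⟩
  · exact absurd h p1'
  · have h7 : e ([10, 14, 17].getD i 0) ∈ W := h.elim (· ▸ hp.2) (· ▸ inv_mem hp.2)
    obtain ⟨h8, h9⟩ := (by decide : ∀ i < 3, e ([10, 14, 17].getD i 0) ∈ L 3 ∧ e ([10, 14, 17].getD i 0) ∉ L 2) i hi
    have h10 : ∀ y ∈ BB, ∃ v < 9, y * e v ∈ W := fun y hy => by
      obtain ⟨v, hv, hw⟩ := h6 y hy
      obtain ⟨j, -, hj⟩ := cyc_step (k := 2) (by norm_num) h8 h9 hv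
      exact ⟨_, hj, by rw [e_self, ← mul_assoc]; exact mul_mem hw (pow_mem h7 j)⟩
    obtain ⟨v, hv, m1⟩ := h10 (e 729) (by decide +kernel)
    obtain ⟨w, hw, m2⟩ := h10 (e 2187) (by decide +kernel)
    obtain ⟨a1, a2, a3, a4, a5, a6, a7⟩ := ani i hi v hv w hw
    exact ⟨_, a1, a2, _, mul_mem m1 (pow_mem h7 _), _, mul_mem m2 (pow_mem h7 _), a4,
      fun k => a5 (zpowers_le_of_mem a3 k), a6 ▸ mul_mem m1 (pow_mem h7 _), a7 ▸ mul_mem (mul_mem m1 m2) (pow_mem h7 _)⟩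
  · have mt : e (27 * t) ∈ L 5 := e_mem_L (by omega)
    obtain ⟨v, hv, hw⟩ := h6 _ y1
    refine ⟨_, L5_E3 mt, t1, p, hp.2, _, hw, p1', fun k => y2 ((mul_mem_cancel_right hv).1 (zpowers_le_of_mem hp.1 k)),
      by rw [fx p hp.1 _ mt]; exact hp.2, ?_⟩
    rw [← conj_mul, fx v hv _ mt, show e (27 * t) * e y * (e (27 * t))⁻¹ * v = (lk (e y) (e (27 * t)))⁻¹ * (e y * v) by
      simp only [lk]; group, h]
    exact mul_mem (inv_mem hp.2) hw

end B0x

open B0x in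
theorem stB0 : StB0 := by
  intro F hF hA
  have := Fact.mk Nat.prime_three
  obtain ⟨δ, hδ, hn⟩ := IsEssential.exists_notMem_extAut pT hF hA
  have hm := mor_autFun le_top hδ
  obtain ⟨u, hu, hu', s, hs, s', hs', s1, hss, k1, k2⟩ := c2 (W := img (autFun δ) (L 3))
    (img_le_iff.2 fun x hx => autFun_mem δ (V_le hx)) ((hm.card_img' V_le).trans card_V)
  obtain ⟨x, hx, rfl⟩ := (hm.mem_img' V_le).1 hs
  obtain ⟨y, hy, rfl⟩ := (hm.mem_img' V_le).1 hs'
  have nu := E3_nrm hu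
  have h1 := IsEssential.conjAut_mem_extAut pT hF hA (mem_top u) nu
  have key : ∀ z ∈ L 3, u * autFun δ z * u⁻¹ ∈ img (autFun δ) (L 3) →
      autFun (δ⁻¹ * conjAut BB nu * δ⁻¹⁻¹) z ∈ L 3 := fun z hz k => by
    obtain ⟨w, hw, e1⟩ := (hm.mem_img' V_le).1 k
    rwa [inv_inv, autFun_mul _ _ (V_le hz), autFun_mul _ _ (autFun_mem _ (V_le hz)),
      autFun_conjAut nu (autFun_mem _ (V_le hz)), ← e1, autFun_inv_apply _ (V_le hw)]
  have h2 := c1 hF hA (mul_mem (mul_mem (Subgroup.inv_mem _ hδ) (extAut_le F _ h1))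
    (Subgroup.inv_mem _ (Subgroup.inv_mem _ hδ))) hx hy (fun k => s1 (by rw [k, hm.homOn.map_one]))
    (by rintro ⟨n, rfl⟩; exact hss ⟨n, (hm.homOn.map_zpow (V_le hx) n).symm⟩) (key x hx k1) (key y hy k2)
  exact hn ((Subgroup.inv_mem_iff _).1 (IsEssential.mem_extAut_of_conj pT hF hA h1
    (IsEssential.conjAut_notMem_Inn hA (mem_top u) nu hu') (conjAut_pow nu) (Subgroup.inv_mem _ hδ) h2))

end CL.C3
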