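/-
The embeddings of the group `CL.C3.G` in `Sp₆(3)` and in the group of symplectic similitudes (helper22).
-/
import Cfsg.Agent.Fus.C3D
import Cfsg.Agent.Cls.SpMatrix2

set_option autoImplicit false
set_option Elab.async false

namespace CL.C3

open Subgroup Matrix CL.PG CL.Mx3

namespace SpJ

abbrev M6 : Type := Matrix (Fin 6) (Fin 6) (ZMod 3)

abbrev Ω : Type := GL (Fin 6) (ZMod 3)

/-- the Gram matrix -/
def J6 : M6 := !![0, 0, 0, -1, 0, 0; 0, 0, 0, 0, -1, 0; 0, 0, 0, 0, 0, -1; 1, 0, 0, 0, 0, 0; 0, 1, 0, 0, 0, 0;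
  0, 0, 1, 0, 0, 0]

/-- similitudes with multiplier `c` -/
def Sm (g : Ω) (c : ZMod 3) : Prop := g.val * J6 * g.valᵀ = c • J6

theorem Sm.mul {g h : Ω} {c d : ZMod 3} (a : Sm g c) (b : Sm h d) : Sm (g * h) (c * d) := by
  unfold Sm at *
  rw [Units.val_mul, transpose_mul, Matrix.mul_assoc, Matrix.mul_assoc, ← Matrix.mul_assoc J6, ← Matrix.mul_assoc h.val,
    ← Matrix.mul_assoc h.val, b, Matrix.smul_mul, Matrix.mul_smul, ← Matrix.mul_assoc, a, smul_smul, mul_comm]

theorem Sm.inv {g : Ω} {c : ZMod 3} (a : Sm g c) (h : c * c = 1) : Sm g⁻¹ c := by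
  unfold Sm at *
  conv_lhs => rw [← one_smul (ZMod 3) J6, ← h, ← smul_smul, ← a]
  rw [Matrix.mul_smul, Matrix.smul_mul, Matrix.mul_assoc, Matrix.mul_assoc, Matrix.mul_assoc, ← transpose_mul,
    ← Matrix.mul_assoc, Units.inv_mul, transpose_one, Matrix.one_mul, Matrix.mul_one]

/-- the symplectic group (`s` false) and the group of similitudes (`s` true) -/
def Γ (s : Prop) : Subgroup Ω where
  carrier := {g | Sm g 1 ∨ s ∧ Sm g (-1)}
  one_mem' := .inl (by simp [Sm])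
  mul_mem' := by
    rintro g h (a | a) (b | b)
    exacts [.inl (by simpa using a.mul b), .inr ⟨b.1, by simpa using a.mul b.2⟩, .inr ⟨a.1, by simpa using a.2.mul b⟩,
      .inl (by simpa using a.2.mul b.2)]
  inv_mem' := fun a => a.imp (fun a => a.inv (by simp)) fun a => ⟨a.1, a.2.inv (by simp)⟩

/-- a unit from a pair of inverse matrices -/
def un (A B : M6) (h : A * B = 1) : Ω := ⟨A, B, h, mul_eq_one_comm.1 h⟩

def D : Ω := un (diagonal ![1, 1, 1, -1, -1, -1]) (diagonal ![1, 1, 1, -1, -1, -1]) (by decide +kernel)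

theorem D_sm : Sm D (-1) := by unfold Sm; decide +kernel

theorem J6_eq : J6.submatrix finSumFinEquiv finSumFinEquiv = J (Fin 3) (ZMod 3) := by decide +kernel

/-- the embedding in the symplectic group of Mathlib -/
noncomputable def toSp : Γ False →* symplecticGroup (Fin 3) (ZMod 3) :=
  MonoidHom.mk' (fun g => ⟨g.1.val.submatrix finSumFinEquiv finSumFinEquiv, by
    rw [SymplecticGroup.mem_iff, ← J6_eq, transpose_submatrix, submatrix_mul_equiv, submatrix_mul_equiv,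
      show g.1.val * J6 * g.1.valᵀ = (1 : ZMod 3) • J6 from g.2.resolve_right fun k => k.1, one_smul]⟩)
    fun a b => Subtype.ext (submatrix_mul_equiv a.1.val b.1.val (finSumFinEquiv (m := 3) (n := 3))
      (finSumFinEquiv (m := 3) (n := 3)) (finSumFinEquiv (m := 3) (n := 3))).symm

theorem toSp_inj : Function.Injective toSp := fun _ _ h => Subtype.ext (Units.ext
  ((reindex (finSumFinEquiv (m := 3) (n := 3)).symm (finSumFinEquiv (m := 3) (n := 3)).symm).injective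
    (congrArg Subtype.val h :)))

theorem card_dvd (s : Prop) : Nat.card (Γ s) ∣ 931840 * 3 ^ 9 := by
  have h1 := card_dvd_of_injective toSp toSp_inj
  rw [CL.Sp.card_symplecticGroup, Nat.card_zmod] at h1
  have le : Γ False ≤ Γ s := fun g k => k.imp_right fun k => k.1.elim
  have h2 : ((Γ False).subgroupOf (Γ s)).index ∣ 2 := index_dvd_two_iff.2 (by
    by_cases hs : s
    · exact ⟨⟨D, .inr ⟨hs, D_sm⟩⟩, fun b => b.2.symm.imp (fun k => .inl (by simpa using k.2.mul D_sm)) .inl⟩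
    · exact ⟨1, fun b => .inr (b.2.imp_right fun k => (hs k.1).elim)⟩)
  rw [← ((Γ False).subgroupOf (Γ s)).index_mul_card, Nat.card_congr (subgroupOfEquivOfLe le).toEquiv]
  exact (Nat.mul_dvd_mul h2 h1).trans (by decide +kernel)

/-- the matrix of the element with code `n` -/
noncomputable def mt (n : ℕ) : M6 := dec 6 (wrd 6 (tab0 6 ms) (wd 9 0 n))

theorem toGL_e {n : ℕ} (h : n < 19683) : (toGL (e n)).val = mt n := by
  change (el γS (e n).v).val = _
  rw [e_v h, mt, ← (repS.wrd_spec _).2, wordG_wd]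
  rfl

theorem gens : ∀ j < 9, mt (3 ^ j) * J6 * (mt (3 ^ j))ᵀ = (1 : ZMod 3) • J6 := by decide +kernel

theorem mem_Γ (s : Prop) (x : G) : toGL x ∈ Γ s :=
  (eq_top_of (H := (Γ s).comap toGL) fun j hj => .inl (by
    rw [Sm, toGL_e (Nat.pow_lt_pow_right (a := 3) (by norm_num) hj)]; exact gens j hj)).ge (mem_top x)

/-- the embedding -/
noncomputable def ι (s : Prop) : G →* Γ s := toGL.codRestrict _ (mem_Γ s)

theorem ι_inj (s : Prop) : Function.Injective (ι s) := fun _ _ h => toGL_inj (congrArg Subtype.val h)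

theorem real (s : Prop) : Real (ι s) := by
  have := Fact.mk Nat.prime_three
  have c : Nat.card (ι s).range = 3 ^ 9 := by rw [← card_G, Nat.card_congr (MonoidHom.ofInjective (ι_inj s)).toEquiv]
  refine ⟨ι_inj s, (IsPGroup.of_card c).toSylow fun k => ?_, rfl⟩
  have := card_dvd s
  rw [← (ι s).range.index_mul_card, c] at this
  exact absurd (k.trans (Nat.dvd_of_mul_dvd_mul_right (by norm_num) this)) (by norm_num)

theorem conj_of {s : Prop} {c : Ω} (hc : c ∈ Γ s) {m n : ℕ} (hm : m < 19683) (hn : n < 19683)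
    (h : c.val * mt m = mt n * c.val) : IsConj (ι s (e m)) (ι s (e n)) :=
  isConj_iff.2 ⟨⟨c, hc⟩, mul_inv_eq_iff_eq_mul.2 (Subtype.ext (Units.ext (by
    change c.val * (toGL (e m)).val = (toGL (e n)).val * c.val
    rwa [toGL_e hm, toGL_e hn])))⟩

def W1 : Ω := un !![0, 0, 1, 0, 0, 0; 0, 1, 0, 0, 0, 0; 1, 0, 0, 0, 0, 0; 0, 0, 0, 0, 0, 1; 0, 0, 0, 0, 1, 0;
  0, 0, 0, 1, 0, 0] !![0, 0, 1, 0, 0, 0; 0, 1, 0, 0, 0, 0; 1, 0, 0, 0, 0, 0; 0, 0, 0, 0, 0, 1; 0, 0, 0, 0, 1, 0;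
  0, 0, 0, 1, 0, 0] (by decide +kernel)

def W2 : Ω := un !![1, 0, 0, 0, 0, 0; 0, 1, 0, 0, 0, 0; 0, 0, 0, 0, 0, -1; 0, 0, 0, 1, 0, 0; 0, 0, 0, 0, 1, 0;
  0, 0, 1, 0, 0, 0] !![1, 0, 0, 0, 0, 0; 0, 1, 0, 0, 0, 0; 0, 0, 0, 0, 0, 1; 0, 0, 0, 1, 0, 0; 0, 0, 0, 0, 1, 0;
  0, 0, -1, 0, 0, 0] (by decide +kernel)

/-- `g - 1` has rank at most one -/
def R1 (g : Ω) : Prop := ∃ u v, g.val - 1 = vecMulVec u v

theorem R1.conj {g h : Ω} (a : R1 g) (k : IsConj g h) : R1 h := by
  obtain ⟨u, v, a⟩ := a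
  obtain ⟨c, rfl⟩ := isConj_iff.1 k
  refine ⟨c.val *ᵥ u, v ᵥ* c⁻¹.val, ?_⟩
  rw [← vecMulVec_mul, ← mul_vecMulVec, ← a, Matrix.mul_sub, Matrix.sub_mul, Matrix.mul_one, Units.mul_inv]
  rfl

theorem minors : ∀ r ∈ RP, r < 19683 ∧ (e r ∉ L 6 → ∃ i j k l, (mt r - 1) i j * (mt r - 1) k l ≠
    (mt r - 1) i l * (mt r - 1) k j) := by decide +kernel

theorem e_two : e 2 = (e 1)⁻¹ := by decide +kernel

theorem not_conj {y : G} (hy : y ∉ L 6) (h : IsConj (toGL (e 1)) (toGL y)) : False := by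
  have h1 : R1 (toGL (e 1)) := ⟨Pi.single 0 1, Pi.single 3 1, by rw [toGL_e (by norm_num)]; decide +kernel⟩
  have h2 : R1 (toGL (e 2)) := ⟨Pi.single 0 (-1), Pi.single 3 1, by rw [toGL_e (by norm_num)]; decide +kernel⟩
  have h3 : y ^ 3 = 1 := by
    have := h.pow 3
    rw [← map_pow, ← map_pow, A_cube _ (by decide), map_one, isConj_one_right] at this
    exact toGL_inj (this.trans (map_one _).symm)
  have h4 : IsConj (toGL (e 2)) (toGL y⁻¹) := by
    obtain ⟨c, k⟩ := isConj_iff.1 h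
    exact isConj_iff.2 ⟨c, by rw [e_two, map_inv, map_inv, ← k, conj_inv]⟩
  obtain ⟨c, r, hr, k⟩ := cls h3
  have h5 : e r ∉ L 6 := by rcases k with k | k <;> simpa only [← k, conj_L_iff, inv_mem_iff] using hy
  obtain ⟨u, v, a⟩ : R1 (toGL (e r)) := k.elim
    (fun k => (h1.conj h).conj (toGL.map_isConj (isConj_iff.2 ⟨c, k⟩)))
    fun k => (h2.conj h4).conj (toGL.map_isConj (isConj_iff.2 ⟨c, k⟩))
  obtain ⟨i, j, k, l, n⟩ := (minors r hr).2 h5
  rw [← toGL_e (minors r hr).1, a] at n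
  exact n (by simp only [vecMulVec_apply]; ring)

theorem of_conj {s : Prop} {x y : G} (h : IsConj (ι s x) (ι s y)) : ∃ c ∈ Γ s, c * toGL x = toGL y * c := by
  obtain ⟨c, k⟩ := isConj_iff.1 h
  have := congrArg (Γ s).subtype (mul_inv_eq_iff_eq_mul.1 k)
  rw [map_mul, map_mul] at this
  exact ⟨c, c.2, this⟩

theorem not_inv (h : IsConj (ι False (e 1)) (ι False (e 2))) : False := by
  obtain ⟨c, hc, h0⟩ := of_conj h
  have h1 : c.val * J6 * c.valᵀ = (1 : ZMod 3) • J6 := hc.resolve_right fun k => k.1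
  have h2 := congrArg Units.val h0
  rw [Units.val_mul, Units.val_mul] at h2
  rw [toGL_e (by norm_num), toGL_e (by norm_num)] at h2
  rw [one_smul] at h1
  have h3 : c.val * ((mt 1 - mt 2) * J6 - (1 - mt 2) * J6) * c.valᵀ = (mt 2 - 1) * J6 := by
    rw [← Matrix.sub_mul, sub_sub_sub_cancel_right, ← Matrix.mul_assoc, Matrix.mul_sub, h2, Matrix.mul_one,
      Matrix.mul_assoc, Matrix.sub_mul, Matrix.sub_mul, Matrix.mul_assoc, ← Matrix.mul_assoc c.val, h1, Matrix.one_mul]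
  rw [show (mt 1 - mt 2) * J6 - (1 - mt 2) * J6 = vecMulVec (Pi.single 0 1) (Pi.single 0 1) by decide +kernel,
    mul_vecMulVec, vecMulVec_mul, vecMul_transpose] at h3
  have h4 := congrFun (congrFun h3 0) 0
  rw [vecMulVec_apply, show ((mt 2 - 1) * J6) 0 0 = -1 by decide +kernel] at h4
  exact (by decide : ∀ a : ZMod 3, a * a ≠ -1) _ h4

theorem main (s : Prop) : StSp s := by
  refine ⟨Γ s, inferInstance, inferInstance, ι s, real s, ⟨e 243, by decide, by decide, conj_of (c := W1)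
    (.inl (by unfold Sm; decide +kernel)) (by norm_num) (by norm_num) (by decide +kernel)⟩,
    ⟨e 27, by decide, e 1458, by decide, conj_of (c := W2) (.inl (by unfold Sm; decide +kernel)) (by norm_num)
      (by norm_num) (by decide +kernel)⟩, fun y hy k => not_conj hy ((Γ s).subtype.map_isConj k :), fun k => ?_,
    fun hs => conj_of (c := D) (.inr ⟨hs, D_sm⟩) (by norm_num) (by norm_num) (by decide +kernel)⟩
  by_contra hs
  obtain rfl : s = False := eq_false hs
  exact not_inv k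

end SpJ

theorem stSp0 : StSp False := SpJ.main False

theorem stSp1 : StSp True := SpJ.main True

end CL.C3
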