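/-
Blackburn's theorem on the two-step centralizers of a `p`-group of maximal class: all but the last coincide, and if
the last one differs, then `n` is even and `[γ 1, γ (n - 4)] ≠ 1`.
-/
import Cfsg.Agent.Fus.MaxCl3

set_option autoImplicit false

namespace CL.Fus.McB

open Subgroup CL.Fgs
open scoped commutatorElement

local notation "γ[" G ", " j "]" => Subgroup.lowerCentralSeries (⊤ : Subgroup G) j

variable {G : Type*} [Group G]

theorem der {y a b : G} (h1 : Commute ⁅y, a⁆ ⁅a, ⁅y, b⁆ * b⁆) (h2 : ⁅⁅y, a⁆, ⁅y, b⁆⁆ = 1)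
    (h3 : Commute ⁅y, b⁆ ⁅⁅y, a⁆, b⁆) (h4 : Commute ⁅y, b⁆ ⁅a, b⁆) (h5 : Commute ⁅a, b⁆ ⁅⁅y, a⁆, b⁆) :
    ⁅y, ⁅a, b⁆⁆ = ⁅a, ⁅y, b⁆⁆ * ⁅⁅y, a⁆, b⁆ := by
  have e : ⁅y, ⁅a, b⁆⁆ * ⁅a, b⁆ = ⁅⁅y, a⁆ * a, ⁅y, b⁆ * b⁆ := by simp only [commutatorElement_def]; group
  rw [CL.Grp.comm_mul_left_of_commute h1, CL.Grp.comm_mul_right_of_commute h4, CL.Grp.comm_mul_right_of_commute h3, h2,
    one_mul, mul_assoc, h5.eq, ← mul_assoc] at e
  exact mul_right_cancel e

theorem cm {r s k : ℕ} {a b : G} (ha : a ∈ γ[G, r]) (hb : b ∈ γ[G, s]) (h : k ≤ r + s + 1) : ⁅a, b⁆ ∈ γ[G, k] :=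
  lcs_anti h (CL.Grp.commutator_lowerCentralSeries_le r s (commutator_mem_commutator ha hb))

theorem sw {N : Subgroup G} {a b : G} (h : ⁅a, b⁆ ∈ N) : ⁅b, a⁆ ∈ N := by
  rw [← commutatorElement_inv]; exact inv_mem h

theorem top0 (y : G) : y ∈ γ[G, 0] := mem_top y

/-- the quotient map modulo `γ k` -/
abbrev q (k : ℕ) : G →* G ⧸ γ[G, k] := QuotientGroup.mk' _

theorem q_one {k : ℕ} {a : G} : q k a = 1 ↔ a ∈ γ[G, k] := QuotientGroup.eq_one_iff a

theorem der_q {r s k : ℕ} (y : G) {a b : G} (ha : a ∈ γ[G, r]) (hb : b ∈ γ[G, s]) (hk : k = r + s + 3) :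
    q k ⁅y, ⁅a, b⁆⁆ = q k ⁅a, ⁅y, b⁆⁆ * q k ⁅⁅y, a⁆, b⁆ := by
  subst hk
  have ya := cm (top0 y) ha le_rfl
  have yb := cm (top0 y) hb le_rfl
  have ab := cm ha hb le_rfl
  have t := cm ya hb le_rfl
  simp only [map_commutatorElement]
  refine der ?_ ?_ ?_ ?_ ?_ <;> simp only [← map_commutatorElement, ← map_mul]
  · exact commute_mk_of_mem (cm ya (cm ha (mul_mem (lcs_anti (by omega) yb) hb) le_rfl) (by omega))
  · exact q_one.2 (cm ya yb (by omega))
  · exact commute_mk_of_mem (cm yb t (by omega))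
  · exact commute_mk_of_mem (cm yb ab (by omega))
  · exact commute_mk_of_mem (cm ab t (by omega))

/-- the iterated commutators -/
def v (x y : G) : ℕ → G
  | 0 => x
  | i + 1 => ⁅y, v x y i⁆

theorem v_mem (x y : G) : ∀ i, v x y i ∈ γ[G, i]
  | 0 => top0 x
  | i + 1 => cm (top0 y) (v_mem x y i) (by omega)

theorem rec_q (x y : G) {a b k : ℕ} (hk : k = a + b + 3) :
    q k ⁅y, ⁅v x y a, v x y b⁆⁆ = q k ⁅v x y a, v x y (b + 1)⁆ * q k ⁅v x y (a + 1), v x y b⁆ :=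
  der_q y (v_mem x y a) (v_mem x y b) hk

variable {p : ℕ} [hp : Fact p.Prime] [Finite G] {n j : ℕ} {x y : G}

/-- the first exceptional level -/
structure Lv (p n j : ℕ) (x y : G) : Prop where
  mc : MaxCl p n G
  j1 : 1 ≤ j
  jn : j + 3 ≤ n
  xin : ∀ i, 1 ≤ i → i < j → x ∈ twoStep G i
  xout : x ∉ twoStep G j
  yin : y ∈ twoStep G j
  yout : ∀ i, 1 ≤ i → i < j → y ∉ twoStep G i
  y1 : y ∉ γ[G, 1]

theorem exists_lv (h : MaxCl p n G) (j1 : 1 ≤ j) (jn : j + 3 ≤ n) (h1 : ∀ i, 1 ≤ i → i < j → twoStep G i = twoStep G 1)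
    (h2 : twoStep G j ≠ twoStep G 1) : ∃ x y : G, Lv p n j x y := by
  obtain ⟨x, hx, x1⟩ := exists_mem_twoStep h (j := 1) le_rfl
  obtain ⟨y, hy, y1⟩ := exists_mem_twoStep h j1
  have e : ∀ i, i + 3 ≤ n → ∀ t ∈ twoStep G i, t ∉ γ[G, 1] → twoStep G i = γ[G, 1] ⊔ zpowers t := fun i hi t ht t1 =>
    eq_sup_zpowers_of_maxCl h (twoStep_ne_top h.isPGroup (by rw [h.cl]; omega)) (lcs_one_le_twoStep i) ht t1
  refine ⟨x, y, h, j1, jn, fun i a b => h1 i a b ▸ hx, fun k => h2 ?_, hy, fun i a b k => h2 ?_, y1⟩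
  · rw [e j jn x k x1, e 1 (by omega) x hx x1]
  · rw [e j jn y hy y1, e 1 (by omega) y (h1 i a b ▸ k) y1]

namespace Lv

variable (h : Lv p n j x y)
include h

theorem v_not : ∀ i, 1 ≤ i → i ≤ j → v x y i ∉ γ[G, i + 1]
  | 0, h0, _ => absurd h0 (by omega)
  | 1, _, _ => fun k => h.mc.comm_notMem_lcs_two h.y1
      (fun e => h.xout (sup_le (lcs_one_le_twoStep j) (zpowers_le.2 h.yin) e)) (sw k)
  | i + 2, _, hi => fun k => h.yout (i + 1) (by omega) (by omega)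
      (h.mc.mem_twoStep_of (by omega) (v_mem x y _) (v_not (i + 1) (by omega) (by omega)) (sw k))

theorem low : ∀ b a, a + b + 1 ≤ j → ⁅v x y a, v x y b⁆ ∈ γ[G, a + b + 2]
  | 0, 0, _ => by simp [v]
  | 0, a + 1, ha => mem_twoStep.1 (h.xin (a + 1) (by omega) (by omega)) _ (v_mem x y _)
  | b + 1, a, ha => by
    have e := rec_q x y (a := a) (b := b) rfl
    have h1 := low b (a + 1) (by omega)
    rw [show a + 1 + b + 2 = a + b + 3 by omega] at h1
    rw [q_one.2 (cm (top0 y) (low b a (by omega)) (by omega)), q_one.2 h1, mul_one] at e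
    exact q_one.1 e.symm

theorem mid_mul {a b : ℕ} (e : a + b + 1 = j) : ⁅v x y a, v x y (b + 1)⁆ * ⁅v x y (a + 1), v x y b⁆ ∈ γ[G, j + 2] := by
  rw [← q_one, map_mul, ← rec_q x y (by omega), q_one]
  exact cm (top0 y) (h.low b a e.le) (by omega)

theorem mid : ∀ b a, a + b = j → ⁅v x y a, v x y b⁆ ∉ γ[G, j + 2]
  | 0, a, e => fun k => h.xout (h.mc.mem_twoStep_of h.j1 (v_mem x y j) (h.v_not j h.j1 le_rfl) (by
      obtain rfl : a = j := by omega
      exact k))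
  | b + 1, a, e => fun k => mid b (a + 1) (by omega) ((mul_mem_cancel_left k).1 (h.mid_mul (by omega)))

theorem odd : Odd j := by
  rcases Nat.even_or_odd' j with ⟨a, e | e⟩
  · exact absurd (by simp) (h.mid a a (by omega))
  · exact ⟨a, e⟩

theorem three (h1 : twoStep G j ≠ twoStep G 1) : 3 ≤ j := by
  obtain ⟨a, e⟩ := h.odd
  by_contra k
  obtain rfl : j = 1 := by omega
  exact h1 rfl

theorem false (hp2 : p ≠ 2) (h3 : 3 ≤ j) (h4 : j + 4 ≤ n) : False := by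
  obtain ⟨i, rfl⟩ : ∃ i, j = i + 1 := ⟨j - 1, by omega⟩
  have mz : ∀ a b, a + b = i + 1 → ⁅v x y a, v x y b⁆ ∈ γ[G, i + 2] := fun a b e =>
    cm (v_mem x y a) (v_mem x y b) (by omega)
  have hx : x ∈ twoStep G (i + 2) := by
    refine h.mc.mem_twoStep_of (by omega) (mz 1 i (by omega)) (h.mid i 1 (by omega)) (sw (q_one.1 ?_))
    rw [der_q x (v_mem x y 1) (v_mem x y i) (by omega),
      q_one.2 (cm (v_mem x y 1) (sw (mem_twoStep.1 (h.xin i (by omega) (by omega)) _ (v_mem x y i))) (by omega)),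
      q_one.2 (cm (sw (mem_twoStep.1 (h.xin 1 le_rfl (by omega)) _ (v_mem x y 1))) (v_mem x y i) (by omega)), one_mul]
  have hy : y ∉ twoStep G (i + 2) := fun k => by
    have e := eq_sup_zpowers_of_maxCl h.mc (twoStep_ne_top h.mc.isPGroup (j := i + 2) (by rw [h.mc.cl]; omega))
      (lcs_one_le_twoStep _) k h.y1
    exact h.xout (sup_le (lcs_one_le_twoStep _) (zpowers_le.2 h.yin) (e ▸ hx))
  set β := q (i + 4) ⁅y, ⁅v x y (i + 1), v x y 0⁆⁆ with hβ
  have β1 : β ≠ 1 := fun k => hy (h.mc.mem_twoStep_of (by omega) (mz (i + 1) 0 rfl) (h.mid 0 (i + 1) rfl) (sw (q_one.1 k)))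
  have βp : β ^ p = 1 := by
    rw [hβ, ← map_pow, q_one]
    have := hp.out.two_le
    exact lcs_anti (by omega) (h.mc.pow_mem_lcs (j := i + 3) (by omega) (cm (top0 y) (mz (i + 1) 0 rfl) (by omega)))
  have hb : ∀ b a, a + b = i + 1 → q (i + 4) ⁅y, ⁅v x y a, v x y b⁆⁆ = β ^ (-1 : ℤ) ^ b := by
    intro b
    induction b with
    | zero =>
      intro a e
      obtain rfl : a = i + 1 := by omega
      rw [pow_zero, zpow_one]
    | succ b ih =>
      intro a e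
      have e1 := q_one.2 (cm (k := i + 4) (top0 y) (h.mid_mul (a := a) (b := b) (by omega)) (by omega))
      rw [map_commutatorElement, map_mul, CL.Grp.comm_mul_right_of_commute, ← map_commutatorElement,
        ← map_commutatorElement, ih (a + 1) (by omega)] at e1
      · rw [eq_inv_of_mul_eq_one_left e1, pow_succ, mul_neg_one, zpow_neg]
      · rw [← map_commutatorElement]
        exact commute_mk_of_mem (cm (mz a (b + 1) e) (cm (top0 y) (mz (a + 1) b (by omega)) le_rfl) (by omega))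
  have vt : v x y (i + 2) ∈ γ[G, i + 3] := sw (mem_twoStep.1 h.yin _ (v_mem x y (i + 1)))
  have ha : ∀ b a, a + b = i + 2 → q (i + 4) ⁅v x y a, v x y b⁆ = β ^ (-(-1 : ℤ) ^ b * b) := by
    intro b
    induction b with
    | zero =>
      intro a e
      obtain rfl : a = i + 2 := by omega
      rw [Nat.cast_zero, mul_zero, zpow_zero]
      exact q_one.2 (cm vt (top0 _) (by omega))
    | succ b ih =>
      intro a e
      have e1 := rec_q x y (a := a) (b := b) (k := i + 4) (by omega)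
      rw [hb b a (by omega), ih (a + 1) (by omega)] at e1
      rw [eq_mul_inv_of_mul_eq e1.symm, ← zpow_neg, ← zpow_add]
      congr 1
      push_cast
      ring
  have e := ha (i + 2) 0 (by omega)
  rw [q_one.2 (cm (top0 _) vt (by omega)), eq_comm, ← orderOf_dvd_iff_zpow_eq_one, orderOf_eq_prime βp β1] at e
  have e2 : p ∣ i + 2 := by
    have := Int.natAbs_dvd_natAbs.2 e
    rwa [Int.natAbs_mul, Int.natAbs_neg, Int.natAbs_pow, Int.natAbs_neg, Int.natAbs_one, one_pow, one_mul,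
      Int.natAbs_natCast, Int.natAbs_natCast] at this
  obtain ⟨c, hc⟩ := e2
  obtain ⟨d, hd⟩ := h.odd
  obtain ⟨r, hr⟩ := hp.out.odd_of_ne_two hp2
  have c2 : 2 ≤ c := by
    rcases c with _ | _ | c <;> omega
  have c3 : p * 2 ≤ p * c := Nat.mul_le_mul_left p c2
  have c4 := hp.out.two_le
  have := h.mc.twoStep_le (j := i + 2 - p) (by omega) (by omega) (h.xin _ (by omega) (by omega))
  rw [show i + 2 - p + (p - 1) = i + 1 by omega] at this
  exact h.xout this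

end Lv

theorem twoStep_eq (h : MaxCl p n G) (hp2 : p ≠ 2) : ∀ j, 1 ≤ j → j + 4 ≤ n → twoStep G j = twoStep G 1 := by
  intro j
  induction j using Nat.strong_induction_on with
  | _ j ih =>
    intro j1 jn
    by_contra k
    obtain ⟨x, y, l⟩ := exists_lv h j1 (by omega) (fun i a b => ih i b a (by omega)) k
    exact l.false hp2 (l.three k) jn

theorem exc (h : MaxCl p n G) (hp2 : p ≠ 2) (hj : 1 ≤ j) (hn : n = j + 3) (k : twoStep G j ≠ twoStep G 1) :
    Odd j ∧ ∃ y ∈ γ[G, 1], ∃ z ∈ γ[G, j - 1], ⁅z, y⁆ ≠ 1 := by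
  obtain ⟨x, y, l⟩ := exists_lv h hj hn.ge (fun i a b => twoStep_eq h hp2 i a (by omega)) k
  refine ⟨l.odd, _, v_mem x y 1, _, v_mem x y (j - 1), fun e => l.mid 1 (j - 1) (by omega) ?_⟩
  rw [e]
  exact one_mem _

end CL.Fus.McB
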