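/-
Saturated fusion systems on groups of order `p ^ 5` without abelian subgroups of index `p`: pearls.
-/
import Cfsg.Agent.Fus.EssCube
import Cfsg.Agent.Fus.AbelIdx
import Cfsg.Agent.S0112
import Cfsg.Agent.S4143

set_option autoImplicit false
set_option linter.unusedSectionVars false

namespace CL.Fus

open Cfsg Cfsg.FusionSystem Subgroup CL.Fgs
open scoped commutatorElement

local notation "γ[" G ", " j "]" => Subgroup.lowerCentralSeries (⊤ : Subgroup G) j

section
variable {Ω : Type*} [Group Ω] {S B E : Subgroup Ω} {p : ℕ} {F : FusionSystem S}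

theorem comm_sup_zpowers (h : ∀ x ∈ B, ∀ y ∈ B, x * y = y * x) {a : Ω} (ha : ∀ x ∈ B, x * a = a * x) :
    ∀ x ∈ B ⊔ zpowers a, ∀ y ∈ B ⊔ zpowers a, x * y = y * x := fun x hx y hy => by
  have h1 : B ⊔ zpowers a ≤ centralizer (B : Set Ω) := sup_le (fun x hx y hy => h y hy x hx) (zpowers_le.2 ha)
  have h2 : B ⊔ zpowers a ≤ centralizer {a} := sup_le (fun x hx => mem_centralizer_singleton_iff.2 (ha x hx))
    (zpowers_le.2 (mem_centralizer_singleton_iff.2 rfl))
  exact (mem_centralizer_singleton_iff.1 ((sup_le (fun y hy => mem_centralizer_singleton_iff.2 (h1 hx y hy))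
    (zpowers_le.2 (mem_centralizer_singleton_iff.2 (mem_centralizer_singleton_iff.1 (h2 hx)).symm)) :
      B ⊔ zpowers a ≤ centralizer {x}) hy)).symm

variable [hp : Fact p.Prime] [Finite S]

theorem IsEssential.elem_of_sq (hS : IsPGroup p S) (hF : F.IsSaturated p) (hE : F.IsEssential p E)
    (hc : Nat.card E = p ^ 2) : (∀ x ∈ E, ∀ y ∈ E, x * y = y * x) ∧ ∀ x ∈ E, x ^ p = 1 := by
  have := finite_of_le hE.1.1
  obtain ⟨k, hk, hΦ⟩ := IsEssential.exists_card_frat (n := 0) hS hF hE hc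
  obtain rfl : k = 0 := by omega
  exact (frat_eq_bot_iff (hS.to_le hE.1.1)).1 (card_eq_one.1 hΦ)

theorem IsEssential.elem_of_cube (hS : IsPGroup p S) (hF : F.IsSaturated p) (hE : F.IsEssential p E)
    (hc : Nat.card E = p ^ 3) (hab : ∀ x ∈ E, ∀ y ∈ E, x * y = y * x) : ∀ x ∈ E, x ^ p = 1 := by
  have := finite_of_le hE.1.1
  obtain ⟨k, hk, hΦ⟩ := IsEssential.exists_card_frat (n := 1) hS hF hE hc
  interval_cases k
  · exact ((frat_eq_bot_iff (hS.to_le hE.1.1)).1 (card_eq_one.1 hΦ)).2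
  · obtain ⟨k, -, -, ⟨e⟩⟩ := IsEssential.homocyclic hS hF hE hab (by rw [hc, hΦ, ← pow_add])
    have h1 := Nat.card_congr e.toEquiv
    rw [hc, Nat.card_congr Multiplicative.toAdd, Nat.card_prod, Nat.card_zmod, ← pow_add] at h1
    have := Nat.pow_right_injective hp.out.two_le h1
    omega

theorem IsEssential.frat_of_cube (hS : IsPGroup p S) (hF : F.IsSaturated p) (hE : F.IsEssential p E)
    (hc : Nat.card E = p ^ 3) (hna : ¬ ∀ x ∈ E, ∀ y ∈ E, x * y = y * x) :
    Nat.card (frat E) = p ∧ zen E = frat E := by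
  have := finite_of_le hE.1.1
  have hE' := hS.to_le hE.1.1
  obtain ⟨k, hk, hΦ⟩ := IsEssential.exists_card_frat (n := 1) hS hF hE hc
  interval_cases k
  · exact absurd ((frat_eq_bot_iff hE').1 (card_eq_one.1 hΦ)).1 hna
  rw [pow_one] at hΦ
  push Not at hna
  obtain ⟨x, hx, y, hy, hxy⟩ := hna
  have h1 := frat_le_zen hE' hΦ.le
  have h2 := card_sup_sup_of_not_comm hE' h1 le_rfl hx hy hxy
  have h3 := card_le_of_le (sup_le (sup_le (inf_le_left : zen E ≤ E) (zpowers_le.2 hx)) (zpowers_le.2 hy))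
  rw [h2, hc, pow_succ p 2] at h3
  have := finite_of_le (inf_le_left : zen E ≤ E)
  exact ⟨hΦ, (eq_of_le_of_card_ge h1 (hΦ ▸ Nat.le_of_mul_le_mul_left h3 (pow_pos hp.out.pos 2))).symm⟩

end

variable {G : Type*} [Group G] [Finite G] {p : ℕ} [hp : Fact p.Prime] {F : FusionSystem (⊤ : Subgroup G)}
  {B E P : Subgroup G} {g : G → G}

omit [Finite G] hp in
theorem exists_hom_of_mor_top (hg : Mor F ⊤ g) : ∃ σ : G →* G, Function.Injective σ ∧ ∀ x, σ x = g x :=
  ⟨MonoidHom.mk' g fun a b => hg.homOn.map_mul (mem_top a) (mem_top b),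
    fun a b h => hg.injOn (mem_top a) (mem_top b) h, fun _ => rfl⟩

omit [Finite G] hp in
theorem inv_mul_mem_of_dvd {N : Subgroup G} {x y : G} {a b : ℤ} (h : (x ^ a)⁻¹ * y ∈ N) (hx : x ^ p ∈ N)
    (hd : (p : ℤ) ∣ a - b) : (x ^ b)⁻¹ * y ∈ N := by
  obtain ⟨k, hk⟩ := hd
  have := mul_mem (zpow_mem hx k) h
  rwa [← zpow_natCast, ← zpow_mul, ← hk, ← mul_assoc, ← zpow_neg, ← zpow_add, show a - b + -a = -b by ring,
    zpow_neg] at this

theorem three_dvd_sq_sub_one {a : ℤ} (h : ¬ ((3 : ℕ) : ℤ) ∣ a) : ((3 : ℕ) : ℤ) ∣ a ^ 2 - 1 := by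
  obtain ⟨k, rfl | rfl⟩ : ∃ k, a = 3 * k + 1 ∨ a = 3 * k + 2 := ⟨a / 3, by omega⟩
  exacts [⟨3 * k ^ 2 + 2 * k, by push_cast; ring⟩, ⟨3 * k ^ 2 + 4 * k + 1, by push_cast; ring⟩]

/-- a saturated fusion system on a group of order `p ^ 5`, `p` odd, without abelian subgroups of index `p` -/
structure OrdFive (p : ℕ) (F : FusionSystem (⊤ : Subgroup G)) : Prop where
  card : Nat.card G = p ^ 5
  sat : F.IsSaturated p
  odd : p ≠ 2
  ab : ∀ B : Subgroup G, (∀ x ∈ B, ∀ y ∈ B, x * y = y * x) → Nat.card B ≤ p ^ 3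

namespace OrdFive

variable (h : OrdFive p F)
include h

theorem pg : IsPGroup p G := .of_card h.card

theorem top : IsPGroup p (⊤ : Subgroup G) := h.pg.to_subgroup ⊤

theorem not_comm (hB : Nat.card B = p ^ 4) : ¬ ∀ x ∈ B, ∀ y ∈ B, x * y = y * x := fun k =>
  absurd (hB ▸ h.ab B k) (not_le.2 (Nat.pow_lt_pow_right hp.out.one_lt (by norm_num)))

theorem mem_of_comm (hB : Nat.card B = p ^ 3) (hab : ∀ x ∈ B, ∀ y ∈ B, x * y = y * x) {a : G}
    (ha : ∀ x ∈ B, x * a = a * x) : a ∈ B := by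
  by_contra k
  have h1 := (mul_card_le_of_lt (h.pg.to_subgroup _) (lt_of_le_of_ne (le_sup_left : B ≤ B ⊔ zpowers a)
    fun e => k (e ▸ mem_sup_right (mem_zpowers a)))).trans (h.ab _ (comm_sup_zpowers hab ha))
  have := hp.out.one_lt
  have := pow_pos hp.out.pos 3
  rw [hB] at h1
  nlinarith

theorem index_eq (hB : Nat.card B = p ^ 4) : B.index = p := by
  have := B.index_mul_card
  rw [hB, h.card, pow_succ' p 4] at this
  exact Nat.eq_of_mul_eq_mul_right (pow_pos hp.out.pos 4) this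

theorem card_ess (hE : F.IsEssential p E) : Nat.card E = p ^ 2 ∨ Nat.card E = p ^ 3 ∨ Nat.card E = p ^ 4 := by
  obtain ⟨k, hk⟩ := IsPGroup.iff_card.1 (h.pg.to_subgroup E)
  have h1 := card_lt_of_lt (IsEssential.lt_top h.top h.sat hE)
  have h2 := (Nat.le_mul_of_pos_right _ Nat.card_pos).trans (IsEssential.sq_mul_card_frat_le h.top h.sat hE)
  rw [card_top, h.card, hk, Nat.pow_lt_pow_iff_right hp.out.one_lt] at h1
  rw [hk, Nat.pow_le_pow_iff_right hp.out.one_lt] at h2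
  rw [hk]
  interval_cases k <;> simp

theorem four (hE : F.IsEssential p E) (hc : Nat.card E = p ^ 4) :
    Nat.card (frat E) = p ∧ Nat.card (zen E) = p ^ 2 := by
  have hE' := h.pg.to_subgroup E
  obtain ⟨k, hk, hΦ⟩ := IsEssential.exists_card_frat (n := 2) h.top h.sat hE hc
  interval_cases k
  · exact absurd ((frat_eq_bot_iff hE').1 (card_eq_one.1 hΦ)).1 (h.not_comm hc)
  · rw [pow_one] at hΦ
    obtain ⟨-, -, -, -, -, -, -, -, k⟩ := exists_central_of_card_frat hE' hc hΦ (h.not_comm hc)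
    exact ⟨hΦ, k⟩
  · exact absurd (IsEssential.comm_of_card_frat h.top h.sat hE hc hΦ) (h.not_comm hc)

theorem not_comm_twoStep (hm : MaxCl p 5 G) : ¬ IsMulCommutative (twoStep G 1) := fun k => by
  have h1 := (twoStep G 1).index_mul_card
  rw [(index_twoStep hm le_rfl (by norm_num)).1, h.card, pow_succ' p 4] at h1
  exact h.not_comm (Nat.eq_of_mul_eq_mul_left hp.out.pos h1) fun x hx y hy =>
    congrArg Subtype.val (k.1.1 ⟨x, hx⟩ ⟨y, hy⟩)

omit h in
theorem comm_twoStep (hm : MaxCl p 5 G) {x y : G} (hx : x ∈ γ[G, 2]) (hy : y ∈ twoStep G 1) : x * y = y * x := by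
  have := mem_twoStep.1 (twoStep_one_le_two hm hy) x hx
  rwa [hm.lcs_eq_bot (by norm_num), mem_bot, commutatorElement_eq_one_iff_mul_comm] at this

omit h in
theorem powOn_top (hm : MaxCl p 5 G) {σ : G →* G} (hσ : Function.Injective σ) {x : G} (hx : x ∉ twoStep G 1) {a : ℤ}
    (ha : (x ^ a)⁻¹ * σ x ∈ twoStep G 1) : PowOn σ ⊤ (twoStep G 1) a :=
  powOn_of_elem (map_mem_twoStep hσ 1) ha ((CL.Grp.isCoatom_of_index_prime
    ((index_twoStep hm le_rfl (by norm_num)).1 ▸ hp.out)).2 _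
      (lt_of_le_of_ne le_sup_left fun e => hx (e.ge (mem_sup_right (mem_zpowers x))))).ge

/-- there are no extraspecial pearls -/
theorem comm_of_cube (hE : F.IsEssential p E) (hc : Nat.card E = p ^ 3) : ∀ x ∈ E, ∀ y ∈ E, x * y = y * x := by
  by_contra hna
  have hC : centralizer (E : Set G) ≤ E := fun y k => IsCentric.centralizerIn_le hE.1 ⟨mem_top y, k⟩
  have hm : MaxCl p 5 G := ⟨h.card, by norm_num, Cfsg.Agent.S4143.result 5 h.card E hc
    (fun k => hna fun x hx y hy => congrArg Subtype.val (k.1.1 ⟨x, hx⟩ ⟨y, hy⟩)) hC⟩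
  obtain ⟨hΦ, hZ⟩ := IsEssential.frat_of_cube h.top h.sat hE hc hna
  have hE' := h.pg.to_subgroup E
  have h3 : frat E = γ[G, 3] := (eq_of_le_of_card_ge (fun x hx => by
    have hx' : x ∈ center G := hm.center_eq ▸ hx
    have k : x ∈ centralizer (E : Set G) := fun y _ => Subgroup.mem_center_iff.1 hx' y
    exact hZ ▸ ⟨hC k, k⟩) (by rw [hΦ, hm.card_lcs (by norm_num)]; norm_num)).symm
  have hcen : ∀ x ∈ frat E, x ∈ center G := fun x hx => hm.center_eq ▸ (h3 ▸ hx :)
  obtain ⟨a, -, ha, haE, hap⟩ := IsEssential.exists_normalizer h.top h.sat hE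
  obtain ⟨z, hz, z', hz', -, -, -, -, hgen, hτ⟩ := exists_torus_frat (Q := E) h.top h.sat hE.1
    (IsEssential.isRadical h.top hE) (fun γ _ x hx _ => autFun_mem γ hx) aInv_self
    (IsEssential.relIndex_frat h.top h.sat hE (by rw [hc, hΦ, ← pow_succ])) (fun _ _ _ k x hx _ => k x hx)
    (mem_top a) ha haE fun x hx => E.mul_mem (E.inv_mem hx) (conj_mem_of_mem_normalizer ha hx)
  obtain ⟨q, hq⟩ : ∃ q, p = q + 1 := ⟨p - 1, (Nat.succ_pred_eq_of_pos hp.out.pos).symm⟩
  have hq' : (p : ℤ) = q + 1 := by exact_mod_cast hq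
  obtain ⟨τ, -, t1, t2, -, α, hα, e, -⟩ := hτ q q ⟨q - 1, by rw [hq']; ring⟩
  have hP : Nat.card ↥(E ⊔ zpowers a) = p ^ 4 := by rw [card_sup_zpowers_of_normalizer ha haE hap, hc, ← pow_succ']
  obtain ⟨β, hβ, e'⟩ : ∃ β ∈ F.autGroup ⊤, ∀ x ∈ E ⊔ zpowers a, autFun β x = autFun α x := by
    by_contra! k
    have h1 := (h.four (isEssential_of_not_extend h.top h.sat le_top (by rw [relIndex_top_right, h.index_eq hP]) hα
      fun β hβ k' => by obtain ⟨x, hx, k⟩ := k β hβ; exact k (k' x hx)) hP).2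
    have h2 := card_le_of_le (show zen (E ⊔ zpowers a) ≤ frat E from fun x hx => by
      have k : x ∈ centralizer (E : Set G) := fun y hy => hx.2 y (mem_sup_left hy)
      exact hZ ▸ ⟨hC k, k⟩)
    have := hp.out.one_lt
    rw [h1, hΦ] at h2
    nlinarith
  obtain ⟨σ, hσ, es⟩ := exists_hom_of_mor_top (mor_autFun le_rfl hβ)
  rw [← e _ hz, ← e' _ (mem_sup_left hz), ← es, ← zpow_natCast] at t1
  rw [← e _ hz', ← e' _ (mem_sup_left hz'), ← es, ← zpow_natCast] at t2
  have hΦ1 : frat E ≤ twoStep G 1 := h3 ▸ (lcs_anti (by norm_num)).trans (lcs_one_le_twoStep 1)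
  have hw : PowOn σ ⊤ (twoStep G 1) q := by
    by_cases k : z ∈ twoStep G 1
    · refine powOn_top hm hσ (fun k' => ?_) (hΦ1 t2)
      have h2 := card_le_of_le (show γ[G, 2] ≤ frat E from fun x hx => by
        have k : x ∈ centralizer (E : Set G) := fun y hy => by
          obtain ⟨i, j, hij⟩ := hgen y hy
          refine (comm_twoStep hm hx ?_).symm
          simpa [mul_assoc] using mul_mem (mul_mem (zpow_mem k i) (zpow_mem k' j)) (hΦ1 hij)
        exact hZ ▸ ⟨hC k, k⟩)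
      have := hp.out.one_lt
      rw [hm.card_lcs (by norm_num), hΦ] at h2
      norm_num at h2
      nlinarith
    · exact powOn_top hm hσ k (hΦ1 t1)
  have hzz := commutator_le_frat hE' (commutator_mem_commutator hz hz')
  have hne : ⁅z, z'⁆ ∉ (⊥ : Subgroup G) := fun k => by
    have k1 := comm_sup_zpowers (comm_sup_zpowers (B := frat E) (a := z)
      (fun x hx y _ => (Subgroup.mem_center_iff.1 (hcen x hx) y).symm) fun x hx => (Subgroup.mem_center_iff.1 (hcen x hx) z).symm)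
      (a := z') fun x hx => mem_centralizer_singleton_iff.1 ((sup_le (fun x hx => mem_centralizer_singleton_iff.2
        (Subgroup.mem_center_iff.1 (hcen x hx) z').symm) (zpowers_le.2 (mem_centralizer_singleton_iff.2
          (commutatorElement_eq_one_iff_mul_comm.1 k))) : frat E ⊔ zpowers z ≤ centralizer {z'}) hx)
    have k2 : E ≤ frat E ⊔ zpowers z ⊔ zpowers z' := fun y hy => by
      obtain ⟨i, j, hij⟩ := hgen y hy
      simpa [mul_assoc] using mul_mem (mul_mem (mem_sup_left (mem_sup_right (zpow_mem_zpowers z i)))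
        (mem_sup_right (zpow_mem_zpowers z' j))) (mem_sup_left (S := frat E ⊔ zpowers z) (mem_sup_left hij))
    exact hna fun x hx y hy => k1 x (k2 hx) y (k2 hy)
  have hn : (frat E).Normal := h3 ▸ inferInstance
  have hσ3 : ∀ x ∈ frat E, σ x ∈ frat E := h3 ▸ map_mem_lcs σ 3
  have hc1 : ∀ K : Subgroup G, ⁅frat E, K⁆ ≤ ⊥ := fun K => commutator_le.2 fun x hx y _ =>
    commutatorElement_eq_one_iff_mul_comm.2 (Subgroup.mem_center_iff.1 (hcen x hx) y).symm
  have k1 := (powOn_of_elem hσ3 t1 le_rfl).comm (powOn_of_elem hσ3 t2 le_rfl) (N := ⊥) le_sup_left (hc1 _)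
    ((commutator_comm _ _).le.trans (hc1 _)) (mem_sup_right (mem_zpowers z)) (mem_sup_right (mem_zpowers z'))
    (hc1 ⊤ (commutator_mem_commutator hzz (mem_top _))) (hc1 ⊤ (commutator_mem_commutator hzz (mem_top _)))
  have k2 := dvd_sub_of_pow hne (pow_eq_one_of_card hΦ hzz) k1
    ((powOn_five hm (h.not_comm_twoStep hm) hσ hw).2 _ (h3 ▸ hzz))
  have k3 : (p : ℤ) ∣ 2 := by
    have := dvd_sub k2 (Dvd.intro (-(q : ℤ) ^ 4 + q ^ 3 - q ^ 2 + 2 * q - 2) rfl)
    rwa [show (q : ℤ) * q - q ^ 5 - p * (-(q : ℤ) ^ 4 + q ^ 3 - q ^ 2 + 2 * q - 2) = 2 by rw [hq']; ring] at this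
  exact h.odd ((Nat.prime_dvd_prime_iff_eq hp.out Nat.prime_two).1 (by exact_mod_cast k3))

theorem false_of_fix (h3 : p = 3) (hfoc : ⊤ ≤ F.focalSubgroup) (hZ : Nat.card (center G) = p) {w : G}
    (hw : w ∉ commutator G) (hw' : ∀ σ : G →* G, Function.Injective σ → w⁻¹ * σ w ∈ commutator G) : False := by
  subst h3
  have key : ∀ x : (⊤ : Subgroup G), x ∈ commutator (⊤ : Subgroup G) ↔ (x : G) ∈ commutator G := fun x => by
    rw [← mem_map_iff_mem (subtype_injective _), commutator_self_eq_map]; rfl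
  obtain ⟨W, f, hf⟩ := exists_wreath_of_fix h.top h.sat hfoc (w := ⟨w, mem_top w⟩) (by rwa [key]) fun γ hγ => by
    obtain ⟨σ, hσ, e⟩ := exists_hom_of_mor_top (mor_autFun le_rfl hγ)
    have := hw' σ hσ
    rw [e, autFun_apply _ (mem_top w)] at this
    exact (key _).2 this
  exact not_surjective_sylow_perm_nine h.card hZ W (f.comp (topEquiv (G := G)).symm.toMonoidHom)
    (hf.comp (topEquiv (G := G)).symm.surjective)

theorem false_of_maxCl (h3 : p = 3) (hfoc : ⊤ ≤ F.focalSubgroup) (hm : MaxCl p 5 G) : False := by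
  obtain ⟨w, hw, hw1⟩ := exists_mem_twoStep hm (j := 1) le_rfl
  refine h.false_of_fix h3 hfoc hm.card_center hw1 fun σ hσ => ?_
  obtain ⟨a, ha⟩ := exists_powOn (map_mem_twoStep hσ 1) (fun x _ => mem_top (σ x)) le_top
    (by rw [relIndex_top_right, (index_twoStep hm le_rfl (by norm_num)).1])
  obtain ⟨s, -, hs⟩ := SetLike.exists_of_lt
    (lt_top_iff_ne_top.2 (twoStep_ne_top hm.isPGroup (j := 1) (by rw [hm.cl]; norm_num)))
  have na := not_dvd_of_pow hσ (map_mem_twoStep hσ 1) hs (lcs_one_le_twoStep 1 (hm.pow_mem_lcs_one s))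
    (ha s (mem_top s))
  have := inv_mul_mem_of_dvd ((powOn_five hm (h.not_comm_twoStep hm) hσ ha).1 w hw) (hm.pow_mem_lcs_one w)
    (b := 1) (by subst h3; exact three_dvd_sq_sub_one na)
  rwa [zpow_one] at this

/-- there are no abelian pearls -/
theorem card_ne_sq (h7 : p ≠ 7) (hfoc : ⊤ ≤ F.focalSubgroup) (hE : F.IsEssential p E) : Nat.card E ≠ p ^ 2 := by
  intro hc
  obtain ⟨hab, hel⟩ := IsEssential.elem_of_sq h.top h.sat hE hc
  have hC : centralizer (E : Set G) ≤ E := fun y k => IsCentric.centralizerIn_le hE.1 ⟨mem_top y, k⟩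
  have hm : MaxCl p 5 G := ⟨h.card, by norm_num, Cfsg.Agent.S0112.result 5 h.card E hc
    (le_antisymm hC fun x hx y hy => hab y hy x hx)⟩
  obtain ⟨a, -, ha, haE, hap⟩ := IsEssential.exists_normalizer h.top h.sat hE
  obtain ⟨z, hz, z', hz', hz1, -, az, -, az', hgen, hτ⟩ := exists_torus_sub (Q := E) h.top h.sat hE.1
    (IsEssential.isRadical h.top hE) (fun γ _ x hx _ => autFun_mem γ hx) le_rfl (fun γ _ x hx => autFun_mem γ hx) hc hel
    (fun _ _ _ k x hx _ => k x hx) (mem_top a) ha haE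
    fun x hx => E.mul_mem (E.inv_mem hx) (conj_mem_of_mem_normalizer ha hx)
  obtain ⟨l, hl⟩ : ∃ l : ℕ, p + 1 = l * 2 := ⟨(p + 1) / 2, by have := hp.out.eq_two_or_odd.resolve_left h.odd; omega⟩
  have hl' : (l : ℤ) * (2 : ℕ) - 1 = p := by have := congrArg (Nat.cast : ℕ → ℤ) hl; push_cast at this ⊢; omega
  obtain ⟨α, hα, t1, t2, -⟩ := hτ l 2 (hl' ▸ dvd_rfl)
  have hP : Nat.card ↥(E ⊔ zpowers a) = p ^ 3 := by rw [card_sup_zpowers_of_normalizer ha haE hap, hc, ← pow_succ']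
  have h1 := hp.out.one_lt
  obtain ⟨g, hg, e⟩ := exists_extend_top h.top h.sat (fun B hB g hg k => by
    have ha' : a ∈ E ⊔ zpowers a := mem_sup_right (mem_zpowers a)
    have key : g z' * g a ≠ g a * g z' := fun k => az' (by
      rw [← hg.homOn.map_mul (mem_sup_left hz') ha', ← hg.homOn.map_mul ha' (mem_sup_left hz')] at k
      rw [← hg.injOn (mul_mem (mem_sup_left hz') ha') (mul_mem ha' (mem_sup_left hz')) k, mul_inv_cancel_right])
    rcases h.card_ess hB with hB' | hB' | hB'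
    · have := hg.card_le k
      rw [hP, hB', Nat.pow_le_pow_iff_right h1] at this
      omega
    · exact key (h.comm_of_cube hB hB' _ (k _ (mem_sup_left hz')) _ (k _ ha'))
    · have k1 : zen B = img g E := eq_of_le_of_card_ge (fun x hx => IsCentric.centralizerIn_le
        (centric_of_isConj hE.1 (hg.isConj' le_sup_left)) ⟨mem_top x, fun y hy => hx.2 y
          (img_le_iff.2 (fun x hx => k x (mem_sup_left hx)) hy)⟩)
        (by rw [hg.card_img' le_sup_left, (h.four hB hB').2, hc])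
      exact key ((k1.ge (mem_img_of_mem g hz')).2 _ (k _ ha')).symm) (mor_autFun le_top hα)
  obtain ⟨σ, hσ, es⟩ := exists_hom_of_mor_top hg
  rw [← e _ (mem_sup_left hz), ← es] at t1
  rw [← e _ (mem_sup_left hz'), ← es] at t2
  have hz3 : z ∈ γ[G, 3] := by
    obtain ⟨c, hc3, hc1⟩ := (bot_or_exists_ne_one γ[G, 3]).resolve_left fun k => by
      have := hm.card_lcs (j := 3) (by norm_num)
      rw [k, card_bot] at this
      norm_num at this
      omega
    have hcZ := Subgroup.mem_center_iff.1 (hm.center_eq.ge hc3)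
    obtain ⟨i, j, rfl⟩ := hgen c (hC fun y _ => hcZ y)
    have k1 : z' ^ j ∈ centralizer {a} := by
      have k : z ∈ centralizer {a} := mem_centralizer_singleton_iff.2 (mul_inv_eq_iff_eq_mul.1 az).symm
      simpa using mul_mem (Subgroup.inv_mem _ (zpow_mem k i)) (mem_centralizer_singleton_iff.2 (hcZ a).symm)
    have k2 : z' ^ j = 1 := by
      by_cases k : (p : ℤ) ∣ j
      · obtain ⟨k, rfl⟩ := k
        rw [zpow_mul, zpow_natCast, hel _ hz', one_zpow]
      · have := mem_centralizer_singleton_iff.1 (mem_of_zpow_mem_of_not_dvd (hel _ hz' ▸ one_mem _) k1 k)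
        exact absurd (by rw [← this, mul_inv_cancel_right]) az'
    rw [k2, mul_one] at hc3 hc1
    refine mem_of_zpow_mem_of_not_dvd (hel _ hz ▸ one_mem _) hc3 ?_
    rintro ⟨k, rfl⟩
    exact hc1 (by rw [zpow_mul, zpow_natCast, hel _ hz, one_zpow])
  have hzG := (lcs_anti (by norm_num)).trans (lcs_one_le_twoStep 1) hz3
  have hz'1 : z' ∉ twoStep G 1 := fun k => by
    have k1 : γ[G, 2] = E := eq_of_le_of_card_ge (fun x hx => hC fun y hy => by
      obtain ⟨i, j, rfl⟩ := hgen y hy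
      exact (comm_twoStep hm hx (mul_mem (zpow_mem hzG i) (zpow_mem k j))).symm)
      (by rw [hm.card_lcs (by norm_num), hc])
    have k2 := card_le_of_le (show twoStep G 1 ≤ E from fun x hx => hC fun y hy => comm_twoStep hm (k1.ge hy) hx)
    have k3 := (twoStep G 1).index_mul_card
    rw [(index_twoStep hm le_rfl (by norm_num)).1, h.card, pow_succ' p 4] at k3
    rw [Nat.eq_of_mul_eq_mul_left hp.out.pos k3, hc, Nat.pow_le_pow_iff_right h1] at k2
    omega
  have k := dvd_sub_of_pow (N := ⊥) hz1 (hel z hz) (a := l) (by rw [t1, zpow_natCast, inv_mul_cancel]; exact one_mem _)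
    ((powOn_five hm (h.not_comm_twoStep hm) hσ (powOn_top hm hσ hz'1 (a := 2)
      (by rw [t2, ← zpow_natCast]; simp))).2 z hz3)
  have k1 : p ∣ 3 * 3 * 7 := by
    have := dvd_sub (hl' ▸ dvd_rfl : (p : ℤ) ∣ l * (2 : ℕ) - 1) (k.mul_right 2)
    rw [show (l : ℤ) * (2 : ℕ) - 1 - (l - 2 ^ 5) * 2 = (3 * 3 * 7 : ℕ) by push_cast; ring] at this
    exact_mod_cast this
  rcases (Nat.Prime.dvd_mul hp.out).1 k1 with k | k
  · exact h.false_of_maxCl ((Nat.prime_dvd_prime_iff_eq hp.out Nat.prime_three).1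
      (((Nat.Prime.dvd_mul hp.out).1 k).elim id id)) hfoc hm
  · exact h7 ((Nat.prime_dvd_prime_iff_eq hp.out (by norm_num)).1 k)

end OrdFive

end CL.Fus
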