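/-
Saturated fusion systems on groups of order `p ^ 5` without abelian subgroups of index `p`: essential subgroups of
order `p ^ 3`.
-/
import Cfsg.Agent.Fus.OrdFive

set_option autoImplicit false
set_option linter.unusedSectionVars false

namespace CL.Fus

open Cfsg Cfsg.FusionSystem Subgroup CL.Fgs
open scoped commutatorElement

local notation "γ[" G ", " j "]" => Subgroup.lowerCentralSeries (⊤ : Subgroup G) j

theorem relIndex_eq_of_card {Ω : Type*} [Group Ω] {K L : Subgroup Ω} {p n : ℕ} (hp : 0 < p) (h : K ≤ L)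
    (hK : Nat.card K = p ^ n) (hL : Nat.card L = p ^ (n + 1)) : K.relIndex L = p := by
  have := CL.Grp.card_eq_relIndex_mul_card h
  rw [hK, hL, pow_succ'] at this
  exact (Nat.eq_of_mul_eq_mul_right (pow_pos hp n) this).symm

theorem frat_le_of_relIndex {Ω : Type*} [Group Ω] {K L : Subgroup Ω} (h : (K.relIndex L).Prime) : frat L ≤ K := by
  rintro _ ⟨y, hy, rfl⟩
  exact frattini_le_coatom (CL.Grp.isCoatom_of_index_prime h) hy

theorem eq_sup_zpowers_of_relIndex {Ω : Type*} [Group Ω] {K L : Subgroup Ω} (hKL : K ≤ L) (h : (K.relIndex L).Prime)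
    {x : Ω} (hx : x ∈ L) (hxK : x ∉ K) : K ⊔ zpowers x = L :=
  (CL.Grp.eq_or_eq_of_relIndex_prime le_sup_left (sup_le hKL (zpowers_le.2 hx)) h).resolve_left fun e =>
    hxK (e.le (mem_sup_right (mem_zpowers x)))

variable {G : Type*} [Group G] [Finite G] {p : ℕ} [hp : Fact p.Prime] {F : FusionSystem (⊤ : Subgroup G)}
  {B E N H A : Subgroup G}

/-- the subgroups attached to a non-normal elementary abelian self-centralizing subgroup of order `p ^ 3` -/
structure CubeData (p : ℕ) (E N H A : Subgroup G) : Prop where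
  cG : Nat.card G = p ^ 5
  cE : Nat.card E = p ^ 3
  cN : Nat.card N = p ^ 4
  cH : Nat.card H = p ^ 2
  cA : Nat.card A = p ^ 3
  norm : N = normalizerIn ⊤ E
  zen : H = zen N
  nN : N.Normal
  nH : H.Normal
  nA : A.Normal
  HE : H ≤ E
  EN : E ≤ N
  HA : H ≤ A
  AN : A ≤ N
  AH : ⁅A, (⊤ : Subgroup G)⁆ ≤ H
  GA : commutator G ≤ A
  ab : ∀ x ∈ E, ∀ y ∈ E, x * y = y * x
  el : ∀ x ∈ E, x ^ p = 1

namespace CubeData

variable (d : CubeData p E N H A)
include d

theorem iHE : H.relIndex E = p := relIndex_eq_of_card hp.out.pos d.HE d.cH d.cE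
theorem iHA : H.relIndex A = p := relIndex_eq_of_card hp.out.pos d.HA d.cH d.cA
theorem iEN : E.relIndex N = p := relIndex_eq_of_card hp.out.pos d.EN d.cE d.cN
theorem iAN : A.relIndex N = p := relIndex_eq_of_card hp.out.pos d.AN d.cA d.cN
theorem iN : N.relIndex ⊤ = p := relIndex_eq_of_card hp.out.pos le_top d.cN (card_top.trans d.cG)

theorem cen {x y : G} (hx : x ∈ H) (hy : y ∈ N) : y * x = x * y := (d.zen.le hx).2 y hy

theorem comm_mem {a : G} (ha : a ∈ A) (g : G) : ⁅g, a⁆ ∈ H := by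
  rw [← commutatorElement_inv]
  exact H.inv_mem (d.AH (commutator_mem_commutator ha (mem_top g)))

theorem conj_notMem {s e : G} (hs : s ∉ N) (he : e ∈ E) (heH : e ∉ H) : s * e * s⁻¹ ∉ E := fun k =>
  hs (d.norm.ge ⟨mem_top s, mem_normalizer_of_finite fun x hx => by
    have := d.nH
    obtain ⟨m, hm⟩ := (mem_sup_zpowers_iff (le_normalizer_of_normal (mem_top e))).1
      ((eq_sup_zpowers_of_relIndex d.HE (d.iHE ▸ hp.out) he heH).ge hx)
    rw [← mul_inv_cancel_left (e ^ m) x, ← conj_mul, ← conj_zpow]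
    exact mul_mem (zpow_mem k m) (d.HE (d.nH.conj_mem _ hm s))⟩)

theorem exists_notMem : ∃ s, s ∉ N := by
  by_contra! k
  exact hp.out.ne_one (d.iN.symm.trans (relIndex_eq_one.2 fun x _ => k x))

theorem mem_H {a : G} (ha : a ∈ A) (haE : a ∈ E) : a ∈ H := by
  by_contra k
  obtain ⟨s, hs⟩ := d.exists_notMem
  refine d.conj_notMem hs haE k ?_
  simpa [commutatorElement_def] using mul_mem (d.HE (d.comm_mem ha s)) haE

theorem comm_notMem {s e : G} (hs : s ∉ N) (he : e ∈ E) (heH : e ∉ H) : ⁅s, e⁆ ∉ H := fun k =>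
  d.conj_notMem hs he heH (by simpa [commutatorElement_def] using mul_mem (d.HE k) he)

theorem frat_le : frat N ≤ H := fun _ hx =>
  d.mem_H (frat_le_of_relIndex (d.iAN ▸ hp.out) hx) (frat_le_of_relIndex (d.iEN ▸ hp.out) hx)

theorem sup_A {a : G} (ha : a ∈ A) (haH : a ∉ H) : H ⊔ zpowers a = A :=
  eq_sup_zpowers_of_relIndex d.HA (d.iHA ▸ hp.out) ha haH

theorem exists_A : ∃ a ∈ A, a ∉ H := by
  by_contra! k
  exact hp.out.ne_one (d.iHA.symm.trans (relIndex_eq_one.2 k))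

theorem exists_E : ∃ a ∈ E, a ∉ H := by
  by_contra! k
  exact hp.out.ne_one (d.iHE.symm.trans (relIndex_eq_one.2 k))

theorem abA : ∀ x ∈ A, ∀ y ∈ A, x * y = y * x := by
  obtain ⟨a, ha, haH⟩ := d.exists_A
  rw [← d.sup_A ha haH]
  exact comm_sup_zpowers (fun x hx y hy => d.cen hy (d.AN (d.HA hx))) fun x hx => (d.cen hx (d.AN ha)).symm

theorem map_A {σ : G →* G} (hH : ∀ x ∈ H, σ x ∈ H) : ∀ x ∈ A, σ x ∈ A := by
  obtain ⟨s, hs⟩ := d.exists_notMem
  obtain ⟨e, he, heH⟩ := d.exists_E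
  have h1 : A ≤ A.comap σ := (d.sup_A (d.GA (CL.Grp.comm_mem_commutator s e)) (d.comm_notMem hs he heH)).ge.trans
    (sup_le (fun x hx => d.HA (hH x hx)) (zpowers_le.2 (by
      rw [mem_comap, map_commutatorElement]; exact d.GA (CL.Grp.comm_mem_commutator _ _))))
  exact h1

/-- every element of `N` outside `A` is conjugate into `E` -/
theorem exists_conj_mem {b : G} (hb : b ∈ N) (hbA : b ∉ A) : ∃ t : G, t⁻¹ * b * t ∈ E := by
  have := d.nH
  have := d.nA
  obtain ⟨s, hs⟩ := d.exists_notMem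
  obtain ⟨e, he, heH⟩ := d.exists_E
  obtain ⟨i, hi⟩ := (mem_sup_zpowers_iff (le_normalizer_of_normal (mem_top e))).1
    ((eq_sup_zpowers_of_relIndex d.AN (d.iAN ▸ hp.out) (d.EN he) fun k => heH (d.mem_H k he)).ge hb)
  have he' := zpow_mem he i
  have heH' : e ^ i ∉ H := fun k => hbA (by simpa using mul_mem (d.HA k) hi)
  set c := e ^ i
  have hu : c⁻¹ * (s * c * s⁻¹) ∈ A := by
    simpa [commutatorElement_def, mul_assoc] using d.GA (CL.Grp.comm_mem_commutator c⁻¹ s)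
  have huH : c⁻¹ * (s * c * s⁻¹) ∉ H := fun k => d.conj_notMem hs he' heH' (by simpa using mul_mem he' (d.HE k))
  obtain ⟨m, hm⟩ := (mem_sup_zpowers_iff (le_normalizer_of_normal (mem_top _))).1 ((d.sup_A hu huH).ge hi)
  set u := c⁻¹ * (s * c * s⁻¹) with hu'
  have k1 : (s : G ⧸ H) * c * (s : G ⧸ H)⁻¹ = c * u := by
    rw [← QuotientGroup.mk_mul, hu', ← QuotientGroup.mk_mul, mul_inv_cancel_left]; rfl
  have k2 : (s : G ⧸ H) * u * (s : G ⧸ H)⁻¹ = u := by
    rw [(commute_mk_of_mem (d.comm_mem hu s)).eq, mul_inv_cancel_right]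
  have k3 := conj_zpow_eq_mul_zpow k1 k2 m
  rw [← inv_mul_mem_iff_mk.1 hm, QuotientGroup.mk_mul, QuotientGroup.mk_inv, mul_inv_cancel_left] at k3
  refine ⟨s ^ m, ?_⟩
  have k4 : c⁻¹ * ((s ^ m)⁻¹ * b * s ^ m) ∈ H := by
    rw [← QuotientGroup.eq]
    simp only [QuotientGroup.mk_mul, QuotientGroup.mk_inv, QuotientGroup.mk_zpow, ← k3]
    group
  simpa using mul_mem he' (d.HE k4)

theorem comm_mem_H {x y : G} (hx : x ∈ N) (hy : y ∈ N) : ⁅x, y⁆ ∈ H :=
  d.frat_le (commutator_le_frat ((IsPGroup.of_card d.cG).to_subgroup N) (commutator_mem_commutator hx hy))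

theorem homOn_comm {y : G} (hy : y ∈ N) : HomOn N fun x => ⁅x, y⁆ := fun x hx x' hx' => by
  beta_reduce
  rw [commutatorElement_mul_left_eq_conj_mul, d.cen (d.comm_mem_H hx' hy) hx, mul_inv_cancel_right,
    d.cen (d.comm_mem_H hx hy) (d.AN (d.HA (d.comm_mem_H hx' hy)))]

theorem comm_le {a : G} (ha : a ∈ A) (haH : a ∉ H) {K : Subgroup G} (h : ∀ x ∈ E, ⁅x, a⁆ ∈ K) : ⁅N, N⁆ ≤ K := by
  have e := eq_sup_zpowers_of_relIndex d.EN (d.iEN ▸ hp.out) (d.AN ha) fun k => haH (d.mem_H ha k)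
  have inv : ∀ {x y : G}, ⁅x, y⁆ ∈ K → ⁅y, x⁆ ∈ K := fun k => by rw [← commutatorElement_inv]; exact K.inv_mem k
  have key : ∀ y ∈ N, (∀ x ∈ E, ⁅x, y⁆ ∈ K) → ⁅a, y⁆ ∈ K → ∀ x ∈ N, ⁅x, y⁆ ∈ K := fun y hy h1 h2 =>
    img_le_iff.1 (by
      rw [← e, ((d.homOn_comm hy).mono e.le).img_sup, (d.homOn_comm hy).img_zpowers (d.AN ha)]
      exact sup_le (img_le_iff.2 h1) (zpowers_le.2 h2))
  refine commutator_le.2 fun x hx y hy => key y hy (fun x hx => inv (key x (d.EN hx) (fun y hy => ?_)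
    (inv (h x hx)) y hy)) (inv (key a (d.AN ha) h (by simp) y hy)) x hx
  rw [commutatorElement_eq_one_iff_mul_comm.2 (d.ab y hy x hx)]
  exact one_mem _

end CubeData

namespace OrdFive

variable (h : OrdFive p F)
include h

theorem exists_cubeData (hE : F.IsEssential p E) (hc : Nat.card E = p ^ 3) : ∃ N H A, CubeData p E N H A := by
  have hab := h.comm_of_cube hE hc
  have hel := IsEssential.elem_of_cube h.top h.sat hE hc hab
  have hi := IsEssential.relIndex_of_cube h.top h.sat hE hc hab hel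
  have hEN := le_normalizerIn (le_top : E ≤ ⊤)
  have hC : centralizer (E : Set G) ≤ E := fun y k => IsCentric.centralizerIn_le hE.1 ⟨mem_top y, k⟩
  set N := normalizerIn ⊤ E with hN
  have cN : Nat.card N = p ^ 4 := by rw [CL.Grp.card_eq_relIndex_mul_card hEN, hi, hc, ← pow_succ']
  have nN := CL.Grp.normal_of_index_eq_pGroup h.pg (h.index_eq cN)
  have h1 := hp.out.one_lt
  obtain ⟨s, hs⟩ : ∃ s, s ∉ N := by
    by_contra! k
    exact hp.out.ne_one ((h.index_eq cN).symm.trans (index_eq_one.2 (eq_top_iff.2 fun x _ => k x)))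
  have hHE : zen N ≤ E := fun x hx => hC fun y hy => hx.2 y (hEN hy)
  have cH : Nat.card (zen N) = p ^ 2 := by
    have k1 := mul_card_le_of_lt (h.pg.to_subgroup E) (lt_of_le_of_ne hHE fun e =>
      hp.out.ne_one (hi.symm.trans (relIndex_eq_one.2 fun x hx => hC fun y hy => ((e.ge hy).2 x hx).symm)))
    set E' := E.map (MulAut.conj s).toMonoidHom
    have hE' : E' ≤ N := by rintro _ ⟨x, hx, rfl⟩; exact nN.conj_mem x (hEN hx) s
    have k2 : E ⊔ E' = N := (CL.Grp.eq_or_eq_of_relIndex_prime le_sup_left (sup_le hEN hE') (hi ▸ hp.out)).resolve_left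
      fun e => hs ⟨mem_top s, mem_normalizer_of_finite fun x hx => e.le (mem_sup_right (mem_map_of_mem _ hx))⟩
    have k3 := card_le_of_le (show E ⊓ E' ≤ zen N from fun x hx => ⟨hEN hx.1, fun y hy =>
      (mem_centralizer_singleton_iff.1 ((sup_le (fun y hy => mem_centralizer_singleton_iff.2 (hab y hy x hx.1)) (by
        rintro _ ⟨y, hy, rfl⟩
        obtain ⟨x', hx', rfl⟩ := hx.2
        rw [mem_centralizer_singleton_iff, ← map_mul, hab y hy x' hx', map_mul]) : E ⊔ E' ≤ centralizer {x}) (k2.ge hy)))⟩)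
    have k4 := CL.Grp.card_eq_relIndex_mul_card (inf_le_right : E ⊓ E' ≤ E')
    have k5 := relIndex_le_of_le_right (H := E) hE' (hi ▸ hp.out.ne_zero)
    rw [inf_relIndex_right, card_map_of_injective (MulAut.conj s).injective, hc, pow_succ' p 2] at k4
    rw [hc, pow_succ' p 2] at k1
    rw [hi] at k5
    exact le_antisymm (Nat.le_of_mul_le_mul_left k1 hp.out.pos) (Nat.le_of_mul_le_mul_left
      (k4.le.trans (Nat.mul_le_mul k5 k3)) hp.out.pos)
  obtain ⟨A, nA, hHA, hAN, cA, -, hAH⟩ := CL.Grp.exists_normal_card_eq_mul h.pg (N := zen N) (M := N)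
    (lt_of_le_of_ne inf_le_left fun e => by
      rw [e, cN] at cH
      exact absurd (Nat.pow_right_injective hp.out.two_le cH) (by norm_num))
  rw [cH, ← pow_succ'] at cA
  refine ⟨N, zen N, A, h.card, hc, cN, cH, cA, rfl, rfl, nN, inferInstance, nA, hHE, hEN, hHA, hAN, hAH,
    Normal.quotient_commutative_iff_commutator_le.1 (CL.Grp.isMulCommutative_of_card_dvd_prime_sq (p := p) ?_),
    hab, hel⟩
  have := A.index_mul_card
  rw [cA, h.card] at this
  exact dvd_of_eq (Nat.eq_of_mul_eq_mul_right (pow_pos hp.out.pos _) (this.trans (pow_add p 2 3)))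

theorem not_ess (hE : F.IsEssential p E) (d : CubeData p E N H A) : ¬ F.IsEssential p N := fun hN => by
  have hH : AInv F N H := d.zen ▸ aInv_zen
  by_cases hA : ∀ γ ∈ F.autGroup N, ∀ x ∈ A, autFun γ x ∈ A
  · refine IsEssential.false_of_chain h.top h.sat hN (aInv_self.frat h.top le_top) hH ⟨d.AN, hA⟩ le_rfl d.frat_le d.HA
      ?_ ?_ ?_
    · rw [d.cH, (h.four hN d.cN).1, sq]
    · rw [d.cA, d.cH, pow_succ']
    · rw [d.cA, d.cN, pow_succ']
  push Not at hA
  obtain ⟨γ, hγ, x, hx, hxA⟩ := hA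
  obtain ⟨t, ht⟩ := d.exists_conj_mem (autFun_mem γ (d.AN hx)) hxA
  have hγ' := mor_autFun le_top hγ
  have hf := (hγ'.comp (mor_conj F le_rfl (mem_top t⁻¹)) fun _ _ => mem_top _).mono d.AN
  have hxH : x ∉ H := fun k => hxA (d.HA (hH.2 γ hγ x k))
  have := d.nH
  have k1 : img (fun x => t⁻¹ * autFun γ x * t⁻¹⁻¹) A = E := hf.img_eq_of_card_le (fun y hy => by
    obtain ⟨m, hm⟩ := (mem_sup_zpowers_iff (le_normalizer_of_normal (mem_top x))).1 ((d.sup_A hx hxH).ge hy)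
    have e := hf.homOn.map_mul (zpow_mem hx m) (d.HA hm)
    rw [mul_inv_cancel_left, hf.homOn.map_zpow hx] at e
    rw [e]
    exact mul_mem (zpow_mem (by rwa [inv_inv]) m) (d.HE (d.nH.conj_mem _ (hH.2 γ hγ _ hm) _)))
    (d.cE.trans d.cA.symm).le
  have k2 := hE.2.1.2 A (isConj_symm (k1 ▸ hf.isConj))
  have := d.nA
  rw [← d.norm, d.cN, normalizerIn, normalizer_eq_top, inf_idem, card_top, h.card,
    Nat.pow_le_pow_iff_right hp.out.one_lt] at k2
  omega

theorem exists_torus (hE : F.IsEssential p E) (d : CubeData p E N H A) : Nat.card ↥⁅N, N⁆ = p ∧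
    ∀ l m : ℕ, (p : ℤ) ∣ l * m - 1 → ∃ σ : G →* G, Function.Injective σ ∧ PowOn σ ⁅N, N⁆ ⊥ l ∧ PowOn σ H ⁅N, N⁆ 1 ∧
      PowOn σ A H (l ^ 2) ∧ PowOn σ ⊤ N (l ^ 3) := by
  have := d.nH
  have := d.nN
  have hax : AxisEss F p E H := ⟨hE, d.ab, d.HE, d.iHE, fun a ha ha' y hy => by
    rw [d.cen hy (d.norm.ge ⟨ha, ha'⟩), mul_inv_cancel_right], fun a ha ha' y hy => by
      simpa [commutatorElement_def, mul_assoc] using d.comm_mem_H (N.inv_mem (d.EN hy)) (d.norm.ge ⟨ha, ha'⟩)⟩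
  obtain ⟨z₀, hz₀, w, hw, hz₀1, hz₀p, hwH, hwp, -, -, hdec, -, hinv, -⟩ := hax.exists_decomp h.top h.sat
  obtain ⟨a, ha, haH⟩ := d.exists_A
  have haE : a ∉ E := fun k => haH (d.mem_H ha k)
  have haN := (d.norm.le (d.AN ha)).2
  set V := zpowers z₀ ⊔ zpowers w
  have hVE : V ≤ E := sup_le (zpowers_le.2 (d.HE hz₀)) (zpowers_le.2 hw)
  have k0 : ∀ x ∈ E, ∃ v ∈ V, ⁅x, a⁆ = v⁻¹ * (a * v * a⁻¹) := fun x hx => by
    obtain ⟨i, j, c, hc, rfl⟩ := hdec x hx
    have hf := d.homOn_comm (d.AN ha)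
    have k : ∀ y ∈ H, ⁅y, a⁆ = 1 := fun y hy => commutatorElement_eq_one_iff_mul_comm.2 (d.cen hy (d.AN ha)).symm
    have e1 := hf.map_mul (d.EN (mul_mem (zpow_mem (d.HE hz₀) i) (zpow_mem hw j))) (d.EN hc.1)
    have e2 := hf.map_mul (d.EN (zpow_mem (d.HE hz₀) i)) (d.EN (zpow_mem hw j))
    refine ⟨_, V.inv_mem (zpow_mem (mem_sup_right (mem_zpowers w)) j), ?_⟩
    beta_reduce at e1 e2
    rw [e1, e2, k _ (zpow_mem hz₀ i), k _ (invCore_le hc), one_mul, mul_one, commutatorElement_def]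
    group
  obtain ⟨z, hz, z', hz', hz1, -, az, haV, az', hgen, hτ⟩ := exists_torus_sub (Q := V) h.top h.sat hE.1
    (IsEssential.isRadical h.top hE) (fun γ hγ x _ hx => hinv γ hγ x hx) hVE hinv (by
      rw [card_sup_zpowers_of_normalizer (centralizer_le_normalizer _ fun y hy => d.ab _ (zpowers_le.2 (d.HE hz₀) hy) _ hw)
        (fun k => hwH (zpowers_le.2 hz₀ k)) (hwp ▸ one_mem _), Nat.card_zpowers, orderOf_eq_prime hz₀p hz₀1, sq])
    (fun v hv => d.el v (hVE hv)) (fun _ _ _ k x _ hx => k x hx) (mem_top a) haN haE fun x hx => by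
      obtain ⟨v, hv, e⟩ := k0 _ (E.inv_mem hx)
      rw [show x⁻¹ * (a * x * a⁻¹) = ⁅x⁻¹, a⁆ by simp [commutatorElement_def, mul_assoc], e,
        ← autFun_conjAut haN (hVE hv)]
      exact mul_mem (V.inv_mem hv) (hinv _ (conjAut_mem_autGroup F le_top haN (mem_top a)) v hv)
  have hzH := hax.mem_of_fix (mem_top a) haN haE (hVE hz) az
  have hz'H : z' ∉ H := fun k => az' (by rw [d.cen k (d.AN ha), mul_inv_cancel_right])
  have cz : Nat.card (zpowers z) = p := by rw [Nat.card_zpowers, orderOf_eq_prime (d.el z (hVE hz)) hz1]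
  have hZ : ⁅N, N⁆ = zpowers z := le_antisymm (d.comm_le ha haH fun x hx => by
    obtain ⟨v, hv, e⟩ := k0 x hx
    exact e ▸ haV v hv) (zpowers_le.2 (by
      obtain ⟨m, hm⟩ := exists_eq_zpow_of_card_prime cz (haV z' hz') (fun k => az' (inv_mul_eq_one.1 k).symm)
        (mem_zpowers z)
      refine hm ▸ zpow_mem ?_ m
      simpa [commutatorElement_def, mul_assoc] using
        commutator_mem_commutator (N.inv_mem (d.EN (hVE hz'))) (d.AN ha)))
  refine ⟨hZ ▸ cz, fun l m hlm => ?_⟩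
  obtain ⟨α, hα, t1, t2, -, t3, t4⟩ := hτ l m hlm
  have e := eq_sup_zpowers_of_relIndex d.EN (d.iEN ▸ hp.out) (d.AN ha) haE
  obtain ⟨β, hβ, e'⟩ : ∃ β ∈ F.autGroup ⊤, ∀ x ∈ E ⊔ zpowers a, autFun β x = autFun α x := by
    by_contra! k
    exact h.not_ess hE d (e ▸ isEssential_of_not_extend h.top h.sat le_top (e ▸ d.iN) hα
      fun β hβ k' => by obtain ⟨x, hx, k⟩ := k β hβ; exact k (k' x hx))
  obtain ⟨σ, hσ, es⟩ := exists_hom_of_mor_top (mor_autFun le_rfl hβ)
  have es' : ∀ x ∈ N, autFun α x = σ x := fun x hx => by rw [es, e' x (e.ge hx)]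
  have hN : ∀ x ∈ N, σ x ∈ N := fun x hx => es' x hx ▸ e.le (autFun_mem α (e.ge hx))
  have hH : ∀ x ∈ H, σ x ∈ H := fun x hx => by
    have := autFun_mem_zen α (y := x) (by rw [e, ← d.zen]; exact hx)
    rwa [es' x (d.EN (d.HE hx)), e, ← d.zen] at this
  rw [es' _ (d.EN (hVE hz))] at t1
  rw [es' _ (d.EN (hVE hz'))] at t2
  rw [es' _ (d.AN ha), ← zpow_natCast] at t4
  have wA : PowOn σ A H (l ^ 2) := powOn_of_elem hH (d.mem_H (mul_mem (A.inv_mem (zpow_mem ha _)) (d.map_A hH a ha))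
    (by rwa [sq, ← Nat.cast_mul])) (d.sup_A ha haH).ge
  have wE : PowOn σ E H m := powOn_of_elem hH (x := z') (by rw [t2, zpow_natCast, inv_mul_cancel]; exact one_mem _)
    (eq_sup_zpowers_of_relIndex d.HE (d.iHE ▸ hp.out) (hVE hz') hz'H).ge
  refine ⟨σ, hσ, powOn_of_elem (x := z) (fun x hx => by rw [mem_bot.1 hx, map_one]; exact one_mem _)
    (by rw [t1, zpow_natCast, inv_mul_cancel]; exact one_mem _) (hZ.le.trans le_sup_right), fun x hx => ?_, wA, ?_⟩
  · have k1 := t3 x (d.HE hx)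
    rw [es' x (d.EN (d.HE hx))] at k1
    have k2 := mul_mem (H.inv_mem hx) (hH x hx)
    rw [zpow_one, hZ]
    obtain ⟨i, j, k3⟩ := hgen _ k1
    rw [k3] at k2 ⊢
    by_cases k : (p : ℤ) ∣ j
    · obtain ⟨k, rfl⟩ := k
      rw [zpow_mul, zpow_natCast, d.el _ (hVE hz'), one_zpow, mul_one]
      exact zpow_mem_zpowers z i
    · exact absurd (mem_of_zpow_mem_of_not_dvd (d.el _ (hVE hz') ▸ one_mem _)
        ((mul_mem_cancel_left (zpow_mem hzH i)).1 k2) k) hz'H
  · obtain ⟨μ, hμ⟩ := exists_powOn hN (fun x _ => mem_top (σ x)) le_top d.iN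
    obtain ⟨s, hs⟩ := d.exists_notMem
    have hx := d.GA (CL.Grp.comm_mem_commutator s z')
    have k1 := dvd_sub_of_pow (d.comm_notMem hs (hVE hz') hz'H)
      (d.iHA ▸ pow_mem_of_relIndex d.HA le_normalizer_of_normal hx)
      (hμ.comm wE d.HE (commutator_le.2 fun x hx y hy => d.comm_mem_H hx (d.EN hy)) (commutator_le_right _ _)
        (mem_top s) (hVE hz') (d.AH (commutator_mem_commutator hx (mem_top _)))
        (d.AH (commutator_mem_commutator hx (mem_top _)))) (wA _ hx)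
    refine fun x hx => inv_mul_mem_of_dvd (hμ x hx) (d.iN ▸ pow_mem_of_relIndex le_top le_normalizer_of_normal hx) ?_
    have k2 := dvd_sub (k1.mul_left l) (hlm.mul_left μ)
    rwa [show (l : ℤ) * (μ * m - l ^ 2) - μ * (l * m - 1) = μ - l ^ 3 by ring] at k2

end OrdFive

end CL.Fus
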