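/-
Saturated fusion systems on groups of order `p ^ 5` without abelian subgroups of index `p`: conclusion.
-/
import Cfsg.Agent.Fus.OrdFive2
import Cfsg.Agent.Fus.NormalCrit

set_option autoImplicit false
set_option linter.unusedSectionVars false

namespace CL.Fus

open Cfsg Cfsg.FusionSystem Subgroup CL.Fgs
open scoped commutatorElement

local notation "γ[" G ", " j "]" => Subgroup.lowerCentralSeries (⊤ : Subgroup G) j

theorem commutator_zpowers_left_le {G : Type*} [Group G] {D K : Subgroup G} [D.Normal] {x : G}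
    (h : ∀ y ∈ K, ⁅x, y⁆ ∈ D) : ⁅zpowers x, K⁆ ≤ D := commutator_le.2 (by
  rintro _ ⟨i, rfl⟩ y hy
  exact (QuotientGroup.eq_one_iff _).1 ((commute_mk_of_mem (h y hy)).zpow_left i).commutator_eq)

theorem commutator_zpowers_le {G : Type*} [Group G] {D : Subgroup G} [D.Normal] {x y : G} (h : ⁅x, y⁆ ∈ D) :
    ⁅zpowers x, zpowers y⁆ ≤ D := commutator_le.2 (by
  rintro _ ⟨i, rfl⟩ _ ⟨j, rfl⟩
  exact (QuotientGroup.eq_one_iff _).1 ((commute_mk_of_mem h).zpow_zpow i j).commutator_eq)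

theorem commutator_sup_zpowers_le {G : Type*} [Group G] {D Y : Subgroup G} [D.Normal] {g : G} (h₁ : ⁅Y, Y⁆ ≤ D)
    (h₂ : ⁅zpowers g, Y⁆ ≤ D) : ⁅Y ⊔ zpowers g, Y ⊔ zpowers g⁆ ≤ D :=
  CL.Grp.commutator_sup_left_le (CL.Grp.commutator_sup_right_le h₁ ((commutator_comm _ _).le.trans h₂))
    (CL.Grp.commutator_sup_right_le h₂ (commutator_zpowers_le (by simp)))

variable {G : Type*} [Group G] [Finite G] {p : ℕ} [hp : Fact p.Prime] {F : FusionSystem (⊤ : Subgroup G)}
  {B E N H A : Subgroup G}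

namespace OrdFive

variable (h : OrdFive p F)
include h

/-- the case of nilpotency class three -/
theorem exists_fix (h3 : p = 3) (hZ : Nat.card (center G) = p) (cA : Nat.card A = p ^ 3)
    (ab : ∀ x ∈ A, ∀ y ∈ A, x * y = y * x) (hA : ⁅A, (⊤ : Subgroup G)⁆ ≤ center G) (hD : commutator G ≤ A) {x : G}
    (hx : x ∉ center G) (hxp : x ^ p ∈ center G) (hDx : center G ⊔ zpowers x = commutator G) :
    ∃ w ∉ commutator G, ∀ σ : G →* G, Function.Injective σ → w⁻¹ * σ w ∈ commutator G := by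
  have h1 := hp.out.one_lt
  have hZD : center G ≤ commutator G := hDx ▸ le_sup_left
  have hxD : x ∈ commutator G := hDx ▸ mem_sup_right (mem_zpowers x)
  have cD : Nat.card (commutator G) = p ^ 2 := by
    rw [← hDx, CL.Grp.card_sup_zpowers_eq_prime_mul _ hx hxp, hZ, sq]
  have nA : A.Normal := CL.Grp.normal_of_commutator_mem fun x _ g => hD (CL.Grp.comm_mem_commutator x g)
  have hA' : ∀ a ∈ A, ∀ g, ⁅g, a⁆ ∈ center G := fun a ha g => by
    rw [← commutatorElement_inv]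
    exact Subgroup.inv_mem _ (hA (commutator_mem_commutator ha (mem_top g)))
  have K2 : ∀ (Y : Subgroup G) g, Y ⊔ zpowers g = ⊤ → ⁅Y, Y⁆ ≤ center G → ⁅zpowers g, Y⁆ ≤ center G → False :=
    fun Y g e k1 k2 => hx ((e ▸ commutator_sup_zpowers_le k1 k2 :) hxD)
  have card4 : ∀ Y, A < Y → Y ≠ ⊤ → Nat.card Y = p ^ 4 := fun Y k1 k2 => by
    have k3 := mul_card_le_of_lt (h.pg.to_subgroup _) k1
    have k4 := mul_card_le_of_lt h.top (lt_top_iff_ne_top.2 k2)
    rw [cA, ← pow_succ'] at k3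
    rw [card_top, h.card, pow_succ' p 4] at k4
    exact le_antisymm (Nat.le_of_mul_le_mul_left k4 hp.out.pos) k3
  have top4 : ∀ Y : Subgroup G, Nat.card Y = p ^ 4 → ∀ g ∉ Y, Y ⊔ zpowers g = ⊤ := fun Y k g hg =>
    eq_sup_zpowers_of_relIndex le_top (by rw [relIndex_top_right, h.index_eq k]; exact hp.out) (mem_top g) hg
  have memA : ∀ t, (∀ y, ⁅y, t⁆ ∈ center G) → t ∈ A := fun t ht => by
    by_contra k
    have k1 : ⁅A ⊔ zpowers t, (⊤ : Subgroup G)⁆ ≤ center G := CL.Grp.commutator_sup_left_le hA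
      (commutator_zpowers_left_le fun y _ => by rw [← commutatorElement_inv]; exact Subgroup.inv_mem _ (ht y))
    by_cases e : A ⊔ zpowers t = ⊤
    · exact hx ((e ▸ k1 :) hxD)
    · obtain ⟨g, -, hg⟩ := SetLike.exists_of_lt (lt_top_iff_ne_top.2 e)
      exact K2 _ g (top4 _ (card4 _ (lt_of_le_of_ne le_sup_left fun e => k (e.ge (mem_sup_right (mem_zpowers t)))) e)
        g hg) ((commutator_mono le_rfl le_top).trans k1)
        ((commutator_comm _ _).le.trans ((commutator_mono le_rfl le_top).trans k1))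
  set C := centralizer (commutator G : Set G)
  have hAC : A ≤ C := fun a ha y hy => ab y (hD hy) a ha
  have hCD : ⁅C, commutator G⁆ ≤ ⊥ := (commutator_eq_bot_iff_le_centralizer.2 le_rfl).le
  have hCt : C ≠ ⊤ := fun e => hx (Subgroup.mem_center_iff.2 fun g => (e.ge (mem_top g) x hxD).symm)
  have cC : Nat.card C = p ^ 4 := card4 _ (lt_of_le_of_ne hAC fun e => by
    have k1 := CL.Odd.index_centralizer_le_prime h.pg (commutator G) cD.le
    have k2 := C.index_mul_card
    rw [← e, cA, h.card, show 5 = 2 + 3 from rfl, pow_add, e] at k2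
    rw [Nat.eq_of_mul_eq_mul_right (pow_pos hp.out.pos 3) k2] at k1
    nlinarith) hCt
  have iAC := relIndex_eq_of_card hp.out.pos hAC cA cC
  have iDA := relIndex_eq_of_card hp.out.pos hD cD cA
  have iZD := relIndex_eq_of_card hp.out.pos hZD (hZ.trans (pow_one p).symm) cD
  obtain ⟨g, -, hg⟩ := SetLike.exists_of_lt (lt_top_iff_ne_top.2 hCt)
  obtain ⟨y, hy, hyA⟩ := SetLike.exists_of_lt (lt_of_le_of_ne hAC fun e => h1.ne' (by rw [← iAC, e, relIndex_self]))
  obtain ⟨w, hw, hwD⟩ := SetLike.exists_of_lt (lt_of_le_of_ne hD fun e => h1.ne' (by rw [← iDA, e, relIndex_self]))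
  have eC := eq_sup_zpowers_of_relIndex hAC (iAC ▸ hp.out) hy hyA
  have hCC : ⁅C, C⁆ ≤ center G := eC ▸ commutator_sup_zpowers_le ((commutator_mono le_rfl le_top).trans hA)
    (commutator_zpowers_left_le fun a ha => hA' a ha y)
  have n1 : ⁅g, y⁆ ∉ center G := fun k => K2 C g (top4 C cC g hg) hCC (eC ▸ CL.Grp.commutator_sup_right_le
    (commutator_zpowers_left_le fun a ha => hA' a ha g) (commutator_zpowers_le k))
  have n2 : ⁅g, x⁆ ∉ (⊥ : Subgroup G) := fun k => hg fun d hd => mem_centralizer_singleton_iff.1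
    ((hDx.ge.trans (sup_le (center_le_centralizer {g}) (zpowers_le.2 (mem_centralizer_singleton_iff.2
      (commutatorElement_eq_one_iff_mul_comm.1 k).symm)))) hd)
  have n3 : ⁅y, w⁆ ∉ (⊥ : Subgroup G) := fun k => hyA (h.mem_of_comm cA ab fun d hd => mem_centralizer_singleton_iff.1
    (((eq_sup_zpowers_of_relIndex hD (iDA ▸ hp.out) hw hwD).ge.trans (sup_le
      (fun d hd => mem_centralizer_singleton_iff.2 (hy d hd)) (zpowers_le.2 (mem_centralizer_singleton_iff.2
      (commutatorElement_eq_one_iff_mul_comm.1 k).symm)))) hd))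
  have cz : ∀ z ∈ center G, ∀ t, ⁅z, t⁆ ∈ (⊥ : Subgroup G) := fun z hz t =>
    commutatorElement_eq_one_iff_mul_comm.2 (Subgroup.mem_center_iff.1 hz t).symm
  refine ⟨w, hwD, fun σ hσ => ?_⟩
  have s0 : ∀ x ∈ (⊥ : Subgroup G), σ x ∈ (⊥ : Subgroup G) := fun x hx => by rw [mem_bot.1 hx, map_one]; exact one_mem _
  have sT : ∀ x ∈ (⊤ : Subgroup G), σ x ∈ (⊤ : Subgroup G) := fun _ _ => mem_top _
  have sD : ∀ x ∈ commutator G, σ x ∈ commutator G := map_mem_lcs σ 1
  have sZ : ∀ x ∈ center G, σ x ∈ center G := fun x hx => Subgroup.mem_center_iff.2 fun t =>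
    commutatorElement_eq_one_iff_mul_comm.1 (map_mem_of_comm hσ sT s0 (fun t _ =>
      commutatorElement_eq_one_iff_mul_comm.2 (Subgroup.mem_center_iff.1 hx t)) t (mem_top t))
  have sA : ∀ x ∈ A, σ x ∈ A := fun x hx => memA _ fun t =>
    map_mem_of_comm hσ sT sZ (fun t _ => hA' x hx t) t (mem_top t)
  have sC : ∀ x ∈ C, σ x ∈ C := fun x hx t ht => commutatorElement_eq_one_iff_mul_comm.1
    (map_mem_of_comm hσ sD s0 (fun t ht => commutatorElement_eq_one_iff_mul_comm.2 (hx t ht)) t ht)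
  have iC : C.relIndex ⊤ = p := by rw [relIndex_top_right, h.index_eq cC]
  obtain ⟨ε, hε⟩ := exists_powOn sC sT le_top iC
  obtain ⟨η, hη⟩ := exists_powOn sA sC hAC iAC
  obtain ⟨ω, hω⟩ := exists_powOn sD sA hD iDA
  obtain ⟨ξ, hξ⟩ := exists_powOn sZ sD hZD iZD
  obtain ⟨δ, hδ⟩ := exists_powOn s0 sZ bot_le (by rw [relIndex_bot_left, hZ])
  have m1 := CL.Grp.comm_mem_commutator g y
  have m2 := hA' x (hD hxD) g
  have m3 := hA' w hw y
  have d1 := dvd_sub_of_pow n1 (iZD ▸ pow_mem_of_relIndex hZD le_normalizer_of_normal m1)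
    (hε.comm hη hAC hCC ((commutator_comm _ _).le.trans hA) (mem_top g) hy
      (hA (commutator_mem_commutator (hD m1) (mem_top _))) (hA (commutator_mem_commutator (hD m1) (mem_top _))))
    (hξ _ m1)
  have d2 := dvd_sub_of_pow n2 (pow_eq_one_of_card hZ m2) (hε.comm hξ hZD hCD
    (commutator_le.2 fun t _ z hz => commutatorElement_eq_one_iff_mul_comm.2 (Subgroup.mem_center_iff.1 hz t))
    (mem_top g) hxD (cz _ m2 _) (cz _ m2 _)) (hδ _ m2)
  have d3 := dvd_sub_of_pow n3 (pow_eq_one_of_card hZ m3) (hη.comm hω hD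
    (commutator_le.2 fun a ha b hb => commutatorElement_eq_one_iff_mul_comm.2 (ab a ha b hb)) hCD hy hw
    (cz _ m3 _) (cz _ m3 _)) (hδ _ m3)
  have nε := not_dvd_of_pow hσ sC hg (iC ▸ pow_mem_of_relIndex le_top le_normalizer_of_normal (mem_top g))
    (hε g (mem_top g))
  have nη := not_dvd_of_pow hσ sA hyA (iAC ▸ pow_mem_of_relIndex hAC le_normalizer_of_normal hy) (hη y hy)
  have d4 := dvd_sub (dvd_sub d3 d2) (d1.mul_left ε)
  rw [show η * ω - δ - (ε * ξ - δ) - ε * (ε * η - ξ) = η * (ω - ε ^ 2) by ring] at d4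
  have d5 := dvd_add (((Nat.prime_iff_prime_int.1 hp.out).dvd_or_dvd d4).resolve_left nη)
    (show (p : ℤ) ∣ ε ^ 2 - 1 by subst h3; exact three_dvd_sq_sub_one nε)
  have := inv_mul_mem_of_dvd (hω w hw) (iDA ▸ pow_mem_of_relIndex hD le_normalizer_of_normal hw) (b := 1)
    (by rwa [sub_add_sub_cancel] at d5)
  rwa [zpow_one] at this

/-- there are no essential subgroups of order `p ^ 3` -/
theorem card_ne_cube (hfoc : ⊤ ≤ F.focalSubgroup) (hE : F.IsEssential p E) : Nat.card E ≠ p ^ 3 := fun hc => by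
  obtain ⟨N, H, A, d⟩ := h.exists_cubeData hE hc
  obtain ⟨cZ, hτ⟩ := h.exists_torus hE d
  have := d.nN
  have := d.nH
  have := d.nA
  obtain ⟨s, hs⟩ := d.exists_notMem
  obtain ⟨e, he, heH⟩ := d.exists_E
  have hZH : ⁅N, N⁆ ≤ H := commutator_le.2 fun x hx y hy => d.comm_mem_H hx hy
  have hZc := CL.Grp.le_center_of_normal_card_prime h.pg ⁅N, N⁆ cZ
  have eN := eq_sup_zpowers_of_relIndex le_top (d.iN ▸ hp.out) (mem_top s) hs
  have cz : ∀ z ∈ center G, ∀ t : G, ⁅z, t⁆ = 1 := fun z hz t =>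
    commutatorElement_eq_one_iff_mul_comm.2 (Subgroup.mem_center_iff.1 hz t).symm
  have cz' : ∀ z ∈ center G, ∀ t : G, ⁅t, z⁆ = 1 := fun z hz t =>
    commutatorElement_eq_one_iff_mul_comm.2 (Subgroup.mem_center_iff.1 hz t)
  by_cases hHc : H ≤ center G
  · obtain ⟨a, ha, haH⟩ := d.exists_A
    have memA : ∀ y, ⁅y, a⁆ = 1 → y ∈ A := fun y k => h.mem_of_comm d.cA d.abA fun x hx =>
      mem_centralizer_singleton_iff.1 (((d.sup_A ha haH).ge.trans (sup_le (hHc.trans (center_le_centralizer {y}))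
        (zpowers_le.2 (mem_centralizer_singleton_iff.2 (commutatorElement_eq_one_iff_mul_comm.1 k).symm)))) hx)
    have hn : ⁅s, a⁆ ∉ ⁅N, N⁆ := fun k => by
      have hu := commutator_mem_commutator (d.EN he) (d.AN ha)
      obtain ⟨m, hm⟩ := exists_eq_zpow_of_card_prime cZ hu (fun k => heH (d.mem_H (memA e k) he)) k
      have k1 : ⁅(e ^ m)⁻¹ * s, a⁆ = 1 := by
        rw [CL.Grp.comm_mul_left_of_central (hZc k), ← zpow_neg, CL.Grp.comm_zpow_left
          (Subgroup.mem_center_iff.1 (hZc hu) e), ← hm, zpow_neg, inv_mul_cancel]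
      exact hs (by simpa using mul_mem (zpow_mem (d.EN he) m) (d.AN (memA _ k1)))
    obtain ⟨q, hq⟩ : ∃ q, p = q + 1 := ⟨p - 1, (Nat.succ_pred_eq_of_pos hp.out.pos).symm⟩
    have hq' : (p : ℤ) = q + 1 := by exact_mod_cast hq
    obtain ⟨σ, -, -, w1, w2, w3⟩ := hτ q q ⟨q - 1, by rw [hq']; ring⟩
    have m := d.comm_mem ha s
    have k2 := dvd_sub_of_pow hn (d.el _ (d.HE m) ▸ one_mem _) (w3.comm w2 d.HA (commutator_mono le_rfl d.AN)
      (commutator_le.2 fun t _ z hz => cz' z (hHc hz) t ▸ one_mem _) (mem_top s) ha (cz _ (hHc m) _ ▸ one_mem _)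
      (cz _ (hHc m) _ ▸ one_mem _)) (w1 _ m)
    have k3 : (p : ℤ) ∣ 2 := by
      have := dvd_sub (Dvd.intro ((q : ℤ) ^ 4 - q ^ 3 + q ^ 2 - q + 1) rfl) k2
      rwa [show p * ((q : ℤ) ^ 4 - q ^ 3 + q ^ 2 - q + 1) - (q ^ 3 * q ^ 2 - 1) = 2 by rw [hq']; ring] at this
    exact h.odd ((Nat.prime_dvd_prime_iff_eq hp.out Nat.prime_two).1 (by exact_mod_cast k3))
  obtain ⟨c, hcH, hcZ⟩ := SetLike.not_le_iff_exists.1 hHc
  have hHZ : ∀ x ∈ H, ∀ t, ⁅x, t⁆ ∈ ⁅N, N⁆ := fun x hx t => by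
    simpa [commutatorElement_def, mul_assoc] using comm_mem_of_card_le h.top hZH le_top le_normalizer_of_normal
      (mem_top t) (le_normalizer_of_normal (mem_top t)) (le_normalizer_of_normal (mem_top t))
      (by rw [d.cH, cZ, sq]) (H.inv_mem hx)
  have h3 : p = 3 := by
    obtain ⟨m, hm⟩ : ∃ l : ℕ, p + 1 = 2 * l := ⟨(p + 1) / 2, by have := hp.out.eq_two_or_odd.resolve_left h.odd; omega⟩
    have hm' : ((2 : ℕ) : ℤ) * m - 1 = p := by have := congrArg (Nat.cast : ℕ → ℤ) hm; push_cast at this ⊢; omega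
    obtain ⟨σ, -, w0, w1, -, w3⟩ := hτ 2 m (hm' ▸ dvd_rfl)
    have m : ⁅s, c⁆ ∈ ⁅N, N⁆ := by rw [← commutatorElement_inv]; exact Subgroup.inv_mem _ (hHZ c hcH s)
    have k2 := dvd_sub_of_pow (N := ⊥) (fun k => hcZ (Subgroup.mem_center_iff.2 fun g =>
      mem_centralizer_singleton_iff.1 ((eN.ge.trans (sup_le (fun y hy => mem_centralizer_singleton_iff.2 (d.cen hcH hy))
        (zpowers_le.2 (mem_centralizer_singleton_iff.2 (commutatorElement_eq_one_iff_mul_comm.1 k))))) (mem_top g))))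
      (pow_eq_one_of_card cZ m) (w3.comm w1 hZH
        (commutator_le.2 fun t ht z hz => commutatorElement_eq_one_iff_mul_comm.2 (d.cen hz ht))
        (commutator_le.2 fun t _ z hz => cz' z (hZc hz) t) (mem_top s) hcH (cz _ (hZc m) _) (cz _ (hZc m) _)) (w0 _ m)
    have k3 : p ∣ 2 * 3 := Int.natCast_dvd_natCast.1 (by simpa using k2)
    exact ((Nat.Prime.dvd_mul hp.out).1 k3).elim
      (fun k => absurd ((Nat.prime_dvd_prime_iff_eq hp.out Nat.prime_two).1 k) h.odd)
      (Nat.prime_dvd_prime_iff_eq hp.out Nat.prime_three).1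
  have eZ : center G = ⁅N, N⁆ := (CL.Grp.eq_or_eq_of_relIndex_prime hZc (fun x hx => d.zen.ge ⟨d.AN (h.mem_of_comm
    d.cA d.abA fun y _ => Subgroup.mem_center_iff.1 hx y), fun y _ => Subgroup.mem_center_iff.1 hx y⟩)
    (relIndex_eq_of_card hp.out.pos hZH (cZ.trans (pow_one p).symm) d.cH ▸ hp.out)).resolve_right fun e => hHc e.ge
  have hxD := CL.Grp.comm_mem_commutator s e
  have hxH := d.comm_notMem hs he heH
  by_cases hx : ∀ g, ⁅⁅s, e⁆, g⁆ ∈ center G
  · have hA : ⁅A, (⊤ : Subgroup G)⁆ ≤ center G := d.sup_A (d.GA hxD) hxH ▸ CL.Grp.commutator_sup_left_le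
      (commutator_le.2 fun x hx t _ => eZ.ge (hHZ x hx t)) (commutator_zpowers_left_le fun g _ => hx g)
    have := CL.Grp.normal_sup_zpowers hx
    have hA' : ⁅A, (⊤ : Subgroup G)⁆ ≤ center G ⊔ zpowers ⁅s, e⁆ := hA.trans le_sup_left
    obtain ⟨w, hw, hw'⟩ := h.exists_fix h3 (eZ ▸ cZ) d.cA d.abA hA d.GA (x := ⁅s, e⁆) (fun k => hxH (hZH (eZ.le k)))
      ((QuotientGroup.eq_one_iff _).1 (by
        change ⁅(s : G ⧸ center G), (e : G ⧸ center G)⁆ ^ p = 1
        rw [← CL.Grp.comm_pow_right (commute_mk_of_mem (hx e)).symm, ← QuotientGroup.mk_pow, d.el e he]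
        simp))
      (le_antisymm (sup_le (eZ.le.trans (commutator_mono le_top le_top)) (zpowers_le.2 hxD)) (by
        have eA := eq_sup_zpowers_of_relIndex d.AN (d.iAN ▸ hp.out) (d.EN he) fun k => heH (d.mem_H k he)
        rw [_root_.commutator_def, ← eN]
        refine commutator_sup_zpowers_le (eZ.ge.trans le_sup_left) ?_
        rw [← eA]
        exact CL.Grp.commutator_sup_right_le ((commutator_comm _ _).le.trans ((commutator_mono le_rfl le_top).trans hA'))
          (commutator_zpowers_le (mem_sup_right (mem_zpowers _)))))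
    exact h.false_of_fix h3 hfoc (eZ ▸ cZ) hw hw'
  · push Not at hx
    obtain ⟨g, hg⟩ := hx
    refine h.false_of_maxCl h3 hfoc ⟨h.card, by norm_num, ?_⟩
    have := h.pg.isNilpotent
    have k1 := CL.Grp.nilpotencyClass_le_of_card_dvd_pow (p := p) 3 G h.card.dvd
    have k2 : γ[G, 3] ≠ ⊥ := fun k => hg (Subgroup.mem_center_iff.2 fun t => (commutatorElement_eq_one_iff_mul_comm.1
      (k.le (comm_mem_lcs_succ (comm_mem_lcs_succ (j := 1) hxD g) t))).symm)
    rw [Ne, Subgroup.lowerCentralSeries_eq_bot_iff_nilpotencyClass_le] at k2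
    omega

theorem core_ne_bot (h7 : p ≠ 7) (hfoc : ⊤ ≤ F.focalSubgroup) : F.core ≠ ⊥ := fun hc => by
  have h4 : ∀ E, F.IsEssential p E → Nat.card E = p ^ 4 := fun E hE =>
    ((h.card_ess hE).resolve_left (h.card_ne_sq h7 hfoc hE)).resolve_left (h.card_ne_cube hfoc hE)
  have hz : zen (⊤ : Subgroup G) = center G := by rw [zen, top_inf_eq, coe_top, centralizer_univ]
  have hn : F.IsNormal (center G) := isNormal_of_essential h.top h.sat le_top
    (fun E hE => hz ▸ zen_le_of_centric hE.1) fun E a hE ha e => by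
      have key : ∀ K, K = center G → AInv F E K → img a (center G) = center G := fun K eK hK => by
        subst eK
        refine ha.img_eq_self hK.1 fun x hx => ?_
        have := hK.2 (ha.equiv e) (ha.mem_autGroup fun _ => rfl) x hx
        rwa [autFun_apply _ (hK.1 hx)] at this
      rcases hE with rfl | hE
      · exact key _ hz aInv_zen
      obtain ⟨k1, k2⟩ := h.four hE (h4 E hE)
      have := CL.Grp.normal_of_index_eq_pGroup h.pg (h.index_eq (h4 E hE))
      have : (frat E).Normal := normalizer_eq_top_iff.1 (top_le_iff.1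
        ((normalizer_eq_top E).ge.trans (le_normalizer_frat (h.pg.to_subgroup E))))
      have k3 := CL.Grp.le_center_of_normal_card_prime h.pg (frat E) k1
      have k4 : center G ≤ zen E := fun x hx =>
        ⟨zen_le_of_centric hE.1 (hz.ge hx), fun y _ => Subgroup.mem_center_iff.1 hx y⟩
      rcases CL.Grp.eq_or_eq_of_relIndex_prime k3 k4 (relIndex_eq_of_card hp.out.pos (k3.trans k4)
        (k1.trans (pow_one p).symm) k2 ▸ hp.out) with k | k
      · exact key _ k.symm (aInv_self.frat h.top le_top)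
      · exact key _ k.symm aInv_zen
  have : Nontrivial G := Finite.one_lt_card_iff_nontrivial.1 (h.card ▸ Nat.one_lt_pow (by norm_num) hp.out.one_lt)
  exact (nontrivial_iff_ne_bot _).1 h.pg.center_nontrivial (le_bot_iff.1 (hc ▸ IsNormal.le_core hn))

end OrdFive

end CL.Fus
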