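/-
Groups `H` acting on a subgroup `E` of index `p` in a `p`-group `P`, with `P` inducing a Sylow subgroup: sections,
transvections and tori.
-/
import Cfsg.Agent.Fus.OrdFive3
import Cfsg.Agent.Fus.GroupFS
import Cfsg.Agent.Grp.CoprimeAct
import Cfsg.Agent.Grp.PNilp

set_option autoImplicit false
set_option linter.unusedSectionVars false

namespace CL.Fus.Rk

open Cfsg Subgroup
open scoped commutatorElement

local notation "𝒩(" X ")" => Subgroup.normalizer ((X : Subgroup _) : Set _)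
local notation "𝒞(" X ")" => Subgroup.centralizer ((X : Subgroup _) : Set _)

variable {G : Type*} [Group G] {p : ℕ} {P E H A B C D K X Y T : Subgroup G} {a g h x : G}

/-- conjugation as a homomorphism -/
abbrev cjh (g : G) : G →* G := (MulAut.conj g).toMonoidHom

/-- sectional rank at most three -/
def Rank3 (p : ℕ) (P : Subgroup G) : Prop :=
  ∀ A B : Subgroup G, B ≤ A → A ≤ P → ⁅A, A⁆ ≤ B → (∀ x ∈ A, x ^ p ∈ B) → B.relIndex A ≤ p ^ 3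

/-- the elements that act trivially on `A / B` -/
def secC (A B : Subgroup G) : Subgroup G where
  carrier := {g | g ∈ 𝒩(A) ∧ g ∈ 𝒩(B) ∧ ∀ x ∈ A, x⁻¹ * (g * x * g⁻¹) ∈ B}
  mul_mem' {g h} hg hh := ⟨mul_mem hg.1 hh.1, mul_mem hg.2.1 hh.2.1, fun x hx => by
    have := mul_mem (hg.2.2 x hx) (conj_mem_of_mem_normalizer hg.2.1 (hh.2.2 x hx))
    convert this using 1
    group⟩
  one_mem' := ⟨one_mem _, one_mem _, fun x _ => by simp⟩
  inv_mem' {g} hg := ⟨inv_mem hg.1, inv_mem hg.2.1, fun x hx => by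
    have := inv_mem (hg.2.2 _ (inv_conj_mem_of_mem_normalizer hg.1 hx))
    convert this using 1
    group⟩

theorem mem_secC : g ∈ secC A B ↔ g ∈ 𝒩(A) ∧ g ∈ 𝒩(B) ∧ ∀ x ∈ A, x⁻¹ * (g * x * g⁻¹) ∈ B := Iff.rfl

theorem le_normalizer_of_conj (h : ∀ g ∈ H, ∀ x ∈ X, g * x * g⁻¹ ∈ X) : H ≤ 𝒩(X) := fun g hg =>
  mem_normalizer_iff.2 fun x => ⟨h g hg x, fun k => by simpa [mul_assoc] using h g⁻¹ (inv_mem hg) _ k⟩

theorem le_normalizer_secC (hA : H ≤ 𝒩(A)) (hB : H ≤ 𝒩(B)) : H ≤ 𝒩(secC A B) :=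
  le_normalizer_of_conj fun g hg k hk => ⟨mul_mem (mul_mem (hA hg) hk.1) (inv_mem (hA hg)),
    mul_mem (mul_mem (hB hg) hk.2.1) (inv_mem (hB hg)), fun x hx => by
      have := conj_mem_of_mem_normalizer (hB hg) (hk.2.2 _ (inv_conj_mem_of_mem_normalizer (hA hg) hx))
      convert this using 1
      group⟩

theorem le_normalizer_bot : H ≤ 𝒩((⊥ : Subgroup G)) := by rw [normalizer_eq_top]; exact le_top

theorem secC_bot (A : Subgroup G) : secC A ⊥ = 𝒞(A) := le_antisymm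
  (fun _ hg => mem_centralizer_of_conj_eq fun x hx => (inv_mul_eq_one.1 (hg.2.2 x hx)).symm)
  fun _ hg => ⟨centralizer_le_normalizer _ hg, le_normalizer_bot (mem_top _), fun x hx => by
    rw [conj_eq_of_mem_centralizer hg hx, inv_mul_cancel]; exact one_mem _⟩

theorem le_secC (hA : K ≤ 𝒩(A)) (hB : K ≤ 𝒩(B)) (h : ⁅A, K⁆ ≤ B) : K ≤ secC A B := fun _ hg =>
  ⟨hA hg, hB hg, fun _ hx => h (inv_mul_conj_mem_commutator hx hg)⟩

theorem comm_mem_of_secC (hg : g ∈ secC A B) (hx : x ∈ A) : ⁅x, g⁆ ∈ B := by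
  have := hg.2.2 _ (inv_mem hx)
  rwa [inv_mul_conj_eq_commutator, inv_inv] at this

theorem commutator_le_of_secC (h : K ≤ secC A B) : ⁅A, K⁆ ≤ B :=
  commutator_le.2 fun _ hx _ hg => comm_mem_of_secC (h hg) hx

theorem secC_mono (hg : g ∈ secC A B) (hXA : X ≤ A) (hBY : B ≤ Y) (hX : g ∈ 𝒩(X)) (hY : g ∈ 𝒩(Y)) : g ∈ secC X Y :=
  ⟨hX, hY, fun x hx => hBY (hg.2.2 x (hXA hx))⟩

theorem mem_normalizer_of_secC [Finite G] (hg : g ∈ secC A B) (hX : X ≤ A) (hB : B ≤ X) : g ∈ 𝒩(X) :=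
  mem_normalizer_of_finite fun x hx => by
    have := mul_mem hx (hB (hg.2.2 x (hX hx)))
    rwa [mul_inv_cancel_left] at this

theorem cen_le_secC (hA : A ≤ E) (hB : B ≤ E) : 𝒞(E) ≤ secC A B := fun g hg =>
  ⟨centralizer_le_normalizer _ (centralizer_le hA hg), centralizer_le_normalizer _ (centralizer_le hB hg), fun x hx => by
    rw [conj_eq_of_mem_centralizer hg (hA hx), inv_mul_cancel]; exact one_mem _⟩

/-- the number of cosets of the centralizer of `x` modulo `B` -/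
theorem relIndex_commSub_le [Finite G] {I : Subgroup G} (hA : A ≤ 𝒩(B)) (hx : x ∈ 𝒩(B))
    (h : ∀ a ∈ A, a⁻¹ * (x * a * x⁻¹) ∈ I) : (commSub A B hA {x}).relIndex A ≤ B.relIndex I := by
  refine Nat.card_le_card_of_injective (β := I ⧸ B.subgroupOf I)
    (fun q => ((⟨_, h _ (inv_mem q.out.2)⟩ : I) : I ⧸ B.subgroupOf I)) fun q q' e => ?_
  rw [← q.out_eq', ← q'.out_eq', QuotientGroup.eq, mem_subgroupOf]
  have e1 := mem_subgroupOf.1 (QuotientGroup.eq.1 e)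
  refine ⟨(q.out⁻¹ * q'.out).2, fun b hb => ?_⟩
  obtain rfl : b = x := hb
  have := conj_mem_of_mem_normalizer (inv_mem (hA (q.out⁻¹ * q'.out).2)) (inv_mem (conj_mem_of_mem_normalizer
    (inv_mem (mul_mem (mul_mem hx (hA q.out.2)) (inv_mem hx))) e1))
  convert this using 1
  simp only [coe_mul, coe_inv]
  group

theorem mul_pow_mul_inv_mem (hg : g ∈ 𝒩(K)) (hx : x ∈ K) : ∀ n : ℕ, (x * g) ^ n * (g ^ n)⁻¹ ∈ K
  | 0 => by simp
  | n + 1 => by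
    have := mul_mem hx (conj_mem_of_mem_normalizer hg (mul_pow_mul_inv_mem hg hx n))
    convert this using 1
    rw [pow_succ', pow_succ]
    group

/-- the `p'`-elements of `H` act trivially on `A / B` -/
def Tr (p : ℕ) (H A B : Subgroup G) : Prop := ∀ h ∈ H, (orderOf h).Coprime p → h ∈ secC A B

theorem Tr.of_le (h : H ≤ secC A B) : Tr p H A B := fun _ k _ => h k

theorem Tr.mono (h : Tr p H A B) (hXA : X ≤ A) (hBY : B ≤ Y) (hX : H ≤ 𝒩(X)) (hY : H ≤ 𝒩(Y)) : Tr p H X Y :=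
  fun g hg k => secC_mono (h g hg k) hXA hBY (hX hg) (hY hg)

variable [hp : Fact p.Prime] [Finite G]

theorem exists_cen (hA : IsPGroup p A) (hh : (orderOf h).Coprime p) (hhA : h ∈ 𝒩(A)) (hhB : h ∈ 𝒩(B)) (hBA : B ≤ A)
    (hx : x ∈ A) (hk : ∀ x ∈ A, x⁻¹ * (h * x * h⁻¹) ∈ B) : ∃ c ∈ A, h * c * h⁻¹ = c ∧ x⁻¹ * c ∈ B := by
  obtain ⟨n, hn⟩ := IsPGroup.iff_card.1 hA
  obtain ⟨c, hc, e⟩ := CL.Grp.exists_centralizer_mem_leftCoset (A := zpowers h) (zpowers_le.2 hhA)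
    (by rw [Nat.card_zpowers, hn]; exact hh.pow_right n) (Or.inl inferInstance) hBA (zpowers_le.2 hhB) hx
    fun a ha => ((zpowers_le (H := secC A B)).2 ⟨hhA, hhB, hk⟩ ha).2.2 x hx
  exact ⟨c, hc.1, by rw [hc.2 h (mem_zpowers h), mul_inv_cancel_right], e⟩

theorem secC_trans (hA : IsPGroup p A) (hh : (orderOf h).Coprime p) (h1 : h ∈ secC A B) (h2 : h ∈ secC B C)
    (hBA : B ≤ A) : h ∈ secC A C := ⟨h1.1, h2.2.1, fun x hx => by
  obtain ⟨c, -, e, hc⟩ := exists_cen hA hh h1.1 h1.2.1 hBA hx h1.2.2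
  have := h2.2.2 _ (inv_mem hc)
  rw [mul_inv_rev, inv_inv, ← conj_mul, ← conj_inv, e] at this
  convert this using 1
  group⟩

theorem secC_of_frat (hA : IsPGroup p A) (hh : (orderOf h).Coprime p) (hhB : h ∈ 𝒩(B)) (hBA : B ≤ A)
    (h1 : h ∈ secC A (B ⊔ frat A)) (hAB : A ≤ 𝒩(B)) : h ∈ secC A B := ⟨h1.1, hhB, fun x hx => by
  have e : (A ⊓ centralizer {h}) ⊔ B = A := eq_of_sup_frat (sup_le inf_le_left hBA) fun y hy => by
    obtain ⟨c, hc, e, k⟩ := exists_cen hA hh h1.1 h1.2.1 (sup_le hBA (frat_le A)) hy h1.2.2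
    rw [sup_assoc, show y = c * (y⁻¹ * c)⁻¹ by group]
    exact mul_mem_sup ⟨hc, mem_centralizer_singleton_iff.2 (mul_inv_eq_iff_eq_mul.1 e).symm⟩ (inv_mem k)
  obtain ⟨c, hc, b, hb, rfl⟩ := (mem_sup_of_le_normalizer (inf_le_left.trans hAB)).1 (e.ge hx)
  have := mul_mem (inv_mem hb) (conj_mem_of_mem_normalizer hhB hb)
  rw [← conj_mul, ← mem_centralizer_singleton_iff.1 hc.2]
  convert this using 1
  group⟩

theorem Tr.trans (hA : IsPGroup p A) (h1 : Tr p H A B) (h2 : Tr p H B C) (hBA : B ≤ A) : Tr p H A C :=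
  fun g hg k => secC_trans hA k (h1 g hg k) (h2 g hg k) hBA

theorem Tr.of_frat (hA : IsPGroup p A) (h1 : Tr p H A X) (hX : X ≤ B ⊔ frat A) (hB : H ≤ 𝒩(B)) (hBA : B ≤ A)
    (hAB : A ≤ 𝒩(B)) : Tr p H A B := fun g hg k =>
  have h2 := h1 g hg k
  secC_of_frat hA k (hB hg) hBA (secC_mono h2 le_rfl hX h2.1 (CL.Grp.le_normalizer_sup' (zpowers_le.2 (hB hg))
    ((zpowers_le.2 h2.1).trans (le_normalizer_frat hA)) (mem_zpowers g))) hAB

theorem Tr.of_frat' (hA : IsPGroup p A) (h1 : Tr p H A X) (hX : X ≤ frat A) : Tr p H A ⊥ :=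
  h1.of_frat hA (hX.trans le_sup_right) le_normalizer_bot bot_le le_normalizer_bot

theorem le_of_sylIn (hX : SylIn p X K) (h1 : X ≤ Y) (h2 : ∀ k ∈ K, (orderOf k).Coprime p → k ∈ Y) : K ≤ Y := fun k hk => by
  have : (⊤ : Subgroup K) ≤ Y.subgroupOf K := by
    rw [← CL.Grp.pResidual_sup_sylow hX.toSylow]
    exact sup_le (CL.Grp.pResidual_le_iff.2 fun g hg => h2 g g.2 (by rwa [orderOf_coe])) fun g hg => h1 hg
  exact this (mem_top (⟨k, hk⟩ : K))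

theorem mem_of_pow_of_coprime (hh : (orderOf h).Coprime p) {k : ℕ} (hk : h ^ p ^ k ∈ K) : h ∈ K :=
  zpowers_le.2 hk (mem_zpowers_pow_iff.2 (hh.pow_right k).symm)

/-- The action of `H` on `A / B`. -/
def secAct (H A B : Subgroup G) (hA : H ≤ 𝒩(A)) (hB : H ≤ 𝒩(B)) [(B.subgroupOf A).Normal] :
    H →* MulAut (A ⧸ B.subgroupOf A) where
  toFun h := QuotientGroup.congr _ _ (A.normalizerMonoidHom ⟨h, hA h.2⟩) (by
    ext x
    constructor
    · rintro ⟨y, hy, rfl⟩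
      exact conj_mem_of_mem_normalizer (hB h.2) hy
    · exact fun hx => ⟨⟨_, inv_conj_mem_of_mem_normalizer (hA h.2) x.2⟩, inv_conj_mem_of_mem_normalizer (hB h.2) hx,
        Subtype.ext (show (h : G) * ((h : G)⁻¹ * x * h) * (h : G)⁻¹ = x by group)⟩)
  map_one' := by
    ext ⟨x⟩
    exact congrArg QuotientGroup.mk (Subtype.ext (show (1 : G) * x * 1⁻¹ = x by group))
  map_mul' a b := by
    ext ⟨x⟩
    exact congrArg QuotientGroup.mk (Subtype.ext (show (a * b : G) * x * (a * b : G)⁻¹ = a * (b * x * (b : G)⁻¹) * (a : G)⁻¹ by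
      group))

section
variable (hA : H ≤ 𝒩(A)) (hB : H ≤ 𝒩(B)) [(B.subgroupOf A).Normal]
omit hp [Finite G]

theorem secAct_mk (h : H) (hx : x ∈ A) : secAct H A B hA hB h ((⟨x, hx⟩ : A) : A ⧸ B.subgroupOf A) =
    ((⟨h * x * (h : G)⁻¹, conj_mem_of_mem_normalizer (hA h.2) hx⟩ : A) : A ⧸ B.subgroupOf A) := rfl

theorem secAct_fix (h : H) (hx : x ∈ A) : secAct H A B hA hB h ((⟨x, hx⟩ : A) : A ⧸ B.subgroupOf A) = (⟨x, hx⟩ : A) ↔
    x⁻¹ * (h * x * (h : G)⁻¹) ∈ B := by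
  rw [secAct_mk, eq_comm, QuotientGroup.eq]; rfl

theorem secAct_eq_one (h : H) : secAct H A B hA hB h = 1 ↔ (h : G) ∈ secC A B :=
  ⟨fun e => ⟨hA h.2, hB h.2, fun x hx => (secAct_fix hA hB h hx).1 (by rw [e]; rfl)⟩, fun k => by
    ext ⟨x⟩
    exact (secAct_fix hA hB h x.2).2 (k.2.2 x x.2)⟩

end

/-- `H` acts on `E`, is generated by the conjugates of `P`, and `P` induces a Sylow subgroup. -/
structure Side (p : ℕ) (P E H : Subgroup G) : Prop where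
  pg : IsPGroup p P
  le : E ≤ P
  idx : E.relIndex P = p
  PH : P ≤ H
  norm : H ≤ 𝒩(E)
  gen : ∀ K : Subgroup G, P ≤ K → H ≤ 𝒩(K) → H ≤ K
  syl : ∀ X ≤ H, IsPGroup p X → ∃ h ∈ H, ∀ x ∈ X, h * x * h⁻¹ ∈ P ⊔ 𝒞(E)

namespace Side

variable (s : Side p P E H)
include s

theorem pgE : IsPGroup p E := s.pg.to_le s.le

theorem card : Nat.card P = p * Nat.card E := by rw [CL.Grp.card_eq_relIndex_mul_card s.le, s.idx]

theorem sup (ha : a ∈ P) (haE : a ∉ E) : E ⊔ zpowers a = P :=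
  eq_sup_zpowers_of_relIndex s.le (s.idx ▸ hp.out) ha haE

theorem le_of_mem (ha : a ∈ P) (haE : a ∉ E) (hE : E ≤ X) (hX : a ∈ X) : P ≤ X :=
  s.sup ha haE ▸ sup_le hE (zpowers_le.2 hX)

theorem exists_notMem : ∃ a ∈ P, a ∉ E := by
  by_contra! k
  exact hp.out.ne_one (s.idx.symm.trans (relIndex_eq_one.2 k))

theorem pow_mem (ha : a ∈ P) : a ^ p ∈ E := s.idx ▸ pow_mem_of_relIndex s.le (s.PH.trans s.norm) ha

theorem tr_of_mem (hA : H ≤ 𝒩(A)) (hB : H ≤ 𝒩(B)) (ha : a ∈ P) (haE : a ∉ E) (h : a ∈ secC A B) : Tr p H A B := by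
  intro g hg k
  have h1 := le_normalizer_secC hA hB
  have h2 := s.gen (secC A B ⊔ E) (s.le_of_mem ha haE le_sup_right (mem_sup_left h)) (CL.Grp.le_normalizer_sup' h1 s.norm)
  obtain ⟨c, hc, e, he, rfl⟩ := (mem_sup_of_le_normalizer' (s.le.trans (s.PH.trans h1))).1 (h2 hg)
  obtain ⟨n, hn⟩ := s.pgE ⟨e, he⟩
  have := mul_pow_mul_inv_mem (h1 (s.PH (s.le he))) hc (p ^ n)
  rw [show e ^ p ^ n = 1 from congrArg Subtype.val hn, inv_one, mul_one] at this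
  exact mem_of_pow_of_coprime k this

theorem le_secC_of_card (hA : H ≤ 𝒩(A)) (hB : H ≤ 𝒩(B)) (hBA : B ≤ A) (hAP : A ≤ P)
    (hc : Nat.card A ≤ p * Nat.card B) : H ≤ secC A B :=
  s.gen _ (fun _ ha => ⟨hA (s.PH ha), hB (s.PH ha), fun _ hx => comm_mem_of_card_le s.pg hBA hAP (hAP.trans (s.PH.trans hB))
    ha (hB (s.PH ha)) (hA (s.PH ha)) hc hx⟩) (le_normalizer_secC hA hB)

theorem le_cen (hA : H ≤ 𝒩(A)) (h : P ≤ 𝒞(A)) : H ≤ 𝒞(A) := s.gen _ h (CL.Grp.le_normalizer_centralizer' hA)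

theorem le_of_normal (hK : K ≤ H) (hn : H ≤ 𝒩(K)) (h1 : ∀ k ∈ K, (orderOf k).Coprime p → k ∈ Y)
    (h2 : ∀ k ∈ K, k ∈ P ⊔ 𝒞(E) → k ∈ Y) : K ≤ Y := by
  obtain ⟨X, hX⟩ := exists_sylIn p K
  obtain ⟨h, hh, k⟩ := s.syl X (hX.le.trans hK) hX.isPGroup
  have h3 := hX.conj_of_mem_normalizer (hn hh)
  refine le_of_sylIn h3 ?_ h1
  rintro _ ⟨x, hx, rfl⟩
  exact h2 _ (h3.le ⟨x, hx, rfl⟩) (k x hx)

theorem exists_mul (hx : x ∈ P ⊔ 𝒞(E)) : ∃ a ∈ P, ∃ c ∈ 𝒞(E), a * c = x :=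
  (mem_sup_of_le_normalizer (CL.Grp.le_normalizer_centralizer' (s.PH.trans s.norm))).1 hx

theorem norm_of_tr (hAE : A ≤ E) (h : Tr p H A B) (hB : B ≤ X) (hX : X ≤ A) (hP : P ≤ 𝒩(X)) : H ≤ 𝒩(X) :=
  s.le_of_normal le_rfl le_normalizer (fun k hk c => mem_normalizer_of_secC (h k hk c) hX hB)
    fun _ _ hk => sup_le hP ((centralizer_le (hX.trans hAE)).trans (centralizer_le_normalizer _)) hk

theorem cen (r : ¬ Tr p H E ⊥) (ha : a ∈ P) (h : a ∈ 𝒞(E)) : a ∈ E := by_contra fun k =>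
  r (s.tr_of_mem s.norm le_normalizer_bot ha k ((secC_bot E).ge h))

/-- a normal subgroup whose `p'`-elements centralize `E` induces automorphisms from `P` -/
theorem le_sup (hK : K ≤ H) (hn : H ≤ 𝒩(K)) (h1 : ∀ k ∈ K, (orderOf k).Coprime p → k ∈ 𝒞(E)) : K ≤ P ⊔ 𝒞(E) :=
  s.le_of_normal hK hn (fun k hk c => mem_sup_right (h1 k hk c)) fun _ _ k => k

section
variable (hA : H ≤ 𝒩(A)) (hB : H ≤ 𝒩(B)) [(B.subgroupOf A).Normal] (hAE : A ≤ E) (hBA : B ≤ A) (hE : E ≤ secC A B)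
include hAE hBA hE

theorem act_mem (ha : a ∈ P) (haE : a ∉ E) (k : H) (hk : (k : G) ∈ P ⊔ 𝒞(E)) :
    secAct H A B hA hB k ∈ zpowers (secAct H A B hA hB ⟨a, s.PH ha⟩) := by
  have : P ⊔ 𝒞(E) ≤ secC A B ⊔ zpowers a := sup_le (s.le_of_mem ha haE (hE.trans le_sup_left) (mem_sup_right (mem_zpowers a)))
    ((cen_le_secC hAE (hBA.trans hAE)).trans le_sup_left)
  obtain ⟨c, hc, _, ⟨i, rfl⟩, e⟩ := (mem_sup_of_le_normalizer' ((zpowers_le.2 (s.PH ha)).trans (le_normalizer_secC hA hB))).1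
    (this hk)
  have h1 : k = (k * ⟨a, s.PH ha⟩⁻¹ ^ i) * ⟨a, s.PH ha⟩ ^ i := by group
  rw [h1, map_mul, (secAct_eq_one hA hB (k * ⟨a, s.PH ha⟩⁻¹ ^ i)).2 (by simpa [← e] using hc), one_mul, map_zpow]
  exact zpow_mem (mem_zpowers _) i

theorem card_le (Z : Subgroup (MulAut (A ⧸ B.subgroupOf A))) (hZ : Z ≤ (secAct H A B hA hB).range)
    (hZp : IsPGroup p Z) : Nat.card Z ≤ p := by
  set ρ := secAct H A B hA hB
  obtain ⟨R, hR⟩ := exists_sylIn p (Z.comap ρ)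
  have h1 := hR.map ρ
  rw [map_comap_eq_self hZ] at h1
  obtain ⟨h, hh, k⟩ := s.syl (R.map H.subtype) (map_subtype_le _) (hR.isPGroup.map _)
  obtain ⟨a, ha, haE⟩ := s.exists_notMem
  have h2 : Z.map (MulAut.conj (ρ ⟨h, hh⟩)).toMonoidHom ≤ zpowers (ρ ⟨a, s.PH ha⟩) := by
    rw [h1.eq_of_le hZp h1.le le_rfl]
    rintro _ ⟨_, ⟨x, hx, rfl⟩, rfl⟩
    have := s.act_mem hA hB hAE hBA hE ha haE (⟨h, hh⟩ * x * ⟨h, hh⟩⁻¹) (k x ⟨x, hx, rfl⟩)
    rwa [map_mul, map_mul, map_inv] at this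
  rw [← GS.card_map_conj Z (ρ ⟨h, hh⟩)]
  refine (card_le_of_le h2).trans ?_
  rw [Nat.card_zpowers]
  refine orderOf_le_of_pow_eq_one hp.out.pos ?_
  rw [← map_pow]
  exact (secAct_eq_one hA hB _).2 (hE (s.pow_mem ha))

end

end Side

end CL.Fus.Rk
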