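/-
Transvections and tori induced on sections of `E`.
-/
import Cfsg.Agent.Fus.Rk3A

set_option autoImplicit false
set_option linter.unusedSectionVars false

namespace CL.Fus.Rk

open Cfsg Subgroup
open scoped commutatorElement

local notation "𝒩(" X ")" => Subgroup.normalizer ((X : Subgroup _) : Set _)
local notation "𝒞(" X ")" => Subgroup.centralizer ((X : Subgroup _) : Set _)

variable {G : Type*} [Group G] {p : ℕ} {P E H A B C D K X Y T : Subgroup G} {a g h x : G}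

/-- the largest subgroup of `K` normalized by `H` -/
def coreIn (H K : Subgroup G) : Subgroup G where
  carrier := {x | ∀ h ∈ H, h * x * h⁻¹ ∈ K}
  mul_mem' hx hy h hh := by rw [← conj_mul]; exact mul_mem (hx h hh) (hy h hh)
  one_mem' h _ := by simp
  inv_mem' hx h hh := by rw [← conj_inv]; exact inv_mem (hx h hh)

theorem coreIn_le : coreIn H K ≤ K := fun x hx => by simpa using hx 1 (one_mem _)

theorem le_normalizer_coreIn : H ≤ 𝒩(coreIn H K) := le_normalizer_of_conj fun g hg x hx h hh => by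
  have := hx _ (mul_mem hh hg)
  convert this using 1
  group

theorem le_coreIn (h : X ≤ K) (hn : H ≤ 𝒩(X)) : X ≤ coreIn H K := fun _ hx _ hh =>
  h (conj_mem_of_mem_normalizer (hn hh) hx)

theorem le_normalizer_sup_zpowers (hC : H ≤ 𝒩(C)) (h : ∀ g ∈ H, g * x * g⁻¹ ∈ C ⊔ zpowers x) : H ≤ 𝒩(C ⊔ zpowers x) :=
  le_normalizer_of_conj fun g hg _ hy => (sup_le (fun _ hc => mem_sup_left (conj_mem_of_mem_normalizer (hC hg) hc))
    (zpowers_le.2 (h g hg)) : C ⊔ zpowers x ≤ (C ⊔ zpowers x).comap (cjh (g : G))) hy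

theorem mk_mem_zpowers [(B.subgroupOf A).Normal] {y : G} (hy : y ∈ A) (hyB : y ∈ 𝒩(B)) (hx : x ∈ A) :
    ((⟨x, hx⟩ : A) : A ⧸ B.subgroupOf A) ∈ zpowers ((⟨y, hy⟩ : A) : A ⧸ B.subgroupOf A) ↔ x ∈ B ⊔ zpowers y := by
  constructor
  · rintro ⟨i, hi⟩
    have := mem_subgroupOf.1 (QuotientGroup.eq.1 (show (((⟨y, hy⟩ : A) ^ i : A) : A ⧸ B.subgroupOf A) = _ from hi))
    rw [show x = y ^ i * ((y ^ i)⁻¹ * x) by group]
    exact mul_mem (mem_sup_right ⟨i, rfl⟩) (mem_sup_left this)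
  · intro k
    obtain ⟨_, ⟨i, rfl⟩, b, hb, e⟩ := (mem_sup_of_le_normalizer (zpowers_le.2 hyB)).1 (sup_comm B _ ▸ k)
    exact ⟨i, show (((⟨y, hy⟩ : A) ^ i : A) : A ⧸ B.subgroupOf A) = _ from
      QuotientGroup.eq.2 (mem_subgroupOf.2 (by simpa [← e] using hb))⟩

variable [hp : Fact p.Prime] [Finite G]

theorem relIndex_eq_of_not_le (hX : A ≤ 𝒩(X)) (hXA : X ≤ A) (hY : Y ≤ A) (hi : X.relIndex A = p) (h : ¬ Y ≤ X) :
    X.relIndex Y = p := by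
  have h1 := CL.Grp.card_sup_mul_card_inf (hY.trans hX)
  obtain e | e := CL.Grp.eq_or_eq_of_relIndex_prime (le_sup_right : X ≤ Y ⊔ X) (sup_le hY hXA) (hi ▸ hp.out)
  · exact absurd (e ▸ le_sup_left) h
  · rw [e, CL.Grp.card_eq_relIndex_mul_card hXA, hi, ← CL.Grp.card_inf_mul_relIndex X Y, inf_comm X] at h1
    have h2 : 0 < Nat.card X * Nat.card ↥(Y ⊓ X) := Nat.mul_pos Nat.card_pos Nat.card_pos
    exact Nat.eq_of_mul_eq_mul_left h2 (by linarith)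

theorem exists_of_relIndex (hi : X.relIndex A = p) : ∃ a ∈ A, a ∉ X := by
  by_contra! k
  exact hp.out.ne_one (hi.symm.trans (relIndex_eq_one.2 k))

theorem card_of_relIndex (h : X ≤ A) (hi : X.relIndex A = p) : Nat.card A = p * Nat.card X := by
  rw [CL.Grp.card_eq_relIndex_mul_card h, hi]

theorem tr_of_le_sup (hX : IsPGroup p X) (hXn : X ≤ 𝒩(secC A B)) (h : H ≤ secC A B ⊔ X) : Tr p H A B := by
  intro g hg k
  obtain ⟨c, hc, e, he, rfl⟩ := (mem_sup_of_le_normalizer' hXn).1 (h hg)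
  obtain ⟨n, hn⟩ := hX ⟨e, he⟩
  have := mul_pow_mul_inv_mem (hXn he) hc (p ^ n)
  rw [show e ^ p ^ n = 1 from congrArg Subtype.val hn, inv_one, mul_one] at this
  exact mem_of_pow_of_coprime k this

theorem quot_comm [(B.subgroupOf A).Normal] (h : ⁅A, A⁆ ≤ B) (x y : A ⧸ B.subgroupOf A) : Commute x y := by
  obtain ⟨x, rfl⟩ := QuotientGroup.mk_surjective x
  obtain ⟨y, rfl⟩ := QuotientGroup.mk_surjective y
  refine QuotientGroup.eq.2 (mem_subgroupOf.2 ?_)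
  have := h (commutator_mem_commutator (inv_mem y.2) (inv_mem x.2))
  convert this using 1
  simp [commutatorElement_def, mul_assoc]

theorem quot_pow [(B.subgroupOf A).Normal] (h : ∀ x ∈ A, x ^ p ∈ B) (x : A ⧸ B.subgroupOf A) : x ^ p = 1 := by
  obtain ⟨x, rfl⟩ := QuotientGroup.mk_surjective x
  exact (QuotientGroup.eq_one_iff (x ^ p)).2 (h x x.2)

namespace Side

variable (s : Side p P E H)
include s

theorem le_of_conj (ha : a ∈ P) (haE : a ∉ E) (hE : E ≤ K) (h : ∀ g ∈ H, g * a * g⁻¹ ∈ K) : H ≤ K :=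
  (s.gen _ (s.le_of_mem ha haE (le_coreIn hE s.norm) h) le_normalizer_coreIn).trans coreIn_le

/-- `a` acts on `A / B` as a transvection with axis `D / B` -/
theorem exists_core (hA : H ≤ 𝒩(A)) (hB : H ≤ 𝒩(B)) (hAE : A ≤ E) (hE : E ≤ secC A B) (hel : frat A ≤ B)
    (hBD : B ≤ D) (hDA : D ≤ A) (hi : D.relIndex A = p) (ha : a ∈ P) (haE : a ∉ E)
    (haD : ∀ x ∈ D, x⁻¹ * (a * x * a⁻¹) ∈ B) (r : ¬ Tr p H A B) :
    (coreIn H D).relIndex D = p ∧ H ≤ secC (coreIn H D) B := by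
  have hBA := hBD.trans hDA
  have hAH := hAE.trans (s.le.trans s.PH)
  have := (normal_subgroupOf_iff_le_normalizer hBA).2 (hAH.trans hB)
  have hpA := s.pgE.to_le hAE
  obtain ⟨hc, hpw⟩ := (frat_le_iff hpA).1 hel
  have hc' := quot_comm hc
  have hV : IsPGroup p (A ⧸ B.subgroupOf A) := hpA.to_quotient _
  set ρ := secAct H A B hA hB
  obtain ⟨e, he, heD⟩ := exists_of_relIndex hi
  have haH := s.PH ha
  have haN : a ∈ 𝒩(D) := mem_normalizer_of_finite fun x hx => by simpa using mul_mem hx (hBD (haD x hx))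
  have hAD : A ≤ 𝒩(D) := fun x hx => mem_normalizer_of_secC (hE (hAE hx)) hDA hBD
  have hyD : e⁻¹ * (a * e * a⁻¹) ∈ D := comm_mem_of_card_le s.pg hDA (hAE.trans s.le) hAD ha haN (hA haH)
    (card_of_relIndex hDA hi).le he
  set y := e⁻¹ * (a * e * a⁻¹)
  have hyA := hDA hyD
  have hsup := eq_sup_zpowers_of_relIndex hDA (hi ▸ hp.out) he heD
  have t1 : ρ ⟨a, haH⟩ ≠ 1 := fun k => r (s.tr_of_mem hA hB ha haE ((secAct_eq_one hA hB _).1 k))
  have hall : ∀ X, B ≤ X → X ≤ A → y ∈ X → ∀ x ∈ A, x⁻¹ * (a * x * a⁻¹) ∈ X := fun X h1 h2 h3 x hx =>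
    ((hsup.ge.trans (sup_le (fun d hd => ⟨hDA hd, fun _ k => k ▸ h1 (haD d hd)⟩) (zpowers_le.2 ⟨he, fun _ k => k ▸ h3⟩)) :
      A ≤ commSub A X (fun x hx => mem_normalizer_of_secC (hE (hAE hx)) h2 h1) {a}) hx).2 a rfl
  have tv : IsTv p (ρ ⟨a, haH⟩) (⟨y, hyA⟩ : A) := ⟨quot_pow hpw _, fun k => t1 ((secAct_eq_one hA hB _).2 ⟨hA haH, hB haH,
      hall B le_rfl hBA (mem_subgroupOf.1 ((QuotientGroup.eq_one_iff _).1 k))⟩), (secAct_fix hA hB _ hyA).2 (haD y hyD), fun x => by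
    obtain ⟨⟨x, hx⟩, rfl⟩ := QuotientGroup.mk_surjective x
    exact (mk_mem_zpowers hyA (hB (hAH hyA)) (mul_mem (inv_mem hx) (conj_mem_of_mem_normalizer (hA haH) hx))).2
      (hall _ le_sup_left (sup_le hBA (zpowers_le.2 hyA)) (mem_sup_right (mem_zpowers y)) x hx)⟩
  have hG := fun X hX => s.card_le hA hB hAE hBA hE X hX
  obtain ⟨g, hg⟩ : ∃ g : H, ρ g * ρ ⟨a, haH⟩ * (ρ g)⁻¹ ∉ zpowers (ρ ⟨a, haH⟩) := by
    by_contra! k
    refine r (tr_of_le_sup (s.pg.to_le (zpowers_le.2 ha)) ((zpowers_le.2 haH).trans (le_normalizer_secC hA hB))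
      (s.le_of_conj ha haE (hE.trans le_sup_left) fun g hg => ?_))
    obtain ⟨i, hi⟩ := k ⟨g, hg⟩
    rw [show g * a * g⁻¹ = (g * a * g⁻¹ * (a ^ i)⁻¹) * a ^ i by group]
    refine mul_mem_sup ((secAct_eq_one hA hB (⟨g, hg⟩ * ⟨a, haH⟩ * ⟨g, hg⟩⁻¹ * (⟨a, haH⟩ ^ i)⁻¹)).1 ?_) ⟨i, rfl⟩
    rw [map_mul, map_mul, map_mul, map_inv, map_inv, map_zpow, ← hi, mul_inv_cancel]
  have tv' := tv.conj (ρ g)
  have hr : ∀ k : H, ρ k * ρ ⟨a, haH⟩ * (ρ k)⁻¹ ∈ ρ.range := fun k => mul_mem (mul_mem ⟨_, rfl⟩ ⟨_, rfl⟩) (inv_mem ⟨_, rfl⟩)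
  have key : ¬ IsPGroup p (closure {ρ ⟨a, haH⟩, ρ g * ρ ⟨a, haH⟩ * (ρ g)⁻¹} : Subgroup (MulAut _)) := fun k => by
    have h1 := hG _ ((closure_le _).2 (by rintro _ (rfl | rfl); exacts [⟨_, rfl⟩, hr g])) k
    have h2 := eq_of_le_of_card_ge (zpowers_le.2 (subset_closure (Or.inl rfl)) : zpowers (ρ ⟨a, haH⟩) ≤ _)
      (by rwa [Nat.card_zpowers, orderOf_eq_prime tv.pow_eq_one t1])
    exact hg (h2.ge (subset_closure (Or.inr rfl)))
  have e1 := fun k => key (tv.isPGroup_closure hV hc' tv' k)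
  have e2 := fun k => key (Set.pair_comm _ _ ▸ tv'.isPGroup_closure hV hc' tv k)
  have hfix : ∀ x (hx : x ∈ A), x ∈ D.map (cjh (g : G)) →
      (ρ g * ρ ⟨a, haH⟩ * (ρ g)⁻¹) (⟨x, hx⟩ : A) = (⟨x, hx⟩ : A) := fun x hx k => by
    rw [← map_inv, ← map_mul, ← map_mul]
    refine (secAct_fix hA hB _ hx).2 ?_
    have := conj_mem_of_mem_normalizer (hB g.2) (haD _ (GS.mem_map_conj.1 k))
    convert this using 1
    simp only [coe_mul, coe_inv]
    group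
  have hgA : D.map (cjh (g : G)) ≤ A := by
    rintro _ ⟨x, hx, rfl⟩
    exact conj_mem_of_mem_normalizer (hA g.2) (hDA hx)
  have hgB : B ≤ D.map (cjh (g : G)) := fun x hx => GS.mem_map_conj.2 (hBD (inv_conj_mem_of_mem_normalizer (hB g.2) hx))
  have hBC : B ≤ D ⊓ D.map (cjh (g : G)) := le_inf hBD hgB
  have h1 : H ≤ secC (D ⊓ D.map (cjh (g : G))) B := s.le_of_conj ha haE (fun x hx => secC_mono (hE hx) (inf_le_left.trans hDA) le_rfl
    (mem_normalizer_of_secC (hE hx) (inf_le_left.trans hDA) hBC) (hE hx).2.1) fun k hk => by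
      have hka := mul_mem (mul_mem hk haH) (inv_mem hk)
      have h2 : ∀ x ∈ D ⊓ D.map (cjh (g : G)), x⁻¹ * (k * a * k⁻¹ * x * (k * a * k⁻¹)⁻¹) ∈ B := fun x hx => by
        refine (secAct_fix hA hB (⟨k, hk⟩ * ⟨a, haH⟩ * ⟨k, hk⟩⁻¹) (hDA hx.1)).1 ?_
        rw [map_mul, map_mul, map_inv]
        exact fix_of_mem_closure (IsTv.conj_mem_closure hV hc' hG ⟨_, rfl⟩ (hr g) tv tv' e1 e2 (hr _) (tv.conj _))
          ((secAct_fix hA hB _ _).2 (haD x hx.1)) (hfix x _ hx.2)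
      exact ⟨mem_normalizer_of_finite fun x hx => by simpa using mul_mem hx (hBC (h2 x hx)), hB hka, h2⟩
  have h2 : coreIn H D = D ⊓ D.map (cjh (g : G)) := le_antisymm (le_inf coreIn_le fun x hx => GS.mem_map_conj.2
    (by simpa using hx g⁻¹ (inv_mem g.2))) (le_coreIn inf_le_left fun k hk => (h1 hk).1)
  refine ⟨?_, h2 ▸ h1⟩
  rw [h2, inf_relIndex_left]
  refine relIndex_eq_of_not_le (fun x hx => mem_normalizer_of_secC (hE (hAE hx)) hgA hgB) hgA hDA ?_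
    fun k => e2 (hfix y hyA (k hyD))
  have h3 := CL.Grp.card_eq_relIndex_mul_card hgA
  rw [GS.card_map_conj, card_of_relIndex hDA hi] at h3
  exact (Nat.eq_of_mul_eq_mul_right Nat.card_pos h3).symm

/-- a torus of the `SL₂(p)` induced on `A / C` -/
theorem exists_torus (hA : H ≤ 𝒩(A)) (hC : H ≤ 𝒩(C)) (hAE : A ≤ E) (hE : E ≤ secC A C) (hel : frat A ≤ C)
    (hCD : C ≤ D) (hDA : D ≤ A) (hi : C.relIndex D = p) (hi' : D.relIndex A = p) (hP : P ≤ 𝒩(D)) (hn : ¬ H ≤ 𝒩(D))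
    (ha : a ∈ P) (haE : a ∉ E) (l m : ℕ) (hd : (p : ℤ) ∣ l * m - 1) : ∃ k ∈ H, (orderOf k).Coprime p ∧
      (∀ x ∈ D, (x ^ l)⁻¹ * (k * x * k⁻¹) ∈ C) ∧ (∀ x ∈ A, (x ^ m)⁻¹ * (k * x * k⁻¹) ∈ D) ∧
      (l = m → ∀ x ∈ A, (x ^ l)⁻¹ * (k * x * k⁻¹) ∈ C) ∧ (a ^ (l * l))⁻¹ * (k * a * k⁻¹) ∈ secC A C := by
  have hCA := hCD.trans hDA
  have hAP := hAE.trans s.le
  have hAH := hAP.trans s.PH
  have := (normal_subgroupOf_iff_le_normalizer hCA).2 (hAH.trans hC)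
  obtain ⟨hc, hpw⟩ := (frat_le_iff (s.pgE.to_le hAE)).1 hel
  have hc' := quot_comm hc
  have hel' := quot_pow hpw
  have hV : Nat.card (A ⧸ C.subgroupOf A) = p ^ 2 := by
    rw [pow_two]; exact (relIndex_mul_relIndex C D A hCD hDA).symm.trans (by rw [hi, hi'])
  set ρ := secAct H A C hA hC
  obtain ⟨d, hdD, hdC⟩ := exists_of_relIndex hi
  have hdA := hDA hdD
  have haH := s.PH ha
  have hsup := eq_sup_zpowers_of_relIndex hCD (hi ▸ hp.out) hdD hdC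
  have hz : ∀ x (hx : x ∈ A), ((⟨x, hx⟩ : A) : A ⧸ C.subgroupOf A) ∈ zpowers ((⟨d, hdA⟩ : A) : A ⧸ C.subgroupOf A) ↔ x ∈ D :=
    fun x hx => hsup ▸ mk_mem_zpowers hdA (hC (hAH hdA)) hx
  have tv : IsTv p (ρ ⟨a, haH⟩) (⟨d, hdA⟩ : A) := ⟨hel' _, fun k => hdC (mem_subgroupOf.1 ((QuotientGroup.eq_one_iff _).1 k)),
    (secAct_fix hA hC _ hdA).2 (comm_mem_of_card_le s.pg hCD (hDA.trans hAP) ((hDA.trans hAH).trans hC) ha (hC haH) (hP ha)
      (card_of_relIndex hCD hi).le hdD), fun x => by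
    obtain ⟨⟨x, hx⟩, rfl⟩ := QuotientGroup.mk_surjective x
    exact (hz _ (mul_mem (inv_mem hx) (conj_mem_of_mem_normalizer (hA haH) hx))).2 (comm_mem_of_card_le s.pg hDA hAP
      (hAP.trans hP) ha (hP ha) (hA haH) (card_of_relIndex hDA hi').le hx)⟩
  have t1 : ρ ⟨a, haH⟩ ≠ 1 := fun k => hn fun g hg => mem_normalizer_of_secC (s.gen _ (s.le_of_mem ha haE hE
    ((secAct_eq_one hA hC _).1 k)) (le_normalizer_secC hA hC) hg) hDA hCD
  obtain ⟨g, hgH, hg⟩ : ∃ g ∈ H, g * d * g⁻¹ ∉ D := by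
    by_contra! k
    exact hn (hsup ▸ le_normalizer_sup_zpowers hC fun g hg => hsup.ge (k g hg))
  have hg' : ρ ⟨g, hgH⟩ (⟨d, hdA⟩ : A) ∉ zpowers ((⟨d, hdA⟩ : A) : A ⧸ C.subgroupOf A) := fun k => hg ((hz _ _).1 k)
  obtain ⟨k, -, k1, k2, k3⟩ := exists_torus_of_card_sq hV hel' ρ tv t1 hg' l m hd
  set z : A ⧸ C.subgroupOf A := QuotientGroup.mk (⟨d, hdA⟩ : A)
  set z' := ρ ⟨g, hgH⟩ z
  obtain ⟨u, hu, v, hv, ⟨n, hn⟩, hv', rfl, -⟩ := CL.Grp.exists_pPart_mul_pPrimePart hp.out k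
  have hw : ∀ (w : A ⧸ C.subgroupOf A) (j : ℕ), (p : ℤ) ∣ j * (if j = l then m else l) - 1 → ρ (u * v) w = w ^ j →
      (ρ (u * v) ^ (p - 1)) w = w := fun w j hj e => by
    have h1 : ∀ i : ℕ, (ρ (u * v) ^ i) w = w ^ j ^ i := fun i => by
      induction i with
      | zero => simp
      | succ i ih => rw [pow_succ, MulAut.mul_apply, e, map_pow, ih, ← pow_mul, pow_succ]
    have h2 : ¬ p ∣ j := fun k => hp.out.one_lt.ne' (by
      have := (dvd_sub_right ((Int.natCast_dvd_natCast.2 k).mul_right _)).1 hj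
      exact_mod_cast Int.eq_one_of_dvd_one (by positivity) this)
    rw [h1, ← pow_one w, ← pow_mul, one_mul, pow_eq_pow_iff_modEq]
    refine Nat.ModEq.of_dvd (orderOf_dvd_of_pow_eq_one (hel' w)) ?_
    rw [← Nat.totient_prime hp.out]
    exact Nat.ModEq.pow_totient ((Nat.Prime.coprime_iff_not_dvd hp.out).2 h2).symm
  have h1 : ρ (u * v) ^ (p - 1) = 1 := mulAut_ext_of_card_sq hV hel' tv.ne_one hg' (hw z l (by simpa using hd) k1)
    (hw z' m (by split_ifs with h; exacts [by rw [h] at hd ⊢; rwa [← h] at hd ⊢, mul_comm (l : ℤ) m ▸ hd]) k2)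
  have h2 : ρ u = 1 := by
    obtain ⟨i, hi⟩ := hu
    refine orderOf_eq_one_iff.1 (Nat.eq_one_of_dvd_coprimes (Nat.Coprime.pow_left n (show p.Coprime (p - 1) from
      (Nat.coprime_self_sub_right hp.out.one_le).2 (Nat.coprime_one_right p))) (hn ▸ orderOf_map_dvd ρ u)
      (orderOf_dvd_of_pow_eq_one ?_))
    rw [← hi, map_zpow, ← zpow_natCast, ← zpow_mul, mul_comm, zpow_mul, zpow_natCast, h1, one_zpow]
  have h3 : ρ (u * v) = ρ v := by rw [map_mul, h2, one_mul]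
  rw [map_mul, map_mul, map_inv] at k3
  rw [h3] at k1 k2 k3
  have hq : ∀ (j : ℕ) x (hx : x ∈ A), (((⟨x, hx⟩ : A) : A ⧸ C.subgroupOf A) ^ j)⁻¹ * ρ v (⟨x, hx⟩ : A) =
      ((⟨(x ^ j)⁻¹ * (v * x * (v : G)⁻¹), mul_mem (inv_mem (A.pow_mem hx j)) (conj_mem_of_mem_normalizer (hA v.2) hx)⟩ : A) :
        A ⧸ C.subgroupOf A) := fun j x hx => rfl
  have hm : ∀ w, ∃ i : ℤ, ρ v w = (z ^ l) ^ i * (w ^ m * ((z ^ m) ^ i)⁻¹) := fun w => by
    obtain ⟨i, j, rfl⟩ := exists_eq_of_card_sq hV hel' tv.ne_one hg' w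
    refine ⟨i, ?_⟩
    rw [map_mul, map_zpow, map_zpow, k1, k2, (hc' _ _).mul_pow, (hc' ((z ^ i) ^ m) _).eq]
    simp only [← zpow_natCast, ← zpow_mul, mul_comm (m : ℤ)]
    group
  refine ⟨v, v.2, by rwa [orderOf_coe], fun x hx => ?_, fun x hx => ?_, fun e x hx => ?_, ?_⟩
  · obtain ⟨i, hi⟩ := (hz x (hDA hx)).2 hx
    have := hq l x (hDA hx)
    rw [← hi, map_zpow, k1, ← zpow_natCast, ← zpow_natCast, ← zpow_mul, ← zpow_mul, mul_comm i, inv_mul_cancel] at this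
    exact mem_subgroupOf.1 ((QuotientGroup.eq_one_iff _).1 this.symm)
  · obtain ⟨i, e⟩ := hm (⟨x, hx⟩ : A)
    refine (hz _ (mul_mem (inv_mem (A.pow_mem hx m)) (conj_mem_of_mem_normalizer (hA v.2) hx))).1 ?_
    rw [← hq m x hx, e, (hc' ((z ^ l) ^ i) _).eq, mul_assoc, inv_mul_cancel_left]
    exact mul_mem (inv_mem (zpow_mem (Subgroup.pow_mem _ (mem_zpowers z) m) i)) (zpow_mem (Subgroup.pow_mem _ (mem_zpowers z) l) i)
  · obtain ⟨i, e'⟩ := hm (⟨x, hx⟩ : A)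
    have := hq l x hx
    rw [e', (hc' ((z ^ l) ^ i) _).eq, ← e, mul_assoc, inv_mul_cancel, mul_one, inv_mul_cancel] at this
    exact mem_subgroupOf.1 ((QuotientGroup.eq_one_iff _).1 this.symm)
  · refine (secAct_eq_one hA hC ((⟨a, haH⟩ ^ (l * l))⁻¹ * (v * ⟨a, haH⟩ * v⁻¹))).1 ?_
    rw [map_mul, map_inv, ← k3, map_mul, map_mul, map_inv, inv_mul_cancel]

end Side

end CL.Fus.Rk
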