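/-
Two subgroups of index `p` with no common invariant subgroup.
-/
import Cfsg.Agent.Fus.Rk3T
import Cfsg.Agent.Grp.PGroupSCN

set_option autoImplicit false
set_option linter.unusedSectionVars false

namespace CL.Fus.Rk

open Cfsg Subgroup
open scoped commutatorElement

local notation "𝒩(" X ")" => Subgroup.normalizer ((X : Subgroup _) : Set _)
local notation "𝒞(" X ")" => Subgroup.centralizer ((X : Subgroup _) : Set _)

variable {G : Type*} [Group G] {p : ℕ} {P E H A B C D K W X Y Z T : Subgroup G} {a g h u x y : G}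

theorem comm_of_cen (hx : x ∈ 𝒞(X)) (hy : y ∈ X) : Commute y x := mem_centralizer_iff.1 hx y hy

theorem mem_cen (h : ∀ y ∈ X, Commute y x) : x ∈ 𝒞(X) := mem_centralizer_iff.2 h

theorem mem_cen_zpowers (h : Commute y x) : x ∈ 𝒞(zpowers y) := mem_cen (by rintro _ ⟨i, rfl⟩; exact h.zpow_left i)

theorem mem_cen_sup (h1 : x ∈ 𝒞(X)) (h2 : x ∈ 𝒞(Y)) : x ∈ 𝒞(X ⊔ Y) :=
  le_centralizer_iff.1 (sup_le (le_centralizer_iff.1 (zpowers_le.2 h1)) (le_centralizer_iff.1 (zpowers_le.2 h2)))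
    (mem_zpowers x)

theorem inv_mul_conj_eq_one : x⁻¹ * (a * x * a⁻¹) = 1 ↔ Commute x a := by
  rw [inv_mul_eq_one, eq_comm, mul_inv_eq_iff_eq_mul, eq_comm]; rfl

/-- the central elements of order dividing `p` -/
def omZ (p : ℕ) (P : Subgroup G) : Subgroup G where
  carrier := {x | x ∈ P ∧ x ∈ centralizer (P : Set G) ∧ x ^ p = 1}
  mul_mem' hx hy := ⟨mul_mem hx.1 hy.1, mul_mem hx.2.1 hy.2.1, by
    rw [(comm_of_cen hy.2.1 hx.1).mul_pow, hx.2.2, hy.2.2, one_mul]⟩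
  one_mem' := ⟨one_mem _, one_mem _, one_pow p⟩
  inv_mem' hx := ⟨inv_mem hx.1, inv_mem hx.2.1, by rw [inv_pow, hx.2.2, inv_one]⟩

theorem omZ_le : omZ p P ≤ P := fun _ h => h.1

theorem le_cen_omZ : P ≤ 𝒞(omZ p P) := le_centralizer_iff.1 fun _ h => h.2.1

theorem le_normalizer_omZ (h : H ≤ 𝒩(X)) : H ≤ 𝒩(omZ p X) := le_normalizer_of_conj fun _ hg _ hx =>
  ⟨conj_mem_of_mem_normalizer (h hg) hx.1, conj_mem_of_mem_normalizer (CL.Grp.le_normalizer_centralizer' h hg) hx.2.1,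
    by rw [conj_pow, hx.2.2, mul_one, mul_inv_cancel]⟩

theorem omZ_sup (hX : X ≤ omZ p X) (hY : Y ≤ omZ p Y) (h : X ≤ 𝒞(Y)) : X ⊔ Y ≤ omZ p (X ⊔ Y) :=
  sup_le (fun _ hx => ⟨mem_sup_left hx, mem_cen_sup (hX hx).2.1 (h hx), (hX hx).2.2⟩)
    fun _ hx => ⟨mem_sup_right hx, mem_cen_sup (le_centralizer_iff.1 h hx) (hY hx).2.1, (hY hx).2.2⟩

theorem omZ_of_le (h : X ≤ omZ p Y) : X ≤ omZ p X := fun _ hx =>
  ⟨hx, centralizer_le (h.trans omZ_le) (h hx).2.1, (h hx).2.2⟩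

theorem omZ_zpowers (h : x ^ p = 1) : zpowers x ≤ omZ p (zpowers x) :=
  zpowers_le.2 ⟨mem_zpowers x, mem_cen_zpowers (Commute.refl x), h⟩

theorem Rank3.card_le (rk : Rank3 p P) (hX : X ≤ P) (h : X ≤ omZ p X) : Nat.card X ≤ p ^ 3 := by
  have := rk X ⊥ bot_le hX (commutator_le.2 fun x hx y hy => mem_bot.2 (comm_of_cen (h hy).2.1 hx).commutator_eq)
    fun x hx => mem_bot.2 (h hx).2.2
  rwa [relIndex_bot_left] at this

/-- the subgroup generated by the `H`-conjugates of `X` -/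
def ncl (H X : Subgroup G) : Subgroup G := closure {x | ∃ h ∈ H, ∃ y ∈ X, x = h * y * h⁻¹}

theorem ncl_le_iff : ncl H X ≤ K ↔ ∀ h ∈ H, ∀ y ∈ X, h * y * h⁻¹ ∈ K :=
  (closure_le K).trans ⟨fun k h hh y hy => k ⟨h, hh, y, hy, rfl⟩, fun k _ ⟨h, hh, y, hy, e⟩ => e ▸ k h hh y hy⟩

theorem le_ncl : X ≤ ncl H X := fun x hx => by simpa using ncl_le_iff.1 le_rfl 1 (one_mem H) x hx

theorem ncl_le (h : X ≤ K) (hn : H ≤ 𝒩(K)) : ncl H X ≤ K :=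
  ncl_le_iff.2 fun _ hg _ hy => conj_mem_of_mem_normalizer (hn hg) (h hy)

theorem le_normalizer_ncl : H ≤ 𝒩(ncl H X) := le_normalizer_of_conj fun g hg _ hx =>
  (ncl_le_iff (K := (ncl H X).comap (cjh g))).2 (fun h hh y hy => by
    have := ncl_le_iff.1 (le_refl (ncl H X)) _ (mul_mem hg hh) y hy
    rw [mem_comap]
    convert this using 1
    simp [mul_assoc]) hx

theorem homOn_comm_left (hX : X ≤ E) (hZ : Z ≤ E ⊓ 𝒞(E)) (h : ∀ x ∈ X, ⁅x, y⁆ ∈ Z) : HomOn X fun x => ⁅x, y⁆ :=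
  fun _ ha _ hb => (CL.Grp.comm_mul_left_of_commute (comm_of_cen (hZ (h _ hb)).2 (hX ha))).trans
    (comm_of_cen (hZ (h _ ha)).2 (hZ (h _ hb)).1).eq

theorem homOn_comm_right (hX : X ≤ E) (hZ : Z ≤ E ⊓ 𝒞(E)) (h : ∀ x ∈ X, ⁅y, x⁆ ∈ Z) : HomOn X fun x => ⁅y, x⁆ :=
  fun _ ha _ hb => CL.Grp.comm_mul_right_of_commute (comm_of_cen (hZ (h _ hb)).2 (hX ha))

variable [hp : Fact p.Prime] [Finite G]

theorem exists_mem_omZ (hP : IsPGroup p P) (hX : X ≤ P) (hn : P ≤ 𝒩(X)) (h : X ≠ ⊥) : ∃ x ∈ X, x ≠ 1 ∧ x ∈ omZ p P := by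
  have := hP.isNilpotent
  obtain ⟨w, hw, h1, hc⟩ := CL.Grp.exists_mem_notMem_commutator_mem_in (A := ⊥) hX hn fun k => h (le_bot_iff.1 k)
  obtain ⟨j, h2, h3⟩ := exists_pow_ne_one_pow_eq_one hP (hX hw) h1
  exact ⟨_, pow_mem hw _, h2, pow_mem (hX hw) _, pow_mem (mem_cen fun g hg =>
    (commutatorElement_eq_one_iff_commute.1 (hc g hg)).symm) _, h3⟩

theorem Rank3.mem_of_card (rk : Rank3 p P) (hX : X ≤ P) (h : X ≤ omZ p X) (hc : p ^ 3 ≤ Nat.card X) (hx : x ∈ P)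
    (hxc : x ∈ 𝒞(X)) (hxp : x ^ p = 1) : x ∈ X := by_contra fun k => by
  have := rk.card_le (sup_le hX (zpowers_le.2 hx)) (omZ_sup h (omZ_zpowers hxp) (le_centralizer_iff.1 (zpowers_le.2 hxc)))
  rw [card_sup_zpowers_of_normalizer (centralizer_le_normalizer _ hxc) k (hxp ▸ one_mem _)] at this
  have h1 := hp.out.two_le
  have h2 : 0 < p ^ 3 := by positivity
  nlinarith

theorem lam (rk : Rank3 p P) (hE : E ≤ P) (hHE : H ≤ 𝒩(E)) (hW : H ≤ 𝒩(W)) (hWE : W ≤ omZ p E) (hu : u ∈ E)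
    (hup : u ^ p = 1) (huW : u ∉ W) (hc : p ^ 2 ≤ Nat.card W) (hZ : Nat.card Z = p) (hZn : ¬ H ≤ 𝒩(Z))
    (h : ∀ x ∈ E, ⁅u, x⁆ ∈ Z) : H ≤ 𝒩(W ⊔ zpowers u) := by
  have hWc : ∀ x ∈ E, x ∈ 𝒞(W) := fun x hx => centralizer_le hWE (le_cen_omZ hx)
  have key : ∀ g ∈ H, g ∉ 𝒩(Z) → g ∈ 𝒩(W ⊔ zpowers u) := fun g hg hgZ => by
    have h1 : Commute u (g * u * g⁻¹) := by
      by_contra k
      refine hgZ (inv_mem_iff.1 (mem_normalizer_of_finite fun z hz => ?_))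
      obtain ⟨m, rfl⟩ := exists_eq_zpow_of_card_prime hZ (h _ (conj_mem_of_mem_normalizer (hHE hg) hu))
        (fun e => k (commutatorElement_eq_one_iff_commute.1 e)) hz
      rw [← conj_zpow]
      refine zpow_mem ?_ m
      have := inv_mem (h _ (inv_conj_mem_of_mem_normalizer (hHE hg) hu))
      convert this using 1
      simp only [commutatorElement_def]
      group
    have h2 := rk.mem_of_card (sup_le ((hWE.trans omZ_le).trans hE) (zpowers_le.2 (hE hu))) (omZ_sup (omZ_of_le hWE)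
      (omZ_zpowers hup) (le_centralizer_iff.1 (zpowers_le.2 (hWc u hu)))) (by
        rw [card_sup_zpowers_of_normalizer (centralizer_le_normalizer _ (hWc u hu)) huW (hup ▸ one_mem _), pow_succ']
        exact Nat.mul_le_mul_left p hc) (hE (conj_mem_of_mem_normalizer (hHE hg) hu))
      (mem_cen_sup (hWc _ (conj_mem_of_mem_normalizer (hHE hg) hu)) (mem_cen_zpowers h1))
      (by rw [conj_pow, hup, mul_one, mul_inv_cancel])
    exact mem_normalizer_of_finite fun x hx => (sup_le (fun _ hc => mem_sup_left (conj_mem_of_mem_normalizer (hW hg) hc))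
      (zpowers_le.2 h2) : W ⊔ zpowers u ≤ (W ⊔ zpowers u).comap (cjh g)) hx
  obtain ⟨g, hg, hgZ⟩ := SetLike.not_le_iff_exists.1 hZn
  intro k hk
  by_cases e : k ∈ 𝒩(Z)
  · exact (mul_mem_cancel_left (key g hg hgZ)).1 (key _ (mul_mem hg hk) fun c => hgZ ((mul_mem_cancel_right e).1 c))
  · exact key k hk e

theorem ncl_cls (hp2 : p ≠ 2) (hE : H ≤ 𝒩(E)) (hX : X ≤ E) (hY : H ≤ 𝒩(Y)) (hYE : Y ≤ omZ p E) (hXp : ∀ x ∈ X, x ^ p = 1)
    (h : ∀ x ∈ X, ∀ b ∈ E, x⁻¹ * (b * x * b⁻¹) ∈ Y) :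
    ∀ x ∈ ncl H X, x ^ p = 1 ∧ ∀ b ∈ E, ⁅x, b⁆ ∈ Y := by
  have hEY : E ≤ 𝒩(Y) := (le_cen_omZ.trans (centralizer_le hYE)).trans (centralizer_le_normalizer _)
  have h1 : ncl H X ≤ commSub E Y hEY E := ncl_le_iff.2 fun g hg y hy => ⟨conj_mem_of_mem_normalizer (hE hg) (hX hy),
    fun b hb => by
      have := conj_mem_of_mem_normalizer (hY hg) (h y hy _ (inv_conj_mem_of_mem_normalizer (hE hg) hb))
      convert this using 1
      group⟩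
  have h2 : ∀ x ∈ ncl H X, ∀ b ∈ E, ⁅x, b⁆ ∈ Y := fun x hx b hb => by
    have := (h1 (inv_mem hx)).2 b hb
    rwa [inv_mul_conj_eq_commutator, inv_inv] at this
  refine fun x hx => ⟨?_, h2 x hx⟩
  induction hx using closure_induction with
  | mem x hx => obtain ⟨g, -, y, hy, rfl⟩ := hx; rw [conj_pow, hXp y hy, mul_one, mul_inv_cancel]
  | one => exact one_pow p
  | mul x y hx hy ex ey =>
    have h3 := hYE (h2 y hy x (h1 hx).1)
    rw [CL.Grp.mul_pow_prime_of_commute_comm hp.out hp2 (comm_of_cen h3.2.1 (h1 hx).1) (comm_of_cen h3.2.1 (h1 hy).1) h3.2.2,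
      ex, ey, one_mul]
  | inv x _ ex => rw [inv_pow, ex, inv_one]

namespace Side

variable (s : Side p P E H)
include s

theorem omZ_le_E (r : ¬ Tr p H E ⊥) : omZ p P ≤ omZ p E := fun _ hx =>
  ⟨s.cen r hx.1 (centralizer_le s.le hx.2.1), centralizer_le s.le hx.2.1, hx.2.2⟩

theorem mem_omZ (hx : x ∈ omZ p E) (ha : a ∈ P) (haE : a ∉ E) (h : Commute a x) : x ∈ omZ p P :=
  ⟨s.le hx.1, s.sup ha haE ▸ mem_cen_sup hx.2.1 (mem_cen_zpowers h), hx.2.2⟩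

/-- an inverted central subgroup that contains the center of `P` is all of `E` -/
theorem split (hp2 : p ≠ 2) (hW : H ≤ 𝒩(W)) (hWE : W ≤ omZ p E) (hZ : omZ p P ≤ W) (c1 : Nat.card (omZ p P) = p)
    (c2 : Nat.card W = p ^ 2) (hn : ¬ H ≤ 𝒩(omZ p P)) (ht : Tr p H E W) : E ≤ W := by
  have hWE' := hWE.trans omZ_le
  have hEW : E ≤ 𝒞(W) := le_cen_omZ.trans (centralizer_le hWE)
  obtain ⟨a, ha, haE⟩ := s.exists_notMem
  obtain ⟨τ, hτ, cτ, -, -, h1, -⟩ := s.exists_torus hW le_normalizer_bot hWE' (hEW.trans (secC_bot W).ge)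
    ((frat_le_iff (s.pgE.to_le hWE')).2 ⟨commutator_le.2 fun x hx y hy => mem_bot.2 (comm_of_cen (hWE hy).2.1
      (hWE' hx)).commutator_eq, fun x hx => mem_bot.2 (hWE hx).2.2⟩) bot_le hZ (by rwa [relIndex_bot_left])
    (relIndex_eq_of_card hp.out.pos hZ (c1.trans (pow_one p).symm) c2) (le_normalizer_omZ le_normalizer) hn ha haE
    (p - 1) (p - 1) dvd_pred_mul_pred_sub_one
  have h2 : ∀ x ∈ W, τ * x * τ⁻¹ = x⁻¹ := fun x hx => by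
    rw [← pow_pred_eq_inv (hWE hx).2.2]; exact (inv_mul_eq_one.1 (h1 rfl x hx)).symm
  have h3 : ∀ x ∈ W, x ∈ centralizer {τ} → x = 1 := fun x hx k => eq_one_of_eq_inv hp2 (hWE hx).2.2 (by
    rw [← h2 x hx, ← mem_centralizer_singleton_iff.1 k, mul_inv_cancel_right])
  have hτE := ht τ hτ cτ
  have h4 : ∀ x ∈ E, ∃ c ∈ E ⊓ centralizer {τ}, x⁻¹ * c ∈ W := fun x hx => by
    obtain ⟨c, hc, e, k⟩ := exists_cen s.pgE cτ hτE.1 hτE.2.1 hWE' hx hτE.2.2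
    exact ⟨c, ⟨hc, mem_centralizer_singleton_iff.2 (mul_inv_eq_iff_eq_mul.1 e).symm⟩, k⟩
  have h5 : H ⊓ (𝒞(W) ⊓ secC E W) ≤ P ⊔ 𝒞(E) := s.le_sup inf_le_left (CL.Grp.le_normalizer_inf' le_normalizer
    (CL.Grp.le_normalizer_inf' (CL.Grp.le_normalizer_centralizer' hW) (le_normalizer_secC s.norm hW)))
    fun k hk c => (secC_bot E).le (secC_trans s.pgE c hk.2.2 ((secC_bot W).ge hk.2.1) hWE')
  have h6 : P ≤ 𝒩(E ⊓ centralizer {τ}) := le_normalizer_of_conj fun g hg x hx => by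
    have hgH := s.PH hg
    have k1 : τ⁻¹ * (g⁻¹ * τ * g) ∈ 𝒞(W) := mem_centralizer_of_conj_eq fun w hw => by
      have e1 := h2 _ (conj_mem_of_mem_normalizer (hW hgH) hw)
      have e2 := h2 w hw
      calc _ = τ⁻¹ * (g⁻¹ * (τ * (g * w * g⁻¹) * τ⁻¹) * g) * τ := by group
        _ = τ⁻¹ * w⁻¹ * τ := by rw [e1]; group
        _ = w := by rw [← e2]; group
    have k2 : τ⁻¹ * (g⁻¹ * τ * g) ∈ secC E W := mul_mem (inv_mem hτE)
      (inv_conj_mem_of_mem_normalizer (le_normalizer_secC s.norm hW hgH) hτE)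
    obtain ⟨b, hb, c, hc, e⟩ := s.exists_mul (h5 (mem_inf.2 ⟨mul_mem (inv_mem hτ) (mul_mem (mul_mem (inv_mem hgH) hτ) hgH),
      k1, k2⟩))
    have hbW : b ∈ 𝒞(W) := (mul_mem_cancel_right (centralizer_le hWE' hc)).1 (e ▸ k1)
    have hbE : b ∈ E := by_contra fun k => by
      have := card_le_of_le (fun x hx => s.mem_omZ (hWE hx) hb k (comm_of_cen hbW hx).symm : W ≤ omZ p P)
      rw [c1, c2] at this
      nlinarith [hp.out.two_le]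
    obtain ⟨u, hu, hw⟩ := h4 b hbE
    have k3 := k2.2.2 x hx.1
    have k4 : τ⁻¹ * (g⁻¹ * τ * g) * x * (τ⁻¹ * (g⁻¹ * τ * g))⁻¹ = u * x * u⁻¹ := by
      rw [← e, show u = b * (b⁻¹ * u) by group, show b * c * x * (b * c)⁻¹ = b * (c * x * c⁻¹) * b⁻¹ by group,
        conj_eq_of_mem_centralizer hc hx.1, show b * (b⁻¹ * u) * x * (b * (b⁻¹ * u))⁻¹ = b * (b⁻¹ * u * x * (b⁻¹ * u)⁻¹) * b⁻¹
          by group, conj_eq_of_mem_centralizer (hWE hw).2.1 hx.1]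
    have k5 := h3 _ k3 (k4 ▸ (mul_mem (inv_mem hx) (mul_mem (mul_mem hu hx) (inv_mem hu))).2)
    refine ⟨conj_mem_of_mem_normalizer (s.norm hgH) hx.1, mem_centralizer_singleton_iff.2 ?_⟩
    have k6 : Commute x (g⁻¹ * τ * g) := by
      simpa using (show Commute x τ from mem_centralizer_singleton_iff.1 hx.2).mul_right (inv_mul_conj_eq_one.1 k5)
    calc _ = g * (x * (g⁻¹ * τ * g)) * g⁻¹ := by group
      _ = _ := by rw [k6.eq]; group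
  have h7 : E ⊓ centralizer {τ} = ⊥ := by_contra fun k => by
    obtain ⟨x, hx, h1, hxZ⟩ := exists_mem_omZ s.pg (inf_le_left.trans s.le) h6 k
    exact h1 (h3 x (hZ hxZ) hx.2)
  intro x hx
  obtain ⟨c, hc, k⟩ := h4 x hx
  rw [h7, mem_bot] at hc
  simpa [hc] using k

end Side

theorem frat_sup_le (hC : IsPGroup p ↥(C ⊔ Z)) (hZ : Z ≤ omZ p (C ⊔ Z)) : frat (C ⊔ Z) ≤ frat C := by
  have hC' := hC.to_le le_sup_left
  have hn : C ≤ 𝒩(Z) := (le_sup_left.trans (le_cen_omZ.trans (centralizer_le hZ))).trans (centralizer_le_normalizer _)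
  refine (frat_le_iff hC).2 ⟨commutator_le.2 fun x hx y hy => ?_, fun x hx => ?_⟩
  · obtain ⟨c, hc, z, hz, rfl⟩ := (mem_sup_of_le_normalizer hn).1 hx
    obtain ⟨d, hd, w, hw, rfl⟩ := (mem_sup_of_le_normalizer hn).1 hy
    have h1 := (comm_of_cen (hZ hz).2.1 hy).eq
    have h2 := (comm_of_cen (hZ hw).2.1 (mem_sup_left (inv_mem hc))).eq
    have : ⁅c * z, d * w⁆ = ⁅c, d⁆ := calc
      _ = c * (z * (d * w)) * z⁻¹ * c⁻¹ * w⁻¹ * d⁻¹ := by simp only [commutatorElement_def]; group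
      _ = c * d * (w * c⁻¹) * w⁻¹ * d⁻¹ := by rw [← h1]; group
      _ = _ := by rw [← h2, commutatorElement_def]; group
    exact this ▸ commutator_le_frat hC' (commutator_mem_commutator hc hd)
  · obtain ⟨c, hc, z, hz, rfl⟩ := (mem_sup_of_le_normalizer hn).1 hx
    rw [(comm_of_cen (hZ hz).2.1 (mem_sup_left hc)).mul_pow, (hZ hz).2.2, mul_one]
    exact pow_mem_frat hC' hc

/-- two sides with the same `P` -/
structure Pair (p : ℕ) (P E₁ H₁ E₂ H₂ : Subgroup G) : Prop where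
  s₁ : Side p P E₁ H₁
  s₂ : Side p P E₂ H₂
  ne : E₁ ≠ E₂
  rk : Rank3 p P
  r₁ : ¬ Tr p H₁ E₁ ⊥
  r₂ : ¬ Tr p H₂ E₂ ⊥

namespace Pair

variable {E₁ H₁ E₂ H₂ : Subgroup G} (d : Pair p P E₁ H₁ E₂ H₂)
include d

theorem symm : Pair p P E₂ H₂ E₁ H₁ := ⟨d.s₂, d.s₁, d.ne.symm, d.rk, d.r₂, d.r₁⟩

theorem n₁ : P ≤ 𝒩(E₁) := d.s₁.PH.trans d.s₁.norm

theorem n₂ : P ≤ 𝒩(E₂) := d.s₂.PH.trans d.s₂.norm

theorem nD : P ≤ 𝒩(E₁ ⊓ E₂) := CL.Grp.le_normalizer_inf' d.n₁ d.n₂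

theorem not_le : ¬ E₁ ≤ E₂ := fun h => d.ne (eq_of_le_of_card_ge h
  (Nat.eq_of_mul_eq_mul_left hp.out.pos (d.s₂.card.symm.trans d.s₁.card)).le)

theorem i₁ : (E₁ ⊓ E₂).relIndex E₁ = p := by
  rw [inf_relIndex_left]; exact relIndex_eq_of_not_le d.n₂ d.s₂.le d.s₁.le d.s₂.idx d.not_le

theorem i₂ : (E₁ ⊓ E₂).relIndex E₂ = p := inf_comm E₁ E₂ ▸ d.symm.i₁

theorem sup : E₁ ⊔ E₂ = P := by
  obtain ⟨a, ha, k⟩ := SetLike.not_le_iff_exists.1 d.symm.not_le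
  exact le_antisymm (sup_le d.s₁.le d.s₂.le) (d.s₁.le_of_mem (d.s₂.le ha) k le_sup_left (mem_sup_right ha))

theorem fratP : frat P ≤ E₁ ⊓ E₂ :=
  le_inf (frat_le_of_relIndex (d.s₁.idx ▸ hp.out)) (frat_le_of_relIndex (d.s₂.idx ▸ hp.out))

theorem comm_mem (hx : x ∈ P) (hy : y ∈ P) : x⁻¹ * (y * x * y⁻¹) ∈ E₁ ⊓ E₂ :=
  d.fratP (commutator_le_frat d.s₁.pg (inv_mul_conj_mem_commutator hx hy))

theorem Z_ne : omZ p P ≠ ⊥ := fun k => by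
  obtain ⟨a, ha, haE⟩ := d.s₁.exists_notMem
  obtain ⟨x, -, h1, h2⟩ := exists_mem_omZ d.s₁.pg le_rfl le_normalizer fun e => haE (by rw [e, mem_bot] at ha; simp [ha])
  exact h1 (by rwa [k] at h2)

theorem Z₁_le : ncl H₁ (omZ p P) ≤ omZ p E₁ := ncl_le (d.s₁.omZ_le_E d.r₁) (le_normalizer_omZ d.s₁.norm)

theorem lt_Z₁ (h : ¬ H₁ ≤ 𝒩(omZ p P)) : p * Nat.card (omZ p P) ≤ Nat.card (ncl H₁ (omZ p P)) :=
  mul_card_le_of_lt (d.s₁.pgE.to_le (d.Z₁_le.trans omZ_le)) (lt_of_le_of_ne le_ncl fun e => h (e ▸ le_normalizer_ncl))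

theorem le_card_Z : p ≤ Nat.card (omZ p P) := by
  simpa using mul_card_le_of_lt (d.s₁.pg.to_le omZ_le) (bot_lt_iff_ne_bot.2 d.Z_ne)

variable (t : ∀ X ≤ E₁ ⊓ E₂, H₁ ≤ 𝒩(X) → H₂ ≤ 𝒩(X) → X = ⊥)
include t

theorem el_of_not_le (h : ¬ ncl H₁ (omZ p P) ≤ E₂) : frat E₁ = ⊥ ∧ ¬ H₁ ≤ 𝒩(E₁ ⊓ E₂) := by
  refine ⟨?_, fun k => h ((ncl_le (le_inf ((d.s₁.omZ_le_E d.r₁).trans omZ_le) ((d.s₂.omZ_le_E d.r₂).trans omZ_le)) k).trans
    inf_le_right)⟩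
  obtain ⟨a, ha, haE⟩ := SetLike.not_le_iff_exists.1 h
  have ha1 := d.Z₁_le ha
  have haP := d.s₁.le ha1.1
  have hF := d.s₂.norm.trans (le_normalizer_frat d.s₂.pgE)
  have r : ¬ Tr p H₂ E₂ (frat E₂) := fun k => d.r₂ (k.of_frat' d.s₂.pgE le_rfl)
  obtain ⟨h1, h2⟩ := d.s₂.exists_core d.s₂.norm hF le_rfl (le_secC le_normalizer (le_normalizer.trans (le_normalizer_frat
    d.s₂.pgE)) (commutator_le_frat d.s₂.pgE)) le_rfl (frat_le_of_relIndex (d.i₂ ▸ hp.out)) inf_le_right d.i₂ haP haE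
    (fun x hx => by rw [inv_mul_conj_eq_one.2 (comm_of_cen ha1.2.1 hx.1)]; exact one_mem _) r
  set C := coreIn H₂ (E₁ ⊓ E₂)
  have hC : C ≤ E₁ ⊓ E₂ := coreIn_le
  obtain ⟨e, he, hy⟩ : ∃ e ∈ E₂, e⁻¹ * (a * e * a⁻¹) ∉ C := by
    by_contra! k
    exact r ((d.s₂.tr_of_mem d.s₂.norm le_normalizer_coreIn haP haE ⟨d.n₂ haP, le_normalizer_coreIn (d.s₂.PH haP), k⟩).trans
      d.s₂.pgE (Tr.of_le h2) (hC.trans inf_le_right))
  have h3 : C ⊔ ncl H₁ (omZ p P) = E₁ := le_antisymm (sup_le (hC.trans inf_le_left) (d.Z₁_le.trans omZ_le)) (by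
    rw [← eq_sup_zpowers_of_relIndex inf_le_left (d.i₁ ▸ hp.out) ha1.1 fun k => haE k.2,
      ← eq_sup_zpowers_of_relIndex hC (h1 ▸ hp.out) (d.comm_mem (d.s₂.le he) haP) hy, sup_assoc]
    refine sup_le_sup_left (sup_le (zpowers_le.2 ?_) (zpowers_le.2 ha)) _
    rw [← mul_assoc, ← mul_assoc]
    exact mul_mem (inv_conj_mem_of_mem_normalizer (le_normalizer_ncl (d.s₁.PH (d.s₂.le he))) ha) (inv_mem ha))
  have h4 : frat E₁ = frat C := le_antisymm (h3 ▸ frat_sup_le (h3 ▸ d.s₁.pgE) (h3 ▸ d.Z₁_le))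
    (frat_mono d.s₁.pgE (hC.trans inf_le_left))
  exact t _ (frat_le_of_relIndex (d.i₁ ▸ hp.out)) (d.s₁.norm.trans (le_normalizer_frat d.s₁.pgE))
    (h4 ▸ le_normalizer_coreIn.trans (le_normalizer_frat (d.s₁.pgE.to_le (hC.trans inf_le_left))))

omit t in
theorem norm_sup (h1 : ¬ H₁ ≤ 𝒩(omZ p P)) (h2 : ¬ H₂ ≤ 𝒩(omZ p P)) (h : ncl H₂ (omZ p P) ≤ E₁) :
    H₁ ≤ 𝒩(ncl H₁ (omZ p P) ⊔ ncl H₂ (omZ p P)) := by
  have a1 := d.Z₁_le
  have a2 := d.symm.Z₁_le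
  have b1 := d.lt_Z₁ h1
  have b2 := d.symm.lt_Z₁ h2
  have b3 := d.le_card_Z
  set Z := omZ p P
  set Z₁ := ncl H₁ Z
  set Z₂ := ncl H₂ Z
  have hc : Z₁ ≤ 𝒞(Z₂) := fun x hx => centralizer_le h (a1 hx).2.1
  have c1 := CL.Grp.card_sup_mul_card_inf (hc.trans (centralizer_le_normalizer _))
  have c2 := d.rk.card_le (sup_le ((a1.trans omZ_le).trans d.s₁.le) (h.trans d.s₁.le)) (omZ_sup (omZ_of_le a1) (omZ_of_le a2) hc)
  have c3 : Z₁ ⊓ Z₂ = Z := le_antisymm (fun x hx => ⟨d.s₁.le (a1 hx.1).1, d.sup ▸ mem_cen_sup (a1 hx.1).2.1 (a2 hx.2).2.1,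
    (a1 hx.1).2.2⟩) (le_inf le_ncl le_ncl)
  rw [c3] at c1
  have p0 := hp.out.pos
  have z0 : 0 < Nat.card Z := Nat.card_pos
  have c4 : Nat.card Z₁ * Nat.card Z₂ ≤ p ^ 3 * Nat.card Z := c1 ▸ Nat.mul_le_mul_right _ c2
  have c5 : Nat.card Z = p := le_antisymm (Nat.le_of_mul_le_mul_left (c := p * p * Nat.card Z)
    (by nlinarith [Nat.mul_le_mul b1 b2]) (by positivity)) b3
  rw [c5] at b1 b2 c4
  have c6 : Nat.card Z₂ ≤ p * Nat.card Z := Nat.le_of_mul_le_mul_left (c := p * p)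
    (by rw [c5]; nlinarith [Nat.mul_le_mul_right (Nat.card Z₂) b1]) (by positivity)
  obtain ⟨u, hu, huZ⟩ : ∃ u ∈ Z₂, u ∉ Z := SetLike.not_le_iff_exists.1 fun k => by
    have := card_le_of_le k
    nlinarith [hp.out.two_le]
  have c7 : Z ⊔ zpowers u = Z₂ := eq_of_le_of_card_ge (sup_le le_ncl (zpowers_le.2 hu)) (by
    rwa [card_sup_zpowers_of_normalizer (le_normalizer_omZ le_normalizer (d.s₂.le (a2 hu).1)) huZ ((a2 hu).2.2 ▸ one_mem _)])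
  have := lam d.rk d.s₁.le d.s₁.norm le_normalizer_ncl a1 (h hu) (a2 hu).2.2 (fun k => huZ (c3.le ⟨k, hu⟩))
    (pow_two p ▸ b1) c5 h1 fun x hx => by
      have := comm_mem_of_card_le d.s₁.pg le_ncl ((a2.trans omZ_le).trans d.s₂.le)
        (((a2.trans omZ_le).trans d.s₂.le).trans (le_normalizer_omZ le_normalizer)) (d.s₁.le hx)
        (le_normalizer_omZ le_normalizer (d.s₁.le hx)) (le_normalizer_ncl (d.s₂.PH (d.s₁.le hx))) c6 (inv_mem hu)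
      rwa [inv_mul_conj_eq_commutator, inv_inv] at this
  rwa [← c7, ← sup_assoc, sup_of_le_left (le_ncl : Z ≤ Z₁)]

theorem card_Z (h1 : ¬ H₁ ≤ 𝒩(omZ p P)) (h2 : H₂ ≤ 𝒞(omZ p P)) (h : ncl H₁ (omZ p P) ≤ E₂) :
    Nat.card (omZ p P) = p ∧ Nat.card (ncl H₁ (omZ p P)) = p ^ 2 ∧ ¬ H₂ ≤ 𝒩(ncl H₁ (omZ p P)) := by
  have a1 := d.Z₁_le
  have b1 := d.lt_Z₁ h1
  have b3 := d.le_card_Z
  have hZ := d.Z_ne
  set Z := omZ p P
  set Z₁ := ncl H₁ Z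
  have hE := a1.trans omZ_le
  have p2 := hp.out.two_le
  have hn : ¬ H₂ ≤ 𝒩(Z₁) := fun k => hZ (le_bot_iff.1 (t _ (le_inf hE h) le_normalizer_ncl k ▸ le_ncl))
  have c2 := d.rk.card_le (hE.trans d.s₁.le) (omZ_of_le a1)
  obtain c3 | c3 := c2.lt_or_eq
  · obtain ⟨n, hn'⟩ := IsPGroup.iff_card.1 (d.s₁.pgE.to_le hE)
    have c4 : Nat.card Z₁ ≤ p ^ 2 := hn' ▸ Nat.pow_le_pow_right hp.out.pos (Nat.lt_succ_iff.1
      ((Nat.pow_lt_pow_iff_right hp.out.one_lt).1 (hn' ▸ c3)))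
    exact ⟨by nlinarith, by nlinarith, hn⟩
  exfalso
  obtain ⟨g, hg, hgZ⟩ := SetLike.not_le_iff_exists.1 hn
  have hY : Z₁.map (cjh g) ≤ omZ p (Z₁.map (cjh g)) := by
    rintro _ ⟨x, hx, rfl⟩
    refine ⟨⟨x, hx, rfl⟩, mem_cen ?_, by rw [← map_pow, (a1 hx).2.2, map_one]⟩
    rintro _ ⟨y, hy, rfl⟩
    exact (comm_of_cen (a1 hx).2.1 (hE hy)).map _
  have hY2 : Z₁.map (cjh g) ≤ P := by
    rintro _ ⟨x, hx, rfl⟩
    exact d.s₂.le (conj_mem_of_mem_normalizer (d.s₂.norm hg) (h hx))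
  have hY1 : ∀ x ∈ Z₁.map (cjh g), x ∈ E₁ → x ∈ Z₁ := fun x hx k => d.rk.mem_of_card (hE.trans d.s₁.le) (omZ_of_le a1) c3.ge
    (hY2 hx) (centralizer_le a1 (le_cen_omZ k)) (hY hx).2.2
  have hYE : ¬ Z₁.map (cjh g) ≤ E₁ := fun k => hgZ (mem_normalizer_of_finite fun x hx => hY1 _ ⟨x, hx, rfl⟩ (k ⟨x, hx, rfl⟩))
  obtain ⟨b, hb, hbE⟩ := SetLike.not_le_iff_exists.1 hYE
  have c4 := card_le_of_le (fun x hx => d.s₁.mem_omZ (a1 (hY1 x hx.2 hx.1)) (hY2 hb) hbE (comm_of_cen (hY hx.2).2.1 hb) :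
    E₁ ⊓ Z₁.map (cjh g) ≤ Z)
  have c5 := CL.Grp.card_inf_mul_relIndex E₁ (Z₁.map (cjh g))
  rw [relIndex_eq_of_not_le d.n₁ d.s₁.le hY2 d.s₁.idx hYE, GS.card_map_conj, c3] at c5
  have c6 : Nat.card Z = p ^ 2 := le_antisymm (Nat.le_of_mul_le_mul_left (c := p) (by nlinarith) hp.out.pos)
    (Nat.le_of_mul_le_mul_left (c := p) (by nlinarith) hp.out.pos)
  obtain ⟨h3, -⟩ := d.s₁.exists_core le_normalizer_ncl le_normalizer_bot hE (((le_cen_omZ.trans (centralizer_le a1))).trans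
    (secC_bot _).ge) ((frat_le_iff (d.s₁.pgE.to_le hE)).2 ⟨commutator_le.2 fun x hx y hy => mem_bot.2 (comm_of_cen
      (a1 hy).2.1 (hE hx)).commutator_eq, fun x hx => mem_bot.2 (a1 hx).2.2⟩) bot_le le_ncl
    (relIndex_eq_of_card hp.out.pos le_ncl c6 c3) (hY2 hb) hbE
    (fun x hx => inv_mul_conj_eq_one.2 (comm_of_cen hx.2.1 (hY2 hb)).symm)
    fun k => h1 (d.s₁.norm_of_tr hE k bot_le le_ncl (le_normalizer_omZ le_normalizer))
  rw [t _ (coreIn_le.trans (le_ncl.trans (le_inf hE h))) le_normalizer_coreIn ((h2.trans (centralizer_le coreIn_le)).trans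
    (centralizer_le_normalizer _)), relIndex_bot_left] at h3
  nlinarith

theorem false_of_cen (hp2 : p ≠ 2) (h1 : ¬ H₁ ≤ 𝒩(omZ p P)) (h2 : H₂ ≤ 𝒞(omZ p P)) (h : ncl H₁ (omZ p P) ≤ E₂) : False := by
  obtain ⟨c1, c2, hn⟩ := d.card_Z t h1 h2 h
  have a1 := d.Z₁_le
  have a2 := d.s₂.omZ_le_E d.r₂
  set Z := omZ p P
  set Z₁ := ncl H₁ Z
  have hE := a1.trans omZ_le
  have hEc : E₁ ≤ 𝒞(Z₁) := le_cen_omZ.trans (centralizer_le a1)
  have p2 := hp.out.two_le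
  have nZ : P ≤ 𝒩(Z) := le_normalizer_omZ le_normalizer
  have nZ₁ : P ≤ 𝒩(Z₁) := d.s₁.PH.trans le_normalizer_ncl
  have b1 : ∀ U, Z ≤ U → U ≤ P → P ≤ 𝒩(U) → Nat.card U ≤ p ^ 2 → ∀ x ∈ U, ∀ b ∈ P, x⁻¹ * (b * x * b⁻¹) ∈ Z :=
    fun U k1 k2 k3 k4 x hx b hb => comm_mem_of_card_le d.s₁.pg k1 k2 (k2.trans nZ) hb (nZ hb) (k3 hb) (by rwa [c1, ← pow_two]) hx
  have b2 := ncl_cls hp2 d.s₂.norm h (h2.trans (centralizer_le_normalizer _)) a2 (fun x hx => (a1 hx).2.2)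
    fun x hx b hb => b1 Z₁ le_ncl (hE.trans d.s₁.le) nZ₁ c2.le x hx b (d.s₂.le hb)
  have hV : ncl H₂ Z₁ ≤ E₂ := ncl_le h d.s₂.norm
  have nV : P ≤ 𝒩(ncl H₂ Z₁) := d.s₂.PH.trans le_normalizer_ncl
  have lV : Z₁ ≤ ncl H₂ Z₁ := le_ncl
  have nV' : H₂ ≤ 𝒩(ncl H₂ Z₁) := le_normalizer_ncl
  set V := ncl H₂ Z₁
  have hVP := hV.trans d.s₂.le
  have k1 : ∀ b ∈ P, b ∈ 𝒞(Z₁) → b ∈ E₁ := fun b hb hc => by_contra fun k => by
    have := card_le_of_le (fun x hx => d.s₁.mem_omZ (a1 hx) hb k (comm_of_cen hc hx).symm : Z₁ ≤ Z)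
    nlinarith
  by_cases hVE : V ≤ E₁
  · have v1 : V ≤ omZ p V := fun x hx => ⟨hx, ncl_le (le_centralizer_iff.1 (hVE.trans hEc))
      (CL.Grp.le_normalizer_centralizer' nV') hx, (b2 x hx).1⟩
    have v2 := d.rk.card_le hVP v1
    obtain ⟨v, hv, hvZ⟩ := SetLike.not_le_iff_exists.1 fun k : V ≤ Z₁ => hn (le_antisymm k lV ▸ nV')
    have cz : ∀ x ∈ E₁, x ∉ Z₁ → x ^ p = 1 → Nat.card ↥(Z₁ ⊔ zpowers x) = p ^ 3 := fun x hx k e => by
      rw [card_sup_zpowers_of_normalizer (centralizer_le_normalizer _ (hEc hx)) k (e ▸ one_mem _), c2, ← pow_succ']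
    have v3 : Z₁ ⊔ zpowers v = V := eq_of_le_of_card_ge (sup_le lV (zpowers_le.2 hv)) (by rwa [cz v (hVE hv) hvZ (b2 v hv).1])
    have b3 := ncl_cls hp2 d.s₁.norm hVE le_normalizer_ncl a1 (fun x hx => (b2 x hx).1) fun x hx b hb =>
      comm_mem_of_card_le d.s₁.pg lV hVP (hVP.trans nZ₁) (d.s₁.le hb) (nZ₁ (d.s₁.le hb)) (nV (d.s₁.le hb))
        (by rwa [c2, ← pow_succ']) hx
    have hB : ncl H₁ V ≤ E₁ := ncl_le hVE d.s₁.norm
    have lB : V ≤ ncl H₁ V := le_ncl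
    have nB : H₁ ≤ 𝒩(ncl H₁ V) := le_normalizer_ncl
    set B := ncl H₁ V
    have mx : ∀ x ∈ B, x ∉ Z₁ → ∀ y ∈ B, Commute x y → y ∈ Z₁ ⊔ zpowers x := fun x hx k y hy c =>
      d.rk.mem_of_card (sup_le (hE.trans d.s₁.le) (zpowers_le.2 (d.s₁.le (hB hx)))) (omZ_sup (omZ_of_le a1)
        (omZ_zpowers (b3 x hx).1) (le_centralizer_iff.1 (zpowers_le.2 (hEc (hB hx))))) (cz x (hB hx) k (b3 x hx).1).ge
        (d.s₁.le (hB hy)) (mem_cen_sup (hEc (hB hy)) (mem_cen_zpowers c)) (b3 y hy).1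
    have hz : Z₁ ≤ E₁ ⊓ 𝒞(E₁) := fun x hx => ⟨(a1 hx).1, (a1 hx).2.1⟩
    have hl : ∀ y ∈ B, HomOn B fun x => ⁅x, y⁆ := fun y hy => homOn_comm_left hB hz fun x hx => (b3 x hx).2 y (hB hy)
    have hr : ∀ y ∈ B, HomOn B fun x => ⁅y, x⁆ := fun y hy => homOn_comm_right hB hz fun x hx => (b3 y hy).2 x (hB hx)
    obtain ⟨w, hw, hwV⟩ := SetLike.not_le_iff_exists.1 fun k : B ≤ V => hvZ (by
      rw [t V (le_inf hVE hV) (le_antisymm k lB ▸ nB) nV', mem_bot] at hv; simp [hv])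
    have hvB := lB hv
    have z1 : ⁅v, w⁆ ≠ 1 := fun k => hwV (v3 ▸ mx v hvB hvZ w hw (commutatorElement_eq_one_iff_commute.1 k))
    have z2 := (b3 v hvB).2 w (hB hw)
    by_cases hBw : B ≤ V ⊔ zpowers w
    · rw [← v3] at hBw
      have e1 : E₁ ≤ 𝒩(zpowers ⁅v, w⁆) := (hEc.trans (centralizer_le (zpowers_le.2 z2))).trans (centralizer_le_normalizer _)
      have e2 : ∀ x ∈ B, ⁅v⁻¹, x⁆ ∈ zpowers ⁅v, w⁆ → ⁅w⁻¹, x⁆ ∈ zpowers ⁅v, w⁆ → x ∈ secC B (zpowers ⁅v, w⁆) := fun x hx e3 e4 =>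
        ⟨le_normalizer hx, e1 (hB hx), fun y hy => ((hBw.trans (sup_le (sup_le (fun z hz => ⟨lB (lV hz), fun _ e => by
            rw [e, inv_mul_conj_eq_one.2 (comm_of_cen (hEc (hB hx)) hz)]; exact one_mem _⟩)
          (zpowers_le.2 ⟨hvB, fun _ e => by rwa [e, inv_mul_conj_eq_commutator]⟩))
          (zpowers_le.2 ⟨hw, fun _ e => by rwa [e, inv_mul_conj_eq_commutator]⟩)) :
            B ≤ commSub B _ (hB.trans e1) {x}) hy).2 x rfl⟩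
      have e3 : ⁅B, B⁆ ≤ zpowers ⁅v, w⁆ := commutator_le_of_secC (hBw.trans (sup_le (sup_le (fun z hz => ⟨le_normalizer (lB (lV hz)),
        e1 (hE hz), fun y hy => by rw [inv_mul_conj_eq_one.2 (comm_of_cen (hEc (hB hy)) hz).symm]; exact one_mem _⟩)
        (zpowers_le.2 (e2 v hvB (by simp [commutatorElement_def]) (by
          rw [(hl v hvB).map_inv hw, commutatorElement_inv]; exact mem_zpowers _)))) (zpowers_le.2 (e2 w hw (by
          rw [(hl w hw).map_inv hvB]; exact inv_mem (mem_zpowers _)) (by simp [commutatorElement_def])))))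
      have e4 := d.s₁.le_secC_of_card (CL.Grp.le_normalizer_commutator' nB nB) le_normalizer_bot bot_le
        (e3.trans (zpowers_le.2 (d.s₁.le (hE z2)))) (by
          simpa [card_zpowers_of_pow_eq_one (a1 z2).2.2 z1] using card_le_of_le e3)
      rw [secC_bot] at e4
      have e5 := commutator_mem_commutator hvB hw
      refine h1 ((e4.trans (centralizer_le fun z hz => ?_)).trans (centralizer_le_normalizer _))
      obtain ⟨m, rfl⟩ := exists_eq_zpow_of_card_prime c1 (⟨d.s₁.le (hE z2), le_centralizer_iff.1 (d.s₁.PH.trans e4) e5,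
        (a1 z2).2.2⟩ : ⁅v, w⁆ ∈ Z) z1 hz
      exact zpow_mem e5 m
    · obtain ⟨u, hu, huV⟩ := SetLike.not_le_iff_exists.1 hBw
      have z3 := (b3 v hvB).2 u (hB hu)
      obtain ⟨i, j, e⟩ := exists_eq_of_card_sq c2 (fun x => Subtype.ext (a1 x.2).2.2) (z := ⟨_, z2⟩) (z' := ⟨_, z3⟩)
        (fun k => z1 (congrArg Subtype.val k)) (fun ⟨i, hi⟩ => huV (by
          have e1 : ⁅v, w⁆ ^ i = ⁅v, u⁆ := congrArg Subtype.val hi
          have := mx v hvB hvZ _ (mul_mem hu (inv_mem (zpow_mem hw i))) (commutatorElement_eq_one_iff_commute.1 (by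
            rw [(hr v hvB).map_mul hu (inv_mem (zpow_mem hw i)), (hr v hvB).map_inv (zpow_mem hw i), (hr v hvB).map_zpow hw,
              e1, mul_inv_cancel]))
          rw [show u = u * (w ^ i)⁻¹ * w ^ i by group]
          exact mul_mem_sup (v3 ▸ this) ⟨i, rfl⟩)) ⟨_, (b3 w hw).2 u (hB hu)⟩
      replace e : ⁅w, u⁆ = ⁅v, w⁆ ^ i * ⁅v, u⁆ ^ j := congrArg Subtype.val e
      have hx := mul_mem hw (zpow_mem hvB (-j))
      have hy := mul_mem hu (zpow_mem hvB i)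
      have := mx _ hx (fun k => hwV ((mul_mem_cancel_right (zpow_mem hv (-j))).1 (lV k))) _ hy
        (commutatorElement_eq_one_iff_commute.1 (by
          rw [(hr _ hx).map_mul hu (zpow_mem hvB i), (hr _ hx).map_zpow hvB, (hl u hu).map_mul hw (zpow_mem hvB _),
            (hl u hu).map_zpow hvB, (hl v hvB).map_mul hw (zpow_mem hvB _), (hl v hvB).map_zpow hvB, e,
            commutatorElement_self, ← commutatorElement_inv v w]
          generalize ⁅v, w⁆ = c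
          group))
      exact huV ((mul_mem_cancel_right (mem_sup_left (zpow_mem hv i))).1 (sup_le (lV.trans le_sup_left) (zpowers_le.2
        (mul_mem (mem_sup_right (mem_zpowers w)) (mem_sup_left (zpow_mem hv _)))) this))
  · obtain ⟨a, ha, haE⟩ := SetLike.not_le_iff_exists.1 hVE
    have v1 := d.rk V Z (le_ncl.trans lV) hVP (commutator_le.2 fun x hx y hy => (b2 x hx).2 y (hV hy))
      fun x hx => (b2 x hx).1 ▸ one_mem _
    have v2 := CL.Grp.card_inf_mul_relIndex E₁ V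
    rw [relIndex_eq_of_not_le d.n₁ d.s₁.le hVP d.s₁.idx hVE, CL.Grp.card_eq_relIndex_mul_card (le_ncl.trans lV : Z ≤ V), c1] at v2
    have v3 : Nat.card ↥(E₁ ⊓ V) ≤ p * Nat.card Z₁ := by
      rw [Nat.eq_of_mul_eq_mul_right hp.out.pos v2, c2, ← pow_succ']; exact v1
    have lA : Z₁ ≤ E₁ ⊓ V := le_inf hE lV
    have nA : H₁ ≤ 𝒩(E₁ ⊓ V) := by
      obtain e | e := lA.eq_or_lt
      · exact e ▸ le_normalizer_ncl
      have cz : ∀ x ∈ E₁ ⊓ V, x ∉ Z₁ → Z₁ ⊔ zpowers x = E₁ ⊓ V := fun x hx k => eq_of_le_of_card_ge (sup_le lA (zpowers_le.2 hx))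
        (by rwa [card_sup_zpowers_of_normalizer (centralizer_le_normalizer _ (hEc hx.1)) k ((b2 x hx.2).1 ▸ one_mem _)])
      have w1 := relIndex_commSub_le (A := E₁ ⊓ V) (B := ⊥) (I := Z) (x := a) le_normalizer_bot (le_normalizer_bot (mem_top a))
        fun x hx => inv_mul_conj_eq_commutator x a ▸ (b2 _ (inv_mem hx.2)).2 a (hV ha)
      have w2 := CL.Grp.card_eq_relIndex_mul_card (fun x hx => hx.1 : commSub (E₁ ⊓ V) ⊥ le_normalizer_bot {a} ≤ E₁ ⊓ V)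
      have w3 := mul_card_le_of_lt (d.s₁.pgE.to_le inf_le_left) e
      rw [relIndex_bot_left, c1] at w1
      obtain ⟨u, hu, huZ⟩ := SetLike.not_le_iff_exists.1 fun k : commSub (E₁ ⊓ V) ⊥ le_normalizer_bot {a} ≤ Z₁ => by
        have := card_le_of_le (fun x hx => d.s₁.mem_omZ (a1 (k hx)) (hVP ha) haE (inv_mul_conj_eq_one.1 (hx.2 a rfl)).symm :
          commSub (E₁ ⊓ V) ⊥ le_normalizer_bot {a} ≤ Z)
        rw [c1] at this
        nlinarith [Nat.mul_le_mul w1 this]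
      have w4 : E₁ ⊓ V ⊔ zpowers a = V := eq_sup_zpowers_of_relIndex inf_le_right (by
        rw [inf_relIndex_right, relIndex_eq_of_not_le d.n₁ d.s₁.le hVP d.s₁.idx hVE]; exact hp.out) ha fun k => haE k.1
      have w5 : u ∈ omZ p V := ⟨hu.1.2, w4 ▸ mem_cen_sup (cz u hu.1 huZ ▸ mem_cen_sup (hEc hu.1.1) (mem_cen_zpowers
        (Commute.refl u))) (mem_cen_zpowers (inv_mul_conj_eq_one.1 (hu.2 a rfl)).symm), (b2 u hu.1.2).1⟩
      have w6 : omZ p V < E₁ ⊓ V := lt_of_le_of_ne (fun x hx => ⟨k1 x (hVP hx.1) (centralizer_le lV hx.2.1), hx.1⟩) fun k =>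
        haE (k1 a (hVP ha) (centralizer_le (lA.trans k.ge) (le_cen_omZ ha)))
      have w7 := mul_card_le_of_lt (d.s₁.pgE.to_le inf_le_left) w6
      rw [← cz u hu.1 huZ]
      refine lam d.rk d.s₁.le d.s₁.norm le_normalizer_ncl a1 hu.1.1 w5.2.2 huZ c2.ge c1 h1 fun x hx => ?_
      have := b1 (omZ p V) (fun z hz => ⟨lV (le_ncl hz), centralizer_le hVP hz.2.1, hz.2.2⟩) (omZ_le.trans hVP)
        (le_normalizer_omZ nV) (Nat.le_of_mul_le_mul_left (c2 ▸ w7.trans v3) hp.out.pos) _ (inv_mem w5) x (d.s₁.le hx)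
      rwa [inv_mul_conj_eq_commutator, inv_inv] at this
    have t1 := d.s₁.tr_of_mem d.s₁.norm nA (hVP ha) haE ⟨d.n₁ (hVP ha), nA (d.s₁.PH (hVP ha)), fun x hx =>
      ⟨(d.comm_mem (d.s₁.le hx) (hVP ha)).1, by
        rw [← mul_assoc, ← mul_assoc]
        exact V.mul_mem (inv_conj_mem_of_mem_normalizer (nV (d.s₁.le hx)) ha) (inv_mem ha)⟩⟩
    exact d.not_le ((d.s₁.split hp2 le_normalizer_ncl a1 le_ncl c1 c2 h1 (t1.trans d.s₁.pgE (Tr.of_le (d.s₁.le_secC_of_card nA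
      le_normalizer_ncl lA (inf_le_left.trans d.s₁.le) v3)) inf_le_left)).trans h)

theorem core_trivial (hp2 : p ≠ 2) : (frat E₁ = ⊥ ∧ ¬ H₁ ≤ 𝒩(E₁ ⊓ E₂)) ∨ (frat E₂ = ⊥ ∧ ¬ H₂ ≤ 𝒩(E₂ ⊓ E₁)) := by
  have t' : ∀ X ≤ E₂ ⊓ E₁, H₂ ≤ 𝒩(X) → H₁ ≤ 𝒩(X) → X = ⊥ := fun X h h2 h1 => t X (inf_comm E₁ E₂ ▸ h) h1 h2
  by_cases h1 : ncl H₁ (omZ p P) ≤ E₂
  · by_cases h2 : ncl H₂ (omZ p P) ≤ E₁
    · exfalso
      have lZ : omZ p P ≤ E₁ ⊓ E₂ := le_inf (le_ncl.trans h2) (le_ncl.trans h1)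
      by_cases k1 : H₁ ≤ 𝒩(omZ p P) <;> by_cases k2 : H₂ ≤ 𝒩(omZ p P)
      · exact d.Z_ne (t _ lZ k1 k2)
      · exact d.symm.false_of_cen t' hp2 k2 (d.s₁.le_cen k1 le_cen_omZ) h2
      · exact d.false_of_cen t hp2 k1 (d.s₂.le_cen k2 le_cen_omZ) h1
      · exact d.Z_ne (le_bot_iff.1 (t _ (sup_le (le_inf (d.Z₁_le.trans omZ_le) h1) (le_inf h2 (d.symm.Z₁_le.trans omZ_le)))
          (d.norm_sup k1 k2 h2) (sup_comm (ncl H₂ _) _ ▸ d.symm.norm_sup k2 k1 h1) ▸ le_ncl.trans le_sup_left))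
    · exact Or.inr (d.symm.el_of_not_le t' h2)
  · exact Or.inl (d.el_of_not_le t h1)

end Pair

end CL.Fus.Rk
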