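/-
Passing to quotients, and the action on the largest common invariant subgroup.
-/
import Cfsg.Agent.Fus.Rk3B
import Cfsg.Agent.Grp.Fitting

set_option autoImplicit false
set_option linter.unusedSectionVars false

namespace CL.Fus.Rk

open Cfsg Subgroup
open scoped commutatorElement

local notation "𝒩(" X ")" => Subgroup.normalizer ((X : Subgroup _) : Set _)
local notation "𝒞(" X ")" => Subgroup.centralizer ((X : Subgroup _) : Set _)

variable {G : Type*} [Group G] {p : ℕ} {P E H A B C D I K W X Y Z T N : Subgroup G} {a g h u x y : G}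

theorem le_commSub_iff {hn : A ≤ 𝒩(Y)} (hX : X ≤ A) : X ≤ commSub A Y hn C ↔ ⁅X, C⁆ ≤ Y :=
  ⟨fun k => commutator_le.2 fun x hx c hc => by
    have := (k (inv_mem hx)).2 c hc
    rwa [inv_mul_conj_eq_commutator, inv_inv] at this,
  fun k _ hx => ⟨hX hx, fun _ hc => k (inv_mul_conj_mem_commutator hx hc)⟩⟩

theorem commutator_sup_le (hn : A ⊔ B ≤ 𝒩(Y)) (h1 : ⁅A, C⁆ ≤ Y) (h2 : ⁅B, C⁆ ≤ Y) : ⁅A ⊔ B, C⁆ ≤ Y :=
  (le_commSub_iff (hn := hn) le_rfl).1 (sup_le ((le_commSub_iff le_sup_left).2 h1) ((le_commSub_iff le_sup_right).2 h2))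

theorem commutator_zpowers_le' (hn : x ∈ 𝒩(Y)) (h : ∀ c ∈ C, ⁅x, c⁆ ∈ Y) : ⁅zpowers x, C⁆ ≤ Y :=
  (le_commSub_iff (hn := zpowers_le.2 hn) le_rfl).1 (zpowers_le.2 (inv_mem_iff.1 ⟨inv_mem (mem_zpowers x), fun c hc => by
    rw [inv_mul_conj_eq_commutator, inv_inv]; exact h c hc⟩))

theorem commutator_zz (hx : x ∈ 𝒩(Y)) (hy : y ∈ 𝒩(Y)) (h : ⁅x, y⁆ ∈ Y) : ⁅zpowers x, zpowers y⁆ ≤ Y :=
  commutator_zpowers_le' hx fun c hc => by
    have := ((zpowers_le (H := commSub (zpowers y) Y (zpowers_le.2 hy) {x})).2 (inv_mem_iff.1 ⟨inv_mem (mem_zpowers y),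
      fun _ e => by rw [e, inv_mul_conj_eq_commutator, inv_inv, ← commutatorElement_inv]; exact inv_mem h⟩) (inv_mem hc)).2 x rfl
    rw [inv_mul_conj_eq_commutator, inv_inv, ← commutatorElement_inv] at this
    exact inv_mem_iff.1 this

theorem commutator_sup_zp (hn : X ⊔ zpowers g ≤ 𝒩(Y)) (h1 : ⁅X, X⁆ ≤ Y) (h2 : ⁅zpowers g, X⁆ ≤ Y) :
    ⁅X ⊔ zpowers g, X ⊔ zpowers g⁆ ≤ Y :=
  commutator_sup_le hn (commutator_comm_le _ _ |>.trans (commutator_sup_le hn h1 h2)) (commutator_comm_le _ _ |>.trans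
    (commutator_sup_le hn (commutator_comm_le _ _ |>.trans h2) (commutator_le.2 (by
      rintro _ ⟨i, rfl⟩ _ ⟨j, rfl⟩
      rw [(Commute.zpow_zpow_self g i j).commutator_eq]; exact one_mem _))))

/-- the elements of `A` whose `p`-th power lies in `Y` -/
def powSub [Finite G] (p : ℕ) (hY : Y ≤ A) (hc : ⁅A, A⁆ ≤ Y) : Subgroup G where
  carrier := {x | x ∈ A ∧ x ^ p ∈ Y}
  mul_mem' {x y} hx hy := ⟨mul_mem hx.1 hy.1, by
    have : (Y.subgroupOf A).Normal := (normal_subgroupOf_iff_le_normalizer hY).2 (le_normalizer_of_conj fun g hg z hz => by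
      simpa using mul_mem hz (hc (inv_mul_conj_mem_commutator (hY hz) hg)))
    have h1 := (quot_comm hc (⟨x, hx.1⟩ : A) (⟨y, hy.1⟩ : A)).mul_pow p
    rw [show (((⟨x, hx.1⟩ : A)) : A ⧸ Y.subgroupOf A) ^ p = 1 from (QuotientGroup.eq_one_iff (_ ^ p)).2 hx.2,
      show (((⟨y, hy.1⟩ : A)) : A ⧸ Y.subgroupOf A) ^ p = 1 from (QuotientGroup.eq_one_iff (_ ^ p)).2 hy.2, one_mul] at h1
    exact mem_subgroupOf.1 ((QuotientGroup.eq_one_iff ((⟨x, hx.1⟩ * ⟨y, hy.1⟩ : A) ^ p)).1 h1)⟩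
  one_mem' := ⟨one_mem _, by simp⟩
  inv_mem' hx := ⟨inv_mem hx.1, by rw [inv_pow]; exact inv_mem hx.2⟩

section Quo
variable {G' : Type*} [Group G'] {f : G → G'}

/-- the preimage of `Y` in `X` -/
def preIn (hf : HomOn X f) (Y : Subgroup G') : Subgroup G where
  carrier := {x | x ∈ X ∧ f x ∈ Y}
  mul_mem' hx hy := ⟨mul_mem hx.1 hy.1, hf.map_mul hx.1 hy.1 ▸ mul_mem hx.2 hy.2⟩
  one_mem' := ⟨one_mem _, hf.map_one ▸ one_mem _⟩
  inv_mem' hx := ⟨inv_mem hx.1, hf.map_inv hx.1 ▸ inv_mem hx.2⟩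

/-- `f` is a homomorphism on `N` with kernel `T` -/
structure Quo (N T : Subgroup G) (f : G → G') : Prop where
  hom : HomOn N f
  ker : ∀ x ∈ N, f x = 1 ↔ x ∈ T

theorem quo (T : Subgroup G) : ∃ f : G → 𝒩(T) ⧸ T.subgroupOf 𝒩(T), Quo 𝒩(T) T f :=
  ⟨ext (QuotientGroup.mk' _), homOn_ext _, fun x hx => by rw [ext_apply _ hx]; exact QuotientGroup.eq_one_iff _⟩

namespace Quo
variable (q : Quo N T f)
include q

theorem mem_img (hX : X ≤ N) {y : G'} : y ∈ img f X ↔ ∃ x ∈ X, f x = y := (q.hom.mono hX).mem_img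

theorem eq_iff (hx : x ∈ N) (hy : y ∈ N) : f x = f y ↔ x⁻¹ * y ∈ T := by
  rw [← q.ker _ (mul_mem (inv_mem hx) hy), q.hom.map_mul (inv_mem hx) hy, q.hom.map_inv hx, inv_mul_eq_one]

theorem mem_iff (hX : X ≤ N) (hT : T ≤ X) (hx : x ∈ N) : f x ∈ img f X ↔ x ∈ X := ⟨fun h => by
  obtain ⟨y, hy, e⟩ := (q.mem_img hX).1 h
  simpa using mul_mem hy (hT ((q.eq_iff (hX hy) hx).1 e)), mem_img_of_mem f⟩

theorem norm (hH : H ≤ N) (hX : X ≤ N) (h : H ≤ 𝒩(X)) : img f H ≤ 𝒩(img f X) :=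
  img_le_iff.2 fun _ hx => q.hom.map_mem_normalizer hX (hH hx) (h hx)

theorem img_pre (hX : X ≤ N) {Y : Subgroup G'} (hY : Y ≤ img f X) : img f (preIn (q.hom.mono hX) Y) = Y :=
  le_antisymm (img_le_iff.2 fun _ hx => hx.2) fun y hy => by
    obtain ⟨x, hx, rfl⟩ := (q.mem_img hX).1 (hY hy)
    exact mem_img_of_mem f ⟨hx, hy⟩

theorem le_pre (hX : X ≤ N) (hT : T ≤ X) (Y : Subgroup G') : T ≤ preIn (q.hom.mono hX) Y := fun _ hx =>
  ⟨hT hx, ((q.ker _ (hX (hT hx))).2 hx).symm ▸ one_mem _⟩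

theorem norm_pre (hH : H ≤ N) (hX : X ≤ N) (h : H ≤ 𝒩(X)) {Y : Subgroup G'} (hY : img f H ≤ 𝒩(Y)) :
    H ≤ 𝒩(preIn (q.hom.mono hX) Y) := le_normalizer_of_conj fun _ hg _ hx => ⟨conj_mem_of_mem_normalizer (h hg) hx.1,
  q.hom.map_conj (hH hg) (hX hx.1) ▸ conj_mem_of_mem_normalizer (hY (mem_img_of_mem f hg)) hx.2⟩

theorem card (hX : X ≤ N) (hT : T ≤ X) : Nat.card X = Nat.card (img f X) * Nat.card T := by
  have h1 : (q.hom.mono hX).toHom.ker = T.subgroupOf X := by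
    ext x; exact q.ker x (hX x.2)
  rw [(q.hom.mono hX).img_eq_range, ← index_ker, h1]
  exact CL.Grp.card_eq_relIndex_mul_card hT

theorem relIndex [Finite G] [Finite G'] (hT : T ≤ A) (hA : A ≤ B) (hB : B ≤ N) : (img f A).relIndex (img f B) = A.relIndex B := by
  have h1 := q.card hB (hT.trans hA)
  rw [CL.Grp.card_eq_relIndex_mul_card hA, CL.Grp.card_eq_relIndex_mul_card (img_mono f hA), q.card (hA.trans hB) hT,
    mul_assoc] at h1
  exact (Nat.eq_of_mul_eq_mul_right (Nat.mul_pos Nat.card_pos Nat.card_pos) h1).symm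

theorem isPGroup (hX : X ≤ N) (h : IsPGroup p X) : IsPGroup p (img f X) := by
  rw [(q.hom.mono hX).img_eq_range]
  exact h.of_surjective _ (MonoidHom.rangeRestrict_surjective _)

theorem img_inf (hA : A ≤ N) (hB : B ≤ N) (hT : T ≤ B) : img f (A ⊓ B) = img f A ⊓ img f B :=
  le_antisymm (le_inf (img_mono f inf_le_left) (img_mono f inf_le_right)) fun y hy => by
    obtain ⟨x, hx, rfl⟩ := (q.mem_img hA).1 hy.1
    exact mem_img_of_mem f ⟨hx, (q.mem_iff hB hT (hA hx)).1 hy.2⟩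

theorem mem_secC (hA : A ≤ N) (hg : g ∈ N) (h1 : g ∈ 𝒩(A)) (h2 : g ∈ 𝒩(T)) (h : f g ∈ 𝒞(img f A)) : g ∈ secC A T :=
  ⟨h1, h2, fun x hx => (q.eq_iff (hA hx) (hA (conj_mem_of_mem_normalizer h1 hx))).1 (by
    rw [q.hom.map_conj hg (hA hx), conj_eq_of_mem_centralizer h (mem_img_of_mem f hx)])⟩

theorem rank3 [Finite G] [Finite G'] (hP : P ≤ N) (hT : T ≤ P) (rk : Rank3 p P) : Rank3 p (img f P) := fun A B hB hA hc hp => by
  have := rk (preIn (q.hom.mono hP) A) (preIn (q.hom.mono hP) B) (fun x hx => ⟨hx.1, hB hx.2⟩) (fun x hx => hx.1)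
    (commutator_le.2 fun x hx y hy => ⟨mul_mem (mul_mem (mul_mem hx.1 hy.1) (inv_mem hx.1)) (inv_mem hy.1),
      q.hom.map_commutator (hP hx.1) (hP hy.1) ▸ hc (commutator_mem_commutator hx.2 hy.2)⟩)
    fun x hx => ⟨pow_mem hx.1 p, q.hom.map_pow (hP hx.1) p ▸ hp _ hx.2⟩
  rwa [← q.relIndex (B := preIn (q.hom.mono hP) A) (q.le_pre hP hT B) (fun x hx => ⟨hx.1, hB hx.2⟩) (fun x hx => hP hx.1), q.img_pre hP hA,
    q.img_pre hP (hB.trans hA)] at this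

variable [hp : Fact p.Prime] [Finite G] [Finite G']

theorem side (s : Side p P E H) (hH : H ≤ N) (hC : 𝒞(E) ≤ N) (hT : T ≤ E) : Side p (img f P) (img f E) (img f H) where
  pg := q.isPGroup (s.PH.trans hH) s.pg
  le := img_mono f s.le
  idx := (q.relIndex hT s.le (s.PH.trans hH)).trans s.idx
  PH := img_mono f s.PH
  norm := q.norm hH (s.le.trans (s.PH.trans hH)) s.norm
  gen K h1 h2 := img_le_iff.2 fun _ hx => (s.gen (preIn (q.hom.mono hH) K) (fun x hx => ⟨s.PH hx, h1 (mem_img_of_mem f hx)⟩)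
    (q.norm_pre hH hH le_normalizer h2) hx).2
  syl X h1 h2 := by
    obtain ⟨h, hh, k⟩ := s.syl (preIn (q.hom.mono hH) X) (fun x hx => hx.1) fun ⟨x, hx⟩ => by
      obtain ⟨n, hn⟩ := h2 ⟨_, hx.2⟩
      obtain ⟨m, hm⟩ := s.pgE ⟨_, hT ((q.ker _ (pow_mem (hH hx.1) _)).1 ((q.hom.map_pow (hH hx.1) _).trans
        (congrArg Subtype.val hn)))⟩
      exact ⟨n + m, Subtype.ext (by simpa [pow_add, pow_mul] using congrArg Subtype.val hm)⟩
    refine ⟨f h, mem_img_of_mem f hh, fun y hy => ?_⟩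
    obtain ⟨x, hx, rfl⟩ := (q.mem_img hH).1 (h1 hy)
    obtain ⟨a, ha, c, hc, e⟩ := s.exists_mul (k x ⟨hx, hy⟩)
    rw [← q.hom.map_conj (hH hh) (hH hx), ← e, q.hom.map_mul (hH (s.PH ha)) (hC hc)]
    exact mul_mem_sup (mem_img_of_mem f ha) (q.hom.map_mem_centralizer (s.le.trans (s.PH.trans hH)) (hC hc) hc)

theorem tr (hH : H ≤ N) (hE : E ≤ N) (h1 : H ≤ 𝒩(E)) (h2 : H ≤ 𝒩(T)) (h : Tr p (img f H) (img f E) ⊥) : Tr p H E T :=
  fun g hg c => q.mem_secC hE (hH hg) (h1 hg) (h2 hg) ((secC_bot _).le (h _ (mem_img_of_mem f hg)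
    (c.of_dvd_left (orderOf_dvd_of_pow_eq_one (by rw [← q.hom.map_pow (hH hg), pow_orderOf_eq_one, q.hom.map_one])))))

end Quo

variable [hp : Fact p.Prime] [Finite G] [Finite G'] {E₁ H₁ E₂ H₂ : Subgroup G}

theorem Pair.img (d : Pair p P E₁ H₁ E₂ H₂) (q : Quo 𝒩(T) T f) (hT : T ≤ E₁ ⊓ E₂) (h1 : H₁ ≤ 𝒩(T)) (h2 : H₂ ≤ 𝒩(T))
    (r1 : ¬ Tr p H₁ E₁ T) (r2 : ¬ Tr p H₂ E₂ T) : Pair p (img f P) (img f E₁) (img f H₁) (img f E₂) (img f H₂) where
  s₁ := q.side d.s₁ h1 ((centralizer_le (hT.trans inf_le_left)).trans (centralizer_le_normalizer _)) (hT.trans inf_le_left)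
  s₂ := q.side d.s₂ h2 ((centralizer_le (hT.trans inf_le_right)).trans (centralizer_le_normalizer _)) (hT.trans inf_le_right)
  ne e := d.not_le fun _ hx => (q.mem_iff (d.s₂.le.trans (d.s₂.PH.trans h2)) (hT.trans inf_le_right)
    (h1 (d.s₁.PH (d.s₁.le hx)))).1 (e ▸ mem_img_of_mem f hx)
  rk := q.rank3 (d.s₁.PH.trans h1) (hT.trans (inf_le_left.trans d.s₁.le)) d.rk
  r₁ k := r1 (q.tr h1 (d.s₁.le.trans (d.s₁.PH.trans h1)) d.s₁.norm h1 k)
  r₂ k := r2 (q.tr h2 (d.s₂.le.trans (d.s₂.PH.trans h2)) d.s₂.norm h2 k)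

end Quo

variable [hp : Fact p.Prime] [Finite G] {E₁ H₁ E₂ H₂ : Subgroup G}

theorem tr_inf_secC (hE : H ≤ 𝒩(E)) (hA : H ≤ 𝒩(A)) (hB : H ≤ 𝒩(B)) (hEH : E ≤ H) (h : Tr p H A B) :
    Tr p H E (E ⊓ secC A B) := fun g hg c => ⟨hE hg, CL.Grp.le_normalizer_inf' hE (le_normalizer_secC hA hB) hg, fun x hx =>
  ⟨E.mul_mem (inv_mem hx) (conj_mem_of_mem_normalizer (hE hg) hx), by
    rw [← mul_assoc, ← mul_assoc]
    exact (secC A B).mul_mem (inv_conj_mem_of_mem_normalizer (le_normalizer_secC hA hB (hEH hx)) (h g hg c))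
      (inv_mem (h g hg c))⟩⟩

theorem commutator_lt (hP : IsPGroup p P) (hXP : X ≤ P) (hEP : E ≤ P) (hn : P ≤ 𝒩(X)) (h : X ≠ ⊥) : ⁅X, E⁆ < X :=
  lt_of_le_of_ne (commutator_le.2 fun x hx e he => by
    rw [commutatorElement_def, mul_assoc, mul_assoc, ← mul_assoc e]
    exact mul_mem hx (conj_mem_of_mem_normalizer (hn (hEP he)) (inv_mem hx)))
    fun e => h (CL.Grp.eq_bot_of_le_commutator hP.isNilpotent hXP (e.ge.trans (commutator_mono le_rfl hEP)))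

namespace Side
variable (s : Side p P E H)
include s

theorem tr_of_card (hA : H ≤ 𝒩(A)) (hB : H ≤ 𝒩(B)) (hBA : B ≤ A) (hAP : A ≤ P) (hc : Nat.card A ≤ p * Nat.card B) :
    Tr p H A B := Tr.of_le (s.le_secC_of_card hA hB hBA hAP hc)

theorem tr_chain (hT : T ≤ P) (hX : H ≤ 𝒩(X)) (hY : H ≤ 𝒩(Y)) (hn : H ≤ 𝒩(T)) (h1 : X ≤ Y) (h2 : Y ≤ T)
    (c1 : Nat.card X ≤ p) (c2 : Nat.card Y ≤ p * Nat.card X) (c3 : Nat.card T ≤ p * Nat.card Y) : Tr p H T ⊥ :=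
  (s.tr_of_card hn hY h2 hT c3).trans (s.pg.to_le hT) ((s.tr_of_card hY hX h1 (h2.trans hT) c2).trans (s.pg.to_le (h2.trans hT))
    (s.tr_of_card hX le_normalizer_bot bot_le (h1.trans (h2.trans hT)) (by simpa using c1)) h1) h2

variable (r : ¬ Tr p H E ⊥) (rk : Rank3 p P) (hT : T ≤ E) (hn : H ≤ 𝒩(T)) (hel : T ≤ omZ p T) (hc : ∀ x ∈ P, x ∈ 𝒞(T) → x ∈ T)
include r hT hn hc

theorem not_tr : ¬ Tr p H T ⊥ := fun k => r (Tr.trans s.pgE ((tr_inf_secC s.norm hn le_normalizer_bot (s.le.trans s.PH) k).mono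
  le_rfl (fun x hx => hc x (s.le hx.1) ((secC_bot T).le hx.2)) s.norm hn) k hT)

include rk hel

theorem nf_cases (hp2 : p ≠ 2) (hE : ¬ E ≤ T) : Nat.card T = p ^ 3 ∧ Nat.card ↥⁅T, E⁆ = p ^ 2 ∧ E ≤ 𝒞(⁅T, E⁆) := by
  have r' := s.not_tr r hT hn hc
  have hTP := hT.trans s.le
  have nI := CL.Grp.le_normalizer_commutator' hn s.norm
  have p2 := hp.out.two_le
  have l0 : ⊥ < ⁅T, E⁆ := bot_lt_iff_ne_bot.2 fun k => hE fun x hx => hc x (s.le hx)
    (le_centralizer_iff.1 (commutator_eq_bot_iff_le_centralizer.1 k) hx)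
  have l1 : ⁅T, E⁆ < T := commutator_lt s.pg hTP s.le (s.PH.trans hn) fun k => by simp [k] at l0
  have hI : ∀ t ∈ T, ∀ x ∈ E, ⁅t, x⁆ ∈ ⁅T, E⁆ := fun t ht x hx => commutator_mem_commutator ht hx
  generalize ⁅T, E⁆ = I at *
  have hI' : ⁅T, E⁆ ≤ I := commutator_le.2 hI
  have q3 : p * p < p ^ 3 := by nlinarith
  have c0 := rk.card_le hTP hel
  have c1 := mul_card_le_of_lt (s.pg.to_le hTP) l1
  have c2 := mul_card_le_of_lt (s.pg.to_le (l1.le.trans hTP)) l0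
  rw [card_bot, mul_one] at c2
  obtain ⟨n, hn'⟩ := IsPGroup.iff_card.1 (s.pg.to_le (l1.le.trans hTP))
  obtain ⟨m, hm⟩ := IsPGroup.iff_card.1 (s.pg.to_le hTP)
  have c3 : Nat.card T = p ^ 3 := le_antisymm c0 (by
    by_contra! k
    rw [hm, Nat.pow_lt_pow_iff_right hp.out.one_lt, Nat.lt_succ_iff, ← Nat.pow_le_pow_iff_right hp.out.one_lt, ← hm] at k
    exact r' (s.tr_chain hTP nI nI hn le_rfl l1.le (by nlinarith) (by nlinarith) (by nlinarith)))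
  have chain : ∀ X Y, H ≤ 𝒩(X) → H ≤ 𝒩(Y) → ⊥ < X → X < Y → Y < T → False := fun X Y h1 h2 h3 h4 h5 => by
    have e1 := mul_card_le_of_lt (s.pg.to_le hTP) h5
    have e2 := mul_card_le_of_lt (s.pg.to_le (h5.le.trans hTP)) h4
    have e3 := mul_card_le_of_lt (s.pg.to_le ((h4.trans h5).le.trans hTP)) h3
    rw [card_bot, mul_one] at e3
    have e4 : Nat.card Y ≤ p ^ 2 := Nat.le_of_mul_le_mul_left (c := p) (by nlinarith) hp.out.pos
    exact r' (s.tr_chain hTP h1 h2 hn h4.le h5.le (by nlinarith) (by nlinarith) (by nlinarith))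
  obtain c4 | c4 := c2.lt_or_eq
  · have c5 : Nat.card I = p ^ 2 := le_antisymm (Nat.le_of_mul_le_mul_left (c := p) (by nlinarith) hp.out.pos) (by
      rw [hn'] at c4 ⊢
      exact Nat.pow_le_pow_right hp.out.pos ((Nat.pow_lt_pow_iff_right hp.out.one_lt).1 ((pow_one p).symm ▸ c4)))
    refine ⟨c3, c5, le_centralizer_iff.1 (commutator_eq_bot_iff_le_centralizer.1 (by_contra fun k => chain _ I
      (CL.Grp.le_normalizer_commutator' nI s.norm) nI (bot_lt_iff_ne_bot.2 k)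
      (commutator_lt s.pg (l1.le.trans hTP) s.le (s.PH.trans nI) l0.ne') l1))⟩
  exfalso
  have hIc : H ≤ 𝒞(I) := (s.le_secC_of_card nI le_normalizer_bot bot_le (l1.le.trans hTP) (by simp [c4])).trans (secC_bot I).le
  have hIE : I ≤ E ⊓ 𝒞(E) := le_inf (l1.le.trans hT) (le_centralizer_iff.1 ((s.le.trans s.PH).trans hIc))
  have mx : ∀ Y, H ≤ 𝒩(Y) → I ≤ Y → Y < T → Y = I := fun Y h1 h2 h3 => by_contra fun k =>
    chain I Y nI h1 l0 (lt_of_le_of_ne h2 (Ne.symm k)) h3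
  have pw : ∀ x ∈ E, x ^ p ∈ T := fun x hx => hc _ (s.le (E.pow_mem hx p)) (mem_cen fun t ht =>
    commutatorElement_eq_one_iff_commute.1 (by
      rw [(homOn_comm_right le_rfl hIE (hI t ht)).map_pow hx]; exact (hel (l1.le (hI t ht x hx))).2.2))
  have := s.pg.isNilpotent
  obtain ⟨d, hd, hdT, k1⟩ := CL.Grp.exists_mem_notMem_commutator_mem_in s.le (s.PH.trans s.norm) hE
  have k2 : d ^ p ∈ I := by
    rw [← mx (T ⊓ 𝒞(E)) (CL.Grp.le_normalizer_inf' hn (CL.Grp.le_normalizer_centralizer' s.norm)) (le_inf l1.le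
      (hIE.trans inf_le_right)) (lt_of_le_of_ne inf_le_left fun k => hdT (hc d (s.le hd) (le_centralizer_iff.1
        (inf_eq_left.1 k) hd)))]
    refine ⟨pw d hd, mem_cen fun g hg => ?_⟩
    have e1 := inv_mem (k1 g (s.le hg))
    have e2 := hIE (hI _ e1 d hd)
    have e3 := CL.Grp.mul_pow_prime_of_commute_comm hp.out hp2 (a := ⁅d, g⁆⁻¹) (b := d) (by
      rw [← commutatorElement_inv ⁅d, g⁆⁻¹ d]; exact (comm_of_cen e2.2 (hT e1)).inv_right) (by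
      rw [← commutatorElement_inv _ d]; exact (comm_of_cen e2.2 hd).inv_right) (by
      rw [← commutatorElement_inv _ d, inv_pow, (hel (l1.le (hI _ e1 d hd))).2.2, inv_one])
    rw [(hel e1).2.2, one_mul, show ⁅d, g⁆⁻¹ * d = g * d * g⁻¹ by simp [commutatorElement_def, mul_assoc], conj_pow] at e3
    exact mul_inv_eq_iff_eq_mul.1 e3
  have cX : Nat.card ↥(T ⊔ zpowers d) = p ^ 4 := by
    rw [card_sup_zpowers_of_normalizer (hn (s.PH (s.le hd))) hdT (pw d hd), c3, ← pow_succ']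
  obtain ⟨g, hg, k3⟩ : ∃ g ∈ H, g * d * g⁻¹ ∉ T ⊔ zpowers d := by
    by_contra! k
    have w1 := relIndex_commSub_le (A := T) (B := ⊥) (I := I) (x := d) le_normalizer_bot (le_normalizer_bot (mem_top d))
      fun x hx => inv_mul_conj_eq_commutator x d ▸ hI _ (inv_mem hx) d hd
    have w2 := CL.Grp.card_eq_relIndex_mul_card (fun x hx => hx.1 : commSub T ⊥ le_normalizer_bot {d} ≤ T)
    have w3 := mx (T ⊓ 𝒞(T ⊔ zpowers d)) (CL.Grp.le_normalizer_inf' hn (CL.Grp.le_normalizer_centralizer'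
      (le_normalizer_sup_zpowers hn k))) (le_inf l1.le ((hIE.trans inf_le_right).trans (centralizer_le (sup_le hT
        (zpowers_le.2 hd))))) (lt_of_le_of_ne inf_le_left fun k => hdT (hc d (s.le hd) (le_centralizer_iff.1
          (inf_eq_left.1 k) (mem_sup_right (mem_zpowers d)))))
    have w4 := card_le_of_le (fun x hx => w3.le ⟨hx.1, mem_cen_sup (hel hx.1).2.1 (mem_cen_zpowers
      (inv_mul_conj_eq_one.1 (hx.2 d rfl)).symm)⟩ : commSub T ⊥ le_normalizer_bot {d} ≤ I)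
    rw [relIndex_bot_left] at w1
    have w5 := Nat.mul_le_mul w1 w4
    rw [← w2, ← c4, c3] at w5
    exact q3.not_ge w5
  have hd' := conj_mem_of_mem_normalizer (s.norm hg) hd
  have k4 : (g * d * g⁻¹) ^ p ∈ I := by rw [conj_pow]; exact conj_mem_of_mem_normalizer (nI hg) k2
  generalize g * d * g⁻¹ = d' at *
  have nX : E ≤ 𝒩(T ⊔ zpowers d) := le_normalizer_sup_zpowers ((s.le.trans s.PH).trans hn) fun x hx => by
    rw [show x * d * x⁻¹ = ⁅d, x⁆⁻¹ * d by simp [commutatorElement_def, mul_assoc]]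
    exact mul_mem_sup (inv_mem (k1 x (s.le hx))) (mem_zpowers d)
  have cP : Nat.card P ≤ p ^ 6 := by
    have := (normal_subgroupOf_iff_le_normalizer hTP).2 (s.PH.trans hn)
    exact CL.Grp.card_le_pow_of_selfCentralizing (a := 3) s.pg (T.subgroupOf P) (fun x hx => hc x x.2 (mem_cen fun t ht =>
      congrArg Subtype.val (mem_centralizer_iff.1 hx ⟨t, hTP ht⟩ ht))) ((Nat.card_congr (subgroupOfEquivOfLe hTP).toEquiv).trans c3)
  have cY := card_sup_zpowers_of_normalizer (nX hd') k3 (mem_sup_left (pw d' hd'))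
  rw [cX, ← pow_succ'] at cY
  have eY : T ⊔ zpowers d ⊔ zpowers d' = E := eq_of_le_of_card_ge (sup_le (sup_le hT (zpowers_le.2 hd)) (zpowers_le.2 hd'))
    (Nat.le_of_mul_le_mul_left (by rwa [← s.card, cY, ← pow_succ']) hp.out.pos)
  have hw := k1 d' (s.le hd')
  have lY : I ⊔ zpowers ⁅d, d'⁆ ≤ T := sup_le l1.le (zpowers_le.2 hw)
  have nY : E ≤ 𝒩(I ⊔ zpowers ⁅d, d'⁆) := le_normalizer_of_conj fun x hx y hy => by
    simpa using mul_mem hy (mem_sup_left (hI' (inv_mul_conj_mem_commutator (lY hy) hx)))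
  have k5 : ⁅E, E⁆ ≤ I ⊔ zpowers ⁅d, d'⁆ := by
    have e1 : ∀ x ∈ E, ⁅zpowers x, T⁆ ≤ I ⊔ zpowers ⁅d, d'⁆ := fun x hx => (commutator_comm_le _ _).trans
      (((commutator_mono le_rfl (zpowers_le.2 hx)).trans hI').trans le_sup_left)
    rw [← eY] at nY ⊢
    exact commutator_sup_zp nY (commutator_sup_zp (le_sup_left.trans nY) (((commutator_mono le_rfl hT).trans hI').trans
      le_sup_left) (e1 d hd)) ((commutator_comm_le _ _).trans (commutator_sup_le (le_sup_left.trans nY)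
        ((commutator_comm_le _ _).trans (e1 d' hd')) (commutator_zz (nY (eY.ge hd)) (nY (eY.ge hd'))
          (mem_sup_right (mem_zpowers _)))))
  have k6 : ⁅E, E⁆ ≤ I := le_sup_left.trans (mx (⁅E, E⁆ ⊔ I) (CL.Grp.le_normalizer_sup' (CL.Grp.le_normalizer_commutator'
    s.norm s.norm) nI) le_sup_right (lt_of_le_of_ne (sup_le (k5.trans lY) l1.le) fun k => by
      have e1 := card_le_of_le (k.ge.trans (sup_le k5 le_sup_left))
      have e2 := Nat.le_of_dvd (Nat.mul_pos Nat.card_pos Nat.card_pos) (CL.Grp.card_sup_dvd (H := I) (K := zpowers ⁅d, d'⁆)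
        ((le_centralizer_iff.1 (zpowers_le.2 (hIc (s.PH (hTP hw))))).trans (centralizer_le_normalizer _)))
      have e3 : Nat.card (zpowers ⁅d, d'⁆) ≤ p := by
        rw [Nat.card_zpowers]; exact orderOf_le_of_pow_eq_one hp.out.pos (hel hw).2.2
      rw [← c4] at e2
      exact q3.not_ge (c3.ge.trans (e1.trans (e2.trans (Nat.mul_le_mul_left p e3)))))).le
  have k7 : E ≤ powSub p (l1.le.trans hT) k6 := eY.ge.trans (sup_le (sup_le (fun x hx => ⟨hT hx, (hel hx).2.2 ▸ one_mem _⟩)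
    (zpowers_le.2 ⟨hd, k2⟩)) (zpowers_le.2 ⟨hd', k4⟩))
  have k8 := rk E I (l1.le.trans hT) s.le k6 fun x hx => (k7 hx).2
  have k9 := CL.Grp.card_eq_relIndex_mul_card (l1.le.trans hT)
  rw [eY] at cY
  have := Nat.mul_le_mul_right (Nat.card I) k8
  rw [← k9, cY, ← c4, ← pow_succ] at this
  exact absurd ((Nat.pow_le_pow_iff_right hp.out.one_lt).1 this) (by norm_num)

end Side

namespace Pair
variable (d : Pair p P E₁ H₁ E₂ H₂) (hp2 : p ≠ 2)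
include d hp2

theorem nf (hT : T ≤ E₁ ⊓ E₂) (h1 : H₁ ≤ 𝒩(T)) (h2 : H₂ ≤ 𝒩(T)) (hel : T ≤ omZ p T) (hc : ∀ x ∈ P, x ∈ 𝒞(T) → x ∈ T) :
    False := by
  have l1 := hT.trans inf_le_left
  obtain ⟨c, c1, k1⟩ := d.s₁.nf_cases d.r₁ d.rk l1 h1 hel hc hp2 fun k => d.not_le (k.trans (hT.trans inf_le_right))
  obtain ⟨-, c2, k2⟩ := d.s₂.nf_cases d.r₂ d.rk (hT.trans inf_le_right) h2 hel hc hp2 fun k => d.symm.not_le (k.trans l1)
  have n1 := CL.Grp.le_normalizer_commutator' h1 d.s₁.norm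
  have hTP := l1.trans d.s₁.le
  have hne : T ≠ ⊥ := fun k => by rw [k, card_bot] at c; exact (Nat.one_lt_pow (by norm_num) hp.out.one_lt).ne c
  have m1 := (commutator_lt d.s₁.pg hTP d.s₁.le (d.s₁.PH.trans h1) hne).le
  have m2 := (commutator_lt d.s₁.pg hTP d.s₂.le (d.s₁.PH.trans h1) hne).le
  have t1 := d.s₁.tr_of_card h1 n1 m1 hTP (by rw [c, c1, ← pow_succ'])
  have e : ⁅T, E₁⁆ ⊔ ⁅T, E₂⁆ = T := by
    refine (CL.Grp.eq_or_eq_of_relIndex_prime le_sup_left (sup_le m1 m2) (by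
      rw [relIndex_eq_of_card hp.out.pos m1 c1 c]; exact hp.out)).resolve_left fun k => ?_
    have e := eq_of_le_of_card_ge (sup_eq_left.1 k) (c1.trans c2.symm).le
    exact d.s₁.not_tr d.r₁ l1 h1 hc (t1.trans (d.s₁.pg.to_le hTP) (Tr.of_le ((d.s₁.le_cen n1 (d.sup ▸ sup_le k1 (e ▸ k2))).trans
      (secC_bot _).ge)) m1)
  have e' : E₁ ⊓ E₂ = T := le_antisymm (fun x hx => hc x (d.s₁.le hx.1) (e ▸ mem_cen_sup (k1 hx.1) (k2 hx.2))) hT
  exact d.r₁ (((d.s₁.tr_of_card d.s₁.norm h1 l1 d.s₁.le (card_of_relIndex l1 (e' ▸ d.i₁)).le).trans d.s₁.pgE t1 l1).of_frat'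
    d.s₁.pgE ((commutator_mono l1 le_rfl).trans (commutator_le_frat d.s₁.pgE)))

variable (hT : T ≤ E₁ ⊓ E₂) (h1 : H₁ ≤ 𝒩(T)) (h2 : H₂ ≤ 𝒩(T)) (mx : ∀ X ≤ E₁ ⊓ E₂, H₁ ≤ 𝒩(X) → H₂ ≤ 𝒩(X) → X ≤ T)
include hT h1 h2 mx

theorem exists_secC : ∃ a ∈ P, a ∈ secC T (frat T) ∧ a ∉ E₁ ⊓ E₂ := by
  by_contra! k
  have l1 := hT.trans inf_le_left
  have hpT := d.s₁.pgE.to_le l1
  have f1 := h1.trans (le_normalizer_frat hpT)
  have f2 := h2.trans (le_normalizer_frat hpT)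
  have e1 : E₁ ⊓ secC T (frat T) = E₂ ⊓ secC T (frat T) := le_antisymm (fun x hx => ⟨(k x (d.s₁.le hx.1) hx.2).2, hx.2⟩)
    fun x hx => ⟨(k x (d.s₂.le hx.1) hx.2).1, hx.2⟩
  have e2 := mx (E₁ ⊓ secC T (frat T)) (fun x hx => k x (d.s₁.le hx.1) hx.2) (CL.Grp.le_normalizer_inf' d.s₁.norm
    (le_normalizer_secC h1 f1)) (e1 ▸ CL.Grp.le_normalizer_inf' d.s₂.norm (le_normalizer_secC h2 f2))
  obtain ⟨f, q⟩ := quo (frat T)
  have hN := d.s₁.PH.trans f1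
  have hTN := (l1.trans d.s₁.le).trans hN
  refine (d.img q ((frat_le T).trans hT) f1 f2 (fun t => d.r₁ (t.of_frat' d.s₁.pgE (frat_mono d.s₁.pgE l1)))
    fun t => d.r₂ (t.of_frat' d.s₂.pgE (frat_mono d.s₂.pgE (hT.trans inf_le_right)))).nf hp2
    (le_inf (img_mono _ l1) (img_mono _ (hT.trans inf_le_right))) (q.norm f1 hTN h1) (q.norm f2 hTN h2)
    (img_le_iff.2 fun x hx => ⟨mem_img_of_mem _ hx, mem_cen fun y hy => ?_, ?_⟩) fun y hy hc => ?_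
  · obtain ⟨z, hz, rfl⟩ := (q.mem_img hTN).1 hy
    rw [← commutatorElement_eq_one_iff_commute, ← q.hom.map_commutator (hTN hz) (hTN hx)]
    have := commutator_le_frat hpT (commutator_mem_commutator hz hx)
    exact (q.ker _ (hTN (frat_le T this))).2 this
  · rw [← q.hom.map_pow (hTN hx)]
    exact (q.ker _ (hTN (pow_mem hx p))).2 (pow_mem_frat hpT hx)
  · obtain ⟨x, hx, rfl⟩ := (q.mem_img hN).1 hy
    have := q.mem_secC hTN (hN hx) (h1 (d.s₁.PH hx)) (hN hx) hc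
    exact mem_img_of_mem _ (e2 ⟨(k x hx this).1, this⟩)

theorem not_tr : ¬ Tr p H₁ E₁ T := fun t => by
  obtain ⟨a, ha, haK, haD⟩ := d.exists_secC hp2 hT h1 h2 mx
  have l1 := hT.trans inf_le_left
  have hpT := d.s₁.pgE.to_le l1
  have f1 := h1.trans (le_normalizer_frat hpT)
  have f2 := h2.trans (le_normalizer_frat hpT)
  have k1 : ∀ x ∈ P, x ∈ secC T (frat T) → x ∈ E₁ := fun x hx k => by_contra fun e =>
    d.r₁ (t.trans d.s₁.pgE ((d.s₁.tr_of_mem h1 f1 hx e k).of_frat' hpT le_rfl) l1)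
  have t2 := d.s₂.tr_of_mem h2 f2 ha (fun e => haD ⟨k1 a ha haK, e⟩) haK
  have n2 := CL.Grp.le_normalizer_inf' d.s₂.norm (le_normalizer_secC h2 f2)
  have l2 : E₂ ⊓ secC T (frat T) ≤ E₁ := fun x hx => k1 x (d.s₂.le hx.1) hx.2
  exact d.r₂ (((tr_inf_secC d.s₂.norm h2 f2 (d.s₂.le.trans d.s₂.PH) t2).mono le_rfl (mx _ (le_inf l2 inf_le_left)
    (d.s₁.norm_of_tr le_rfl t (le_inf (hT.trans inf_le_right) (le_secC le_normalizer (le_normalizer.trans (le_normalizer_frat hpT))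
      (commutator_le_frat hpT))) l2 (d.s₂.PH.trans n2)) n2) d.s₂.norm h2).trans d.s₂.pgE (t2.of_frat' hpT le_rfl)
    (hT.trans inf_le_right))

theorem el_or : (frat E₁ ≤ T ∧ ¬ H₁ ≤ 𝒩(E₁ ⊓ E₂)) ∨ (frat E₂ ≤ T ∧ ¬ H₂ ≤ 𝒩(E₂ ⊓ E₁)) := by
  obtain ⟨f, q⟩ := quo T
  have hN := d.s₁.PH.trans h1
  have key : ∀ {E H E' : Subgroup G}, Side p P E H → T ≤ E → T ≤ E' → E' ≤ P → H ≤ 𝒩(T) → frat (Fus.img f E) = ⊥ ∧
      ¬ Fus.img f H ≤ 𝒩(Fus.img f E ⊓ Fus.img f E') →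
      frat E ≤ T ∧ ¬ H ≤ 𝒩(E ⊓ E') := fun {E H E'} s l l' l'' n ⟨k1, k2⟩ => by
    have hE := s.le.trans hN
    obtain ⟨k3, k4⟩ := (frat_eq_bot_iff (q.isPGroup hE s.pgE)).1 k1
    refine ⟨(frat_le_iff s.pgE).2 ⟨commutator_le.2 fun x hx y hy => (q.ker _ (hE (commutator_le_self E
      (commutator_mem_commutator hx hy)))).1 ?_, fun x hx => (q.ker _ (hE (pow_mem hx p))).1 ?_⟩, fun k => k2 ?_⟩
    · rw [q.hom.map_commutator (hE hx) (hE hy), commutatorElement_eq_one_iff_mul_comm]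
      exact k3 _ (mem_img_of_mem _ hx) _ (mem_img_of_mem _ hy)
    · rw [q.hom.map_pow (hE hx)]
      exact k4 _ (mem_img_of_mem _ hx)
    · rw [← q.img_inf hE (l''.trans hN) l']
      exact q.norm n (inf_le_left.trans hE) k
  refine ((d.img q hT h1 h2 (d.not_tr hp2 hT h1 h2 mx) (d.symm.not_tr hp2 (inf_comm E₁ E₂ ▸ hT) h2 h1
    fun X k1 k2 k3 => mx X (inf_comm E₁ E₂ ▸ k1) k3 k2)).core_trivial (fun X k1 k2 k3 => ?_) hp2).imp
    (key d.s₁ (hT.trans inf_le_left) (hT.trans inf_le_right) d.s₂.le h1)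
    (key d.s₂ (hT.trans inf_le_right) (hT.trans inf_le_left) d.s₁.le h2)
  have hXP : X ≤ Fus.img f 𝒩(T) := k1.trans (inf_le_left.trans (img_mono _ (d.s₁.le.trans hN)))
  rw [← q.img_pre le_rfl hXP, eq_bot_iff, img_le_iff]
  exact fun x hx => (q.ker _ hx.1).2 (mx (preIn (q.hom.mono le_rfl) X) (fun y hy => ⟨(q.mem_iff (d.s₁.le.trans hN) (hT.trans inf_le_left) hy.1).1
    (k1 hy.2).1, (q.mem_iff (d.s₂.le.trans hN) (hT.trans inf_le_right) hy.1).1 (k1 hy.2).2⟩)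
    (q.norm_pre h1 le_rfl (h1.trans le_normalizer) k2) (q.norm_pre h2 le_rfl (h2.trans le_normalizer) k3) hx)

omit h2 mx hp2 in
theorem not_norm (r : ¬ Tr p H₁ E₁ T) (hf : frat E₂ ≤ T) : ¬ H₁ ≤ 𝒩(E₁ ⊓ E₂) := fun k => by
  obtain ⟨a, ha, haE⟩ := SetLike.not_le_iff_exists.1 d.symm.not_le
  exact r ((d.s₁.tr_of_card d.s₁.norm k inf_le_left d.s₁.le (card_of_relIndex inf_le_left d.i₁).le).trans d.s₁.pgE
    (d.s₁.tr_of_mem k h1 (d.s₂.le ha) haE ⟨d.nD (d.s₂.le ha), h1 (d.s₁.PH (d.s₂.le ha)), fun x hx =>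
      hf (commutator_le_frat d.s₂.pgE (inv_mul_conj_mem_commutator hx.2 ha))⟩) inf_le_left)

theorem not_norm₁ : ¬ H₁ ≤ 𝒩(E₁ ⊓ E₂) := (d.el_or hp2 hT h1 h2 mx).elim And.right fun k =>
  d.not_norm hT h1 (d.not_tr hp2 hT h1 h2 mx) k.1

theorem tr_T : Tr p H₁ T ⊥ := by
  obtain ⟨a, ha, haK, haD⟩ := d.exists_secC hp2 hT h1 h2 mx
  have l1 := hT.trans inf_le_left
  have hpT := d.s₁.pgE.to_le l1
  have f1 := h1.trans (le_normalizer_frat hpT)
  have f2 := h2.trans (le_normalizer_frat hpT)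
  refine Tr.of_frat' hpT (by_contra fun t => ?_) le_rfl
  have k1 : ∀ x ∈ P, x ∈ secC T (frat T) → x ∈ E₁ := fun x hx k => by_contra fun e => t (d.s₁.tr_of_mem h1 f1 hx e k)
  have t2 := d.s₂.tr_of_mem h2 f2 ha (fun e => haD ⟨k1 a ha haK, e⟩) haK
  exact d.symm.not_norm₁ hp2 (inf_comm E₁ E₂ ▸ hT) h2 h1 (fun X k1 k2 k3 => mx X (inf_comm E₁ E₂ ▸ k1) k3 k2)
    (d.s₂.norm_of_tr le_rfl (tr_inf_secC d.s₂.norm h2 f2 (d.s₂.le.trans d.s₂.PH) t2)
      (fun x hx => ⟨hx.1, k1 x (d.s₂.le hx.1) hx.2⟩) inf_le_left d.symm.nD)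

end Pair

end CL.Fus.Rk
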