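/-
The two possible shapes of a pair of sides.
-/
import Cfsg.Agent.Fus.Rk3C

set_option autoImplicit false
set_option linter.unusedSectionVars false

namespace CL.Fus.Rk

open Cfsg Subgroup
open scoped commutatorElement

local notation "𝒩(" X ")" => Subgroup.normalizer ((X : Subgroup _) : Set _)
local notation "𝒞(" X ")" => Subgroup.centralizer ((X : Subgroup _) : Set _)

variable {G : Type*} [Group G] {p : ℕ} {P E H A B C D I K M W X Y Z T N : Subgroup G} {a b e g h u x y z : G}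

/-- the relations of a Sylow `p`-subgroup of `Sp₄(p)` -/
structure Rel4 (p : ℕ) (e d z b : G) : Prop where
  be : b * e * b⁻¹ = e * d
  bd : b * d * b⁻¹ = d * z
  bz : Commute z b
  ed : Commute e d
  ez : Commute z e
  dz : Commute z d
  pe : e ^ p = 1
  pd : d ^ p = 1
  pz : z ^ p = 1
  pb : b ^ p = 1

/-- `P` is a Sylow `p`-subgroup of `Sp₄(p)` with the two radical subgroups `E₁`, `E₂` -/
structure III (p : ℕ) (P E₁ E₂ : Subgroup G) : Prop where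
  el : E₁ ≤ omZ p E₁
  c₁ : Nat.card E₁ = p ^ 3
  c₂ : Nat.card E₂ = p ^ 3
  na : ¬ E₂ ≤ 𝒞(E₂)
  ex : ∀ x ∈ E₂, x ^ p = 1
  cP : Nat.card P = p ^ 4
  rel : ∃ e ∈ P, ∃ d ∈ P, ∃ z ∈ P, ∃ b ∈ P, Rel4 p e d z b ∧ z ≠ 1

/-- `E` is a natural module modulo a central subgroup -/
structure LS (p : ℕ) (E H D : Subgroup G) : Prop where
  idx : (coreIn H D).relIndex D = p
  frat : frat E ≤ coreIn H D
  cen : E ≤ 𝒞(coreIn H D)
  tr : Tr p H (coreIn H D) ⊥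
  nn : ¬ H ≤ 𝒩(D)

/-- `g` acts on `M / N` as the `a`-th power map -/
def Wt (g : G) (M N : Subgroup G) (a : ℤ) : Prop := ∀ x ∈ M, (x ^ a)⁻¹ * (g * x * g⁻¹) ∈ N

theorem wt_sup {i : ℤ} (hx : x ∈ 𝒩(N)) (hg : g ∈ 𝒩(N)) (h : (x ^ i)⁻¹ * (g * x * g⁻¹) ∈ N) : Wt g (N ⊔ zpowers x) N i := by
  intro y hy
  obtain ⟨f, q⟩ := quo N
  obtain ⟨n, hn, _, ⟨j, rfl⟩, rfl⟩ := (mem_sup_of_le_normalizer' (zpowers_le.2 hx)).1 hy
  have h1 := le_normalizer hn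
  have h2 := conj_mem_of_mem_normalizer (le_normalizer hg) hx
  have h3 := conj_mem_of_mem_normalizer hg hn
  rw [← q.eq_iff (zpow_mem hx i) h2] at h
  rw [← conj_mul, ← conj_zpow, ← q.eq_iff (zpow_mem (mul_mem h1 (zpow_mem hx j)) i) (mul_mem (le_normalizer h3) (zpow_mem h2 j)),
    q.hom.map_zpow (mul_mem h1 (zpow_mem hx j)), q.hom.map_mul h1 (zpow_mem hx j), q.hom.map_mul (le_normalizer h3) (zpow_mem h2 j),
    (q.ker _ h1).2 hn, (q.ker _ (le_normalizer h3)).2 h3, q.hom.map_zpow h2, ← h, q.hom.map_zpow hx, q.hom.map_zpow hx,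
    one_mul, one_mul, ← zpow_mul, ← zpow_mul, mul_comm]

theorem cen_mono (h : X ≤ Y) : centralizer (Y : Set G) ≤ centralizer (X : Set G) := centralizer_le h

variable [hp : Fact p.Prime] [Finite G] {E₁ H₁ E₂ H₂ : Subgroup G}

theorem card_le_of_lt (hA : IsPGroup p A) (h : X < A) {n : ℕ} (hc : Nat.card A ≤ p * n) : Nat.card X ≤ n :=
  Nat.le_of_mul_le_mul_left ((mul_card_le_of_lt hA h).trans hc) hp.out.pos

namespace Side
variable (s : Side p P E H)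
include s

theorem le_cen_of_tr (rk : Rank3 p P) (hC : C ≤ E) (hn : H ≤ 𝒩(C)) (t : Tr p H C ⊥) (hf : frat E ≤ C)
    (hi : p ^ 2 ≤ C.relIndex E) (irr : ∀ X, C ≤ X → X ≤ E → H ≤ 𝒩(X) → Tr p H E X → X = E) : E ≤ 𝒞(C) := by
  have hEH := s.le.trans s.PH
  have hpC := s.pgE.to_le hC
  have t1 := tr_inf_secC s.norm hn le_normalizer_bot hEH t
  rw [secC_bot] at t1
  have n1 := CL.Grp.le_normalizer_sup' (CL.Grp.le_normalizer_inf' s.norm (CL.Grp.le_normalizer_centralizer' hn)) hn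
  have e := irr _ le_sup_right (sup_le inf_le_left hC) n1 (t1.mono le_rfl le_sup_left s.norm n1)
  have lY : C ⊓ 𝒞(C) ⊔ frat C ≤ C := sup_le inf_le_left (frat_le C)
  have nY : E ≤ 𝒩(C ⊓ 𝒞(C) ⊔ frat C) := hEH.trans (CL.Grp.le_normalizer_sup' (CL.Grp.le_normalizer_inf' hn
    (CL.Grp.le_normalizer_centralizer' hn)) (hn.trans (le_normalizer_frat hpC)))
  have c0 : ⁅E ⊓ 𝒞(C), C⁆ ≤ C ⊓ 𝒞(C) ⊔ frat C := (commutator_eq_bot_iff_le_centralizer.2 inf_le_right).le.trans bot_le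
  have c1 : ⁅E, E⁆ ≤ C ⊓ 𝒞(C) ⊔ frat C := by
    rw [← e] at nY
    conv_lhs => rw [← e]
    exact commutator_sup_le nY ((commutator_comm_le _ _).trans (commutator_sup_le nY (le_sup_left.trans' (le_inf
      (((commutator_mono inf_le_left inf_le_left).trans (commutator_le_frat s.pgE)).trans hf) ((commutator_le_self _).trans
        inf_le_right))) ((commutator_comm_le _ _).trans c0))) ((commutator_comm_le _ _).trans (commutator_sup_le nY c0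
          ((commutator_le_frat hpC).trans le_sup_right)))
  have c2 : E ≤ powSub p (lY.trans hC) c1 := e.ge.trans (sup_le (fun x hx => ⟨hx.1, mem_sup_left ⟨hf (pow_mem_frat s.pgE hx.1),
    Subgroup.pow_mem _ hx.2 p⟩⟩) fun x hx => ⟨hC hx, mem_sup_right (pow_mem_frat hpC hx)⟩)
  have c3 := rk E _ (lY.trans hC) s.le c1 fun x hx => (c2 hx).2
  rw [← relIndex_mul_relIndex _ C E lY hC, pow_succ'] at c3
  have c4 : (C ⊓ 𝒞(C) ⊔ frat C).relIndex C ≤ p :=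
    Nat.le_of_mul_le_mul_right ((Nat.mul_le_mul_left _ hi).trans c3) (pow_pos hp.out.pos 2)
  obtain ⟨c, hc, k⟩ : ∃ c ∈ C, C ≤ C ⊓ 𝒞(C) ⊔ frat C ⊔ zpowers c := by
    by_cases k : C ≤ C ⊓ 𝒞(C) ⊔ frat C
    · exact ⟨1, one_mem _, k.trans le_sup_left⟩
    obtain ⟨c, hc, k'⟩ := SetLike.not_le_iff_exists.1 k
    refine ⟨c, hc, (eq_of_le_of_card_ge (sup_le lY (zpowers_le.2 hc)) ?_).ge⟩
    rw [card_sup_zpowers_of_frat_le hpC le_sup_right lY hc k', CL.Grp.card_eq_relIndex_mul_card lY]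
    exact Nat.mul_le_mul_right _ c4
  have c5 := eq_of_sup_frat (sup_le inf_le_left (zpowers_le.2 hc)) (k.trans (sup_right_comm _ _ _).le)
  have c6 : C ≤ 𝒞(C) := c5.ge.trans (sup_le inf_le_right (zpowers_le.2 (c5 ▸ mem_cen_sup (le_centralizer_iff.1 inf_le_right hc)
    (mem_cen_zpowers (Commute.refl c)))))
  exact e.ge.trans (sup_le inf_le_right c6)

/-- the torus of a side of linear type, extended to `P` -/
theorem torus (hD : D ≤ E) (hi : D.relIndex E = p) (hP : P ≤ 𝒩(D)) (r : ¬ Tr p H E ⊥) (t : LS p E H D)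
    (ext : ∀ k ∈ 𝒩(E), (∀ a ∈ P, k * a * k⁻¹ ∈ P ⊔ 𝒞(E)) → ∃ g ∈ 𝒩(P), g⁻¹ * k ∈ 𝒞(E)) (l m : ℕ) (hd : (p : ℤ) ∣ l * m - 1) :
    ∃ g ∈ 𝒩(P), g ∈ 𝒩(E) ∧ g ∈ 𝒞(coreIn H D) ∧ Wt g D (coreIn H D) l ∧ Wt g E D m ∧ (l = m → Wt g E (coreIn H D) l) ∧
      Wt g P E (l * l) := by
  obtain ⟨a, ha, haE⟩ := s.exists_notMem
  have lC : coreIn H D ≤ E := coreIn_le.trans hD
  have nC : H ≤ 𝒩(coreIn H D) := le_normalizer_coreIn
  obtain ⟨k, hk, ck, k1, k2, k3, k4⟩ := s.exists_torus s.norm nC le_rfl (le_secC le_normalizer ((s.le.trans s.PH).trans nC)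
    ((commutator_le_frat s.pgE).trans t.frat)) t.frat coreIn_le hD t.idx hi hP t.nn ha haE l m hd
  have haH := s.PH ha
  obtain ⟨b, hb, c, hc, e⟩ := s.exists_mul (s.le_sup inf_le_left (CL.Grp.le_normalizer_inf' le_normalizer
    (le_normalizer_secC s.norm nC)) (fun k hk c => (secC_bot E).le (secC_trans s.pgE c hk.2 (t.tr k hk.1 c) lC))
    (mem_inf.2 ⟨mul_mem (inv_mem (H.pow_mem haH _)) (mul_mem (mul_mem hk haH) (inv_mem hk)), k4⟩))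
  have hbE : b ∈ E := by_contra fun k => t.nn (s.norm_of_tr le_rfl (s.tr_of_mem s.norm nC hb k
    ((mul_mem_cancel_right (cen_le_secC le_rfl lC hc)).1 (by rw [e]; exact k4))) coreIn_le hD hP)
  have e1 : k * a * k⁻¹ = a ^ (l * l) * b * c := by rw [mul_assoc _ b, e, mul_inv_cancel_left]
  have e0 : P ≤ (P ⊔ 𝒞(E)).comap (cjh k) := s.le_of_mem ha haE
    (fun y hy => mem_comap.2 (mem_sup_left (s.le (conj_mem_of_mem_normalizer (s.norm hk) hy))))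
    (mem_comap.2 (show k * a * k⁻¹ ∈ P ⊔ 𝒞(E) by rw [e1]; exact mul_mem_sup (mul_mem (P.pow_mem ha _) hb) hc))
  obtain ⟨g, hg, k5⟩ := ext k (s.norm hk) fun x hx => mem_comap.1 (e0 hx)
  have e2 : ∀ x ∈ E, g * x * g⁻¹ = k * x * k⁻¹ := fun x hx => by
    conv_lhs => rw [← conj_eq_of_mem_centralizer k5 hx]
    group
  have hgE : g ∈ 𝒩(E) := mem_normalizer_of_finite fun x hx => by
    rw [e2 x hx]; exact conj_mem_of_mem_normalizer (s.norm hk) hx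
  refine ⟨g, hg, hgE, mem_centralizer_of_conj_eq fun x hx => (e2 x (lC hx)).trans (conj_eq_of_mem_centralizer
    ((secC_bot _).le (t.tr k hk ck)) hx), fun x hx => by rw [e2 x (hD hx), zpow_natCast]; exact k1 x hx,
    fun x hx => by rw [e2 x hx, zpow_natCast]; exact k2 x hx, fun e x hx => by rw [e2 x hx, zpow_natCast]; exact k3 e x hx, ?_⟩
  rw [← s.sup ha haE]
  refine wt_sup (s.norm haH) hgE ?_
  rw [← Nat.cast_mul, zpow_natCast]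
  have hl := P.pow_mem ha (l * l)
  generalize a ^ (l * l) = a' at *
  have h1 : (a' * b)⁻¹ * (g * a * g⁻¹) ∈ E := s.cen r (mul_mem (inv_mem (mul_mem hl hb)) (conj_mem_of_mem_normalizer hg ha)) (by
    have := mul_mem hc (conj_mem_of_mem_normalizer (CL.Grp.le_normalizer_centralizer' le_rfl hgE) (mul_mem k5
      (inv_conj_mem_of_mem_normalizer (CL.Grp.le_normalizer_centralizer' s.norm haH) (inv_mem k5))))
    rw [← inv_mul_eq_iff_eq_mul.2 e1] at this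
    convert this using 1
    group)
  have := mul_mem hbE h1
  convert this using 1
  group

end Side

namespace Pair
variable (d : Pair p P E₁ H₁ E₂ H₂) (hp2 : p ≠ 2)
variable (hT : T ≤ E₁ ⊓ E₂) (h1 : H₁ ≤ 𝒩(T)) (h2 : H₂ ≤ 𝒩(T)) (mx : ∀ X ≤ E₁ ⊓ E₂, H₁ ≤ 𝒩(X) → H₂ ≤ 𝒩(X) → X ≤ T)
include d hp2 hT h1 h2 mx

theorem card_le (hf : frat E₂ ≤ T) : Nat.card ↥(E₁ ⊓ E₂) ≤ p * (p * Nat.card T) := by
  obtain ⟨k1, k2⟩ := (frat_le_iff d.s₂.pgE).1 hf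
  have := Nat.mul_le_mul_right (Nat.card T) (d.rk E₂ T (hT.trans inf_le_right) d.s₂.le k1 k2)
  rw [← CL.Grp.card_eq_relIndex_mul_card (hT.trans inf_le_right), card_of_relIndex inf_le_right d.i₂] at this
  exact Nat.le_of_mul_le_mul_left (this.trans (le_of_eq (by ring))) hp.out.pos

theorem ls (hf : frat E₂ ≤ T) : LS p E₁ H₁ (E₁ ⊓ E₂) := by
  obtain ⟨a, ha, haE⟩ := SetLike.not_le_iff_exists.1 d.symm.not_le
  have l1 := hT.trans inf_le_left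
  have hEH := d.s₁.le.trans d.s₁.PH
  have n1 := CL.Grp.le_normalizer_sup' h1 (d.s₁.norm.trans (le_normalizer_frat d.s₁.pgE))
  obtain ⟨k1, k2⟩ := d.s₁.exists_core d.s₁.norm n1 le_rfl (le_secC le_normalizer (hEH.trans n1) ((commutator_le_frat
    d.s₁.pgE).trans le_sup_right)) le_sup_right (sup_le hT (frat_le_of_relIndex (d.i₁ ▸ hp.out))) inf_le_left d.i₁
    (d.s₂.le ha) haE (fun x hx => mem_sup_left (hf (commutator_le_frat d.s₂.pgE (inv_mul_conj_mem_commutator hx.2 ha))))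
    fun k => d.not_tr hp2 hT h1 h2 mx (k.of_frat d.s₁.pgE le_rfl h1 l1 (hEH.trans h1))
  have nC : H₁ ≤ 𝒩(coreIn H₁ (E₁ ⊓ E₂)) := le_normalizer_coreIn
  have lC : coreIn H₁ (E₁ ⊓ E₂) ≤ E₁ := coreIn_le.trans inf_le_left
  have nn := d.not_norm₁ hp2 hT h1 h2 mx
  have f1 : frat E₁ ≤ coreIn H₁ (E₁ ⊓ E₂) := le_coreIn (frat_le_of_relIndex (d.i₁ ▸ hp.out))
    (d.s₁.norm.trans (le_normalizer_frat d.s₁.pgE))
  have t := (d.s₁.tr_of_card nC h1 (le_coreIn hT h1) (lC.trans d.s₁.le) (Nat.le_of_mul_le_mul_left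
    ((card_of_relIndex coreIn_le k1).ge.trans (d.card_le hp2 hT h1 h2 mx hf)) hp.out.pos)).trans (d.s₁.pgE.to_le lC)
    (d.tr_T hp2 hT h1 h2 mx) (le_coreIn hT h1)
  refine ⟨k1, f1, d.s₁.le_cen_of_tr d.rk lC nC t f1 (by
    rw [← relIndex_mul_relIndex _ _ E₁ coreIn_le inf_le_left, k1, d.i₁, pow_two]) fun X x1 x2 x3 x4 => by_contra fun k => ?_, t, nn⟩
  exact nn (d.s₁.norm_of_tr le_rfl (x4.trans d.s₁.pgE (d.s₁.tr_of_card x3 nC x1 (x2.trans d.s₁.le) (card_le_of_lt d.s₁.pgE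
    (lt_of_le_of_ne x2 k) (by rw [card_of_relIndex inf_le_left d.i₁, card_of_relIndex coreIn_le k1]))) x2) coreIn_le
    inf_le_left d.nD)

theorem iii (hf : frat E₂ ≤ T) (hf' : ¬ frat E₁ ≤ T) : III p P E₂ E₁ := by
  have t := d.ls hp2 hT h1 h2 mx hf
  have cD := d.card_le hp2 hT h1 h2 mx hf
  have hT' := inf_comm E₁ E₂ ▸ hT
  have mx' : ∀ X ≤ E₂ ⊓ E₁, H₂ ≤ 𝒩(X) → H₁ ≤ 𝒩(X) → X ≤ T := fun X k1 k2 k3 => mx X (inf_comm E₁ E₂ ▸ k1) k3 k2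
  have r2 := d.symm.not_tr hp2 hT' h2 h1 mx'
  have t2 := d.symm.tr_T hp2 hT' h2 h1 mx'
  have nn2 := inf_comm E₂ E₁ ▸ d.symm.not_norm₁ hp2 hT' h2 h1 mx'
  obtain ⟨i1, f1, c1, t1, nn⟩ := t
  have lT : T ≤ coreIn H₁ (E₁ ⊓ E₂) := le_coreIn hT h1
  have lW : coreIn H₁ (E₁ ⊓ E₂) ≤ E₁ ⊓ E₂ := coreIn_le
  have nW : H₁ ≤ 𝒩(coreIn H₁ (E₁ ⊓ E₂)) := le_normalizer_coreIn
  generalize coreIn H₁ (E₁ ⊓ E₂) = W at *
  have nD := d.nD
  have i₁ := d.i₁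
  have i₂ := d.i₂
  have l1 : E₁ ⊓ E₂ ≤ E₁ := inf_le_left
  have l2 : E₁ ⊓ E₂ ≤ E₂ := inf_le_right
  have hm : ∀ x ∈ E₁, x ∈ E₂ → x ∈ E₁ ⊓ E₂ := fun x a b => ⟨a, b⟩
  have cm := fun x y => d.comm_mem (x := x) (y := y)
  have fP := d.fratP
  generalize E₁ ⊓ E₂ = D at *
  have hDP := l1.trans d.s₁.le
  have nT := d.s₁.PH.trans h1
  obtain ⟨b, hb, hbD⟩ := exists_of_relIndex i₁
  have eb := eq_sup_zpowers_of_relIndex l1 (i₁ ▸ hp.out) hb hbD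
  have k1 : ¬ ⁅D, E₁⁆ ≤ T := fun k => by
    have e1 : ⁅E₁, E₁⁆ ≤ T := eb ▸ commutator_sup_zp (eb.le.trans (d.s₁.le.trans nT)) ((commutator_mono le_rfl l1).trans k)
      ((commutator_comm_le _ _).trans ((commutator_mono le_rfl (zpowers_le.2 hb)).trans k))
    refine hf' ((frat_le_iff d.s₁.pgE).2 ⟨e1, fun x hx => ?_⟩)
    have e2 : H₁ ≤ 𝒩(powSub p (hT.trans l1) e1) := le_normalizer_of_conj fun g hg x hx =>
      ⟨conj_mem_of_mem_normalizer (d.s₁.norm hg) hx.1, by rw [conj_pow]; exact conj_mem_of_mem_normalizer (h1 hg) hx.2⟩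
    exact (((CL.Grp.eq_or_eq_of_relIndex_prime (K := powSub p (hT.trans l1) e1) (fun x hx => ⟨l1 hx, hf (pow_mem_frat d.s₂.pgE
      (l2 hx))⟩) (fun x hx => hx.1) (i₁ ▸ hp.out)).resolve_left fun e => nn (e ▸ e2)).ge hx).2
  have lt : T < W := lt_of_le_of_ne lT fun e => hf' (e ▸ f1)
  have cW := card_of_relIndex lW i1
  have cT : Nat.card W = p * Nat.card T := le_antisymm (Nat.le_of_mul_le_mul_left (cW ▸ cD) hp.out.pos)
    (mul_card_le_of_lt (d.s₁.pg.to_le (lW.trans hDP)) lt)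
  have iT : T.relIndex W = p := Nat.eq_of_mul_eq_mul_right Nat.card_pos ((CL.Grp.card_eq_relIndex_mul_card lT).symm.trans cT)
  have cen : ∀ Y, T ≤ Y → Y ≤ P → P ≤ 𝒩(Y) → Nat.card Y ≤ p * Nat.card T → ⁅Y, E₁⁆ ≤ T := fun Y y1 y2 y3 y4 =>
    commutator_le_of_secC fun x hx => ⟨y3 (d.s₁.le hx), nT (d.s₁.le hx), fun y hy => comm_mem_of_card_le d.s₁.pg y1 y2
      (y2.trans nT) (d.s₁.le hx) (nT (d.s₁.le hx)) (y3 (d.s₁.le hx)) y4 hy⟩
  have notW : ∀ a ∈ E₂, a ∉ E₁ → ¬ ∀ x ∈ E₁, x⁻¹ * (a * x * a⁻¹) ∈ W := fun a ha haE k => nn (d.s₁.norm_of_tr le_rfl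
    (d.s₁.tr_of_mem d.s₁.norm nW (d.s₂.le ha) haE ⟨d.n₁ (d.s₂.le ha), nW (d.s₁.PH (d.s₂.le ha)), k⟩) lW l1 nD)
  have irr : ∀ X, T ≤ X → X ≤ E₂ → H₂ ≤ 𝒩(X) → X ≠ T → X = E₂ := fun X x1 x2 x3 x4 => by_contra fun x5 => by
    have nX := d.s₂.PH.trans x3
    have y1 : X ⊓ D < D := lt_of_le_of_ne inf_le_right fun e => nn2 (((CL.Grp.eq_or_eq_of_relIndex_prime (inf_eq_right.1 e) x2
      (i₂ ▸ hp.out)).resolve_right x5) ▸ x3)
    have y2 : X ⊓ D ≤ W := by_contra fun k => k1 (by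
      rw [← (CL.Grp.eq_or_eq_of_relIndex_prime le_sup_left (sup_le lW y1.le) (i1 ▸ hp.out)).resolve_left
        fun e => k (sup_eq_left.1 e)]
      exact commutator_sup_le ((sup_le lW y1.le).trans (hDP.trans nT)) (cen W lT (lW.trans hDP) (d.s₁.PH.trans nW) cT.le)
        (cen _ (le_inf x1 hT) (y1.le.trans hDP) (CL.Grp.le_normalizer_inf' nX nD) (card_le_of_lt (d.s₁.pg.to_le hDP) y1 cD)))
    by_cases k : X ≤ E₁
    · have e := (CL.Grp.eq_or_eq_of_relIndex_prime x1 (fun x hx => y2 ⟨hx, hm x (k hx) (x2 hx)⟩) (iT ▸ hp.out)).resolve_left x4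
      exact lt.not_ge (mx W lW nW (e ▸ x3))
    · obtain ⟨a, ha, haE⟩ := SetLike.not_le_iff_exists.1 k
      refine notW a (x2 ha) haE fun x hx => y2 ⟨?_, cm x a (d.s₁.le hx) (d.s₂.le (x2 ha))⟩
      rw [← mul_assoc, ← mul_assoc]
      exact X.mul_mem (inv_conj_mem_of_mem_normalizer (nX (d.s₁.le hx)) ha) (inv_mem ha)
  have iE : T.relIndex E₂ = p ^ 3 := by
    rw [← relIndex_mul_relIndex _ _ E₂ hT l2, ← relIndex_mul_relIndex _ _ D lT lW, iT, i1, i₂]; ring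
  have cE := d.s₂.le_cen_of_tr d.rk (hT.trans l2) h2 t2 hf (iE ▸ Nat.pow_le_pow_right hp.out.pos (by norm_num))
    fun X x1 x2 x3 x4 => irr X x1 x2 x3 fun e => r2 (e ▸ x4)
  obtain ⟨u, hu, huW⟩ := exists_of_relIndex i1
  have eu := eq_sup_zpowers_of_relIndex lW (i1 ▸ hp.out) hu huW
  have aD : D ≤ 𝒞(D) := eu ▸ sup_le (fun x hx => mem_cen_sup (c1 (l1 (lW hx))) (mem_cen_zpowers (comm_of_cen (c1 (l1 hu)) hx).symm))
    (zpowers_le.2 (mem_cen_sup (c1 (l1 hu)) (mem_cen_zpowers (Commute.refl u))))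
  have k2 : ⁅⁅D, E₁⁆, E₂⁆ = ⊥ := commutator_commutator_eq_bot_of_rotate (commutator_eq_bot_iff_le_centralizer.2
    ((((commutator_mono d.s₁.le d.s₂.le).trans (commutator_le_frat d.s₁.pg)).trans fP).trans aD))
    (commutator_eq_bot_iff_le_centralizer.2 ((((commutator_mono le_rfl l2).trans (commutator_le_frat d.s₂.pgE)).trans hf).trans
      (le_centralizer_iff.1 (c1.trans (centralizer_le lT)))))
  have k3 : ⁅D, E₁⁆ ≤ W := ((commutator_mono l1 le_rfl).trans (commutator_le_frat d.s₁.pgE)).trans f1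
  have aE : E₂ ≤ 𝒞(E₂) := inf_eq_left.1 (irr (E₂ ⊓ 𝒞(E₂)) (le_inf (hT.trans l2) (le_centralizer_iff.1 cE)) inf_le_left
    (CL.Grp.le_normalizer_inf' d.s₂.norm (CL.Grp.le_normalizer_centralizer' d.s₂.norm)) fun e => k1 (e ▸ le_inf
      ((k3.trans lW).trans l2) (commutator_eq_bot_iff_le_centralizer.1 k2)))
  have nO := CL.Grp.le_normalizer_sup' (le_normalizer_omZ (p := p) d.s₂.norm) h2
  have eO := irr (omZ p E₂ ⊔ T) le_sup_right (sup_le omZ_le (hT.trans l2)) nO fun e => r2 (e ▸ fun g hg c => ⟨d.s₂.norm hg, nO hg,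
    fun x hx => by
      have x1 := conj_mem_of_mem_normalizer (d.s₂.norm hg) hx
      refine mem_sup_left ⟨mul_mem (inv_mem hx) x1, aE (mul_mem (inv_mem hx) x1), ?_⟩
      rw [(comm_of_cen (aE x1) (inv_mem hx)).mul_pow, conj_pow, conj_eq_of_mem_centralizer ((secC_bot T).le (t2 g hg c))
        (hf (pow_mem_frat d.s₂.pgE hx)), inv_pow, inv_mul_cancel]⟩)
  have eT : T = ⊥ := by_contra fun k => by
    obtain ⟨x, hx, x1, x2⟩ := exists_mem_omZ d.s₁.pg (hT.trans hDP) nT k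
    have e1 := CL.Grp.card_sup_mul_card_inf (H := omZ p E₂) (K := T) ((omZ_le.trans d.s₂.le).trans nT)
    have e2 := d.rk.card_le (omZ_le.trans d.s₂.le) (omZ_of_le (le_refl (omZ p E₂)))
    have e3 : 1 < Nat.card ↥(omZ p E₂ ⊓ T) := (one_lt_card_iff_ne_bot _).2 fun e => x1 (mem_bot.1 (e.le ⟨d.s₂.omZ_le_E d.r₂ x2, hx⟩))
    rw [eO, CL.Grp.card_eq_relIndex_mul_card (hT.trans l2), iE] at e1
    have e4 : 0 < p ^ 3 * Nat.card T := Nat.mul_pos (pow_pos hp.out.pos 3) Nat.card_pos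
    nlinarith [Nat.mul_le_mul_right (Nat.card T) e2]
  subst eT
  rw [sup_bot_eq] at eO
  rw [relIndex_bot_left] at iE
  have c₁ : Nat.card E₁ = p ^ 3 := Nat.eq_of_mul_eq_mul_left hp.out.pos (by rw [← d.s₁.card, d.s₂.card, iE])
  have oW : W ≤ omZ p E₁ := fun x hx => ⟨l1 (lW hx), le_centralizer_iff.1 c1 hx, (eO.ge (l2 (lW hx))).2.2⟩
  have ex : ∀ x ∈ E₁, x ^ p = 1 := fun x hx => (ncl_cls hp2 d.s₁.norm l1 nW oW (fun x hx => (eO.ge (l2 hx)).2.2)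
    (fun x hx b hb => k3 (inv_mul_conj_mem_commutator hx hb)) x (((CL.Grp.eq_or_eq_of_relIndex_prime le_ncl (ncl_le l1 d.s₁.norm)
      (i₁ ▸ hp.out)).resolve_left fun e => nn (e ▸ le_normalizer_ncl)).ge hx)).1
  obtain ⟨e, he, heD⟩ := exists_of_relIndex i₂
  have hbP := d.s₁.le hb
  have heP := d.s₂.le he
  have hd := cm e b heP hbP
  have hdW : e⁻¹ * (b * e * b⁻¹) ∉ W := fun k => notW e he (fun c => heD (hm e c he)) fun x hx =>
    ((eb.ge.trans (sup_le (fun y hy => ⟨l1 hy, fun _ k => by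
      rw [k, inv_mul_conj_eq_one.2 (comm_of_cen (aE he) (l2 hy))]; exact one_mem _⟩) (zpowers_le.2 ⟨hb, fun _ k' => by
        have := inv_mem (conj_mem_of_mem_normalizer (nW (d.s₁.PH (mul_mem (inv_mem hbP) heP))) k)
        rw [k']
        convert this using 1
        group⟩)) : E₁ ≤ commSub E₁ W (d.n₁.trans' d.s₁.le |> fun _ => (d.s₁.le.trans d.s₁.PH).trans nW) {e}) hx).2 e rfl
  have hz := k3 (inv_mul_conj_mem_commutator hd hb)
  refine ⟨eO.ge, iE, c₁, fun k => k1 (commutator_eq_bot_iff_le_centralizer.2 (l1.trans k)).le, ex, by rw [d.s₁.card, c₁, ← pow_succ'],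
    e, heP, _, hDP hd, _, hDP (lW hz), b, hbP, ⟨(mul_inv_cancel_left _ _).symm, (mul_inv_cancel_left _ _).symm,
      comm_of_cen (c1 hb) hz, comm_of_cen (aE (l2 hd)) he, comm_of_cen (aE he) (l2 (lW hz)), comm_of_cen (c1 (l1 hd)) hz,
      (eO.ge he).2.2, ex _ (l1 hd), ex _ (l1 (lW hz)), ex b hb⟩, fun k => k1 (commutator_eq_bot_iff_le_centralizer.2 ?_).le⟩
  rw [← eb, ← eq_sup_zpowers_of_relIndex lW (i1 ▸ hp.out) hd hdW]
  exact sup_le (fun x hx => cen_mono (sup_le (sup_le (lW.trans l1) (zpowers_le.2 (l1 hd))) (zpowers_le.2 hb))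
    (oW hx).2.1) (zpowers_le.2 (mem_cen_sup (cen_mono (sup_le lW (zpowers_le.2 hd)) (aD hd))
      (mem_cen_zpowers (inv_mul_conj_eq_one.1 k).symm)))

omit hT h1 h2 mx in
theorem cases : III p P E₁ E₂ ∨ III p P E₂ E₁ ∨ (LS p E₁ H₁ (E₁ ⊓ E₂) ∧ LS p E₂ H₂ (E₂ ⊓ E₁)) := by
  have hT : coreIn (H₁ ⊔ H₂) (E₁ ⊓ E₂) ≤ E₁ ⊓ E₂ := coreIn_le
  have h1 : H₁ ≤ 𝒩(coreIn (H₁ ⊔ H₂) (E₁ ⊓ E₂)) := le_sup_left.trans le_normalizer_coreIn
  have h2 : H₂ ≤ 𝒩(coreIn (H₁ ⊔ H₂) (E₁ ⊓ E₂)) := le_sup_right.trans le_normalizer_coreIn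
  have mx : ∀ X ≤ E₁ ⊓ E₂, H₁ ≤ 𝒩(X) → H₂ ≤ 𝒩(X) → X ≤ coreIn (H₁ ⊔ H₂) (E₁ ⊓ E₂) := fun X k k1 k2 => le_coreIn k (sup_le k1 k2)
  generalize coreIn (H₁ ⊔ H₂) (E₁ ⊓ E₂) = T at *
  have hT' := inf_comm E₁ E₂ ▸ hT
  have mx' : ∀ X ≤ E₂ ⊓ E₁, H₂ ≤ 𝒩(X) → H₁ ≤ 𝒩(X) → X ≤ T := fun X k1 k2 k3 => mx X (inf_comm E₁ E₂ ▸ k1) k3 k2
  by_cases f1 : frat E₁ ≤ T <;> by_cases f2 : frat E₂ ≤ T
  · exact Or.inr (Or.inr ⟨d.ls hp2 hT h1 h2 mx f2, d.symm.ls hp2 hT' h2 h1 mx' f1⟩)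
  · exact Or.inl (d.symm.iii hp2 hT' h2 h1 mx' f1 f2)
  · exact Or.inr (Or.inl (d.iii hp2 hT h1 h2 mx f2 f1))
  · exact ((d.el_or hp2 hT h1 h2 mx).elim (fun k => f1 k.1) fun k => f2 k.1).elim

end Pair

end CL.Fus.Rk
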