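/-
Sides coming from essential subgroups; pairs of linear type.
-/
import Cfsg.Agent.Fus.Rk3D

set_option autoImplicit false
set_option linter.unusedSectionVars false

namespace CL.Fus.Rk

open Cfsg Cfsg.FusionSystem Subgroup
open scoped commutatorElement

local notation "𝒩(" X ")" => Subgroup.normalizer ((X : Subgroup _) : Set _)
local notation "𝒞(" X ")" => Subgroup.centralizer ((X : Subgroup _) : Set _)

variable {G : Type*} [Group G] {p : ℕ} {P E H A B C D I K L M Q S W X Y Z T N : Subgroup G} {a b e g h u x y z : G}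

theorem conj_mem_secC (ha : a ∈ secC A B) (g : G) : g * a * g⁻¹ ∈ secC (A.map (cjh g)) (B.map (cjh g)) := by
  refine ⟨GS.normalizer_map_conj A g ▸ ⟨a, ha.1, rfl⟩, GS.normalizer_map_conj B g ▸ ⟨a, ha.2.1, rfl⟩, ?_⟩
  rintro _ ⟨x, hx, rfl⟩
  exact ⟨_, ha.2.2 x hx, by simp [mul_assoc]⟩

theorem map_cjh (hg : g ∈ 𝒩(A)) : A.map (cjh g) = A := mem_normalizer_iff_map_conj_eq.1 hg

theorem quoAut (Q : Subgroup G) : Quo 𝒩(Q) 𝒞(Q) (ext Q.normalizerMonoidHom) :=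
  ⟨homOn_ext _, fun x hx => by rw [ext_apply _ hx, ← MonoidHom.mem_ker, normalizerMonoidHom_ker, mem_subgroupOf]⟩

theorem img_quoAut (hK : K ≤ 𝒩(Q)) : img (ext Q.normalizerMonoidHom) K = autInducedBy K Q := by
  rw [img_ext_of_le _ hK, GS.autInducedBy_eq_map]

/-- maps that respect `P` modulo the centralizer of `E` extend to `P` -/
def Ext (P E : Subgroup G) : Prop := ∀ k ∈ 𝒩(E), (∀ a ∈ P, k * a * k⁻¹ ∈ P ⊔ 𝒞(E)) → ∃ g ∈ 𝒩(P), g⁻¹ * k ∈ 𝒞(E)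

variable [hp : Fact p.Prime] [Finite G] {E₁ H₁ E₂ H₂ : Subgroup G}

theorem idx_of_emb (hN : IsPGroup p N) (hEN : E ≤ N) (hNL : N ≤ L) (hL : L ≤ 𝒩(E)) (hB : L ≤ 𝒩(B)) (hBE : B ≤ E)
    (hc : ⁅E, E⁆ ≤ B) (hi : B.relIndex E ≤ p ^ 3) (cen : ∀ a ∈ N, a ∈ secC E B → a ∈ E) {γ : G}
    (hγ : γ ∈ L) (hγY : γ ∉ Y) (conj : ∀ n ∈ N, n ∉ E → ∀ g ∈ L, g * n * g⁻¹ ∈ Y → g ∈ Y)
    (clo : ∀ a ∈ N, a ∉ E → ∀ X ≤ L, a ∈ X → Tr p X E B → X ≤ Y) : E.relIndex N ≤ p := by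
  by_contra! hne
  have hE := hN.to_le hEN
  have nE := hNL.trans hL
  have nB := hNL.trans hB
  have hEB : E ≤ secC E B := le_secC le_normalizer (hEN.trans nB) hc
  have sec : ∀ X, B ≤ X → X ≤ E → N ≤ 𝒩(X) → Nat.card X ≤ p ^ 2 * Nat.card B → ∃ a ∈ N, a ∈ secC X B ∧ a ∉ E :=
    fun X h1 h2 h3 h4 => by
      by_contra! k
      exact hne.not_ge (relIndex_le_of_section hN h1 (h2.trans hEN) le_rfl nB h3 h4 fun a ha c => k a ha ⟨h3 ha, nB ha, c⟩)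
  obtain ⟨b, hb⟩ := IsPGroup.iff_card.1 (hE.to_le hBE)
  obtain ⟨j, hj⟩ := hE.index (B.subgroupOf E)
  obtain ⟨k, hk⟩ := hN.index (E.subgroupOf N)
  change B.relIndex E = _ at hj
  change E.relIndex N = _ at hk
  have hk2 : p ^ 2 ≤ E.relIndex N := hk ▸ Nat.pow_le_pow_right hp.out.pos ((Nat.pow_lt_pow_iff_right hp.out.one_lt).1
    (by rwa [pow_one, ← hk]))
  have cE := CL.Grp.card_eq_relIndex_mul_card hBE
  obtain rfl : j = 3 := le_antisymm ((Nat.pow_le_pow_iff_right hp.out.one_lt).1 (hj ▸ hi)) (by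
    by_contra! k
    obtain ⟨a, ha, h1, h2⟩ := sec E hBE le_rfl nE (by
      rw [cE, hj]; exact Nat.mul_le_mul_right _ (Nat.pow_le_pow_right hp.out.pos (by omega)))
    exact h2 (cen a ha h1))
  rw [hj, hb] at cE
  obtain ⟨D, hBD, hDE, nD, cD⟩ := exists_normalized_card_eq hN (b := b + 2) hBE hEN nB nE
    (hb ▸ Nat.pow_le_pow_right hp.out.pos (by omega)) (by rw [cE, ← pow_add]; exact Nat.pow_le_pow_right hp.out.pos (by omega))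
  have cE' : Nat.card E = p * Nat.card D := by rw [cE, cD]; ring
  have iD : D.relIndex E = p := Nat.eq_of_mul_eq_mul_right Nat.card_pos ((CL.Grp.card_eq_relIndex_mul_card hDE).symm.trans cE')
  have iB : B.relIndex D = p ^ 2 := Nat.eq_of_mul_eq_mul_right Nat.card_pos ((CL.Grp.card_eq_relIndex_mul_card hBD).symm.trans
    (by rw [cD, hb]; ring))
  have cm : ∀ a ∈ N, ∀ x ∈ E, x⁻¹ * (a * x * a⁻¹) ∈ D := fun a ha x hx =>
    comm_mem_of_card_le hN hDE hEN (hEN.trans nD) ha (nD ha) (nE ha) cE'.le hx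
  obtain ⟨a, ha, haD, haE⟩ := sec D hBD hDE nD (by rw [cD, hb]; exact le_of_eq (by ring))
  obtain ⟨x, hx, hxD⟩ := exists_of_relIndex iD
  have hz := cm a ha x hx
  have lI : B ⊔ zpowers (x⁻¹ * (a * x * a⁻¹)) ≤ D := sup_le hBD (zpowers_le.2 hz)
  have k1 : a ∈ secC E (B ⊔ zpowers (x⁻¹ * (a * x * a⁻¹))) := ⟨nE ha, mem_normalizer_of_secC haD lI le_sup_left, fun y hy =>
    (((eq_sup_zpowers_of_relIndex hDE (iD ▸ hp.out) hx hxD).ge.trans (sup_le (fun d hd => ⟨hDE hd, fun _ k =>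
      by rw [k]; exact mem_sup_left (haD.2.2 d hd)⟩) (zpowers_le.2 ⟨hx, fun _ k => by
        rw [k]; exact mem_sup_right (mem_zpowers _)⟩)) :
        E ≤ commSub E _ (fun y hy => mem_normalizer_of_secC (hEB hy) (lI.trans hDE) le_sup_left) {a}) hy).2 a rfl⟩
  have k2 : a ∈ secC (B ⊔ zpowers (x⁻¹ * (a * x * a⁻¹))) B := secC_mono haD lI le_rfl k1.2.1 haD.2.1
  generalize x⁻¹ * (a * x * a⁻¹) = z at *
  have key : ∀ g ∈ L, g * z * g⁻¹ ∈ D → g ∈ Y := fun g hg k => by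
    have k3 := conj_mem_secC k1 g
    have k4 := conj_mem_secC k2 g
    rw [Subgroup.map_sup, map_cjh (hB hg), MonoidHom.map_zpowers] at k3 k4
    rw [map_cjh (hL hg)] at k3
    have l1 : B ⊔ zpowers (cjh g z) ≤ D := sup_le hBD (zpowers_le.2 k)
    have l2 : B ≤ B ⊔ zpowers (cjh g z) := le_sup_left
    generalize B ⊔ zpowers (cjh g z) = I' at *
    have l3 := sup_le lI l1
    have n1 := mem_normalizer_of_secC haD l3 (l2.trans le_sup_right)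
    have n2 := mem_normalizer_of_secC k3 (l3.trans hDE) le_sup_right
    have n3 := mem_normalizer_of_secC haD l1 l2
    refine conj a ha haE g hg (clo a ha haE (zpowers a ⊔ zpowers (g * a * g⁻¹)) (sup_le (zpowers_le.2 (hNL ha))
      (zpowers_le.2 (mul_mem (mul_mem hg (hNL ha)) (inv_mem hg)))) (mem_sup_left (mem_zpowers a))
      ((Tr.of_le (sup_le (zpowers_le.2 (secC_mono k1 le_rfl le_sup_left k1.1 n1)) (zpowers_le.2
        (secC_mono k3 le_rfl le_sup_right k3.1 n2)))).trans hE ((Tr.of_le (sup_le (zpowers_le.2 (secC_mono haD l3 l2 n1 n3))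
        (zpowers_le.2 (secC_mono k3 (l3.trans hDE) le_rfl n2 k3.2.1)))).trans (hE.to_le (l3.trans hDE)) (Tr.of_le (sup_le
        (zpowers_le.2 (secC_mono haD l1 le_rfl n3 haD.2.1)) (zpowers_le.2 k4))) le_sup_right) (l3.trans hDE))
      (mem_sup_right (mem_zpowers _)))
  have hw := conj_mem_of_mem_normalizer (hL hγ) (hDE hz)
  have hwD : γ * z * γ⁻¹ ∈ D.map (cjh γ) := ⟨z, hz, rfl⟩
  have key2 : ∀ n ∈ N, n * (γ * z * γ⁻¹) * n⁻¹ ∈ D.map (cjh γ) → n ∈ E := fun n hn k => by_contra fun c =>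
    hγY (inv_mem_iff.1 (conj n hn c γ⁻¹ (inv_mem hγ) (key _ (mul_mem (mul_mem (inv_mem hγ) (hNL hn)) (inv_mem (inv_mem hγ))) (by
      have := GS.mem_map_conj.1 k
      convert this using 1
      group))))
  have lB : B ≤ D.map (cjh γ) := map_cjh (hB hγ) ▸ map_mono hBD
  have lD : D.map (cjh γ) ≤ E := map_cjh (hL hγ) ▸ map_mono hDE
  generalize γ * z * γ⁻¹ = w at *
  let φ : N ⧸ E.subgroupOf N → D ⧸ B.subgroupOf D := fun q => (⟨_, cm q.out q.out.2 w hw⟩ : D)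
  have hφ : Function.Injective φ := fun q q' e => by
    rw [← q.out_eq', ← q'.out_eq', QuotientGroup.eq, mem_subgroupOf]
    refine key2 _ (q.out⁻¹ * q'.out).2 ?_
    have := mul_mem hwD (lB (inv_conj_mem_of_mem_normalizer (nB q.out.2) (mem_subgroupOf.1 (QuotientGroup.eq.1 e))))
    convert this using 1
    simp only [coe_mul, coe_inv]
    group
  obtain ⟨y, hy, hyB⟩ : ∃ y ∈ D.map (cjh γ) ⊓ D, y ∉ B := SetLike.not_le_iff_exists.1 fun k => by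
    have h1 := relIndex_le_of_le_left k (L := D) index_ne_zero_of_finite
    have h2 := relIndex_le_of_le_right (H := D.map (cjh γ)) hDE index_ne_zero_of_finite
    have h3 := CL.Grp.card_eq_relIndex_mul_card lD
    rw [GS.card_map_conj, cE'] at h3
    rw [inf_relIndex_right, iB] at h1
    rw [← Nat.eq_of_mul_eq_mul_right Nat.card_pos h3] at h2
    nlinarith [hp.out.two_le]
  obtain ⟨q, hq⟩ := (hφ.bijective_of_nat_card_le (iB.trans_le hk2)).2 (⟨y, hy.2⟩ : D)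
  have h1 : (w⁻¹ * (q.out * w * (q.out : G)⁻¹))⁻¹ * y ∈ B := mem_subgroupOf.1 (QuotientGroup.eq.1 hq)
  have h2 := key2 _ q.out.2 (by simpa [mul_assoc] using mul_mem hwD (mul_mem hy.1 (inv_mem (lB h1))))
  exact hyB ((mul_mem_cancel_left (inv_mem ((hEB h2).2.2 w hw))).1 h1)

theorem exists_side (hP : IsPGroup p P) (hQ : Q ≤ P) (hn : P ≤ 𝒩(Q)) (hi : Q.relIndex P = p)
    (hs : SylIn p (autInducedBy P Q) (autInducedBy 𝒩(Q) Q)) :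
    ∃ H, Side p P Q H ∧ ∀ g ∈ 𝒩(Q), ∀ a ∈ P, g * a * g⁻¹ ∈ H ⊔ 𝒞(Q) := by
  have q := quoAut Q
  have hC := centralizer_le_normalizer (Q : Set G)
  have syl : ∀ K, P ≤ K → K ≤ 𝒩(Q) → ∀ X ≤ K ⊔ 𝒞(Q), IsPGroup p X → ∃ h ∈ K, ∀ x ∈ X, h * x * h⁻¹ ∈ P ⊔ 𝒞(Q) :=
    fun K h1 h2 X h3 h4 => by
      have h5 := h3.trans (sup_le h2 hC)
      rw [← img_quoAut hn, ← img_quoAut le_rfl] at hs
      obtain ⟨y, hy, k⟩ := (hs.mono (img_mono _ h1) (img_mono _ h2)).exists_conj_le (q.isPGroup h5 h4) (img_le_iff.2 fun x hx => by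
        obtain ⟨k, hk, c, hc, rfl⟩ := (mem_sup_of_le_normalizer (CL.Grp.le_normalizer_centralizer' h2)).1 (h3 hx)
        rw [q.hom.map_mul (h2 hk) (hC hc), (q.ker c (hC hc)).2 hc, mul_one]
        exact mem_img_of_mem _ hk)
      obtain ⟨h, hh, rfl⟩ := (q.mem_img h2).1 hy
      refine ⟨h, hh, fun x hx => (q.mem_iff (sup_le hn hC) le_sup_right (mul_mem (mul_mem (h2 hh) (h5 hx)) (inv_mem (h2 hh)))).1 ?_⟩
      rw [q.hom.map_conj (h2 hh) (h5 hx)]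
      exact img_mono _ le_sup_left (k _ (mem_img_of_mem _ hx))
  obtain ⟨H, ⟨h1, h2, h3⟩, hm⟩ := exists_minimal_of_wellFoundedLT (fun K : Subgroup G => P ≤ K ∧ K ≤ 𝒩(Q) ∧
    ∀ g ∈ 𝒩(Q), ∀ a ∈ P, g * a * g⁻¹ ∈ K ⊔ 𝒞(Q)) ⟨_, hn, le_rfl, fun g hg a ha =>
      mem_sup_left (mul_mem (mul_mem hg (hn ha)) (inv_mem hg))⟩
  refine ⟨H, ⟨hP, hQ, hi, h1, h2, fun K k1 k2 => (hm ⟨le_inf k1 h1, inf_le_right.trans h2, fun g hg a ha => ?_⟩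
    inf_le_right).trans inf_le_left, fun X k1 => syl H h1 h2 X (k1.trans le_sup_left)⟩, h3⟩
  obtain ⟨n, hn'⟩ := hP ⟨a, ha⟩
  obtain ⟨h, hh, k⟩ := syl H h1 h2 _ (zpowers_le.2 (h3 g hg a ha)) (isPGroup_zpowers_of_pow_eq_one (k := n) (by
    rw [conj_pow, show a ^ p ^ n = 1 from congrArg Subtype.val hn', mul_one, mul_inv_cancel]))
  simpa [mul_assoc] using inv_conj_mem_of_mem_normalizer (CL.Grp.le_normalizer_sup' (CL.Grp.le_normalizer_inf' k2 le_normalizer)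
    (CL.Grp.le_normalizer_centralizer' h2) hh) (sup_le_sup_right (le_inf k1 h1) _ (k _ (mem_zpowers _)))

theorem Tr.isPGroup (hX : X ≤ 𝒩(E)) (t : Tr p X E ⊥) : IsPGroup p (autInducedBy X E) := by
  have q := quoAut E
  rw [← img_quoAut hX]
  rintro ⟨_, hy⟩
  obtain ⟨g, hg, rfl⟩ := (q.mem_img hX).1 hy
  obtain ⟨u, hu, v, hv, ⟨n, hn⟩, hv', e, -⟩ := CL.Grp.exists_pPart_mul_pPrimePart hp.out g
  have h1 := zpowers_le.2 hg hv
  have h2 := hX (zpowers_le.2 hg hu)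
  refine ⟨n, Subtype.ext ?_⟩
  change ext E.normalizerMonoidHom g ^ p ^ n = 1
  rw [e, q.hom.map_mul h2 (hX h1), (q.ker v (hX h1)).2 ((secC_bot E).le (t v h1 hv')), mul_one, ← q.hom.map_pow h2, ← hn,
    pow_orderOf_eq_one, q.hom.map_one]

omit hp [Finite G] in
theorem Wt.comm {M₁ N₁ M₂ N₂ : Subgroup G} {i j : ℤ} (h₁ : Wt g M₁ N₁ i) (h₂ : Wt g M₂ N₂ j) (hg : g ∈ 𝒩(N)) (l₂ : N₂ ≤ M₂)
    (c₁ : ⁅N₁, M₂⁆ ≤ N) (c₂ : ⁅M₁, N₂⁆ ≤ N) (hx : x ∈ M₁) (hy : y ∈ M₂) (nx : x ∈ 𝒩(N)) (ny : y ∈ 𝒩(N))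
    (cx : ⁅⁅x, y⁆, x⁆ ∈ N) (cy : ⁅⁅x, y⁆, y⁆ ∈ N) : (⁅x, y⁆ ^ (i * j))⁻¹ * (g * ⁅x, y⁆ * g⁻¹) ∈ N :=
  PowOn.comm (σ := cjh (⟨g, hg⟩ : 𝒩(N))) (N := N.subgroupOf 𝒩(N)) (M₁ := M₁.subgroupOf _) (N₁ := N₁.subgroupOf _)
    (M₂ := M₂.subgroupOf _) (N₂ := N₂.subgroupOf _) (x := ⟨x, nx⟩) (y := ⟨y, ny⟩) (fun u hu => h₁ u hu) (fun u hu => h₂ u hu)
    (fun _ hu => l₂ hu) (commutator_le.2 fun u hu v hv => c₁ (commutator_mem_commutator (g₁ := (u : G)) (g₂ := (v : G)) hu hv))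
    (commutator_le.2 fun u hu v hv => c₂ (commutator_mem_commutator (g₁ := (u : G)) (g₂ := (v : G)) hu hv)) hx hy cx cy

theorem mem_of_zpow_mem (hP : IsPGroup p P) (hy : y ∈ P) {m : ℤ} (h : y ^ m ∈ Y) (hm : ¬ (p : ℤ) ∣ m) : y ∈ Y := by
  obtain ⟨k, hk⟩ := IsPGroup.iff_orderOf.1 hP ⟨y, hy⟩
  refine zpowers_le.2 h (mem_zpowers_zpow_iff.2 ?_)
  rw [← orderOf_coe] at hk
  rw [hk, Nat.cast_pow, ← Int.isCoprime_iff_gcd_eq_one]
  exact ((Nat.prime_iff_prime_int.1 hp.out).coprime_iff_not_dvd.2 hm).symm.pow_right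

theorem mem_of_wt (hP : IsPGroup p P) (hy : y ∈ P) {i j : ℤ} (h₁ : (y ^ i)⁻¹ * z ∈ Y) (h₂ : (y ^ j)⁻¹ * z ∈ Y)
    (hm : ¬ (p : ℤ) ∣ i - j) : y ∈ Y := mem_of_zpow_mem hP hy (by
  have := mul_mem h₂ (Subgroup.inv_mem _ h₁)
  rwa [mul_inv_rev, inv_inv, mul_assoc, mul_inv_cancel_left, ← zpow_neg, ← zpow_add, neg_add_eq_sub] at this) hm

theorem not_dvd_two (hp2 : p ≠ 2) : ¬ (p : ℤ) ∣ 2 := fun k =>
  hp2 ((Nat.prime_dvd_prime_iff_eq hp.out Nat.prime_two).1 (Int.natCast_dvd_natCast.1 k))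

namespace Pair
variable (d : Pair p P E₁ H₁ E₂ H₂) (t₁ : LS p E₁ H₁ (E₁ ⊓ E₂))
include d t₁

theorem not_comm_le : ¬ ⁅P, P⁆ ≤ coreIn H₁ (E₁ ⊓ E₂) := fun k => by
  obtain ⟨a, ha, haE⟩ := d.s₁.exists_notMem
  exact t₁.nn (d.s₁.norm_of_tr le_rfl (d.s₁.tr_of_mem d.s₁.norm le_normalizer_coreIn ha haE ⟨d.n₁ ha, le_normalizer_coreIn
    (d.s₁.PH ha), fun x hx => k (inv_mul_conj_mem_commutator (d.s₁.le hx) ha)⟩) coreIn_le inf_le_left d.nD)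

variable (hp2 : p ≠ 2) (t₂ : LS p E₂ H₂ (E₂ ⊓ E₁)) (x₁ : Ext P E₁)
include hp2 t₂ x₁

theorem core_eq (x₂ : Ext P E₂) (inn : ∀ g ∈ 𝒩(P), ∃ n, ¬ p ∣ n ∧ g ^ n ∈ P ⊔ 𝒞(P)) :
    coreIn H₁ (E₁ ⊓ E₂) = coreIn H₂ (E₂ ⊓ E₁) := by
  by_contra hne
  obtain ⟨g₁, n₁, -, c₁, w₁, -⟩ := d.s₁.torus inf_le_left d.i₁ d.nD d.r₁ t₁ x₁ (p - 1) (p - 1) dvd_pred_mul_pred_sub_one
  obtain ⟨g₂, n₂, -, c₂, w₂, -⟩ := d.s₂.torus inf_le_left d.symm.i₁ d.symm.nD d.r₂ t₂ x₂ (p - 1) (p - 1) dvd_pred_mul_pred_sub_one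
  have k₁ := d.not_comm_le t₁
  have k₂ := d.symm.not_comm_le t₂
  obtain ⟨i₁, f₁, -⟩ := t₁
  obtain ⟨i₂, f₂, -⟩ := t₂
  have l₁ : coreIn H₁ (E₁ ⊓ E₂) ≤ E₁ ⊓ E₂ := coreIn_le
  have l₂ : coreIn H₂ (E₂ ⊓ E₁) ≤ E₂ ⊓ E₁ := coreIn_le
  have m₁ : P ≤ 𝒩(coreIn H₁ (E₁ ⊓ E₂)) := d.s₁.PH.trans le_normalizer_coreIn
  have m₂ : P ≤ 𝒩(coreIn H₂ (E₂ ⊓ E₁)) := d.s₂.PH.trans le_normalizer_coreIn
  generalize coreIn H₁ (E₁ ⊓ E₂) = C₁ at *
  generalize coreIn H₂ (E₂ ⊓ E₁) = C₂ at *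
  rw [inf_comm E₂] at *
  have hD : E₁ ⊓ E₂ ≤ P := inf_le_left.trans d.s₁.le
  have e0 : Nat.card C₁ = Nat.card C₂ :=
    Nat.eq_of_mul_eq_mul_left hp.out.pos ((card_of_relIndex l₁ i₁).symm.trans (card_of_relIndex l₂ i₂))
  have e1 : ¬ C₁ ≤ C₂ := fun k => hne (eq_of_le_of_card_ge k e0.ge)
  have e2 : Nat.card C₁ = p * Nat.card ↥(C₁ ⊓ C₂) := card_of_relIndex inf_le_left (by
    rw [inf_relIndex_left]; exact relIndex_eq_of_not_le (hD.trans m₂) l₂ l₁ i₂ e1)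
  have nT := CL.Grp.le_normalizer_inf' m₁ m₂
  have e3 : ∀ C, C₁ ⊓ C₂ ≤ C → C ≤ P → P ≤ 𝒩(C) → Nat.card C = Nat.card C₁ → ⁅C, P⁆ ≤ C₁ ⊓ C₂ := fun C y1 y2 y3 y4 =>
    commutator_le_of_secC fun x hx => ⟨y3 hx, nT hx, fun y hy => comm_mem_of_card_le d.s₁.pg y1 y2 (y2.trans nT) hx (nT hx)
      (y3 hx) (y4.trans e2).le hy⟩
  have e4 : ⁅E₁ ⊓ E₂, P⁆ ≤ C₁ ⊓ C₂ := by
    rw [← (CL.Grp.eq_or_eq_of_relIndex_prime le_sup_right (sup_le l₁ l₂) (i₂ ▸ hp.out)).resolve_left fun e => e1 (sup_eq_right.1 e)]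
    exact commutator_sup_le ((sup_le l₁ l₂).trans (hD.trans nT)) (e3 _ inf_le_left (l₁.trans hD) m₁ rfl)
      (e3 _ inf_le_right (l₂.trans hD) m₂ e0.symm)
  obtain ⟨a, ha, haD⟩ := exists_of_relIndex d.i₁
  obtain ⟨b, hb, hbD⟩ := exists_of_relIndex d.i₂
  have haP := d.s₁.le ha
  have hbP := d.s₂.le hb
  have hw := commutator_mem_commutator haP hbP
  have hwD := d.fratP (commutator_le_frat d.s₁.pg hw)
  have lY : C₁ ⊓ C₂ ⊔ zpowers ⁅a, b⁆ ≤ E₁ ⊓ E₂ := sup_le (inf_le_left.trans l₁) (zpowers_le.2 hwD)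
  have nY : P ≤ 𝒩(C₁ ⊓ C₂ ⊔ zpowers ⁅a, b⁆) := le_normalizer_of_conj fun x hx y hy => by
    simpa using mul_mem hy (mem_sup_left (e4 (inv_mul_conj_mem_commutator (lY hy) hx)))
  have e5 : ⁅P, P⁆ ≤ C₁ ⊓ C₂ ⊔ zpowers ⁅a, b⁆ := by
    have e : ∀ x ∈ P, ⁅zpowers x, E₁ ⊓ E₂⁆ ≤ C₁ ⊓ C₂ ⊔ zpowers ⁅a, b⁆ := fun x hx => (commutator_comm_le _ _).trans
      (((commutator_mono le_rfl (zpowers_le.2 hx)).trans e4).trans le_sup_left)
    have e' := d.s₁.sup hbP fun k => hbD ⟨k, hb⟩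
    rw [← eq_sup_zpowers_of_relIndex inf_le_left (d.i₁ ▸ hp.out) ha haD] at e'
    conv_lhs => rw [← e']
    exact commutator_sup_zp (e'.le.trans nY) (commutator_sup_zp ((le_sup_left.trans e'.le).trans nY) (((commutator_mono le_rfl
      hD).trans e4).trans le_sup_left) (e a haP)) ((commutator_comm_le _ _).trans (commutator_sup_le ((le_sup_left.trans
        e'.le).trans nY) ((commutator_comm_le _ _).trans (e b hbP)) (commutator_zz (nY haP) (nY hbP) (mem_sup_right (mem_zpowers _)))))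
  generalize ⁅a, b⁆ = w at *
  have v₁ : w ∉ C₁ := fun k => k₁ (e5.trans (sup_le inf_le_left (zpowers_le.2 k)))
  have v₂ : w ∉ C₂ := fun k => k₂ (e5.trans (sup_le inf_le_right (zpowers_le.2 k)))
  have hwp : w ^ p ∈ C₁ ⊓ C₂ := ⟨f₁ (pow_mem_frat d.s₁.pgE hwD.1), f₂ (pow_mem_frat d.s₂.pgE hwD.2)⟩
  obtain ⟨f, q⟩ := quo (C₁ ⊓ C₂)
  have hwN := nT (hD hwD)
  have key : ∀ C g, C₁ ⊓ C₂ ≤ C → w ∉ C → g ∈ 𝒩(P) → g ∈ 𝒞(C) → Wt g (E₁ ⊓ E₂) C ((p - 1 : ℕ) : ℤ) →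
      g ∈ 𝒩(C₁ ⊓ C₂) ∧ f g * f w * (f g)⁻¹ = (f w)⁻¹ := fun C g y1 y2 y3 y4 y5 => by
    have y6 := centralizer_le_normalizer _ (cen_mono y1 y4)
    have y7 := conj_mem_of_mem_normalizer (CL.Grp.le_normalizer_commutator' le_rfl le_rfl y3) hw
    have y8 : (C₁ ⊓ C₂ ⊔ zpowers w) ⊓ C ≤ C₁ ⊓ C₂ := ((CL.Grp.eq_or_eq_of_relIndex_prime (le_inf le_sup_left y1) inf_le_left (by
      rw [Nat.eq_of_mul_eq_mul_right Nat.card_pos ((CL.Grp.card_eq_relIndex_mul_card le_sup_left).symm.trans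
        (card_sup_zpowers_of_normalizer hwN (fun k => y2 (y1 k)) hwp))]; exact hp.out)).resolve_right
          fun e => y2 (e.ge (mem_sup_right (mem_zpowers w))).2).le
    have y9 := (q.eq_iff (zpow_mem hwN _) (nT (commutator_le_self P y7))).2
      (y8 ⟨mul_mem (Subgroup.inv_mem _ (zpow_mem (e5 hw) _)) (e5 y7), y5 w hwD⟩)
    rw [q.hom.map_conj y6 hwN, zpow_natCast, q.hom.map_pow hwN, pow_pred_eq_inv (by
      rw [← q.hom.map_pow hwN]; exact (q.ker _ (pow_mem hwN p)).2 hwp)] at y9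
    exact ⟨y6, y9.symm⟩
  obtain ⟨o₁, r₁⟩ := key C₁ g₁ inf_le_left v₁ n₁ c₁ w₁
  obtain ⟨o₂, r₂⟩ := key C₂ g₂ inf_le_right v₂ n₂ c₂ w₂
  obtain ⟨c, hc, hc'⟩ := SetLike.not_le_iff_exists.1 e1
  obtain ⟨c', h1, _, ⟨i, rfl⟩, e⟩ := (mem_sup_of_le_normalizer' (zpowers_le.2 (m₂ (hD hwD)))).1
    ((eq_sup_zpowers_of_relIndex l₂ (i₂ ▸ hp.out) hwD v₂).ge (l₁ hc))
  have hcN := nT (hD (l₁ hc))
  have h2 := nT (hD (l₂ h1))
  have s1 : f (g₂ * g₁) * f c * (f (g₂ * g₁))⁻¹ = f c * f w ^ (-2 * i) := by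
    rw [← q.hom.map_conj (mul_mem o₂ o₁) hcN, show g₂ * g₁ * c * (g₂ * g₁)⁻¹ = g₂ * (g₁ * c * g₁⁻¹) * g₂⁻¹ by group,
      conj_eq_of_mem_centralizer c₁ hc, ← e, ← conj_mul, conj_eq_of_mem_centralizer c₂ h1, q.hom.map_mul h2 (mul_mem (mul_mem o₂
        (zpow_mem hwN i)) (Subgroup.inv_mem _ o₂)), q.hom.map_conj o₂ (zpow_mem hwN i), q.hom.map_mul h2 (zpow_mem hwN i),
      q.hom.map_zpow hwN, ← conj_zpow, r₂]
    group
  have s2 : f (g₂ * g₁) * f w ^ (-2 * i) * (f (g₂ * g₁))⁻¹ = f w ^ (-2 * i) := by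
    rw [← conj_zpow, q.hom.map_mul o₂ o₁, show f g₂ * f g₁ * f w * (f g₂ * f g₁)⁻¹ = f g₂ * (f g₁ * f w * (f g₁)⁻¹) * (f g₂)⁻¹ by
      group, r₁, conj_inv.symm, r₂, inv_inv]
  obtain ⟨n, hn, k⟩ := inn _ (mul_mem n₂ n₁)
  obtain ⟨s, hs, u, hu, e'⟩ := (mem_sup_of_le_normalizer (CL.Grp.le_normalizer_centralizer' le_normalizer)).1 k
  have s3 := conj_zpow_eq_mul_zpow s1 s2 n
  rw [zpow_natCast, ← q.hom.map_pow (mul_mem o₂ o₁), ← q.hom.map_conj (pow_mem (mul_mem o₂ o₁) n) hcN, ← e',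
    show s * u * c * (s * u)⁻¹ = s * (u * c * u⁻¹) * s⁻¹ by group, conj_eq_of_mem_centralizer hu (hD (l₁ hc)),
    ← (q.eq_iff hcN (nT (mul_mem (mul_mem hs (hD (l₁ hc))) (Subgroup.inv_mem _ hs)))).2 (e4 (inv_mul_conj_mem_commutator (l₁ hc) hs)),
    left_eq_mul, ← zpow_mul, ← q.hom.map_zpow hwN, q.ker _ (zpow_mem hwN _)] at s3
  refine v₁ (mem_of_zpow_mem_of_not_dvd hwp s3 fun k => ?_).1
  obtain k | k := (Nat.prime_iff_prime_int.1 hp.out).dvd_or_dvd k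
  · obtain k | ⟨j, rfl⟩ := (Nat.prime_iff_prime_int.1 hp.out).dvd_or_dvd k
    · exact not_dvd_two hp2 ((dvd_neg).1 k)
    · exact hc' (e ▸ mul_mem h1 (by beta_reduce; rw [zpow_mul, zpow_natCast]; exact C₂.zpow_mem hwp.2 j))
  · exact hn (Int.natCast_dvd_natCast.1 k)

theorem comm_eq_one (e : coreIn H₁ (E₁ ⊓ E₂) = coreIn H₂ (E₂ ⊓ E₁)) (hn : normalizer (P : Set G) ≤ normalizer (E₂ : Set G)) :
    E₁ ⊓ E₂ ≤ centralizer (E₂ : Set G) := by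
  obtain ⟨g, n₁, n₂, c₁, w₁, -, -, w₂⟩ := d.s₁.torus inf_le_left d.i₁ d.nD d.r₁ t₁ x₁ (p - 1) (p - 1) dvd_pred_mul_pred_sub_one
  have cP : P ≤ 𝒞(coreIn H₁ (E₁ ⊓ E₂)) := d.sup ▸ sup_le t₁.cen (e ▸ t₂.cen)
  obtain ⟨i₁, f₁, -⟩ := t₁
  have l₁ : coreIn H₁ (E₁ ⊓ E₂) ≤ E₁ ⊓ E₂ := coreIn_le
  generalize coreIn H₁ (E₁ ⊓ E₂) = C at *
  have hD : E₁ ⊓ E₂ ≤ P := inf_le_left.trans d.s₁.le
  have nC := cP.trans (centralizer_le_normalizer _)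
  obtain ⟨u, hu, huC⟩ := exists_of_relIndex i₁
  have eu := eq_sup_zpowers_of_relIndex l₁ (i₁ ▸ hp.out) hu huC
  have aD : E₁ ⊓ E₂ ≤ 𝒞(E₁ ⊓ E₂) := eu ▸ sup_le (fun x hx => mem_cen_sup (cP (hD (l₁ hx))) (mem_cen_zpowers
    (comm_of_cen (cP (hD hu)) hx).symm)) (zpowers_le.2 (mem_cen_sup (cP (hD hu)) (mem_cen_zpowers (Commute.refl u))))
  refine fun x hx => mem_cen fun y hy => (commutatorElement_eq_one_iff_commute.1 ?_).symm
  have h1 : ⁅x, y⁆ ∈ C := by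
    have := comm_mem_of_card_le d.s₁.pg l₁ hD (hD.trans nC) (d.s₂.le hy) (nC (d.s₂.le hy)) (d.nD (d.s₂.le hy))
      (card_of_relIndex l₁ i₁).le (Subgroup.inv_mem _ hx)
    rwa [inv_mul_conj_eq_commutator, inv_inv] at this
  have h2 := Wt.comm (N := ⊥) (N₂ := E₁ ⊓ E₂) w₁ (fun y hy => ⟨w₂ y (d.s₂.le hy), E₂.mul_mem (Subgroup.inv_mem _ (zpow_mem hy _))
    (conj_mem_of_mem_normalizer (hn n₁) hy)⟩) (le_normalizer_bot (mem_top _)) inf_le_right (commutator_eq_bot_iff_le_centralizer.2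
      (le_centralizer_iff.1 (d.s₂.le.trans cP))).le (commutator_eq_bot_iff_le_centralizer.2 aD).le hx hy
    (le_normalizer_bot (mem_top _)) (le_normalizer_bot (mem_top _)) (mem_bot.2 (comm_of_cen (cP (hD hx)) h1).commutator_eq)
    (mem_bot.2 (comm_of_cen (cP (d.s₂.le hy)) h1).commutator_eq)
  refine mem_bot.1 (mem_of_wt d.s₁.pg (hD (l₁ h1)) h2 (j := 1) (by
    rw [conj_eq_of_mem_centralizer c₁ h1, zpow_one, inv_mul_cancel]; exact one_mem _) fun k => ?_)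
  refine not_dvd_two hp2 ((dvd_neg).1 ((dvd_add_right (Dvd.intro ((p : ℤ) ^ 2 - 3 * p + 3) rfl)).1 ?_))
  rw [Nat.cast_sub hp.out.one_le, Nat.cast_one] at k
  exact (show (p : ℤ) * (p ^ 2 - 3 * p + 3) + -2 = (p - 1) * ((p - 1) * (p - 1)) - 1 by ring) ▸ k

end Pair

section Fusion

theorem autGroup_group (hQ : Q ≤ S) : (groupFusionSystem S).autGroup Q = autInducedBy 𝒩(Q) Q := by
  rw [GS.groupFusionSystem_eq, GS.autGroup_eq hQ, ← GS.autInducedBy_inf_normalizer, top_inf_eq]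

variable (hS : IsPGroup p S) (hF : (groupFusionSystem S).IsSaturated p)
include hS hF

theorem sylIn_aut (hQ : (groupFusionSystem S).IsFullyNormalized Q) : SylIn p (autInducedBy (S ⊓ 𝒩(Q)) Q) (autInducedBy 𝒩(Q) Q) := by
  rw [GS.autInducedBy_inf_normalizer, ← autGroup_group hQ.1]; exact sylIn_of_fullyNormalized hS hF hQ

theorem ext_of_cen (hQ : (groupFusionSystem S).IsFullyCentralized Q) : Ext (S ⊓ 𝒩(Q)) Q := fun k hk h => by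
  have h1 : Mor (groupFusionSystem S) Q fun x => k * x * k⁻¹ :=
    mor_group_iff.2 ⟨hQ.1, fun x hx => hQ.1 (conj_mem_of_mem_normalizer hk hx), k, fun _ _ => rfl⟩
  obtain ⟨f, hf, e⟩ := h1.extend_of_fullyCentralized hS hF ((img_conj_of_mem_normalizer hk).symm ▸ hQ)
  obtain ⟨-, h2, g, hg⟩ := mor_group_iff.1 hf
  have h3 : ∀ x ∈ Q, g * x * g⁻¹ = k * x * k⁻¹ := fun x hx => (hg x (h1.le_extenderF hx)).symm.trans (e x hx)
  have h4 : g ∈ 𝒩(Q) := mem_normalizer_of_finite fun x hx => h3 x hx ▸ conj_mem_of_mem_normalizer hk hx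
  refine ⟨g, mem_normalizer_of_finite fun a ha => ?_, mem_centralizer_of_conj_eq fun x hx => by
    rw [show g⁻¹ * k * x * (g⁻¹ * k)⁻¹ = g⁻¹ * (k * x * k⁻¹) * g by group, ← h3 x hx]; group⟩
  obtain ⟨b, hb, c, hc, e'⟩ := (mem_sup_of_le_normalizer (CL.Grp.le_normalizer_centralizer' inf_le_right)).1 (h a ha)
  have h5 : a ∈ extenderF S Q fun x => k * x * k⁻¹ := ⟨ha.1, ha.2, b, hb.1, fun x hx => by
    beta_reduce
    rw [← conj_eq_of_mem_centralizer hc (conj_mem_of_mem_normalizer hk hx)]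
    calc _ = (k * a * k⁻¹) * (k * x * k⁻¹) * (k * a * k⁻¹)⁻¹ := by group
      _ = _ := by rw [← e']; group⟩
  exact ⟨hg a h5 ▸ h2 a h5, Subgroup.mul_mem _ (Subgroup.mul_mem _ h4 ha.2) (Subgroup.inv_mem _ h4)⟩

theorem exists_pow_inner (hg : g ∈ 𝒩(S)) : ∃ n, ¬ p ∣ n ∧ g ^ n ∈ S ⊔ 𝒞(S) := by
  obtain ⟨u, hu, v, hv, ⟨n, hn⟩, hv', e, c⟩ := CL.Grp.exists_pPart_mul_pPrimePart hp.out g
  refine ⟨orderOf v, (Nat.Prime.coprime_iff_not_dvd hp.out).1 hv'.symm, ?_⟩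
  rw [e, c.mul_pow, pow_orderOf_eq_one, mul_one]
  refine pow_mem ?_ _
  have h1 := zpowers_le.2 hg hu
  have q := quoAut S
  have hs := sylIn_aut hS hF (Q := S) ⟨le_rfl, fun Q _ => (card_le_of_le inf_le_left).trans (card_le_of_le (le_normalizerIn le_rfl))⟩
  rw [inf_eq_left.2 le_normalizer, ← img_quoAut le_normalizer, ← img_quoAut le_rfl] at hs
  have h2 := q.norm (zpowers_le.2 h1) le_normalizer (zpowers_le.2 h1)
  have h3 := hs.2.2 _ ((q.isPGroup (zpowers_le.2 h1) (isPGroup_zpowers_of_pow_eq_one (hn ▸ pow_orderOf_eq_one u))).to_sup_of_normal_right'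
    hs.isPGroup h2) le_sup_right (sup_le (img_mono _ (zpowers_le.2 h1)) hs.le)
  exact (q.mem_iff (sup_le le_normalizer (centralizer_le_normalizer _)) le_sup_right h1).1
    (img_mono _ le_sup_left (h3 (mem_sup_left (mem_img_of_mem _ (mem_zpowers u)))))

theorem side_of_ess (rk : Rank3 p S) (hE : (groupFusionSystem S).IsEssential p E) : ∃ H, Side p (S ⊓ 𝒩(E)) E H ∧ ¬ Tr p H E ⊥ ∧
    ∀ g ∈ 𝒩(E), ∀ a ∈ S ⊓ 𝒩(E), g * a * g⁻¹ ∈ H ⊔ 𝒞(E) := by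
  have hES := hE.1.1
  have hpE := hS.to_le hES
  have q := quoAut E
  have e : ∀ g (hg : g ∈ 𝒩(E)), ext E.normalizerMonoidHom g = conjAut E hg := fun g hg => ext_apply _ hg
  have hA : ∀ g ∈ 𝒩(E), ext E.normalizerMonoidHom g ∈ (groupFusionSystem S).autGroup E := fun g hg => by
    rw [autGroup_group hES, ← img_quoAut le_rfl]; exact mem_img_of_mem _ hg
  obtain ⟨γ', h1, h2⟩ := IsEssential.exists_notMem_extAut hS hF hE
  rw [autGroup_group hES, ← img_quoAut le_rfl] at h1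
  obtain ⟨γ, hγ, rfl⟩ := (q.mem_img le_rfl).1 h1
  have conj : ∀ n ∈ S ⊓ 𝒩(E), n ∉ E → ∀ g ∈ 𝒩(E), g * n * g⁻¹ ∈ preIn q.hom (extAut (groupFusionSystem S) E) → g ∈ preIn q.hom (extAut (groupFusionSystem S) E) :=
    fun n hn k g hg c => by
      obtain ⟨j, hj⟩ := hS ⟨n, hn.1⟩
      refine ⟨hg, IsEssential.mem_extAut_of_conj hS hF hE (IsEssential.conjAut_mem_extAut hS hF hE hn.1 hn.2)
        (IsEssential.conjAut_notMem_Inn hE hn.1 hn.2 k) ⟨j, ?_⟩ (hA g hg) ?_⟩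
      · rw [← e, ← q.hom.map_pow hn.2, show n ^ p ^ j = 1 from congrArg Subtype.val hj, q.hom.map_one]
      · rw [← e, ← q.hom.map_conj hg hn.2]; exact c.2
  have clo : ∀ a ∈ S ⊓ 𝒩(E), a ∉ E → ∀ X ≤ 𝒩(E), a ∈ X → Tr p X E ⊥ → X ≤ preIn q.hom (extAut (groupFusionSystem S) E) :=
    fun a ha k X h3 h4 t x hx => ⟨h3 hx, IsEssential.le_extAut_of_isPGroup hS hF hE (t.isPGroup h3)
      (autGroup_group hES ▸ GS.autInducedBy_mono h3 E) (conjAut_mem_autInducedBy ha.2 h4)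
      (IsEssential.conjAut_mem_extAut hS hF hE ha.1 ha.2) (IsEssential.conjAut_notMem_Inn hE ha.1 ha.2 k)
      (img_quoAut h3 ▸ mem_img_of_mem _ hx)⟩
  have lt : E < S ⊓ 𝒩(E) := lt_normalizerIn hS (IsEssential.lt_top hS hF hE)
  have hN := hS.to_le (inf_le_left : S ⊓ 𝒩(E) ≤ S)
  have h3 := idx_of_emb hN lt.le inf_le_right le_rfl (le_normalizer_frat hpE) (frat_le E) (commutator_le_frat hpE)
    (rk E _ (frat_le E) hES (commutator_le_frat hpE) fun x hx => pow_mem_frat hpE hx)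
    (fun a ha k => mem_of_comm_frat hS hE.1 (IsEssential.isRadical hS hE) le_rfl (fun γ _ x hx => autFun_mem γ hx) ha.1 ha.2
      (fun x hx => frat_le E (k.2.2 x hx)) k.2.2) hγ (Y := preIn q.hom (extAut (groupFusionSystem S) E)) (fun k => h2 k.2) conj fun a ha k X h3 h4 t =>
        clo a ha k X h3 h4 (t.of_frat' hpE le_rfl)
  have h4 := mul_card_le_of_lt hN lt
  rw [CL.Grp.card_eq_relIndex_mul_card lt.le] at h4
  obtain ⟨H, s, k⟩ := exists_side hN lt.le inf_le_right (le_antisymm h3 (Nat.le_of_mul_le_mul_right h4 Nat.card_pos))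
    (sylIn_aut hS hF hE.2.1)
  obtain ⟨a, ha, haE⟩ := s.exists_notMem
  refine ⟨H, s, fun t => h2 (conj a ha haE γ hγ (sup_le (clo a ha haE H s.norm (s.PH ha) t) (fun c hc => ?_) (k γ hγ a ha))).2, k⟩
  have h5 := centralizer_le_normalizer _ hc
  exact ⟨h5, ((q.ker c h5).2 hc).symm ▸ one_mem _⟩

end Fusion

end CL.Fus.Rk
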