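/-
The Sylow `p`-subgroup of `Sp₄(p)` by generators and relations.
-/
import Cfsg.Agent.Fus.Rk3D
import Cfsg.Agent.Cls.SpMatrix2

set_option autoImplicit false
set_option linter.unusedSectionVars false

namespace CL.Fus.Rk

open Cfsg Subgroup Matrix
open scoped commutatorElement

variable {G G' : Type*} [Group G] [Group G'] {p : ℕ} {P E₁ E₂ : Subgroup G} {e d z b : G} {e' d' z' b' : G'}

/-- the subgroup generated by four elements -/
def gen4 (e d z b : G) : Subgroup G := zpowers z ⊔ zpowers d ⊔ zpowers e ⊔ zpowers b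

theorem map_gen4 (f : G →* G') : (gen4 e d z b).map f = gen4 (f e) (f d) (f z) (f b) := by
  simp only [gen4, Subgroup.map_sup, MonoidHom.map_zpowers]

theorem Rel4.prod (h : Rel4 p e d z b) (h' : Rel4 p e' d' z' b') : Rel4 p (e, e') (d, d') (z, z') (b, b') :=
  ⟨Prod.ext h.be h'.be, Prod.ext h.bd h'.bd, h.bz.prod h'.bz, h.ed.prod h'.ed, h.ez.prod h'.ez, h.dz.prod h'.dz,
    Prod.ext h.pe h'.pe, Prod.ext h.pd h'.pd, Prod.ext h.pz h'.pz, Prod.ext h.pb h'.pb⟩

variable [hp : Fact p.Prime] [Finite G] [Finite G']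

theorem Rel4.card (h : Rel4 p e d z b) (hz : z ≠ 1) : Nat.card (gen4 e d z b) = p ^ 4 := by
  have h0 : ¬ Commute d b := fun k => hz (mul_left_cancel (a := d) (by rw [← h.bd, ← k.eq, mul_inv_cancel_right, mul_one]))
  have h1 : d ∉ zpowers z := fun k => h0 (comm_of_cen (mem_cen_zpowers h.bz) k)
  have n1 : ∀ x, Commute z x → x ∈ normalizer (zpowers z : Set G) := fun x k => centralizer_le_normalizer _ (mem_cen_zpowers k)
  have h2 : e ∉ zpowers z ⊔ zpowers d := fun k => h1 (by
    have := (sup_le (zpowers_le.2 ⟨mem_sup_left (mem_zpowers z), fun _ k => by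
        rw [k, inv_mul_conj_eq_one.2 h.bz]; exact one_mem _⟩) (zpowers_le.2 ⟨mem_sup_right (mem_zpowers d), fun _ k => by
        rw [k, h.bd, inv_mul_cancel_left]; exact mem_zpowers z⟩) : zpowers z ⊔ zpowers d ≤ commSub (zpowers z ⊔ zpowers d)
      (zpowers z) (sup_le le_normalizer (zpowers_le.2 (n1 d h.dz))) {b}) k |>.2 b rfl
    rwa [h.be, inv_mul_cancel_left] at this)
  have h3 : b ∉ zpowers z ⊔ zpowers d ⊔ zpowers e := fun k => h0 (comm_of_cen (mem_cen_sup (mem_cen_sup (mem_cen_zpowers h.dz)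
    (mem_cen_zpowers (Commute.refl d))) (mem_cen_zpowers h.ed)) k).symm
  have h4 : zpowers z ⊔ zpowers d ⊔ zpowers e ≤ (zpowers z ⊔ zpowers d ⊔ zpowers e).comap (cjh b) := by
    have k1 : z ∈ zpowers z ⊔ zpowers d ⊔ zpowers e := mem_sup_left (mem_sup_left (mem_zpowers z))
    have k2 : d ∈ zpowers z ⊔ zpowers d ⊔ zpowers e := mem_sup_left (mem_sup_right (mem_zpowers d))
    refine sup_le (sup_le (zpowers_le.2 ?_) (zpowers_le.2 ?_)) (zpowers_le.2 ?_) <;> change b * _ * b⁻¹ ∈ zpowers z ⊔ zpowers d ⊔ zpowers e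
    · rwa [← h.bz.eq, mul_inv_cancel_right]
    · exact h.bd ▸ mul_mem k2 k1
    · exact h.be ▸ mul_mem (mem_sup_right (mem_zpowers e)) k2
  rw [gen4, card_sup_zpowers_of_normalizer (mem_normalizer_of_finite fun x hx => mem_comap.1 (h4 hx)) h3 (h.pb ▸ one_mem _),
    card_sup_zpowers_of_normalizer (centralizer_le_normalizer _ (mem_cen_sup (mem_cen_zpowers h.ez) (mem_cen_zpowers h.ed.symm)))
      h2 (h.pe ▸ one_mem _), card_sup_zpowers_of_normalizer (n1 d h.dz) h1 (h.pd ▸ one_mem _),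
    card_zpowers_of_pow_eq_one h.pz hz]
  ring

theorem Rel4.nonempty_equiv (h : Rel4 p e d z b) (h' : Rel4 p e' d' z' b') (hz : z ≠ 1) (hz' : z' ≠ 1) :
    Nonempty (gen4 e d z b ≃* gen4 e' d' z' b') := by
  have c := (h.prod h').card fun k => hz (congrArg Prod.fst k)
  have e1 := MulEquiv.ofBijective _ ((Nat.bijective_iff_surjective_and_card _).2
    ⟨(MonoidHom.fst G G').subgroupMap_surjective (gen4 (e, e') (d, d') (z, z') (b, b')), by
      rw [map_gen4, c]; exact (h.card hz).symm⟩)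
  have e2 := MulEquiv.ofBijective _ ((Nat.bijective_iff_surjective_and_card _).2
    ⟨(MonoidHom.snd G G').subgroupMap_surjective (gen4 (e, e') (d, d') (z, z') (b, b')), by
      rw [map_gen4, c]; exact (h'.card hz').symm⟩)
  rw [map_gen4] at e1 e2
  exact ⟨e1.symm.trans e2⟩

section Sp
variable {K : Type*} [Field K]

/-- the Siegel unipotent elements -/
def spU (x y w : K) : symplecticGroup (Fin 2) K := ⟨fromBlocks 1 !![x, y; y, w] 0 1, by
  rw [SymplecticGroup.mem_iff, J, fromBlocks_transpose, fromBlocks_multiply, fromBlocks_multiply]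
  congr 1 <;> ext i j <;> fin_cases i <;> fin_cases j <;> simp⟩

/-- the Levi unipotent elements -/
def spL (t : K) : symplecticGroup (Fin 2) K := ⟨fromBlocks !![1, t; 0, 1] 0 0 !![1, 0; -t, 1], by
  rw [SymplecticGroup.mem_iff, J, fromBlocks_transpose, fromBlocks_multiply, fromBlocks_multiply]
  congr 1 <;> ext i j <;> fin_cases i <;> fin_cases j <;> simp [Matrix.vecMul, dotProduct, Fin.sum_univ_two]⟩

theorem spU_mul (x y w x' y' w' : K) : spU x y w * spU x' y' w' = spU (x + x') (y + y') (w + w') := Subtype.ext (by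
  change fromBlocks _ _ _ _ * fromBlocks _ _ _ _ = fromBlocks _ _ _ _
  rw [fromBlocks_multiply]
  congr 1 <;> ext i j <;> fin_cases i <;> fin_cases j <;> simp [add_comm])

theorem spL_mul (t t' : K) : spL t * spL t' = spL (t + t') := Subtype.ext (by
  change fromBlocks _ _ _ _ * fromBlocks _ _ _ _ = fromBlocks _ _ _ _
  rw [fromBlocks_multiply]
  congr 1 <;> ext i j <;> fin_cases i <;> fin_cases j <;> simp [add_comm])

theorem spL_mul_spU (x y w : K) : spL 1 * spU x y w = spU (x + 2 * y + w) (y + w) w * spL 1 := Subtype.ext (by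
  change fromBlocks _ _ _ _ * fromBlocks _ _ _ _ = fromBlocks _ _ _ _ * fromBlocks _ _ _ _
  rw [fromBlocks_multiply, fromBlocks_multiply]
  congr 1 <;> ext i j <;> fin_cases i <;> fin_cases j <;> simp; ring)

theorem spU_zero : spU (0 : K) 0 0 = 1 := Subtype.ext (by
  change fromBlocks _ _ _ _ = 1
  rw [← fromBlocks_one]
  congr 1; ext i j; fin_cases i <;> fin_cases j <;> simp)

theorem spL_zero : spL (0 : K) = 1 := Subtype.ext (by
  change fromBlocks _ _ _ _ = 1
  rw [← fromBlocks_one]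
  congr 1 <;> ext i j <;> fin_cases i <;> fin_cases j <;> simp)

theorem spU_pow (x y w : K) (n : ℕ) : spU x y w ^ n = spU (n * x) (n * y) (n * w) := by
  induction n with
  | zero => simp [spU_zero]
  | succ n ih => rw [pow_succ, ih, spU_mul]; congr 1 <;> push_cast <;> ring

theorem spL_pow (t : K) (n : ℕ) : spL t ^ n = spL (n * t) := by
  induction n with
  | zero => simp [spL_zero]
  | succ n ih => rw [pow_succ, ih, spL_mul]; congr 1; push_cast; ring

theorem spU_comm (x y w x' y' w' : K) : Commute (spU x y w) (spU x' y' w') := by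
  rw [Commute, SemiconjBy, spU_mul, spU_mul, add_comm x, add_comm y, add_comm w]

end Sp

theorem rel4_sp : Rel4 p (spU (0 : ZMod p) 0 1) (spU 1 1 0) (spU 2 0 0) (spL 1) where
  be := by rw [spL_mul_spU, mul_inv_cancel_right, spU_mul]; congr 1 <;> ring
  bd := by rw [spL_mul_spU, mul_inv_cancel_right, spU_mul]; congr 1 <;> ring
  bz := by rw [Commute, SemiconjBy, spL_mul_spU]; congr 2 <;> ring
  ed := spU_comm ..
  ez := spU_comm ..
  dz := spU_comm ..
  pe := by simp [spU_pow, spU_zero]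
  pd := by simp [spU_pow, spU_zero]
  pz := by simp [spU_pow, spU_zero]
  pb := by simp [spL_pow, spL_zero]

theorem III.exists_sylow (hp2 : p ≠ 2) (h : III p P E₁ E₂) : ∃ Q : Sylow p (symplecticGroup (Fin 2) (ZMod p)),
    Nonempty (P ≃* (Q : Subgroup (symplecticGroup (Fin 2) (ZMod p)))) := by
  obtain ⟨e, he, d, hd, z, hz, b, hb, r, hz1⟩ := h.rel
  have h2 : spU (2 : ZMod p) 0 0 ≠ 1 := fun k => hp2 ((Nat.prime_dvd_prime_iff_eq hp.out Nat.prime_two).1
    ((ZMod.natCast_eq_zero_iff 2 p).1 (by simpa [spU] using congrFun (congrFun (congrArg Subtype.val k) (.inl 0)) (.inr 0))))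
  have e1 : gen4 e d z b = P := eq_of_le_of_card_ge (sup_le (sup_le (sup_le (zpowers_le.2 hz) (zpowers_le.2 hd))
    (zpowers_le.2 he)) (zpowers_le.2 hb)) (by rw [r.card hz1, h.cP])
  refine ⟨Sylow.ofCard _ ((rel4_sp.card h2).trans ?_), e1 ▸ r.nonempty_equiv rel4_sp hz1 h2⟩
  have h3 : ∀ n, ¬ p ∣ p ^ (n + 1) - 1 := fun n k => hp.out.one_lt.ne' (Nat.dvd_one.1 ((Nat.dvd_sub_iff_right
    (Nat.one_le_pow _ _ hp.out.pos) (dvd_pow_self p n.succ_ne_zero)).1 k))
  have h4 : ∀ n, p ^ (n + 1) - 1 ≠ 0 := fun n k => h3 n (k ▸ dvd_zero p)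
  rw [CL.Sp.card_symplecticGroup, Nat.card_zmod, Finset.prod_range_succ, Finset.prod_range_one, Nat.factorization_mul
    (pow_ne_zero _ hp.out.ne_zero) (mul_ne_zero (h4 1) (h4 3)),
    hp.out.factorization_pow, Finsupp.add_apply, Finsupp.single_eq_same, Nat.factorization_eq_zero_of_not_dvd
      fun k => (hp.out.dvd_mul.1 k).elim (h3 1) (h3 3)]
  rfl

end CL.Fus.Rk
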