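/-
Fusion systems of sectional rank three all of whose essential subgroups are normal.
-/
import Cfsg.Agent.Fus.Rk3E
import Cfsg.Agent.Fus.Rk3S
import Cfsg.Agent.Fus.Wreath
import Cfsg.Agent.Fus.Realized
import Cfsg.Agent.Fgs.SecRank

set_option autoImplicit false
set_option linter.unusedSectionVars false

namespace CL.Fus.Rk

open Cfsg Cfsg.FusionSystem Subgroup
open scoped commutatorElement

local notation "𝒩(" X ")" => Subgroup.normalizer ((X : Subgroup _) : Set _)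
local notation "𝒞(" X ")" => Subgroup.centralizer ((X : Subgroup _) : Set _)

variable {G : Type*} [Group G] {p : ℕ} {P E H A B C D Q S X : Subgroup G} {a b g h x y : G}

theorem rank3_of (h : SectionalPRankLE p 3 S) : Rank3 p S := fun A B hB hA hc hp => by
  rw [← relIndex_subgroupOf hA]
  exact CL.Fgs.secRank_iff.1 h _ _ (CL.Fgs.EASec.comap ⟨hB, fun x hx y hy => hc (commutator_mem_commutator hx hy), hp⟩ S.subtype)

theorem fIso_conj (S : Subgroup G) (g : G) : FIso (groupFusionSystem S) (groupFusionSystem (S.map (cjh g)))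
    (fun x => g * x * g⁻¹) (fun x => g⁻¹ * x * g) :=
  fIso_group_of_mor ⟨homOn_hom (cjh g) S, fun x hx => ⟨x, hx, rfl⟩, fun _ hy => GS.mem_map_conj.1 hy, fun x _ => by group,
    fun x _ => by group⟩ fun P f => mor_group_iff.trans (and_congr_right fun _ => and_congr_right fun _ =>
      ⟨fun ⟨a, ha⟩ => ⟨g * a * g⁻¹, fun x hx => by rw [ha x hx]; group⟩, fun ⟨a, ha⟩ => ⟨g⁻¹ * a * g, fun x hx => by
        rw [show f x = g⁻¹ * (g * f x * g⁻¹) * g by group, ha x hx]; group⟩⟩)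

variable [hp : Fact p.Prime] [Finite G] {E₁ H₁ E₂ H₂ : Subgroup G}

theorem big_spec (h : ¬ SectionalPRankLE p 2 S) : S ≠ ⊥ ∧ (Nat.card S = p ^ 3 → ⁅S, S⁆ ≤ ⊥) := by
  rw [CL.Fgs.secRank_iff] at h
  push Not at h
  obtain ⟨A, B, ⟨h1, h2, -⟩, h3⟩ := h
  have h4 := CL.Grp.card_eq_relIndex_mul_card h1
  have h5 := card_subgroup_dvd_card A
  refine ⟨fun e => ?_, fun e => ?_⟩
  · subst e
    rw [card_bot, Nat.dvd_one, h4, mul_eq_one] at h5
    exact (Nat.one_le_pow _ _ hp.out.pos).not_gt (h5.1 ▸ h3)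
  obtain ⟨j, hj, k⟩ := (Nat.dvd_prime_pow hp.out).1 (((Dvd.intro _ h4.symm).trans h5).trans e.dvd)
  obtain rfl : j = 3 := by have := (Nat.pow_lt_pow_iff_right hp.out.one_lt).1 (k ▸ h3); omega
  have h6 := Nat.le_of_dvd Nat.card_pos h5
  rw [h4, k, e] at h6
  obtain rfl := eq_bot_of_card_le B (Nat.le_of_mul_le_mul_left (h6.trans (mul_one _).ge) (pow_pos hp.out.pos 3))
  obtain rfl := eq_top_of_card_eq A (by rw [h4, k, e, card_bot, mul_one])
  exact commutator_le.2 fun x hx y hy => mem_bot.2 (congrArg Subtype.val (mem_bot.1 (h2 ⟨x, hx⟩ trivial ⟨y, hy⟩ trivial)))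

theorem ess_conj (hE : (groupFusionSystem S).IsEssential p E) (h : (groupFusionSystem S).IsFullyNormalized (E.map (cjh g))) :
    (groupFusionSystem S).IsEssential p (E.map (cjh g)) := by
  obtain ⟨h1, -, h3⟩ := (fIso_conj S g).isEssential hE
  rw [img_conj] at h1 h3
  refine ⟨centric_of_isConj hE.1 (img_conj E g ▸ Mor.isConj (mor_group_iff.2 ⟨hE.1.1, fun x hx => h.1 ⟨x, hx, rfl⟩, g,
    fun _ _ => rfl⟩)), h, ?_⟩
  rwa [autGroup_group h1.1, ← autGroup_group h.1] at h3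

theorem ess_conj' (hE : (groupFusionSystem S).IsEssential p E) (hg : g ∈ 𝒩(S)) :
    (groupFusionSystem S).IsEssential p (E.map (cjh g)) := ess_conj hE (img_conj E g ▸ Mor.fullyNormalized_img
      (mor_group_iff.2 ⟨inf_le_left, fun _ hx => conj_mem_of_mem_normalizer hg hx.1, g, fun _ _ => rfl⟩) hE.2.1)

theorem LS.core_eq (t : LS p E H D) (s : Side p P E H) (r : ¬ Tr p H E ⊥) (hD : D ≤ E) (hi : D.relIndex E = p)
    (hP : P ≤ centralizer (coreIn H D : Set G)) : coreIn H D = E ⊓ 𝒞(H) := by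
  have h1 : coreIn H D ≤ E ⊓ 𝒞(H) := le_inf (coreIn_le.trans hD) (le_centralizer_iff.1 (s.le_cen le_normalizer_coreIn hP))
  have h2 : H ≤ 𝒩(E ⊓ 𝒞(H)) := CL.Grp.le_normalizer_inf' s.norm (CL.Grp.le_normalizer_centralizer' le_normalizer)
  refine h1.eq_of_not_lt fun k => r ((s.tr_of_card s.norm h2 inf_le_left s.le ?_).trans s.pgE (Tr.of_le ?_) inf_le_left)
  · rw [card_of_relIndex hD hi, card_of_relIndex coreIn_le t.idx]
    exact Nat.mul_le_mul_left _ (mul_card_le_of_lt (s.pgE.to_le inf_le_left) k)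
  · rw [secC_bot]; exact le_centralizer_iff.1 inf_le_right

theorem Side.inf_cen (s : Side p P E H) (k : ∀ g ∈ 𝒩(E), ∀ a ∈ P, g * a * g⁻¹ ∈ H ⊔ 𝒞(E)) :
    E ⊓ 𝒞(H) = E ⊓ 𝒞(ncl 𝒩(E) P) := le_antisymm (fun _ hx => ⟨hx.1, cen_mono (ncl_le_iff.2 k) (mem_cen_sup hx.2
      (mem_cen fun _ hy => (comm_of_cen hy hx.1).symm))⟩) (inf_le_inf_left _ (cen_mono (s.gen _ le_ncl
        (s.norm.trans le_normalizer_ncl))))

section Fusion
variable (hS : IsPGroup p S) (hF : (groupFusionSystem S).IsSaturated p) (rk : Rank3 p S)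
include hS hF rk

theorem side_of_normal (hE : (groupFusionSystem S).IsEssential p E) (hn : S ≤ 𝒩(E)) : ∃ H, Side p S E H ∧ ¬ Tr p H E ⊥ ∧
    E ⊓ 𝒞(H) = E ⊓ 𝒞(ncl 𝒩(E) S) ∧ Ext S E := by
  obtain ⟨H, s, r, k⟩ := side_of_ess hS hF rk hE
  have x := ext_of_cen hS hF (fullyCentralized_of_centric hE.1)
  rw [inf_eq_left.2 hn] at s k x
  exact ⟨H, s, r, s.inf_cen k, x⟩

omit rk in
theorem eq_bot_of_inv (hO : (groupFusionSystem S).core = ⊥) (hQ : Q ≤ S) (h1 : ∀ E, (groupFusionSystem S).IsEssential p E →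
    Q ≤ E ∧ normalizer (E : Set G) ≤ 𝒩(Q)) (h2 : normalizer (S : Set G) ≤ 𝒩(Q)) : Q = ⊥ :=
  le_bot_iff.1 (hO ▸ IsNormal.le_core (isNormal_of_essential hS hF hQ (fun A hA => (h1 A hA).1) fun A a hA ha e => by
    obtain ⟨-, -, g, hg⟩ := mor_group_iff.1 ha
    have h3 : g ∈ 𝒩(A) := mem_normalizer_iff_map_conj_eq.2 ((img_conj A g).symm.trans ((img_congr hg).symm.trans e))
    obtain ⟨h4, h5⟩ : Q ≤ A ∧ g ∈ 𝒩(Q) := hA.elim (fun k => ⟨k ▸ hQ, h2 (k ▸ h3)⟩) fun k => ⟨(h1 A k).1, (h1 A k).2 h3⟩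
    rw [img_congr fun x hx => hg x (h4 hx), img_conj_of_mem_normalizer h5]))

theorem exists_III (hp2 : p ≠ 2) (big : ¬ SectionalPRankLE p 2 S) (hO : (groupFusionSystem S).core = ⊥)
    (hn : ∀ E, (groupFusionSystem S).IsEssential p E → S ≤ 𝒩(E)) :
    ∃ E₁ E₂, (groupFusionSystem S).IsEssential p E₁ ∧ (groupFusionSystem S).IsEssential p E₂ ∧ III p S E₁ E₂ := by
  by_contra! hc
  obtain ⟨b1, b2⟩ := big_spec big
  choose! H s r k x using fun E hE => side_of_normal hS hF rk hE (hn E hE)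
  obtain ⟨E₁, h₁⟩ : ∃ E, (groupFusionSystem S).IsEssential p E := by
    by_contra! k
    exact b1 (eq_bot_of_inv hS hF hO le_rfl (fun E hE => (k E hE).elim) le_rfl)
  obtain ⟨E₂, h₂, ne⟩ : ∃ E, (groupFusionSystem S).IsEssential p E ∧ E₁ ≠ E := by
    by_contra! k
    have := eq_bot_of_inv hS hF hO h₁.1.1 (fun E hE => k E hE ▸ ⟨le_rfl, le_rfl⟩) fun g hg =>
      mem_normalizer_iff_map_conj_eq.2 (k _ (ess_conj' h₁ hg)).symm
    subst this
    exact b1 (le_bot_iff.1 fun y hy => IsCentric.centralizerIn_le h₁.1 ⟨hy, mem_cen fun z hz => by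
      rw [mem_bot.1 hz]; exact Commute.one_left y⟩)
  have ls : ∀ E E', (groupFusionSystem S).IsEssential p E → (groupFusionSystem S).IsEssential p E' → E ≠ E' →
      coreIn (H E) (E ⊓ E') = E ⊓ 𝒞(ncl 𝒩(E) S) ∧ coreIn (H E) (E ⊓ E') = coreIn (H E') (E' ⊓ E) ∧
        Nat.card S = p ^ 3 * Nat.card (coreIn (H E) (E ⊓ E')) ∧ ¬ ⁅S, S⁆ ≤ coreIn (H E) (E ⊓ E') := fun E E' h h' e => by
    have d : Pair p S E (H E) E' (H E') := ⟨s E h, s E' h', e, rk, r E h, r E' h'⟩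
    obtain ⟨t₁, t₂⟩ := ((d.cases hp2).resolve_left (hc _ _ h h')).resolve_left (hc _ _ h' h)
    have c := d.core_eq t₁ hp2 t₂ (x E h) (x E' h') fun g hg => exists_pow_inner hS hF hg
    exact ⟨(t₁.core_eq d.s₁ d.r₁ inf_le_left d.i₁ (d.sup ▸ sup_le t₁.cen (c ▸ t₂.cen))).trans (k E h), c, by
      rw [d.s₁.card, card_of_relIndex inf_le_left d.i₁, card_of_relIndex coreIn_le t₁.idx]; ring, d.not_comm_le t₁⟩
  have cc : ∀ E, (groupFusionSystem S).IsEssential p E → E₁ ⊓ 𝒞(ncl 𝒩(E₁) S) = E ⊓ 𝒞(ncl 𝒩(E) S) := fun E h => by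
    obtain rfl | e := eq_or_ne E₁ E
    · rfl
    · rw [← (ls _ _ h₁ h e).1, (ls _ _ h₁ h e).2.1, (ls _ _ h h₁ e.symm).1]
  obtain ⟨e1, -, e2, e3⟩ := ls _ _ h₁ h₂ ne
  have e4 := eq_bot_of_inv hS hF hO (Q := E₁ ⊓ 𝒞(ncl 𝒩(E₁) S)) (inf_le_left.trans h₁.1.1) (fun E h => cc E h ▸ ⟨inf_le_left,
    CL.Grp.le_normalizer_inf' le_rfl (CL.Grp.le_normalizer_centralizer' le_normalizer_ncl)⟩) (le_normalizer_of_conj
      fun g hg y hy => by
        rw [cc _ (ess_conj' h₁ (Subgroup.inv_mem _ hg))] at hy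
        refine ⟨by simpa using GS.mem_map_conj.1 hy.1, le_centralizer_iff.1 (ncl_le_iff.2 fun u hu a ha => mem_cen_zpowers ?_)
          (mem_zpowers _)⟩
        have := (comm_of_cen hy.2 (ncl_le_iff.1 le_rfl (g⁻¹ * u * g⁻¹⁻¹) (GS.normalizer_map_conj E₁ g⁻¹ ▸ ⟨u, hu, rfl⟩) _
          (inv_conj_mem_of_mem_normalizer hg ha))).map (cjh g)
        simpa [mul_assoc] using this.symm)
  rw [e1, e4] at e2 e3
  exact e3 (b2 (by rw [e2, card_bot, mul_one]))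

theorem III_of_inv (hp2 : p ≠ 2) (big : ¬ SectionalPRankLE p 2 S) (hO : (groupFusionSystem S).core = ⊥)
    (h₁ : (groupFusionSystem S).IsEssential p E₁) (h₂ : (groupFusionSystem S).IsEssential p E₂) (ne : E₁ ≠ E₂)
    (n₁ : normalizer (S : Set G) ≤ 𝒩(E₁)) (n₂ : normalizer (S : Set G) ≤ 𝒩(E₂)) : III p S E₁ E₂ ∨ III p S E₂ E₁ := by
  obtain ⟨H₁, s₁, r₁, -, x₁⟩ := side_of_normal hS hF rk h₁ (le_normalizer.trans n₁)
  obtain ⟨H₂, s₂, r₂, -, x₂⟩ := side_of_normal hS hF rk h₂ (le_normalizer.trans n₂)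
  have d : Pair p S E₁ H₁ E₂ H₂ := ⟨s₁, s₂, ne, rk, r₁, r₂⟩
  by_contra! hc
  obtain ⟨t₁, t₂⟩ := ((d.cases hp2).resolve_left hc.1).resolve_left hc.2
  have c := d.core_eq t₁ hp2 t₂ x₁ x₂ fun g hg => exists_pow_inner hS hF hg
  have c₁ := d.comm_eq_one t₁ hp2 t₂ x₁ c n₂
  have c₂ := d.symm.comm_eq_one t₂ hp2 t₁ x₂ c.symm n₁
  have hD : E₁ ⊓ E₂ ≤ 𝒞(S) := fun y hy => d.sup ▸ mem_cen_sup (c₂ ⟨hy.2, hy.1⟩) (c₁ hy)
  have le : ∀ E, (groupFusionSystem S).IsEssential p E → E₁ ⊓ E₂ ≤ E := fun E hE y hy =>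
    IsCentric.centralizerIn_le hE.1 ⟨s₁.le hy.1, cen_mono hE.1.1 (hD hy)⟩
  obtain ⟨A, B, -, hB, t⟩ := exists_III hS hF rk hp2 big hO fun E hE => le_normalizer_of_conj fun g hg y hy => by
    simpa using E.mul_mem hy (le E hE (d.comm_mem (hE.1.1 hy) hg))
  have e1 := t.cP
  have e2 := CL.Grp.card_eq_relIndex_mul_card (le B hB)
  rw [s₁.card, card_of_relIndex inf_le_left d.i₁, show p ^ 4 = p * (p * p ^ 2) by ring] at e1
  rw [t.c₂, Nat.eq_of_mul_eq_mul_left hp.out.pos (Nat.eq_of_mul_eq_mul_left hp.out.pos e1), pow_succ'] at e2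
  have e3 := (Nat.eq_of_mul_eq_mul_right (pow_pos hp.out.pos 2) e2).symm
  obtain ⟨b, hb, hbD⟩ := exists_of_relIndex e3
  refine t.na (eq_sup_zpowers_of_relIndex (le B hB) (e3 ▸ hp.out) hb hbD ▸ sup_le (hD.trans (cen_mono (sup_le
    (inf_le_left.trans s₁.le) (zpowers_le.2 (hB.1.1 hb))))) (zpowers_le.2 (mem_cen_sup (mem_cen fun y hy =>
      (comm_of_cen (hD hy) (hB.1.1 hb)).symm) (mem_cen_zpowers (Commute.refl b)))))

end Fusion

section Transport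
universe u
variable {Ω : Type u} [Group Ω] {S E : Subgroup Ω} {T : Subgroup G} {θ : Ω → G} {η : G → Ω}

theorem exists_model [Finite S] (F : FusionSystem S) (hS : IsPGroup p S) (hF : F.IsSaturated p)
    (hsr : SectionalPRankLE p 3 S ∧ ¬ SectionalPRankLE p 2 S) : ∃ (G : Type u) (_ : Group G) (_ : Finite G) (T : Subgroup G)
      (θ : Ω → G) (η : G → Ω), FIso F (groupFusionSystem T) θ η ∧ IsPGroup p T ∧ (groupFusionSystem T).IsSaturated p ∧
        Rank3 p T ∧ ¬ SectionalPRankLE p 2 T ∧ (F.core = ⊥ → (groupFusionSystem T).core = ⊥) ∧ Nonempty (S ≃* T) := by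
  obtain ⟨D⟩ := nonempty_wreath F
  obtain ⟨η, h⟩ := IsRealizedBy.exists_fIso D.isRealizedBy
  have e := h.toGIso.equiv le_rfl h.toGIso.img_top
  exact ⟨D.W, inferInstance, inferInstance, _, _, η, h, h.toGIso.isPGroup hS, h.isSaturated hF,
    rank3_of (CL.Fgs.secRank_of_injective hsr.1 e.symm.toMonoidHom e.symm.injective),
    fun k => hsr.2 (CL.Fgs.secRank_of_injective k e.toMonoidHom e.injective),
    fun k => by rw [← h.img_core, k, h.toGIso.img_bot], ⟨e⟩⟩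

theorem pull_pow (h : GIso S T θ η) (hE : E ≤ S) (k : ∀ x ∈ img θ E, x ^ p = 1) : ∀ x ∈ E, x ^ p = 1 := fun x hx =>
  h.injOn (pow_mem (hE hx) p) (one_mem _) (by
    rw [h.homOn.map_pow (hE hx), k _ (mem_img_of_mem _ hx), h.homOn.map_one])

theorem pull_el (h : GIso S T θ η) (hE : E ≤ S) (k : img θ E ≤ omZ p (img θ E)) : IsElementaryAbelian p E :=
  ⟨le_centralizer_iff_isMulCommutative.1 fun _ hx => (h.mem_centralizer_iff hE (hE hx)).1 (k (mem_img_of_mem _ hx)).2.1,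
    pull_pow h hE fun _ hx => (k hx).2.2⟩

theorem pull_ex (h : GIso S T θ η) (hE : E ≤ S) {A : Subgroup G} (t : III p T A (img θ E)) :
    IsExtraspecial p E ∧ Nat.card E = p ^ 3 ∧ ∀ x ∈ E, x ^ p = 1 :=
  ⟨isExtraspecial_of_card_eq_cube ((h.card_img hE).symm.trans t.c₂) fun k => t.na (img_le_iff.2 fun _ hx =>
    (h.mem_centralizer_iff hE (hE hx)).2 (le_centralizer_iff_isMulCommutative.2 k hx)), (h.card_img hE).symm.trans t.c₂,
    pull_pow h hE t.ex⟩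

theorem push_inv [Finite S] {F : FusionSystem S} (h : FIso F (groupFusionSystem T) θ η) (hE : E ≤ S)
    (hc : ∀ φ : MulAut S, φ ∈ F.autGroup S → (E.subgroupOf S).map φ.toMonoidHom = E.subgroupOf S) :
    normalizer (T : Set G) ≤ 𝒩(img θ E) := le_normalizer_of_conj fun g hg y hy => by
  obtain ⟨x, hx, rfl⟩ := (h.toGIso.mem_img hE).1 hy
  have h1 := h.mor' _ _ (mor_group_iff.2 ⟨le_rfl, fun _ hx => conj_mem_of_mem_normalizer hg hx, g, fun _ _ => rfl⟩)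
  rw [h.toGIso.symm.img_top] at h1
  obtain ⟨φ, h2, h3⟩ := h1.exists_aut' le_rfl fun _ hx => h1.mem hx
  have h4 : φ ⟨x, hE hx⟩ ∈ E.subgroupOf S := hc φ h2 ▸ ⟨_, hx, rfl⟩
  rw [mem_subgroupOf, ← autFun_apply, h3 x (hE hx)] at h4
  exact (h.toGIso.mem_img_iff' hE).2 ⟨conj_mem_of_mem_normalizer hg (h.mem x (hE hx)), h4⟩

end Transport

end CL.Fus.Rk
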