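/-
Essential subgroups that are not normal, for `p ≥ 5` and sectional rank three.
-/
import Cfsg.Agent.Fus.Rk3G

set_option autoImplicit false
set_option linter.unusedSectionVars false

namespace CL.Fus.Rk

open Cfsg Cfsg.FusionSystem Subgroup
open scoped commutatorElement

local notation "𝒩(" X ")" => Subgroup.normalizer ((X : Subgroup _) : Set _)
local notation "𝒞(" X ")" => Subgroup.centralizer ((X : Subgroup _) : Set _)

variable {G : Type*} [Group G] {p : ℕ} {P E H A B C D K L M N Q S X Y : Subgroup G} {a b g h x y : G} {i j l : ℤ}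

/-- `j` is not a weight of `g` on `M` modulo `Y` -/
def NoW (g : G) (M Y : Subgroup G) (j : ℤ) : Prop := ∀ y ∈ M, (y ^ j)⁻¹ * (g * y * g⁻¹) ∈ Y → y ∈ Y

theorem NoW.pow (h : NoW g K Y i) (w : Wt g M K i) (hK : K ≤ M) (ab : M ≤ 𝒞(M)) (h1 : ∀ x ∈ K, x ^ p ∈ Y)
    (h2 : ∀ x ∈ M, x ^ p ∈ K) : ∀ x ∈ M, x ^ p ∈ Y := fun x hx => h _ (h2 x hx) (by
  have := h1 _ (w x hx)
  have c : Commute (x ^ i)⁻¹ (g * x * g⁻¹) := by
    rw [← mul_inv_cancel_left (x ^ i) (g * x * g⁻¹)]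
    exact ((Commute.refl _).mul_right (comm_of_cen (ab (hK (w x hx))) (M.zpow_mem hx i))).inv_left
  rwa [c.mul_pow, conj_pow, inv_pow, ← zpow_natCast (x ^ i), ← zpow_mul, mul_comm, zpow_mul, zpow_natCast] at this)

theorem Wt.congr (w : Wt g M N i) (hd : (p : ℤ) ∣ i - j) (h : ∀ x ∈ M, x ^ p ∈ N) : Wt g M N j := fun x hx => by
  obtain ⟨k, hk⟩ := hd
  have := N.mul_mem (N.zpow_mem (h x hx) k) (w x hx)
  rwa [← zpow_natCast, ← zpow_mul, ← hk, ← mul_assoc, ← zpow_neg, ← zpow_add, show i - j + -i = -j by ring, zpow_neg] at this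

variable [hp : Fact p.Prime] [Finite G]

theorem NoW.step (h : NoW g K Y j) (hM : IsPGroup p M) (w : Wt g M K i) (nY : M ≤ 𝒩(Y)) (hg : g ∈ 𝒩(Y))
    (hm : ¬ (p : ℤ) ∣ j - i) : NoW g M Y j := fun y hy k => mem_of_wt hM hy k (h _ (w y hy) (wt_sup (nY hy) hg k _ (by
  simpa [mul_assoc] using mul_mem (mem_sup_right (mul_mem (Subgroup.inv_mem _ (zpow_mem_zpowers y i)) (zpow_mem_zpowers y j)))
    (mem_sup_left k)))) hm

theorem noW_cen (hC : IsPGroup p C) (hg : g ∈ 𝒞(C)) (hm : ¬ (p : ℤ) ∣ j - 1) : NoW g C Y j := fun _ hy k =>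
  mem_of_wt hC hy k (by rw [conj_eq_of_mem_centralizer hg hy, zpow_one, inv_mul_cancel]; exact one_mem _) hm

theorem comm_le_of_idx (hM : IsPGroup p M) (hX : X ≤ Y) (hY : Y ≤ M) (nX : M ≤ 𝒩(X)) (nY : M ≤ 𝒩(Y)) (hi : X.relIndex Y = p) :
    ⁅Y, M⁆ ≤ X := commutator_le_of_secC fun _ hx => ⟨nY hx, nX hx, fun _ hy =>
      comm_mem_of_card_le hM hX hY (hY.trans nX) hx (nX hx) (nY hx) (card_of_relIndex hX hi).le hy⟩

theorem ab_of_idx (hX : X ≤ Y) (hi : X.relIndex Y = p) (h : X ≤ centralizer (Y : Set G)) : Y ≤ centralizer (Y : Set G) := by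
  obtain ⟨b, hb, hbX⟩ := exists_of_relIndex hi
  have e := eq_sup_zpowers_of_relIndex hX (hi ▸ hp.out) hb hbX
  refine e.ge.trans (sup_le h (zpowers_le.2 ?_))
  rw [← e]
  exact mem_cen_sup (le_centralizer_iff.1 h hb) (mem_cen_zpowers (Commute.refl b))

theorem end_game (hM : IsPGroup p M) (rk : Rank3 p M) (l1 : ¬ (p : ℤ) ∣ l) (l2 : ¬ (p : ℤ) ∣ l * l - 1)
    (l3 : ¬ (p : ℤ) ∣ l * (l * l) - 1) (l5 : ¬ (p : ℤ) ∣ l * l * (l * (l * l)) - 1) (hCD : C ≤ D) (hDA : D ≤ A) (hAN : A ≤ N)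
    (hNM : N ≤ M) (iC : C.relIndex D = p) (iD : D.relIndex A = p) (iA : A.relIndex N = p) (iN : N.relIndex M = p)
    (nD : M ≤ 𝒩(D)) (nA : M ≤ 𝒩(A)) (nN : M ≤ 𝒩(N)) (cN : N ≤ 𝒞(C)) (nc : ¬ ⁅N, N⁆ ≤ C) (gM : g ∈ 𝒩(M)) (gA : g ∈ 𝒩(A))
    (gC : g ∈ 𝒞(C)) (wD : Wt g D C l) (wA : Wt g A D (l * l)) (wM : Wt g M N (l * (l * l))) : C = ⊥ := by
  have pr := Nat.prime_iff_prime_int.1 hp.out
  have l0 : ¬ (p : ℤ) ∣ l - 1 := fun k => l2 (k.trans ⟨l + 1, by ring⟩)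
  have m1 : ¬ (p : ℤ) ∣ l * l - l := fun k => (pr.dvd_or_dvd (k.trans (show _ = l * (l - 1) by ring).dvd)).elim l1 l0
  have m2 : ¬ (p : ℤ) ∣ l * (l * l) - l := fun k => (pr.dvd_or_dvd (k.trans (show _ = l * (l * l - 1) by ring).dvd)).elim l1 l2
  have m3 : ¬ (p : ℤ) ∣ l * (l * l) - l * l := fun k => (pr.dvd_or_dvd (k.trans (show _ = l * (l * l - l) by ring).dvd)).elim l1 m1
  have hAM := hAN.trans hNM
  have hDM := hDA.trans hAM
  have hCM := hCD.trans hDM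
  have hC := hM.to_le hCM
  have top : ∀ x : G, x ∈ 𝒩((⊥ : Subgroup G)) := fun x => le_normalizer_bot (mem_top x)
  have cc := centralizer_le_normalizer (C : Set G)
  have no3 : ∀ Y, D ≤ 𝒩(Y) → g ∈ 𝒩(Y) → NoW g D Y (l * (l * l)) := fun Y h1 h2 => (noW_cen hC gC l3).step (hM.to_le hDM) wD h1 h2 m2
  have cM : M ≤ 𝒞(C) := by
    have nK := CL.Grp.le_normalizer_commutator' (normalizer_commutator_ge_right (H₁ := C) (H₂ := M)) le_normalizer
    have gK := CL.Grp.le_normalizer_commutator' (CL.Grp.le_normalizer_commutator' (zpowers_le.2 (cc gC)) (zpowers_le.2 gM))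
      (zpowers_le.2 gM) (mem_zpowers g)
    have lK : ⁅C, M⁆ ≤ D := (commutator_mono hCD le_rfl).trans (le_normalizer_iff_commutator_le_left.1 nD)
    refine le_centralizer_iff.1 (commutator_eq_bot_iff_le_centralizer.1 (CL.Grp.eq_bot_of_le_commutator hM.isNilpotent
      (lK.trans hDM) (commutator_le.2 fun c hc x hx => ?_)))
    have h1 := commutator_mem_commutator hc hx
    simpa using no3 _ (hDM.trans nK) gK _ (lK h1) (one_mul (l * (l * l)) ▸ Wt.comm (N₁ := ⊥) (fun c hc => by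
      rw [conj_eq_of_mem_centralizer gC hc, zpow_one, inv_mul_cancel]; exact one_mem _) wM gK hNM (by simp)
      ((commutator_eq_bot_iff_le_centralizer.2 (le_centralizer_iff.1 cN)).le.trans bot_le) hc hx (nK (hCM hc)) (nK hx)
      (commutator_mem_commutator h1 (hCM hc)) (commutator_mem_commutator h1 hx))
  have nC := cM.trans cc
  have one : ∀ y ∈ C, ∀ x ∈ M, ⁅y, x⁆ ∈ (⊥ : Subgroup G) := fun y hy x hx => mem_bot.2 (comm_of_cen (cM hx) hy).commutator_eq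
  have cb : ∀ X ≤ M, ⁅C, X⁆ ≤ ⊥ := fun X hX => commutator_le.2 fun y hy x hx => one y hy x (hX hx)
  have k1 := comm_le_of_idx hM hCD hDM nC nD iC
  have k2 := comm_le_of_idx hM hDA hAM nD nA iD
  have k3 := comm_le_of_idx hM hAN hNM nA nN iA
  have aD := ab_of_idx hCD iC (le_centralizer_iff.1 (hDM.trans cM))
  have aA : A ≤ 𝒞(A) := ab_of_idx hDA iD (commutator_eq_bot_iff_le_centralizer.1 (le_bot_iff.1 (commutator_le.2 fun x hx y hy => by
    have h1 := k1 (commutator_mem_commutator hx (hAM hy))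
    exact no3 _ le_normalizer_bot (top g) _ (hCD h1) (Wt.comm wD wA (top g) hDA (cb A hAM)
      (commutator_eq_bot_iff_le_centralizer.2 aD).le hx hy (top x) (top y) (one _ h1 x (hDM hx)) (one _ h1 y (hAM hy))))))
  have bA := (commutator_eq_bot_iff_le_centralizer.2 aA).le
  obtain ⟨e, he, heA⟩ := exists_of_relIndex iA
  have ee := eq_sup_zpowers_of_relIndex hAN (iA ▸ hp.out) he heA
  have k4 : ¬ ⁅A, N⁆ ≤ C := fun k => nc (ee ▸ commutator_sup_zp (ee.le.trans (hNM.trans nC)) (bA.trans bot_le)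
    ((commutator_comm_le _ _).trans ((commutator_mono le_rfl (zpowers_le.2 he)).trans k)))
  obtain ⟨B, hB⟩ : ∃ B, B = M ⊓ secC A C := ⟨_, rfl⟩
  have hBM : B ≤ M := hB ▸ inf_le_left
  have hBC : ⁅A, B⁆ ≤ C := commutator_le_of_secC (hB ▸ inf_le_right)
  have hAB : A ≤ B := hB ▸ le_inf hAM (le_secC le_normalizer (hAM.trans nC) (bA.trans bot_le))
  have gB : g ∈ 𝒩(B) := hB ▸ CL.Grp.le_normalizer_inf' (zpowers_le.2 gM) (le_normalizer_secC (zpowers_le.2 gA)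
    (zpowers_le.2 (cc gC))) (mem_zpowers g)
  have eB : N ⊓ B = A := (CL.Grp.eq_or_eq_of_relIndex_prime (le_inf hAN hAB) inf_le_left (iA ▸ hp.out)).resolve_right fun e =>
    k4 ((commutator_mono le_rfl (e.ge.trans inf_le_right)).trans hBC)
  have cA : Nat.card A = p ^ 2 * Nat.card C := by rw [card_of_relIndex hDA iD, card_of_relIndex hCD iC]; ring
  have iB : A.relIndex B = p := by
    rw [← eB, inf_relIndex_right]
    refine relIndex_eq_of_not_le nN hNM hBM iN fun k => ?_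
    have := relIndex_le_of_section (R := B) hM (hCD.trans hDA) hAM le_rfl nC nA cA.le fun a ha h => hB ▸ ⟨ha, nA ha, nC ha, h⟩
    rw [← inf_eq_right.2 k, eB, ← relIndex_mul_relIndex A N M hAN hNM, iA, iN] at this
    nlinarith [hp.out.two_le]
  have wB : Wt g B A (l * (l * l)) := fun x hx => eB ▸ ⟨wM x (hBM hx), B.mul_mem (B.inv_mem (B.zpow_mem hx _))
    (conj_mem_of_mem_normalizer gB hx)⟩
  have cD : ⁅D, B⁆ ≤ ⊥ := by
    rw [← (CL.Grp.eq_or_eq_of_relIndex_prime le_sup_left (sup_le hCD ((commutator_mono le_rfl hNM).trans k2))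
      (iC ▸ hp.out)).resolve_left fun e => k4 (le_sup_right.trans e.le)]
    exact commutator_sup_le le_normalizer_bot (cb B hBM) (commutator_commutator_eq_bot_of_rotate (le_bot_iff.1
      ((commutator_mono ((commutator_mono le_rfl hBM).trans k3) le_rfl).trans bA)) (le_bot_iff.1
        ((commutator_mono ((commutator_comm_le _ _).trans hBC) le_rfl).trans (cb N hNM)))).le
  have aB : B ≤ 𝒞(B) := ab_of_idx hAB iB (commutator_eq_bot_iff_le_centralizer.1 (le_bot_iff.1 (commutator_le.2 fun x hx y hy => by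
    have h1 := hBC (commutator_mem_commutator hx hy)
    exact noW_cen hC gC l5 _ h1 (Wt.comm wA wB (top g) hAB cD bA hx hy (top x) (top y) (one _ h1 x (hAM hx)) (one _ h1 y (hBM hy))))))
  have nF := cc.trans (le_normalizer_frat hC)
  have p1 := (noW_cen hC gC l0).pow wD hCD aD (fun _ hx => pow_mem_frat hC hx) fun x hx =>
    iC ▸ pow_mem_of_relIndex hCD (hDM.trans nC) hx
  have p2 := ((noW_cen hC gC l2).step (hM.to_le hDM) wD (hDM.trans (cM.trans nF)) (nF gC) m1).pow wA hDA aA p1 fun x hx =>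
    iD ▸ pow_mem_of_relIndex hDA (hAM.trans nD) hx
  have p3 := ((no3 _ (hDM.trans (cM.trans nF)) (nF gC)).step (hM.to_le hAM) wA (hAM.trans (cM.trans nF)) (nF gC) m3).pow wB hAB aB
    p2 fun x hx => iB ▸ pow_mem_of_relIndex hAB (hBM.trans nA) hx
  have lF := (frat_le C).trans (hCD.trans (hDA.trans hAB))
  have := Nat.mul_le_mul_right (Nat.card (frat C)) (rk B _ lF hBM ((commutator_eq_bot_iff_le_centralizer.2 aB).le.trans bot_le) p3)
  rw [← CL.Grp.card_eq_relIndex_mul_card lF, card_of_relIndex hAB iB, cA, ← mul_assoc, ← pow_succ'] at this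
  exact (eq_of_sup_frat bot_le ((eq_of_le_of_card_ge (frat_le C) (Nat.le_of_mul_le_mul_left this (pow_pos hp.out.pos _))).ge.trans
    le_sup_right)).symm

theorem exists_wts (h5 : 5 ≤ p) : ∃ l m : ℕ, (p : ℤ) ∣ l * m - 1 ∧ ¬ (p : ℤ) ∣ l ∧ ¬ (p : ℤ) ∣ l * l - 1 ∧
    ¬ (p : ℤ) ∣ l * (l * l) - 1 ∧ ¬ (p : ℤ) ∣ l * l * (l * (l * l)) - 1 := by
  obtain rfl | h7 := eq_or_ne p 7
  · exact ⟨3, 5, by norm_num⟩
  obtain rfl | h31 := eq_or_ne p 31
  · exact ⟨3, 21, by norm_num⟩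
  obtain ⟨k, hk⟩ := hp.out.odd_of_ne_two (by omega)
  have h : ∀ q : ℕ, q.Prime → p ≠ q → ¬ (p : ℤ) ∣ q := fun q hq e k =>
    e ((Nat.prime_dvd_prime_iff_eq hp.out hq).1 (Int.natCast_dvd_natCast.1 k))
  exact ⟨2, k + 1, ⟨1, by rw [hk]; push_cast; ring⟩, h 2 (by norm_num) (by omega), h 3 (by norm_num) (by omega),
    h 7 (by norm_num) h7, h 31 (by norm_num) h31⟩

theorem idx_of_card (h : X ≤ Y) (hc : Nat.card Y = p * Nat.card X) : X.relIndex Y = p :=
  Nat.eq_of_mul_eq_mul_right Nat.card_pos ((CL.Grp.card_eq_relIndex_mul_card h).symm.trans hc)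

theorem nonnormal (h5 : 5 ≤ p) (s : Side p N E H) (r : ¬ Tr p H E ⊥) (hM : IsPGroup p M) (rk : Rank3 p M) (hNM : N ≤ M)
    (nN : M ≤ 𝒩(N)) (hE : ∀ x ∈ M, x ∈ 𝒩(E) → x ∈ N) (hne : ¬ M ≤ N) (x₁ : Ext N E) (x₂ : Ext M N)
    (sd : N.relIndex M = p → ∃ L, Side p M N L ∧ ∀ g ∈ 𝒩(N), ∀ a ∈ M, g * a * g⁻¹ ∈ L ⊔ 𝒞(N))
    (fn : ∀ A ≤ N, M ≤ 𝒩(A) → ∀ g, A.map (cjh g) ≠ E) : E ≤ omZ p E ∧ Nat.card E = p ^ 2 := by
  have hp2 : p ≠ 2 := by omega
  obtain ⟨t, ht, htN⟩ := SetLike.not_le_iff_exists.1 hne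
  have q : Quo ⊤ ⊥ (cjh t) := ⟨homOn_hom _ _, fun x _ => by simp⟩
  have s' := q.side s le_top le_top bot_le
  rw [img_hom, img_hom, img_hom, map_cjh (nN ht)] at s'
  have d : Pair p N E H (E.map (cjh t)) (H.map (cjh t)) := ⟨s, s', fun e => htN (hE t ht (mem_normalizer_iff_map_conj_eq.2 e.symm)),
    fun A B h1 h2 => rk A B h1 (h2.trans hNM), r, fun k => r (q.tr le_top le_top s.norm le_normalizer_bot (by rwa [img_hom, img_hom]))⟩
  have ab : E.map (cjh t) ≤ 𝒞(E.map (cjh t)) ↔ E ≤ 𝒞(E) := by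
    rw [GS.centralizer_map_conj, map_le_map_iff_of_injective (MulAut.conj t).injective]
  obtain ⟨t₁, -⟩ := ((d.cases hp2).resolve_left fun k => k.na (ab.2 fun x hx => (k.el hx).2.1)).resolve_left fun k =>
    k.na (ab.1 fun x hx => (k.el hx).2.1)
  obtain ⟨l, m, hd, l1, l2, l3, l5⟩ := exists_wts h5
  obtain ⟨g, gN, -, gC, wD, wE, -, wN⟩ := s.torus inf_le_left d.i₁ d.nD r t₁ x₁ l m hd
  have nc := d.not_comm_le t₁
  have nC : N ≤ 𝒩(coreIn H (E ⊓ E.map (cjh t))) := s.PH.trans le_normalizer_coreIn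
  have hCD : coreIn H (E ⊓ E.map (cjh t)) ≤ E ⊓ E.map (cjh t) := coreIn_le
  have lZ : N ⊓ 𝒞(N) ≤ E ⊓ E.map (cjh t) := fun x hx => ⟨s.cen r hx.1 (cen_mono s.le hx.2), s'.cen d.r₂ hx.1 (cen_mono s'.le hx.2)⟩
  have hDE : E ⊓ E.map (cjh t) ≤ E := inf_le_left
  have fD := d.fratP
  have iE := d.i₁
  obtain ⟨iC, fC, cE, -⟩ := t₁
  clear ab d s'
  generalize coreIn H (E ⊓ E.map (cjh t)) = C at *
  generalize E ⊓ E.map (cjh t) = D at *
  have hDN := hDE.trans s.le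
  have cD := (commutator_le_frat s.pg).trans fD
  have cN : N ≤ 𝒞(C) := fun a ha => mem_of_wt s.pg ha (cE (wN a ha)) (j := 1) (by
    simpa [mul_assoc] using mul_mem (inv_conj_mem_of_mem_normalizer (CL.Grp.le_normalizer_centralizer' nC ha) gC)
      (Subgroup.inv_mem _ gC)) l2
  have nD : normalizer (N : Set G) ≤ 𝒩(D) := by
    rw [← (CL.Grp.eq_or_eq_of_relIndex_prime ((le_inf (hCD.trans hDN) (le_centralizer_iff.1 cN)).trans le_sup_left) (sup_le lZ cD)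
      (iC ▸ hp.out)).resolve_left fun e => nc (le_sup_right.trans e.le)]
    exact CL.Grp.le_normalizer_sup' (CL.Grp.le_normalizer_inf' le_rfl (CL.Grp.le_normalizer_centralizer' le_rfl))
      (CL.Grp.le_normalizer_commutator' le_rfl le_rfl)
  have mD := nN.trans nD
  have c1 := card_of_relIndex hDE iE
  have c2 : Nat.card N = p ^ 2 * Nat.card D := by rw [s.card, c1]; ring
  have iN : N.relIndex M = p := le_antisymm (relIndex_le_of_section hM hDN hNM le_rfl mD nN c2.le fun a ha h =>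
    hE a ha (mem_normalizer_of_secC ⟨nN ha, mD ha, h⟩ s.le hDE)) (Nat.le_of_mul_le_mul_right
      ((mul_card_le_of_lt hM ⟨hNM, hne⟩).trans (CL.Grp.card_eq_relIndex_mul_card hNM).le) Nat.card_pos)
  obtain ⟨b, hb⟩ := IsPGroup.iff_card.1 (s.pg.to_le hDN)
  obtain ⟨A, hDA, hAN, mA, cA⟩ := exists_normalized_card_eq hM (b := b + 1) hDN hNM mD nN
    (hb ▸ Nat.pow_le_pow_right hp.out.pos (by omega)) (by rw [c2, hb, ← pow_add]; exact Nat.pow_le_pow_right hp.out.pos (by omega))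
  rw [pow_succ', ← hb] at cA
  have iD := idx_of_card hDA cA
  have iA := idx_of_card hAN (s.card.trans (by rw [c1, cA]))
  obtain ⟨e, he, heA⟩ : ∃ e ∈ E, e ∉ A := SetLike.not_le_iff_exists.1 fun k =>
    fn A hAN mA 1 ((GS.map_conj_one A).trans (eq_of_le_of_card_ge k (cA.trans c1.symm).le).symm)
  have heN := s.le he
  have ee := eq_sup_zpowers_of_relIndex hDE (iE ▸ hp.out) he fun k => heA (hDA k)
  have eA : E ⊓ A = D := (CL.Grp.eq_or_eq_of_relIndex_prime (le_inf hDE hDA) inf_le_left (iE ▸ hp.out)).resolve_right fun k =>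
    heA (k.ge he).2
  have k2 := comm_le_of_idx hM hDA (hAN.trans hNM) mD mA iD
  have k3 := comm_le_of_idx hM hAN hNM mA nN iA
  have em : ∀ u ∈ M, ∀ X, D ≤ X → u * e * u⁻¹ ∈ X → E.map (cjh u) ≤ X := fun u hu X h1 h2 => by
    rw [← ee, Subgroup.map_sup, map_cjh (mD hu), MonoidHom.map_zpowers]
    exact sup_le h1 (zpowers_le.2 h2)
  have hw := k3 (inv_mul_conj_mem_commutator heN ht)
  have hwD : e⁻¹ * (t * e * t⁻¹) ∉ D := fun k => htN (hE t ht (mem_normalizer_of_finite fun x hx =>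
    em t ht E hDE (by simpa using E.mul_mem he (hDE k)) ⟨x, hx, rfl⟩))
  have nA : normalizer (N : Set G) ≤ 𝒩(A) := fun k hk => by_contra fun c => by
    have h1 : D ≤ A.map (cjh k) := map_cjh (nD hk) ▸ map_mono hDA
    have h2 : A.map (cjh k) ≤ N := map_cjh hk ▸ map_mono hAN
    have h3 := (CL.Grp.eq_or_eq_of_relIndex_prime le_sup_right (sup_le h2 hAN) (iA ▸ hp.out)).resolve_left fun k' =>
      c (mem_normalizer_iff_map_conj_eq.2 (eq_of_le_of_card_ge (le_sup_left.trans k'.le) (GS.card_map_conj A k).ge))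
    obtain ⟨y, hy, a, ha, e1⟩ := (mem_sup_of_le_normalizer (h2.trans (hNM.trans mA))).1 (h3.ge heN)
    obtain ⟨c, hc, _, ⟨i, rfl⟩, e2⟩ := (mem_sup_of_le_normalizer' (zpowers_le.2 (mD (hNM (hAN hw))))).1
      ((eq_sup_zpowers_of_relIndex hDA (iD ▸ hp.out) hw hwD).ge (A.inv_mem ha))
    obtain ⟨f, q⟩ := quo D
    have n1 := mD ht
    have n2 := mD (hNM heN)
    have n3 := mD (hNM (hAN hw))
    have e3 := conj_zpow_eq_mul_zpow (a := f t) (x := f e) (u := f (e⁻¹ * (t * e * t⁻¹))) (by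
      rw [← q.hom.map_mul n2 n3, mul_inv_cancel_left, q.hom.map_conj n1 n2]) (by
      rw [← q.hom.map_conj n1 n3]
      exact ((q.eq_iff n3 (mul_mem (mul_mem n1 n3) (Subgroup.inv_mem _ n1))).2 (k2 (inv_mul_conj_mem_commutator hw ht))).symm) i
    rw [← q.hom.map_zpow n1, ← q.hom.map_conj (zpow_mem n1 i) n2, ← q.hom.map_zpow n3, ← one_mul (f (_ ^ i)),
      ← (q.ker c (le_normalizer hc)).2 hc, ← q.hom.map_mul (le_normalizer hc) (zpow_mem n3 i), e2, ← q.hom.map_mul n2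
      (mD (hNM (hAN (A.inv_mem ha)))), mul_inv_eq_of_eq_mul e1.symm] at e3
    have h4 := em _ (M.zpow_mem ht i) _ h1 ((q.mem_iff (h2.trans (hNM.trans mD)) h1 (mul_mem (mul_mem (zpow_mem n1 i) n2)
      (Subgroup.inv_mem _ (zpow_mem n1 i)))).1 (e3 ▸ mem_img_of_mem f hy))
    refine fn A hAN mA ((t ^ i)⁻¹ * k) ?_
    rw [← GS.map_conj_map_conj, ← eq_of_le_of_card_ge h4 (by rw [GS.card_map_conj, GS.card_map_conj, cA, c1]),
      GS.map_conj_map_conj, inv_mul_cancel, GS.map_conj_one]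
  obtain ⟨L, sL, hL⟩ := sd iN
  have lL : L ≤ M ⊔ 𝒞(N) := sL.le_sup le_rfl le_normalizer fun k hk c => (secC_bot N).le ((((sL.tr_of_card sL.norm (sL.norm.trans nA)
    hAN hNM (card_of_relIndex hAN iA).le).trans s.pg ((sL.tr_of_card (sL.norm.trans nA) (sL.norm.trans nD) hDA (hAN.trans hNM)
      cA.le).trans (s.pg.to_le hAN) (sL.tr_of_card (sL.norm.trans nD) (sL.norm.trans (le_normalizer_frat s.pg)) fD (hDN.trans hNM) (by
        have := Nat.mul_le_mul_right (Nat.card (frat N)) (rk N _ (frat_le N) hNM (commutator_le_frat s.pg) fun _ => pow_mem_frat s.pg)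
        rw [← CL.Grp.card_eq_relIndex_mul_card (frat_le N), c2, pow_succ p 2, mul_assoc] at this
        exact Nat.le_of_mul_le_mul_left this (pow_pos hp.out.pos 2))) hDA) hAN).of_frat' s.pg le_rfl) k hk c)
  obtain ⟨σ, σM, hσ⟩ := x₂ g gN fun a ha => sup_le lL le_sup_right (hL g gN a ha)
  have e2 : ∀ x ∈ N, σ * x * σ⁻¹ = g * x * g⁻¹ := fun x hx => by
    conv_lhs => rw [← conj_eq_of_mem_centralizer hσ hx]
    group
  have σN : σ ∈ 𝒩(N) := mem_normalizer_of_finite fun x hx => by rw [e2 x hx]; exact conj_mem_of_mem_normalizer gN hx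
  have wA : Wt σ A D (l * l) := fun a ha => eA ▸ ⟨e2 a (hAN ha) ▸ wN a (hAN ha), A.mul_mem (A.inv_mem (A.zpow_mem ha _))
    (conj_mem_of_mem_normalizer (nA σN) ha)⟩
  have wN' : Wt σ N A m := eq_sup_zpowers_of_relIndex hAN (iA ▸ hp.out) heN heA ▸
    wt_sup (mA (hNM heN)) (nA σN) (hDA (e2 e heN ▸ wE e he))
  have et := eq_sup_zpowers_of_relIndex hNM (iN ▸ hp.out) ht htN
  obtain ⟨_, ⟨μ, rfl⟩, n, hn, e3⟩ := (mem_sup_of_le_normalizer (zpowers_le.2 (nN ht))).1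
    ((sup_comm _ _).trans et |>.ge (conj_mem_of_mem_normalizer σM ht))
  have wM : Wt σ M N μ := et ▸ wt_sup (nN ht) σN (by rw [← e3]; simpa using hn)
  rw [inv_mul_conj_eq_commutator] at hw hwD
  have h1 := Wt.comm wN' wM (nD σN) hNM k2 cD (N.inv_mem heN) ht (mD (hNM (N.inv_mem heN))) (mD ht)
    (cD (commutator_mem_commutator (hAN hw) (N.inv_mem heN))) (k2 (commutator_mem_commutator hw ht))
  have h2 : (p : ℤ) ∣ m * μ - l * l := by_contra fun k => hwD (mem_of_wt s.pg (hAN hw) h1 (wA _ hw) k)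
  have := end_game hM rk l1 l2 l3 l5 hCD hDA hAN hNM iC iD iA iN mD mA nN cN nc σM (nA σN)
    (mem_centralizer_of_conj_eq fun x hx => (e2 x (hDN (hCD hx))).trans (conj_eq_of_mem_centralizer gC hx))
    (fun x hx => e2 x (hDN hx) ▸ wD x hx) wA (wM.congr ((show (l : ℤ) * (m * μ - l * l) - μ * (l * m - 1) = μ - l * (l * l) by ring) ▸
      dvd_sub (h2.mul_left _) (hd.mul_left _)) fun x hx => iN ▸ pow_mem_of_relIndex hNM nN hx)
  subst this
  obtain ⟨h3, h4⟩ := (frat_eq_bot_iff s.pgE).1 (le_bot_iff.1 fC)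
  exact ⟨fun x hx => ⟨hx, mem_cen fun y hy => h3 y hy x hx, h4 x hx⟩, by rw [c1, card_of_relIndex hCD iC, card_bot]; ring⟩

section Fusion
variable (h5 : 5 ≤ p) (hS : IsPGroup p S) (hF : (groupFusionSystem S).IsSaturated p) (rk : Rank3 p S)
  (hE : (groupFusionSystem S).IsEssential p E) (hn : ¬ S ≤ normalizer (E : Set G))
include h5 hS hF rk hE hn

theorem ess_nonnormal_aux (hN : (groupFusionSystem S).IsFullyNormalized (S ⊓ 𝒩(E))) : E ≤ omZ p E ∧ Nat.card E = p ^ 2 := by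
  obtain ⟨H, s, r, -⟩ := side_of_ess hS hF rk hE
  have lt : S ⊓ 𝒩(E) < S ⊓ 𝒩(S ⊓ 𝒩(E)) := lt_normalizerIn hS (inf_lt_left.2 hn)
  have hM := hS.to_le (inf_le_left : S ⊓ 𝒩(S ⊓ 𝒩(E)) ≤ S)
  refine nonnormal h5 s r hM (fun A B h1 h2 => rk A B h1 (h2.trans inf_le_left)) lt.le inf_le_right (fun x hx h => ⟨hx.1, h⟩) lt.not_ge
    (ext_of_cen hS hF (fullyCentralized_of_centric hE.1)) (ext_of_cen hS hF (fullyCentralized_of_fullyNormalized hS hF hN))
    (fun i => exists_side hM lt.le inf_le_right i (sylIn_aut hS hF hN)) fun A hA mA g e => lt.not_ge (eq_of_le_of_card_ge lt.le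
      ((card_le_of_le (le_inf inf_le_left mA)).trans (hE.2.1.2 A ?_))).ge
  have : E.map (cjh g⁻¹) = A := by rw [← e, GS.map_conj_map_conj, inv_mul_cancel, GS.map_conj_one]
  rw [← this, ← img_conj]
  exact Mor.isConj (mor_group_iff.2 ⟨hE.1.1, fun x hx => (hA (this.le ⟨x, hx, rfl⟩)).1, _, fun _ _ => rfl⟩)

theorem ess_nonnormal : E ≤ omZ p E ∧ Nat.card E = p ^ 2 := by
  obtain ⟨f, hf, h1⟩ := exists_mor_normalizerIn_fullyNormalized (Q := normalizerIn S E) hS hF inf_le_left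
  have h2 := hf.mono (R := normalizerIn S E) (le_normalizerIn inf_le_left)
  have h3 := h2.fullyNormalized_img hE.2.1
  have h4 := h2.img_normalizerIn hE.2.1
  have h6 := h2.card_img
  obtain ⟨-, -, g, hg⟩ := mor_group_iff.1 h2
  rw [h4] at h1 h6
  rw [img_congr fun x hx => hg x (le_normalizerIn hE.1.1 hx), img_conj] at h1 h3 h6
  obtain ⟨k1, k2⟩ := ess_nonnormal_aux h5 hS hF rk (ess_conj hE h3) (fun k => hn ((eq_of_le_of_card_ge
    (inf_le_left : normalizerIn S E ≤ S) ((card_le_of_le (le_inf le_rfl k)).trans h6.le)).ge.trans inf_le_right)) h1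
  refine ⟨fun x hx => ?_, (GS.card_map_conj E g).symm.trans k2⟩
  obtain ⟨-, k3, k4⟩ := k1 ⟨x, hx, rfl⟩
  rw [GS.centralizer_map_conj, mem_map_iff_mem (MulAut.conj g).injective] at k3
  exact ⟨hx, k3, (MulAut.conj g).injective (by rw [map_pow, map_one]; exact k4)⟩

end Fusion

end CL.Fus.Rk
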