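/-
A `p`-group of maximal class inside an ambient group, indexed by its upper central series, and the positions of a
self-centralizing abelian subgroup of order `p ^ 3` with normalizer of order `p ^ 4`.
-/
import Cfsg.Agent.Fus.McB
import Cfsg.Agent.Fus.Rk3F
import Cfsg.Agent.Fus.Weights

set_option autoImplicit false
set_option linter.unusedSectionVars false

namespace CL.Fus.Rk

open Cfsg Cfsg.FusionSystem Subgroup CL.Fgs McB
open scoped commutatorElement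

local notation "𝒩(" X ")" => Subgroup.normalizer ((X : Subgroup _) : Set _)
local notation "𝒞(" X ")" => Subgroup.centralizer ((X : Subgroup _) : Set _)
local notation "γ[" G ", " j "]" => Subgroup.lowerCentralSeries (⊤ : Subgroup G) j

variable {G : Type*} [Group G] {p r : ℕ} {S K L E Q X Y : Subgroup G} {Z : ℕ → Subgroup G} {e g x y : G}

/-- `S` has maximal class and order `p ^ (r + 2)`, `Z` is its upper central series -/
structure MC (p r : ℕ) (S K L : Subgroup G) (Z : ℕ → Subgroup G) : Prop where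
  pg : IsPGroup p S
  r3 : 3 ≤ r
  cardS : Nat.card S = p ^ (r + 2)
  card : ∀ j ≤ r, Nat.card (Z j) = p ^ j
  mono : ∀ {i j}, i ≤ j → Z i ≤ Z j
  le : ∀ j, Z j ≤ S
  top : Z (r + 1) = S
  cZ : ∀ {i j k}, i ≤ r + 1 → j ≤ r + 1 → i + j ≤ k + r + 2 → ∀ x ∈ Z i, ∀ y ∈ Z j, ⁅x, y⁆ ∈ Z k
  ZK : Z r ≤ K
  ZL : Z r ≤ L
  KS : K ≤ S
  LS : L ≤ S
  cK : Nat.card K = p ^ (r + 1)
  cL : Nat.card L = p ^ (r + 1)
  kIn : ∀ {j}, 1 ≤ j → j + 2 ≤ r → ∀ x ∈ K, ∀ y ∈ Z (j + 2), ⁅y, x⁆ ∈ Z j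
  kOut : ∀ {j}, 1 ≤ j → j + 2 ≤ r → ∀ x ∈ S, x ∉ K → ∀ y ∈ Z (j + 2), ⁅y, x⁆ ∈ Z j → y ∈ Z (j + 1)
  lIn : ∀ x ∈ L, ∀ y ∈ Z 2, ⁅y, x⁆ = 1
  lOut : ∀ x ∈ S, x ∉ L → ∀ y ∈ Z 2, ⁅y, x⁆ = 1 → y ∈ Z 1
  tp : ∀ s ∈ S, s ∉ Z r → ∀ x ∈ S, ⁅x, s⁆ ∈ Z (r - 1) → x ∈ Z r ⊔ zpowers s
  exc : K ≠ L → Even r ∧ ∃ y ∈ Z r, ∃ z ∈ Z 3, ⁅z, y⁆ ≠ 1
  cen : ∀ x ∈ S, x ∈ 𝒞(S) → x ∈ Z 1
  inf : ∀ H ≤ S, H ≠ S → Nat.card H ≤ p * Nat.card ↥(H ⊓ Z r)

variable [hp : Fact p.Prime] [Finite G]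

theorem exists_mc (hp2 : p ≠ 2) (h : MaxCl p (r + 2) S) (h3 : 3 ≤ r) : ∃ K L Z, MC p r S K L Z := by
  have m : ∀ (A : Subgroup S) (x : S), (x : G) ∈ A.map S.subtype ↔ x ∈ A := fun A x =>
    mem_map_iff_mem S.subtype_injective
  have c : ∀ A : Subgroup S, Nat.card (A.map S.subtype) = Nat.card A := fun A =>
    card_map_of_injective S.subtype_injective
  have ct : ∀ j, 1 ≤ j → j + 1 ≤ r → Nat.card (twoStep S j) = p ^ (r + 1) := fun j a b => by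
    have := (twoStep S j).index_mul_card
    rw [(index_twoStep h a (by omega)).1, h.card, pow_succ'] at this
    exact Nat.eq_of_mul_eq_mul_left hp.out.pos this
  have b0 : γ[S, r + 1] = ⊥ := h.lcs_eq_bot le_rfl
  have out : ∀ i, 1 ≤ i → ∀ x : S, x ∉ twoStep S i → ∀ y ∈ γ[S, i], ⁅y, x⁆ ∈ γ[S, i + 2] → y ∈ γ[S, i + 1] :=
    fun i a x hx y hy k => by_contra fun n => hx (h.mem_twoStep_of a hy n k)
  refine ⟨(twoStep S 1).map S.subtype, (twoStep S (r - 1)).map S.subtype, fun j => (γ[S, r + 1 - j]).map S.subtype,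
    h.isPGroup, h3, h.card, fun j hj => ?_, fun k => map_mono (lcs_anti (by omega)), fun j => map_subtype_le _, ?_, ?_,
    ?_, ?_, map_subtype_le _, map_subtype_le _, (c _).trans (ct 1 le_rfl (by omega)),
    (c _).trans (ct _ (by omega) (by omega)), ?_, ?_, ?_, ?_, ?_, fun k => ?_, fun x hx k => ?_, fun H hH k => ?_⟩
  · rw [c, h.card_lcs (by omega)]
    congr 1
    omega
  · rw [Nat.sub_self]
    exact (MonoidHom.range_eq_map _).symm.trans S.subtype_range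
  · rintro i j k a b d _ ⟨x, hx, rfl⟩ _ ⟨y, hy, rfl⟩
    exact ⟨_, cm hx hy (by omega), rfl⟩
  · rw [Nat.add_sub_cancel_left]
    exact map_mono (lcs_one_le_twoStep _)
  · rw [Nat.add_sub_cancel_left]
    exact map_mono (lcs_one_le_twoStep _)
  · rintro j a b _ ⟨x, hx, rfl⟩ _ ⟨y, hy, rfl⟩
    rw [← twoStep_eq h hp2 (r + 1 - (j + 2)) (by omega) (by omega)] at hx
    exact ⟨_, lcs_anti (by omega) (mem_twoStep.1 hx y hy), rfl⟩
  · rintro j a b x hx k _ ⟨y, hy, rfl⟩ d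
    lift x to S using hx
    rw [m, ← twoStep_eq h hp2 (r + 1 - (j + 2)) (by omega) (by omega)] at k
    exact ⟨_, lcs_anti (by omega) (out _ (by omega) x k y hy (lcs_anti (by omega) ((m _ ⁅y, x⁆).1 d))), rfl⟩
  · rintro _ ⟨x, hx, rfl⟩ _ ⟨y, hy, rfl⟩
    have := lcs_anti (i := r + 1) (by omega) (mem_twoStep.1 hx y (lcs_anti (by omega) hy))
    rw [b0, mem_bot] at this
    exact congrArg Subtype.val this
  · rintro x hx k _ ⟨y, hy, rfl⟩ d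
    lift x to S using hx
    rw [m] at k
    refine ⟨_, lcs_anti (by omega) (out _ (by omega) x k y (lcs_anti (by omega) hy) ?_), rfl⟩
    rw [show ⁅y, x⁆ = 1 from Subtype.ext d]
    exact one_mem _
  · intro s hs k x hx d
    lift s to S using hs
    lift x to S using hx
    rw [Nat.add_sub_cancel_left] at k ⊢
    rw [show r + 1 - (r - 1) = 2 by omega] at d
    by_contra n
    refine h.comm_notMem_lcs_two (fun a => k ((m _ s).2 a)) (fun a => n ?_) ((m _ ⁅x, s⁆).1 d)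
    have := (m _ x).2 a
    rwa [Subgroup.map_sup, MonoidHom.map_zpowers] at this
  · obtain ⟨o, y, hy, z, hz, d⟩ := McB.exc h hp2 (j := r - 1) (by omega) (by omega) fun a => k (by rw [a])
    refine ⟨?_, y, ⟨y, lcs_anti (by omega) hy, rfl⟩, z, ⟨z, lcs_anti (by omega) hz, rfl⟩, fun a => d (Subtype.ext a)⟩
    obtain ⟨t, ht⟩ := o
    exact ⟨t + 1, by omega⟩
  · lift x to S using hx
    rw [m, Nat.add_sub_cancel, show r = r + 2 - 2 from rfl, ← h.center_eq]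
    exact Subgroup.mem_center_iff.2 fun y => Subtype.ext (k y y.2)
  · have := h.card_le_mul_card_inf (H := H.subgroupOf S) fun a => k (le_antisymm hH (subgroupOf_eq_top.1 a))
    rwa [← c, ← c (_ ⊓ _), Subgroup.map_inf _ _ _ S.subtype_injective, map_subgroupOf_eq_of_le hH,
      ← Nat.add_sub_cancel_left (n := r) (m := 1)] at this

theorem mem_norm_of_comm (h : ∀ y ∈ X, ⁅x, y⁆ ∈ X) : x ∈ 𝒩(X) := mem_normalizer_of_finite fun y hy => by
  simpa [commutatorElement_def] using X.mul_mem (h y hy) hy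

theorem comm_mem_of_norm (hx : x ∈ 𝒩(X)) (hy : y ∈ X) : ⁅x, y⁆ ∈ X :=
  X.mul_mem (conj_mem_of_mem_normalizer hx hy) (X.inv_mem hy)

theorem conj_comm (g x y : G) : ⁅g * x * g⁻¹, y⁆ = g * ⁅x, g⁻¹ * y * g⁆ * g⁻¹ := by
  simp only [commutatorElement_def]; group

theorem pow_lt_pow {a b : ℕ} (h : p ^ a ≤ p ^ b) : a ≤ b := (Nat.pow_le_pow_iff_right hp.out.one_lt).1 h

namespace MC

variable (h : MC p r S K L Z)
include h

theorem z0 : Z 0 = ⊥ := card_eq_one.1 (by rw [h.card 0 (Nat.zero_le _), pow_zero])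

theorem cS {j : ℕ} (hj : j ≤ r) (hx : x ∈ Z (j + 1)) (hy : y ∈ S) : ⁅x, y⁆ ∈ Z j :=
  h.cZ (by omega) le_rfl (by omega) x hx y (h.top.ge hy)

theorem c1 {i j : ℕ} (hi : i ≤ r + 1) (hj : j ≤ r + 1) (k : i + j ≤ r + 2) (hx : x ∈ Z i) (hy : y ∈ Z j) : ⁅x, y⁆ = 1 :=
  mem_bot.1 (h.z0 ▸ h.cZ hi hj (by omega) x hx y hy)

theorem norm {j : ℕ} (hj : j ≤ r) : S ≤ 𝒩(Z j) := fun _ hx => mem_norm_of_comm fun _ hy =>
  sw (h.cS hj (h.mono (Nat.le_succ j) hy) hx)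

theorem idx {j : ℕ} (hj : j + 1 ≤ r) : (Z j).relIndex (Z (j + 1)) = p :=
  idx_of_card (h.mono (Nat.le_succ j)) (by rw [h.card _ hj, h.card _ (by omega), pow_succ'])

theorem ex {j : ℕ} (hj : j + 1 ≤ r) : ∃ y ∈ Z (j + 1), y ∉ Z j := exists_of_relIndex (h.idx hj)

theorem sup {j : ℕ} (hj : j + 1 ≤ r) (hy : y ∈ Z (j + 1)) (k : y ∉ Z j) : Z j ⊔ zpowers y = Z (j + 1) :=
  eq_sup_zpowers_of_relIndex (h.mono (Nat.le_succ j)) (h.idx hj ▸ hp.out) hy k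

theorem desc {j : ℕ} (h1 : 1 ≤ j) (hx : x ∈ S) (hK : x ∉ K) (k : ⁅y, x⁆ ∈ Z j) :
    ∀ i, i ≤ r → y ∈ Z i → y ∈ Z (j + 1) := by
  intro i
  induction i with
  | zero => exact fun _ a => h.mono (by omega) a
  | succ i ih =>
    intro a b
    by_cases c : i ≤ j
    · exact h.mono (by omega) b
    · obtain ⟨t, rfl⟩ : ∃ t, i = t + 1 := ⟨i - 1, by omega⟩
      exact ih (by omega) (h.kOut (by omega) a x hx hK y b (h.mono (by omega) k))

theorem supL (hx : x ∈ L) (k : x ∉ Z r) : Z r ⊔ zpowers x = L := eq_sup_zpowers_of_relIndex h.ZL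
  (by rw [idx_of_card h.ZL (by rw [h.cL, h.card r le_rfl, pow_succ'])]; exact hp.out) hx k

theorem notK (ne : K ≠ L) (hx : x ∈ L) (k : x ∉ Z r) : x ∉ K := fun a => ne (eq_of_le_of_card_ge
  (h.supL hx k ▸ sup_le h.ZK (zpowers_le.2 a)) (h.cK.trans h.cL.symm).le).symm

end MC

/-- a self-centralizing abelian subgroup of order `p ^ 3` with normalizer of order `p ^ 4` -/
structure Cb (p : ℕ) (S E : Subgroup G) : Prop where
  le : E ≤ S
  ab : E ≤ 𝒞(E)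
  card : Nat.card E = p ^ 3
  cen : ∀ x ∈ S, x ∈ 𝒞(E) → x ∈ E
  cN : Nat.card ↥(S ⊓ 𝒩(E)) = p ^ 4

/-- the position that survives -/
structure IV (K L E : Subgroup G) (Z : ℕ → Subgroup G) (e : G) : Prop where
  mem : e ∈ E
  nK : e ∉ K
  leL : E ≤ L
  eq : Z 2 ⊔ zpowers e = E

theorem cen_of_comm (h : ∀ y ∈ X, ⁅x, y⁆ = 1) : x ∈ 𝒞(X) := mem_cen fun y hy =>
  (commutatorElement_eq_one_iff_commute.1 (h y hy)).symm

theorem comm_of_cen' (hx : x ∈ 𝒞(X)) (hy : y ∈ X) : ⁅y, x⁆ = 1 := commutatorElement_eq_one_iff_commute.2 (comm_of_cen hx hy)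

namespace MC

variable (h : MC p r S K L Z) (c : Cb p S E)
include h c

theorem or : E ≤ K ∨ E ≤ L := by
  by_contra k
  rw [not_or, SetLike.not_le_iff_exists, SetLike.not_le_iff_exists] at k
  obtain ⟨⟨a, ha, aK⟩, b, hb, bL⟩ := k
  obtain ⟨s, hs, sK, sL⟩ : ∃ s ∈ E, s ∉ K ∧ s ∉ L := by
    by_cases h1 : a ∈ L
    · by_cases h2 : b ∈ K
      · exact ⟨a * b, mul_mem ha hb, fun k => aK ((mul_mem_cancel_right h2).1 k), fun k => bL ((mul_mem_cancel_left h1).1 k)⟩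
      · exact ⟨b, hb, h2, bL⟩
    · exact ⟨a, ha, aK, h1⟩
  have h1 : E ⊓ Z r ≤ Z 1 := fun y hy => by
    have e := comm_of_cen' (c.ab hs) hy.1
    exact h.lOut s (c.le hs) sL y (h.desc le_rfl (c.le hs) sK (e ▸ one_mem _) r le_rfl hy.2) e
  have h2 := (h.inf E c.le fun k => by
    have := Nat.pow_right_injective hp.out.two_le (c.card.symm.trans (k ▸ h.cardS))
    have := h.r3
    omega).trans (Nat.mul_le_mul_left p (card_le_of_le h1))
  rw [c.card, h.card 1 (by have := h.r3; omega), ← pow_succ'] at h2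
  have := pow_lt_pow h2
  omega

theorem z2 (hL : E ≤ L) : Z 2 ≤ E := fun y hy => c.cen y (h.le 2 hy) (cen_of_comm fun x hx => h.lIn x (hL hx) y hy)

theorem iv (hL : E ≤ L) (he : e ∈ E) (k : e ∉ K) : IV K L E Z e := ⟨he, k, hL, eq_sup_zpowers_of_relIndex (h.z2 c hL)
  (by rw [idx_of_card (h.z2 c hL) (by rw [c.card, h.card 2 (by have := h.r3; omega), pow_succ'])]; exact hp.out) he
  fun a => k (h.ZK (h.mono (by have := h.r3; omega) a))⟩

theorem not_both (h4 : 4 ≤ r) (hK : E ≤ K) (hL : E ≤ L) : False := by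
  have h1 : Z 4 = S ⊓ 𝒩(E) := eq_of_le_of_card_ge (fun y hy => ⟨h.le 4 hy, mem_norm_of_comm fun x hx =>
    h.z2 c hL (h.kIn (j := 2) (by omega) h4 x (hK hx) y hy)⟩) (by rw [c.cN, h.card 4 h4])
  have h2 : K ≤ S ⊓ 𝒩(E) := fun y hy => ⟨h.KS hy, mem_norm_of_comm fun x hx =>
    h.z2 c hL (sw (h.kIn (j := 2) (by omega) h4 y hy x (h1.ge ⟨c.le hx, le_normalizer hx⟩)))⟩
  have h3 := card_le_of_le h2
  rw [h.cK, c.cN] at h3
  have := pow_lt_pow h3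
  omega

theorem third (hK : E ≤ K) (he : e ∈ E) (k : e ∉ L) :
    E ⊔ Z 3 = S ⊓ 𝒩(E) ∧ (E ⊓ Z 3).relIndex E = p ∧ ∃ d ∈ E ⊓ Z 3, d ∉ Z 2 := by
  have r3 := h.r3
  have z1 : Z 1 ≤ E := fun y hy => c.cen y (h.le 1 hy) (cen_of_comm fun x hx =>
    mem_bot.1 (h.z0 ▸ h.cS (Nat.zero_le r) hy (c.le hx)))
  have n2 : ¬ Z 2 ≤ E := fun a => by
    obtain ⟨y, hy, y1⟩ := h.ex (j := 1) (by omega)
    exact y1 (h.lOut e (c.le he) k y hy (comm_of_cen' (c.ab he) (a hy)))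
  have h1 : Z 3 ≤ S ⊓ 𝒩(E) := fun y hy => ⟨h.le 3 hy, mem_norm_of_comm fun x hx =>
    z1 (h.kIn le_rfl r3 x (hK hx) y hy)⟩
  have hE : E ≤ S ⊓ 𝒩(E) := le_inf c.le le_normalizer
  have iE := idx_of_card hE (by rw [c.cN, c.card, pow_succ'])
  have iZ := idx_of_card h1 (by rw [c.cN, h.card 3 r3, pow_succ'])
  have i1 := relIndex_eq_of_not_le (inf_le_left.trans (h.norm r3)) h1 hE iZ fun a =>
    k (h.ZL (h.mono r3 (a he)))
  rw [← inf_relIndex_right, inf_comm] at i1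
  refine ⟨(CL.Grp.eq_or_eq_of_relIndex_prime le_sup_left (sup_le hE h1) (iE ▸ hp.out)).resolve_left fun a =>
    n2 ((h.mono (by omega)).trans (le_sup_right.trans a.le)), i1, ?_⟩
  refine SetLike.not_le_iff_exists.1 fun a => n2 ((eq_of_le_of_card_ge a ?_).ge.trans inf_le_left)
  have := card_of_relIndex inf_le_left i1
  rw [c.card, pow_succ'] at this
  rw [h.card 2 (by omega), Nat.eq_of_mul_eq_mul_left hp.out.pos this]

theorem third_norm (hK : E ≤ K) (he : e ∈ E) (k : e ∉ L) {j : ℕ} (hj : j ≤ 5) (hr : j ≤ r) :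
    Z j ≤ S ⊓ 𝒩(S ⊓ 𝒩(E)) := fun y hy => ⟨h.le j hy, by
  rw [← (h.third c hK he k).1]
  refine mem_normalizer_of_finite fun x hx => ?_
  refine (sup_le (fun x hx => ?_) (fun x hx => ?_) : E ⊔ Z 3 ≤ (E ⊔ Z 3).comap (cjh y)) hx
  · have : ⁅y, x⁆ ∈ Z 3 := by
      by_cases a : 5 ≤ r
      · exact h.kIn (by omega) a x (hK hx) y (h.mono hj hy)
      · exact h.cS h.r3 (h.mono (by omega) hy) (c.le hx)
    simpa [commutatorElement_def] using mul_mem (mem_sup_right this : _ ∈ E ⊔ Z 3) (mem_sup_left hx)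
  · exact mem_sup_right (conj_mem_of_mem_normalizer (h.norm h.r3 (h.le j hy)) hx)⟩

theorem third_false (h5 : 5 ≤ r) (hK : E ≤ K) (he : e ∈ E) (k : e ∉ L) : False := by
  obtain ⟨e1, i1, -⟩ := h.third c hK he k
  obtain ⟨⟨t, ht⟩, -⟩ := h.exc fun a => k (a ▸ hK he)
  have n5 := h.third_norm c hK he k le_rfl h5
  have hM : S ⊓ 𝒩(E) ⊔ Z 5 ≤ S := sup_le inf_le_left (h.le 5)
  have c1 := card_of_relIndex inf_le_left i1
  have a1 : S ⊓ 𝒩(E) ≤ 𝒩(E ⊓ Z 3) := CL.Grp.le_normalizer_inf' inf_le_right (inf_le_left.trans (h.norm h.r3))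
  have a2 : Z 5 ≤ 𝒩(E ⊓ Z 3) := fun y hy =>
    centralizer_le_normalizer _ (cen_of_comm fun x hx => h.c1 (i := 5) (j := 3) (by omega) (by omega) (by omega) hy hx.2)
  have a3 : Nat.card ↥(S ⊓ 𝒩(E)) ≤ p ^ 2 * Nat.card ↥(E ⊓ Z 3) := by
    rw [c.cN, show p ^ 4 = p * p ^ 3 by ring, ← c.card, c1, ← mul_assoc, sq]
  have a4 : ∀ a ∈ S ⊓ 𝒩(E) ⊔ Z 5, (∀ x ∈ S ⊓ 𝒩(E), x⁻¹ * (a * x * a⁻¹) ∈ E ⊓ Z 3) → a ∈ S ⊓ 𝒩(E) :=
    fun a ha b => ⟨hM ha, mem_normalizer_of_finite fun x hx => by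
      have := E.mul_mem hx (b x (e1.le (mem_sup_left hx))).1
      rwa [mul_inv_cancel_left] at this⟩
  have i2 := relIndex_le_of_section h.pg (inf_le_left.trans (le_sup_left.trans e1.le)) le_sup_left hM (sup_le a1 a2)
    (sup_le le_normalizer (n5.trans inf_le_right)) a3 a4
  have c2 := CL.Grp.card_eq_relIndex_mul_card (le_sup_left : S ⊓ 𝒩(E) ≤ S ⊓ 𝒩(E) ⊔ Z 5)
  have e2 := eq_of_le_of_card_ge (le_sup_right : Z 5 ≤ S ⊓ 𝒩(E) ⊔ Z 5) (by
    rw [c2, h.card 5 h5, c.cN, pow_succ' p 4]; exact Nat.mul_le_mul_right _ i2)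
  exact k (h.ZL (h.mono h5 (e2.ge (mem_sup_left (e1.le (mem_sup_left he))))))

theorem cases (h4 : 4 ≤ r) : (∃ e, IV K L E Z e) ∨ (r = 4 ∧ E ≤ K ∧ ∃ e ∈ E, e ∉ L) := by
  by_cases hK : E ≤ K
  · obtain ⟨e, he, k⟩ := SetLike.not_le_iff_exists.1 (h.not_both c h4 hK)
    exact .inr ⟨by_contra fun a => h.third_false c (by omega) hK he k, hK, e, he, k⟩
  · obtain ⟨e, he, k⟩ := SetLike.not_le_iff_exists.1 hK
    exact .inl ⟨e, h.iv c ((h.or c).resolve_left hK) he k⟩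

end MC

end CL.Fus.Rk
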