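/-
The tower of normalizers over a subgroup `Z 2 ⊔ ⟨e⟩` of a `p`-group of maximal class.
-/
import Cfsg.Agent.Fus.McS

set_option autoImplicit false
set_option linter.unusedSectionVars false

namespace CL.Fus.Rk

open Cfsg Cfsg.FusionSystem Subgroup CL.Fgs McB
open scoped commutatorElement

local notation "𝒩(" X ")" => Subgroup.normalizer ((X : Subgroup _) : Set _)
local notation "𝒞(" X ")" => Subgroup.centralizer ((X : Subgroup _) : Set _)

variable {G : Type*} [Group G] {p r j k : ℕ} {S K L E Q U B X Y : Subgroup G} {Z : ℕ → Subgroup G} {e g x y σ : G}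
variable [hp : Fact p.Prime] [Finite G]

theorem exists_wt' (hB : B ≤ U) (hi : B.relIndex U = p) (hn : U ≤ 𝒩(B)) (kB : g ∈ 𝒩(B)) (kU : g ∈ 𝒩(U)) :
    ∃ j, Wt g U B j := by
  obtain ⟨x, hx, hxB⟩ := exists_of_relIndex hi
  have e := eq_sup_zpowers_of_relIndex hB (by rw [hi]; exact hp.out) hx hxB
  obtain ⟨_, ⟨i, rfl⟩, b, hb, e'⟩ := (mem_sup_of_le_normalizer (zpowers_le.2 (hn hx))).1
    (((sup_comm _ B).trans e).ge (conj_mem_of_mem_normalizer kU hx))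
  exact ⟨i, e ▸ wt_sup (hn hx) kB (by rw [← e']; simpa using hb)⟩

/-- the data of the surviving position -/
structure TW (p r : ℕ) (S K L E : Subgroup G) (Z : ℕ → Subgroup G) (e : G) : Prop where
  h : MC p r S K L Z
  c : Cb p S E
  v : IV K L E Z e

namespace TW

variable (t : TW p r S K L E Z e)
include t

theorem eS : e ∈ S := t.c.le t.v.mem

theorem eL : e ∈ L := t.v.leL t.v.mem

theorem eZ : e ∉ Z r := fun a => t.v.nK (t.h.ZK a)

theorem ne : K ≠ L := fun a => t.v.nK (a ▸ t.eL)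

theorem ep : e ^ p ∈ Z 2 := by
  have r3 := t.h.r3
  have h1 := t.h.z2 t.c t.v.leL
  have := pow_mem_of_relIndex h1 (t.c.le.trans (t.h.norm (by omega))) t.v.mem
  rwa [idx_of_card h1 (by rw [t.c.card, t.h.card 2 (by omega), pow_succ'])] at this

theorem PL (hk : k ≤ r) : Z k ⊔ zpowers e ≤ L := sup_le ((t.h.mono hk).trans t.h.ZL) (zpowers_le.2 t.eL)

theorem PS (k : ℕ) : Z k ⊔ zpowers e ≤ S := sup_le (t.h.le k) (zpowers_le.2 t.eS)

theorem mono (hk : j ≤ k) : Z j ⊔ zpowers e ≤ Z k ⊔ zpowers e := sup_le_sup_right (t.h.mono hk) _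

theorem EP (h2 : 2 ≤ k) : E ≤ Z k ⊔ zpowers e := t.v.eq ▸ t.mono h2

theorem card' (h2 : 2 ≤ k) (hk : k ≤ r) : Nat.card ↥(Z k ⊔ zpowers e) = p * Nat.card (Z k) :=
  card_sup_zpowers_of_normalizer (t.h.norm hk t.eS) (fun a => t.eZ (t.h.mono hk a)) (t.h.mono h2 t.ep)

theorem card (h2 : 2 ≤ k) (hk : k ≤ r) : Nat.card ↥(Z k ⊔ zpowers e) = p ^ (k + 1) := by
  rw [t.card' h2 hk, t.h.card k hk, pow_succ']

theorem idx (h2 : 2 ≤ k) (hk : k + 1 ≤ r) : (Z k ⊔ zpowers e).relIndex (Z (k + 1) ⊔ zpowers e) = p :=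
  idx_of_card (t.mono (Nat.le_succ k)) (by rw [t.card (by omega) hk, t.card h2 (by omega), pow_succ' p (k + 1)])

theorem inK (h2 : 2 ≤ k) (hk : k ≤ r) (hx : x ∈ Z k ⊔ zpowers e) (a : x ∈ K) : x ∈ Z k :=
  ((CL.Grp.eq_or_eq_of_relIndex_prime (le_inf le_sup_left ((t.h.mono hk).trans t.h.ZK)) inf_le_left
    (idx_of_card le_sup_left (t.card' h2 hk) ▸ hp.out)).resolve_right fun b =>
      t.v.nK (b.ge (mem_sup_right (mem_zpowers e))).2).le ⟨hx, a⟩

theorem comm (h2 : 2 ≤ k) (hk : k ≤ r) (hx : x ∈ S) (n : x ∈ 𝒩(Z k ⊔ zpowers e)) (hy : y ∈ Z k ⊔ zpowers e) :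
    ⁅x, y⁆ ∈ Z k :=
  t.inK h2 hk (comm_mem_of_norm n hy) (t.h.ZK (t.h.cS le_rfl (t.h.top.ge hx) (t.PS k hy)))

theorem normP (h2 : 2 ≤ k) (hk : k + 1 ≤ r) : S ⊓ 𝒩(Z k ⊔ zpowers e) = Z (k + 1) ⊔ zpowers e := by
  have ne : zpowers e ≤ 𝒩(Z k ⊔ zpowers e) := le_sup_right.trans le_normalizer
  refine le_antisymm (fun x hx => ?_) (le_inf (t.PS _) (sup_le (fun x hx => mem_norm_of_comm fun y hy =>
    mem_sup_left (t.h.cS (by omega) hx (t.PS k hy))) ne))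
  have he : e ∈ Z k ⊔ zpowers e := mem_sup_right (mem_zpowers e)
  obtain ⟨y, hy, u, hu, rfl⟩ := (mem_sup_of_le_normalizer' (zpowers_le.2 (t.h.norm le_rfl t.eS))).1
    (t.h.tp e t.eS t.eZ x hx.1 (t.h.mono (by omega) (t.comm h2 (by omega) hx.1 hx.2 he)))
  exact mul_mem (mem_sup_left (t.h.desc (by omega) t.eS t.v.nK (t.comm h2 (by omega) (t.h.le r hy)
    ((mul_mem_cancel_right (ne hu)).1 hx.2) he) r le_rfl hy)) (mem_sup_right hu)

theorem le_of_card (hE : E ≤ Q) (hQ : Q ≤ S) (h2 : 2 ≤ k) (hk : k ≤ r) (hc : p ^ (k + 1) ≤ Nat.card Q) :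
    Z k ⊔ zpowers e ≤ Q := by
  induction k, h2 using Nat.le_induction with
  | base => exact t.v.eq.le.trans hE
  | succ k h2 ih =>
    have h1 := ih (by omega) ((Nat.pow_le_pow_right hp.out.pos (by omega)).trans hc)
    have h3 := lt_normalizerIn (t.h.pg.to_le hQ) (lt_of_le_of_ne h1 fun a => by
      rw [← a, t.card h2 (by omega)] at hc
      have := pow_lt_pow hc
      omega)
    have h4 : normalizerIn Q (Z k ⊔ zpowers e) ≤ Z (k + 1) ⊔ zpowers e := t.normP h2 hk ▸ inf_le_inf_right _ hQ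
    exact ((CL.Grp.eq_or_eq_of_relIndex_prime h3.le h4 (t.idx h2 hk ▸ hp.out)).resolve_left h3.ne').ge.trans inf_le_left

theorem up (h1 : 1 ≤ j) (hj : j + 2 ≤ k) (hk : k ≤ r) (hx : x ∈ Z k ⊔ zpowers e)
    (a : ∀ y ∈ Z k ⊔ zpowers e, ⁅x, y⁆ ∈ Z j) : x ∈ Z (j + 1) := by
  obtain ⟨y, hy, n⟩ := t.h.ex (j := j + 1) (by omega)
  have hK : x ∈ K := by_contra fun b => n (t.h.kOut h1 (by omega) x (t.PS k hx) b y hy
    (sw (a y (mem_sup_left (t.h.mono hj hy)))))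
  exact t.h.desc h1 t.eS t.v.nK (a e (mem_sup_right (mem_zpowers e))) k hk (t.inK (by omega) hk hx hK)

theorem charZ (hk : k ≤ r) (hg : g ∈ 𝒩(Z k ⊔ zpowers e)) (h2 : 2 ≤ j) (hj : j + 1 ≤ k) : g ∈ 𝒩(Z j) := by
  induction j, h2 using Nat.le_induction with
  | base =>
    refine mem_normalizer_of_finite fun x hx => t.up le_rfl hj hk (conj_mem_of_mem_normalizer hg
      (mem_sup_left (t.h.mono (by omega) hx))) fun y hy => ?_
    rw [conj_comm, t.h.lIn _ (t.PL hk (inv_conj_mem_of_mem_normalizer hg hy)) x hx, mul_one, mul_inv_cancel]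
    exact one_mem _
  | succ j h2 ih =>
    refine mem_normalizer_of_finite fun x hx => t.up (by omega) hj hk (conj_mem_of_mem_normalizer hg
      (mem_sup_left (t.h.mono (by omega) hx))) fun y hy => ?_
    rw [conj_comm]
    exact conj_mem_of_mem_normalizer (ih (by omega)) (t.h.cS (by omega) hx (t.PS k (inv_conj_mem_of_mem_normalizer hg hy)))

theorem charZ' (h4 : 4 ≤ k) (hk : k + 1 ≤ r) (hg : g ∈ 𝒩(Z k ⊔ zpowers e)) : g ∈ 𝒩(Z k) := by
  have h3 := t.charZ (by omega) hg (j := 3) (by omega) h4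
  obtain ⟨z, hz, n⟩ := t.h.ex (j := 2) (by omega)
  refine mem_normalizer_of_finite fun x hx => ?_
  have h1 := conj_mem_of_mem_normalizer hg (mem_sup_left hx)
  refine t.inK (by omega) (by omega) h1 (by_contra fun b => n (t.h.kOut le_rfl (by omega) _ (t.PS k h1) b z hz (sw ?_)))
  rw [conj_comm, t.h.c1 (by omega) (by omega) (by omega) hx (inv_conj_mem_of_mem_normalizer h3 hz), mul_one, mul_inv_cancel]
  exact one_mem _

/-- the normal closure of the normalizer in `S` acts unipotently -/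
theorem tr (h4 : 4 ≤ k) (hk : k + 1 ≤ r) :
    Tr p (ncl 𝒩(Z k ⊔ zpowers e) (Z (k + 1) ⊔ zpowers e)) (Z k ⊔ zpowers e) ⊥ := by
  have nZ : ∀ j, 2 ≤ j → j ≤ k → normalizer ((Z k ⊔ zpowers e : Subgroup G) : Set G) ≤ 𝒩(Z j) := fun j a b g hg => by
    obtain rfl | c := b.eq_or_lt
    · exact t.charZ' h4 hk hg
    · exact t.charZ (by omega) hg a c
  have nS : ∀ j ≤ k, Z (k + 1) ⊔ zpowers e ≤ 𝒩(Z j) := fun j a => (t.PS _).trans (t.h.norm (by omega))
  have nP := (t.normP (by omega) hk).ge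
  have h1 : ∀ j, 2 ≤ j → j ≤ k → Tr p (ncl 𝒩(Z k ⊔ zpowers e) (Z (k + 1) ⊔ zpowers e)) (Z j) ⊥ := fun j a => by
    induction j, a using Nat.le_induction with
    | base =>
      refine fun b => Tr.of_le (ncl_le ?_ (le_normalizer_secC (nZ 2 le_rfl b) le_normalizer_bot))
      rw [secC_bot]
      exact fun x hx => cen_of_comm fun y hy => mem_bot.1 (sw (mem_bot.2 (t.h.lIn x (t.PL hk hx) y hy)))
    | succ j a ih =>
      exact fun b => (Tr.of_le (ncl_le (le_secC (nS _ b) (nS _ (by omega)) (commutator_le.2 fun x hx y hy =>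
        t.h.cS (by omega) hx (t.PS _ hy))) (le_normalizer_secC (nZ _ (by omega) b) (nZ _ a (by omega))))).trans
        (t.h.pg.to_le (t.h.le _)) (ih (by omega)) (t.h.mono (Nat.le_succ j))
  exact (Tr.of_le (ncl_le (le_secC (nP.trans inf_le_right) (nS _ le_rfl) (commutator_le.2 fun x hx y hy =>
    sw (t.comm (by omega) (by omega) (nP hy).1 (nP hy).2 hx))) (le_normalizer_secC le_rfl (nZ _ (by omega) le_rfl)))).trans
    (t.h.pg.to_le (t.PS _)) (h1 k (by omega) le_rfl) le_sup_left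

variable (h4 : 4 ≤ r) (n : ∀ j, 2 ≤ j → j ≤ r → σ ∈ 𝒩(Z j ⊔ zpowers e)) (wE : Wt σ E (Z 2) (-1))
  (wN : Wt σ (Z 3 ⊔ zpowers e) (Z 2 ⊔ zpowers e) 1)
include h4 n wE wN

theorem wts (h2 : 2 ≤ j) (hj : j + 1 ≤ r) : Wt σ (Z (j + 1) ⊔ zpowers e) (Z j ⊔ zpowers e) ((-1) ^ j) := by
  induction j, h2 using Nat.le_induction with
  | base => exact wN
  | succ j h2 ih =>
    have nP := (t.normP (k := j + 1) (by omega) hj).ge.trans inf_le_right
    obtain ⟨b, w⟩ := exists_wt' (t.mono (Nat.le_succ _)) (t.idx (by omega) hj) nP (n _ (by omega) (by omega)) (n _ (by omega) hj)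
    obtain ⟨y, hy, ny⟩ := t.h.ex hj
    have nZ := t.h.norm (j := j) (by omega)
    have h1 := t.h.cS (by omega) hy t.eS
    have h3 := Wt.comm w wE (t.charZ le_rfl (n r (by omega) le_rfl) h2 (by omega)) (t.h.z2 t.c t.v.leL)
      (commutator_sup_le ((t.PS _).trans nZ) (commutator_le.2 fun x hx y hy => t.h.cS (by omega) hx (t.c.le hy))
        (commutator_le.2 fun x hx y hy => by rw [comm_of_cen' (t.c.ab hy) (zpowers_le.2 t.v.mem hx)]; exact one_mem _))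
      (commutator_le.2 fun x hx y hy => sw (by rw [t.h.lIn x (t.PL hj hx) y hy]; exact one_mem _))
      (mem_sup_left hy) t.v.mem (nZ (t.h.le _ hy)) (nZ t.eS) (t.h.cS (by omega) h1 (t.h.le _ hy)) (t.h.cS (by omega) h1 t.eS)
    have h5 : (p : ℤ) ∣ b * -1 - (-1) ^ j := by_contra fun a => ny (t.h.kOut (by omega) hj e t.eS t.v.nK y hy
      (t.inK h2 (by omega) (mem_of_wt t.h.pg (t.h.le _ h1) (mem_sup_left h3) (ih (by omega) _ (mem_sup_left h1)) a)
        (t.h.ZK (t.h.mono (by omega) h1))))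
    refine w.congr (p := p) ((dvd_neg.2 h5).trans (dvd_of_eq (by ring))) fun x hx => ?_
    have := pow_mem_of_relIndex (t.mono (Nat.le_succ _)) nP hx
    rwa [t.idx (by omega) hj] at this

theorem fix (hp2 : p ≠ 2) (hx : x ∈ Z 2) (hσ : σ * x * σ⁻¹ = x) : x = 1 := by
  obtain ⟨⟨s, hs⟩, y, hy, z, hz, nz⟩ := t.h.exc t.ne
  obtain ⟨q, rfl⟩ : ∃ q, r = q + 1 := ⟨r - 1, by omega⟩
  have w := t.wts h4 n wE wN (j := q) (by omega) le_rfl
  rw [show q = 2 * (s - 1) + 1 by omega, pow_succ, pow_mul, neg_one_sq, one_pow, one_mul,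
    show 2 * (s - 1) + 1 = q by omega] at w
  have n3 := t.charZ le_rfl (n _ (by omega) le_rfl) (j := 3) (by omega) h4
  have wz : Wt σ (Z 3) (Z 2) 1 := fun x hx => t.inK le_rfl (by omega) (wN x (mem_sup_left hx)) (t.h.ZK (t.h.mono t.h.r3
    (mul_mem (Subgroup.inv_mem _ (zpow_mem hx 1)) (conj_mem_of_mem_normalizer n3 hx))))
  have cL : ∀ a ∈ Z 2, ∀ b ∈ L, ⁅a, b⁆ = 1 := fun a ha b hb => t.h.lIn b hb a ha
  have cb : ∀ (X Y : Subgroup G), X ≤ L → ⁅Z 2, X⁆ ≤ Y := fun X Y a => commutator_le.2 fun x hx y hy => by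
    rw [cL x hx y (a hy)]; exact one_mem _
  have z3 : Z 3 ≤ L := (t.h.mono t.h.r3).trans t.h.ZL
  have z2 : z ∉ Z 2 := fun a => nz (cL z a y (t.h.ZL hy))
  have hw := t.h.cS (j := 2) (by omega) hz t.eS
  have top : ∀ x : G, x ∈ 𝒩((⊥ : Subgroup G)) := fun x => le_normalizer_bot (mem_top x)
  have iw := mem_bot.1 (Wt.comm wz wE (top σ) (t.h.z2 t.c t.v.leL) (cb _ _ t.v.leL) ((commutator_comm_le _ _).trans (cb _ _ z3))
    hz t.v.mem (top z) (top e) (mem_bot.2 (cL _ hw z (z3 hz))) (mem_bot.2 (cL _ hw e t.eL)))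
  rw [one_mul, zpow_neg, zpow_one, inv_inv, mul_eq_one_iff_inv_eq] at iw
  have w1 : ⁅z, e⁆ ∉ Z 1 := fun a => z2 (t.h.kOut le_rfl t.h.r3 e t.eS t.v.nK z hz a)
  have hu := t.h.cZ (k := 1) (by omega) (by omega) (by omega) z hz y hy
  have hu2 := t.h.mono (show 1 ≤ 2 by omega) hu
  have lW : zpowers ⁅z, e⁆ ≤ Z 2 := zpowers_le.2 hw
  have nL : L ≤ 𝒩(zpowers ⁅z, e⁆) := fun b hb => centralizer_le_normalizer _ (cen_of_comm fun a ha =>
    mem_bot.1 (sw (mem_bot.2 (cL a (lW ha) b hb))))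
  have σW : σ ∈ 𝒩(zpowers ⁅z, e⁆) := mem_normalizer_of_finite fun _ ⟨i, hi⟩ => by
    rw [← hi, ← conj_zpow, ← iw]; exact zpow_mem (Subgroup.inv_mem _ (mem_zpowers _)) i
  have ez := t.h.sup (j := 2) t.h.r3 hz z2
  have iu := Wt.comm wz w σW (t.mono (Nat.le_succ q)) (cb _ _ (t.PL le_rfl)) (by
      rw [← ez]
      refine commutator_sup_le (ez.le.trans (z3.trans nL)) (cb _ _ (t.PL (by omega))) ((commutator_comm_le _ _).trans
        (commutator_sup_le ((t.PL (by omega)).trans nL) (commutator_le.2 fun a ha b hb => ?_)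
          (commutator_zz (nL t.eL) (nL (z3 hz)) (sw (mem_zpowers _)))))
      rw [t.h.c1 (by omega) (by omega) (by omega) ha (zpowers_le.2 hz hb)]
      exact one_mem _)
    hz (mem_sup_left hy) (nL (z3 hz)) (nL (t.h.ZL hy)) (by rw [cL _ hu2 z (z3 hz)]; exact one_mem _)
    (by rw [cL _ hu2 y (t.h.ZL hy)]; exact one_mem _)
  have e1 : zpowers ⁅z, y⁆ = Z 1 := by
    have := t.h.sup (j := 0) (by omega) hu (by rw [t.h.z0]; exact nz)
    rwa [t.h.z0, bot_sup_eq] at this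
  have e2 : zpowers ⁅z, e⁆ ⊔ zpowers ⁅z, y⁆ = Z 2 := by rw [e1, sup_comm]; exact t.h.sup (by omega) hw w1
  have w2 := wt_sup (nL ((t.h.mono (by omega)).trans t.h.ZL hu)) σW iu
  have d2 : ¬ (p : ℤ) ∣ 1 - 1 * -1 := not_dvd_two hp2
  have fx : ∀ Y : Subgroup G, (x ^ (1 : ℤ))⁻¹ * (σ * x * σ⁻¹) ∈ Y := fun Y => by
    rw [hσ, zpow_one, inv_mul_cancel]; exact one_mem _
  obtain ⟨i, hi⟩ := mem_of_wt t.h.pg (t.h.le 2 hx) (fx _) (w2 x (e2.ge hx)) d2
  refine mem_bot.1 (mem_of_wt t.h.pg (t.h.le 2 hx) (fx ⊥) (j := 1 * -1) (mem_bot.2 ?_) d2)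
  rw [← hi, ← conj_zpow, ← iw]
  generalize ⁅z, e⁆ = a
  group

end TW

end CL.Fus.Rk
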