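/-
Elementary abelian essential subgroups of order `p ^ 3` that are not normal, for `p ≥ 5`.
-/
import Cfsg.Agent.Fus.McP

set_option autoImplicit false
set_option linter.unusedSectionVars false

namespace CL.Fus.Rk

open Cfsg Cfsg.FusionSystem Subgroup
open scoped commutatorElement

local notation "𝒩(" X ")" => Subgroup.normalizer ((X : Subgroup _) : Set _)
local notation "𝒞(" X ")" => Subgroup.centralizer ((X : Subgroup _) : Set _)

variable {G : Type*} [Group G] {p : ℕ} {P E H A B C D K L M N Q S X Y : Subgroup G} {a b g h x y : G} {i j l : ℤ}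
variable [hp : Fact p.Prime] [Finite G]

theorem rank3_of_card (hc : Nat.card N = p ^ 4) (na : ¬ N ≤ 𝒞(N)) : Rank3 p N := fun A B h1 h2 h3 _ => by
  by_contra! k
  have h4 := CL.Grp.card_eq_relIndex_mul_card h1
  have h5 := card_le_of_le h2
  obtain ⟨j, hj, e⟩ := (Nat.dvd_prime_pow hp.out).1 (((Dvd.intro _ h4.symm).trans (card_dvd_of_le h2)).trans hc.dvd)
  obtain rfl : j = 4 := by have := (Nat.pow_lt_pow_iff_right hp.out.one_lt).1 (e ▸ k); omega
  rw [h4, e, hc] at h5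
  obtain rfl := eq_bot_of_card_le B (Nat.le_of_mul_le_mul_left (h5.trans (mul_one _).ge) (pow_pos hp.out.pos 4))
  obtain rfl := eq_of_le_of_card_ge h2 (by rw [h4, e, hc, card_bot, mul_one])
  exact na (commutator_eq_bot_iff_le_centralizer.1 (le_bot_iff.1 h3))

theorem gl (h5 : 5 ≤ p) (s : Side p N E H) (r : ¬ Tr p H E ⊥) (hM : IsPGroup p M) (ab : E ≤ 𝒞(E)) (el : ∀ x ∈ E, x ^ p = 1)
    (cE : Nat.card E = p ^ 3) (hNM : N ≤ M) (nN : M ≤ 𝒩(N)) (hE : ∀ x ∈ M, x ∈ 𝒩(E) → x ∈ N) (hne : ¬ M ≤ N) (x₁ : Ext N E)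
    (x₂ : Ext M N) (sd : N.relIndex M = p → ∃ L, Side p M N L ∧ ∀ g ∈ 𝒩(N), ∀ a ∈ M, g * a * g⁻¹ ∈ L ⊔ 𝒞(N))
    (fn : ∀ A ≤ N, M ≤ 𝒩(A) → ∀ g, A.map (cjh g) ≠ E) :
    ∃ D ≤ E, Nat.card D = p ^ 2 ∧ N.relIndex M = p ∧ D ≤ 𝒞(M) ∧ N ⊓ 𝒞(N) ≤ D ∧
      ∃ σ ∈ 𝒩(M), σ ∈ 𝒩(N) ∧ σ ∈ 𝒩(E) ∧ Wt σ E D (-1) ∧ Wt σ N E 1 ∧ ∃ c ∈ D, c ≠ 1 ∧ σ * c * σ⁻¹ = c := by
  have hp2 : p ≠ 2 := by omega
  obtain ⟨a₀, ha₀, haE⟩ := s.exists_notMem
  have rk : Rank3 p N := rank3_of_card (by rw [s.card, cE, ← pow_succ']) fun k => haE (s.cen r ha₀ (cen_mono s.le (k ha₀)))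
  obtain ⟨t, ht, htN⟩ := SetLike.not_le_iff_exists.1 hne
  have q : Quo ⊤ ⊥ (cjh t) := ⟨homOn_hom _ _, fun x _ => by simp⟩
  have s' := q.side s le_top le_top bot_le
  rw [img_hom, img_hom, img_hom, map_cjh (nN ht)] at s'
  have d : Pair p N E H (E.map (cjh t)) (H.map (cjh t)) := ⟨s, s', fun e => htN (hE t ht (mem_normalizer_iff_map_conj_eq.2 e.symm)),
    rk, r, fun k => r (q.tr le_top le_top s.norm le_normalizer_bot (by rwa [img_hom, img_hom]))⟩
  have ab' : E.map (cjh t) ≤ 𝒞(E.map (cjh t)) := by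
    rw [GS.centralizer_map_conj]; exact map_mono ab
  obtain ⟨t₁, -⟩ := ((d.cases hp2).resolve_left fun k => k.na ab').resolve_left fun k => k.na ab
  have tor := s.torus inf_le_left d.i₁ d.nD r t₁ x₁
  have nc := d.not_comm_le t₁
  have hCD : coreIn H (E ⊓ E.map (cjh t)) ≤ E ⊓ E.map (cjh t) := coreIn_le
  have lZ : N ⊓ 𝒞(N) ≤ E ⊓ E.map (cjh t) := fun x hx => ⟨s.cen r hx.1 (cen_mono s.le hx.2), s'.cen d.r₂ hx.1 (cen_mono s'.le hx.2)⟩
  have zD : E ⊓ E.map (cjh t) ≤ 𝒞(N) := fun x hx => d.sup ▸ mem_cen_sup (ab hx.1) (ab' hx.2)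
  have hDE : E ⊓ E.map (cjh t) ≤ E := inf_le_left
  have fD := d.fratP
  have iE := d.i₁
  obtain ⟨iC, -⟩ := t₁
  clear ab' d s'
  generalize coreIn H (E ⊓ E.map (cjh t)) = C at *
  generalize E ⊓ E.map (cjh t) = D at *
  have hDN := hDE.trans s.le
  have cD := (commutator_le_frat s.pg).trans fD
  have nD : normalizer (N : Set G) ≤ 𝒩(D) := by
    rw [← le_antisymm lZ (le_inf hDN zD)]
    exact CL.Grp.le_normalizer_inf' le_rfl (CL.Grp.le_normalizer_centralizer' le_rfl)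
  have mD := nN.trans nD
  have c1 := card_of_relIndex hDE iE
  have c0 : Nat.card D = p ^ 2 := Nat.eq_of_mul_eq_mul_left hp.out.pos (by rw [← c1, cE, pow_succ'])
  have c2 : Nat.card N = p ^ 2 * Nat.card D := by rw [s.card, c1]; ring
  have iN : N.relIndex M = p := le_antisymm (relIndex_le_of_section hM hDN hNM le_rfl mD nN c2.le fun a ha h =>
    hE a ha (mem_normalizer_of_secC ⟨nN ha, mD ha, h⟩ s.le hDE)) (Nat.le_of_mul_le_mul_right
      ((mul_card_le_of_lt hM ⟨hNM, hne⟩).trans (CL.Grp.card_eq_relIndex_mul_card hNM).le) Nat.card_pos)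
  obtain ⟨A, hDA, hAN, mA, cA⟩ := exists_normalized_card_eq hM (b := 2 + 1) hDN hNM mD nN
    (c0 ▸ Nat.pow_le_pow_right hp.out.pos (by omega)) (by rw [c2, c0, ← pow_add]; exact Nat.pow_le_pow_right hp.out.pos (by omega))
  rw [pow_succ', ← c0] at cA
  have iD := idx_of_card hDA cA
  have iA := idx_of_card hAN (s.card.trans (by rw [c1, cA]))
  obtain ⟨e, he, heA⟩ : ∃ e ∈ E, e ∉ A := SetLike.not_le_iff_exists.1 fun k =>
    fn A hAN mA 1 ((GS.map_conj_one A).trans (eq_of_le_of_card_ge k (cA.trans c1.symm).le).symm)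
  have heN := s.le he
  have ee := eq_sup_zpowers_of_relIndex hDE (iE ▸ hp.out) he fun k => heA (hDA k)
  have eA : E ⊓ A = D := (CL.Grp.eq_or_eq_of_relIndex_prime (le_inf hDE hDA) inf_le_left (iE ▸ hp.out)).resolve_right fun k =>
    heA (k.ge he).2
  have k2 := comm_le_of_idx hM hDA (hAN.trans hNM) mD mA iD
  have k3 := comm_le_of_idx hM hAN hNM mA nN iA
  have em : ∀ u ∈ M, ∀ X, D ≤ X → u * e * u⁻¹ ∈ X → E.map (cjh u) ≤ X := fun u hu X h1 h2 => by
    rw [← ee, Subgroup.map_sup, map_cjh (mD hu), MonoidHom.map_zpowers]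
    exact sup_le h1 (zpowers_le.2 h2)
  have hw := k3 (inv_mul_conj_mem_commutator heN ht)
  have hwD : e⁻¹ * (t * e * t⁻¹) ∉ D := fun k => htN (hE t ht (mem_normalizer_of_finite fun x hx =>
    em t ht E hDE (by simpa using E.mul_mem he (hDE k)) ⟨x, hx, rfl⟩))
  have nA : normalizer (N : Set G) ≤ 𝒩(A) := fun k hk => by_contra fun c => by
    have h1 : D ≤ A.map (cjh k) := map_cjh (nD hk) ▸ map_mono hDA
    have h2 : A.map (cjh k) ≤ N := map_cjh hk ▸ map_mono hAN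
    have h3 := (CL.Grp.eq_or_eq_of_relIndex_prime le_sup_right (sup_le h2 hAN) (iA ▸ hp.out)).resolve_left fun k' =>
      c (mem_normalizer_iff_map_conj_eq.2 (eq_of_le_of_card_ge (le_sup_left.trans k'.le) (GS.card_map_conj A k).ge))
    obtain ⟨y, hy, a, ha, e1⟩ := (mem_sup_of_le_normalizer (h2.trans (hNM.trans mA))).1 (h3.ge heN)
    obtain ⟨c, hc, _, ⟨i, rfl⟩, e2⟩ := (mem_sup_of_le_normalizer' (zpowers_le.2 (mD (hNM (hAN hw))))).1
      ((eq_sup_zpowers_of_relIndex hDA (iD ▸ hp.out) hw hwD).ge (A.inv_mem ha))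
    obtain ⟨f, q⟩ := quo D
    have n1 := mD ht
    have n2 := mD (hNM heN)
    have n3 := mD (hNM (hAN hw))
    have e3 := conj_zpow_eq_mul_zpow (a := f t) (x := f e) (u := f (e⁻¹ * (t * e * t⁻¹))) (by
      rw [← q.hom.map_mul n2 n3, mul_inv_cancel_left, q.hom.map_conj n1 n2]) (by
      rw [← q.hom.map_conj n1 n3]
      exact ((q.eq_iff n3 (mul_mem (mul_mem n1 n3) (Subgroup.inv_mem _ n1))).2 (k2 (inv_mul_conj_mem_commutator hw ht))).symm) i
    rw [← q.hom.map_zpow n1, ← q.hom.map_conj (zpow_mem n1 i) n2, ← q.hom.map_zpow n3, ← one_mul (f (_ ^ i)),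
      ← (q.ker c (le_normalizer hc)).2 hc, ← q.hom.map_mul (le_normalizer hc) (zpow_mem n3 i), e2, ← q.hom.map_mul n2
      (mD (hNM (hAN (A.inv_mem ha)))), mul_inv_eq_of_eq_mul e1.symm] at e3
    have h4 := em _ (M.zpow_mem ht i) _ h1 ((q.mem_iff (h2.trans (hNM.trans mD)) h1 (mul_mem (mul_mem (zpow_mem n1 i) n2)
      (Subgroup.inv_mem _ (zpow_mem n1 i)))).1 (e3 ▸ mem_img_of_mem f hy))
    refine fn A hAN mA ((t ^ i)⁻¹ * k) ?_
    rw [← GS.map_conj_map_conj, ← eq_of_le_of_card_ge h4 (by rw [GS.card_map_conj, GS.card_map_conj, cA, c1]),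
      GS.map_conj_map_conj, inv_mul_cancel, GS.map_conj_one]
  obtain ⟨L, sL, hL⟩ := sd iN
  have lL : L ≤ M ⊔ 𝒞(N) := sL.le_sup le_rfl le_normalizer fun k hk c => (secC_bot N).le ((((sL.tr_of_card sL.norm (sL.norm.trans nA)
    hAN hNM (card_of_relIndex hAN iA).le).trans s.pg ((sL.tr_of_card (sL.norm.trans nA) (sL.norm.trans nD) hDA (hAN.trans hNM)
      cA.le).trans (s.pg.to_le hAN) (sL.tr_of_card (sL.norm.trans nD) (sL.norm.trans (le_normalizer_frat s.pg)) fD (hDN.trans hNM) (by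
        have := Nat.mul_le_mul_right (Nat.card (frat N)) (rk N _ (frat_le N) le_rfl (commutator_le_frat s.pg) fun _ => pow_mem_frat s.pg)
        rw [← CL.Grp.card_eq_relIndex_mul_card (frat_le N), c2, pow_succ p 2, mul_assoc] at this
        exact Nat.le_of_mul_le_mul_left this (pow_pos hp.out.pos 2))) hDA) hAN).of_frat' s.pg le_rfl) k hk c)
  have tor' : ∀ l m : ℕ, (p : ℤ) ∣ l * m - 1 → ∃ σ ∈ 𝒩(M), σ ∈ 𝒩(N) ∧ σ ∈ 𝒩(E) ∧ σ ∈ 𝒞(C) ∧ Wt σ D C l ∧ Wt σ E D m ∧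
      Wt σ N E (l * l) := fun l m hd => by
    obtain ⟨g, gN, gE, gC, wD, wE, -, wN⟩ := tor l m hd
    obtain ⟨σ, σM, hσ⟩ := x₂ g gN fun a ha => sup_le lL le_sup_right (hL g gN a ha)
    have e2 : ∀ x ∈ N, σ * x * σ⁻¹ = g * x * g⁻¹ := fun x hx => by
      conv_lhs => rw [← conj_eq_of_mem_centralizer hσ hx]
      group
    exact ⟨σ, σM, mem_normalizer_of_finite fun x hx => by rw [e2 x hx]; exact conj_mem_of_mem_normalizer gN hx,
      mem_normalizer_of_finite fun x hx => by rw [e2 x (s.le hx)]; exact conj_mem_of_mem_normalizer gE hx,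
      mem_centralizer_of_conj_eq fun x hx => (e2 x (hDN (hCD hx))).trans (conj_eq_of_mem_centralizer gC hx),
      fun x hx => e2 x (hDN hx) ▸ wD x hx, fun x hx => e2 x (s.le hx) ▸ wE x hx, fun x hx => e2 x hx ▸ wN x hx⟩
  refine ⟨D, hDE, c0, iN, ?_, lZ, ?_⟩
  swap
  · obtain ⟨σ, σM, σN, σE, σC, -, wE, wN⟩ := tor' (p - 1) (p - 1) dvd_pred_mul_pred_sub_one
    obtain ⟨c, hc, c1⟩ := C.bot_or_exists_ne_one.resolve_left fun k => by
      have := card_of_relIndex hCD iC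
      rw [c0, k, card_bot, mul_one, sq] at this
      exact hp.out.ne_one (Nat.eq_of_mul_eq_mul_left hp.out.pos (this.trans (mul_one p).symm))
    exact ⟨σ, σM, σN, σE, wE.congr (p := p) (by rw [Nat.cast_sub hp.out.one_le]; simp) fun x hx => el x hx ▸ one_mem _,
      wN.congr dvd_pred_mul_pred_sub_one fun x hx => s.pow_mem hx, c, hCD hc, c1, conj_eq_of_mem_centralizer σC hc⟩
  obtain ⟨l, m, hd, l1, l2, l3, -⟩ := exists_wts h5
  obtain ⟨σ, σM, σN, -, σC, wD, wE, wN⟩ := tor' l m hd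
  have wA : Wt σ A D (l * l) := fun a ha => eA ▸ ⟨wN a (hAN ha), A.mul_mem (A.inv_mem (A.zpow_mem ha _))
    (conj_mem_of_mem_normalizer (nA σN) ha)⟩
  have wN' : Wt σ N A m := eq_sup_zpowers_of_relIndex hAN (iA ▸ hp.out) heN heA ▸
    wt_sup (mA (hNM heN)) (nA σN) (hDA (wE e he))
  obtain ⟨μ, wM⟩ := exists_wt' hNM iN nN σN σM
  rw [inv_mul_conj_eq_commutator] at hw hwD
  have h1 := Wt.comm wN' wM (nD σN) hNM k2 cD (N.inv_mem heN) ht (mD (hNM (N.inv_mem heN))) (mD ht)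
    (cD (commutator_mem_commutator (hAN hw) (N.inv_mem heN))) (k2 (commutator_mem_commutator hw ht))
  have h2 : (p : ℤ) ∣ m * μ - l * l := by_contra fun k => hwD (mem_of_wt s.pg (hAN hw) h1 (wA _ hw) k)
  replace wM := wM.congr ((show (l : ℤ) * (m * μ - l * l) - μ * (l * m - 1) = μ - l * (l * l) by ring) ▸
      dvd_sub (h2.mul_left _) (hd.mul_left _)) fun x hx => iN ▸ pow_mem_of_relIndex hNM nN hx
  have hu := commutator_mem_commutator ha₀ heN
  have lW : zpowers ⁅a₀, e⁆ ≤ D := zpowers_le.2 (cD hu)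
  have nW : N ≤ 𝒩(zpowers ⁅a₀, e⁆) := (le_centralizer_iff.1 (lW.trans zD)).trans (centralizer_le_normalizer _)
  have eW : zpowers ⁅a₀, e⁆ = ⁅N, N⁆ := le_antisymm (zpowers_le.2 hu) (by
    have eN := s.sup ha₀ haE
    conv_lhs => rw [← eN]
    refine commutator_sup_zp (eN.le.trans nW) ((commutator_eq_bot_iff_le_centralizer.2 ab).le.trans bot_le)
      ((commutator_comm_le _ _).trans ?_)
    rw [← ee]
    exact commutator_sup_le (ee.le.trans (s.le.trans nW)) ((commutator_eq_bot_iff_le_centralizer.2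
      (zD.trans (cen_mono (zpowers_le.2 ha₀)))).le.trans bot_le) (commutator_zz (nW heN) (nW ha₀) (McB.sw (mem_zpowers _))))
  have cW : Nat.card ↥⁅N, N⁆ = p := by
    rw [← eW, Nat.card_zpowers]
    exact orderOf_eq_prime (el _ (hDE (cD hu))) fun k => nc (eW ▸ zpowers_le.2 (k ▸ one_mem _))
  have mW := CL.Grp.le_normalizer_commutator' nN nN
  have hDM := hDN.trans hNM
  have zW := comm_le_of_idx hM bot_le (cD.trans hDM) le_normalizer_bot mW (by rw [relIndex_bot_left, cW])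
  have dW := comm_le_of_idx hM cD hDM mW mD (idx_of_card cD (by rw [c0, cW, sq]))
  have top : ∀ x : G, x ∈ 𝒩((⊥ : Subgroup G)) := fun x => le_normalizer_bot (mem_top x)
  have pr := Nat.prime_iff_prime_int.1 hp.out
  rw [← (CL.Grp.eq_or_eq_of_relIndex_prime le_sup_left (sup_le hCD cD) (iC ▸ hp.out)).resolve_left fun e =>
    nc (le_sup_right.trans e.le)]
  refine sup_le (commutator_eq_bot_iff_le_centralizer.1 (le_bot_iff.1 (commutator_le.2 fun c hc x hx => ?_)))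
    (commutator_eq_bot_iff_le_centralizer.1 (le_bot_iff.1 zW))
  have h3 := dW (commutator_mem_commutator (hCD hc) hx)
  exact (noW_cen (hM.to_le (hCD.trans hDM)) σC l3).step (hM.to_le hDM) wD le_normalizer_bot (top σ)
    (fun k => (pr.dvd_or_dvd (k.trans (show _ = (l : ℤ) * (l * l - 1) by ring).dvd)).elim l1 l2) _ (cD h3)
    (one_mul ((l : ℤ) * (l * l)) ▸ Wt.comm (N₁ := ⊥) (fun c hc => by
      rw [conj_eq_of_mem_centralizer σC hc, zpow_one, inv_mul_cancel]; exact one_mem _) wM (top σ) hNM (by simp)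
      (commutator_eq_bot_iff_le_centralizer.2 (hCD.trans zD)).le hc hx (top c) (top x)
      (zW (commutator_mem_commutator h3 (hDM (hCD hc)))) (zW (commutator_mem_commutator h3 hx)))

end CL.Fus.Rk
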