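/-
Over a `p`-group of maximal class of order at least `p ^ 5`, `p ≥ 5`, no essential subgroup is elementary abelian of order `p ^ 3`.
-/
import Cfsg.Agent.Fus.McG

set_option autoImplicit false
set_option linter.unusedSectionVars false

namespace CL.Fus.Rk

open Cfsg Cfsg.FusionSystem Subgroup CL.Fgs McB
open scoped commutatorElement

local notation "𝒩(" X ")" => Subgroup.normalizer ((X : Subgroup _) : Set _)
local notation "𝒞(" X ")" => Subgroup.centralizer ((X : Subgroup _) : Set _)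

variable {G : Type*} [Group G] {p r j k : ℕ} {S K L E Q : Subgroup G} {Z : ℕ → Subgroup G} {e g : G}
variable [hp : Fact p.Prime] [Finite G] (hS : IsPGroup p S) (hF : (groupFusionSystem S).IsSaturated p)
include hS hF

theorem side_of_ess' (hE : (groupFusionSystem S).IsEssential p E) (hi : (frat E).relIndex E ≤ p ^ 3) :
    ∃ H, Side p (S ⊓ 𝒩(E)) E H ∧ ¬ Tr p H E ⊥ := by
  have hES := hE.1.1
  have hpE := hS.to_le hES
  have q := quoAut E
  have e : ∀ g (hg : g ∈ 𝒩(E)), ext E.normalizerMonoidHom g = conjAut E hg := fun g hg => ext_apply _ hg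
  have hA : ∀ g ∈ 𝒩(E), ext E.normalizerMonoidHom g ∈ (groupFusionSystem S).autGroup E := fun g hg => by
    rw [autGroup_group hES, ← img_quoAut le_rfl]; exact mem_img_of_mem _ hg
  obtain ⟨γ', h1, h2⟩ := IsEssential.exists_notMem_extAut hS hF hE
  rw [autGroup_group hES, ← img_quoAut le_rfl] at h1
  obtain ⟨γ, hγ, rfl⟩ := (q.mem_img le_rfl).1 h1
  have conj : ∀ n ∈ S ⊓ 𝒩(E), n ∉ E → ∀ g ∈ 𝒩(E), g * n * g⁻¹ ∈ preIn q.hom (extAut (groupFusionSystem S) E) →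
      g ∈ preIn q.hom (extAut (groupFusionSystem S) E) := fun n hn k g hg c => by
    obtain ⟨j, hj⟩ := hS ⟨n, hn.1⟩
    refine ⟨hg, IsEssential.mem_extAut_of_conj hS hF hE (IsEssential.conjAut_mem_extAut hS hF hE hn.1 hn.2)
      (IsEssential.conjAut_notMem_Inn hE hn.1 hn.2 k) ⟨j, ?_⟩ (hA g hg) ?_⟩
    · rw [← e, ← q.hom.map_pow hn.2, show n ^ p ^ j = 1 from congrArg Subtype.val hj, q.hom.map_one]
    · rw [← e, ← q.hom.map_conj hg hn.2]; exact c.2
  have clo : ∀ a ∈ S ⊓ 𝒩(E), a ∉ E → ∀ X ≤ 𝒩(E), a ∈ X → Tr p X E ⊥ → X ≤ preIn q.hom (extAut (groupFusionSystem S) E) :=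
    fun a ha k X h3 h4 t x hx => ⟨h3 hx, IsEssential.le_extAut_of_isPGroup hS hF hE (t.isPGroup h3)
      (autGroup_group hES ▸ GS.autInducedBy_mono h3 E) (conjAut_mem_autInducedBy ha.2 h4)
      (IsEssential.conjAut_mem_extAut hS hF hE ha.1 ha.2) (IsEssential.conjAut_notMem_Inn hE ha.1 ha.2 k)
      (img_quoAut h3 ▸ mem_img_of_mem _ hx)⟩
  have lt : E < S ⊓ 𝒩(E) := lt_normalizerIn hS (IsEssential.lt_top hS hF hE)
  have hN := hS.to_le (inf_le_left : S ⊓ 𝒩(E) ≤ S)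
  have h3 := idx_of_emb hN lt.le inf_le_right le_rfl (le_normalizer_frat hpE) (frat_le E) (commutator_le_frat hpE) hi
    (fun a ha k => mem_of_comm_frat hS hE.1 (IsEssential.isRadical hS hE) le_rfl (fun γ _ x hx => autFun_mem γ hx) ha.1 ha.2
      (fun x hx => frat_le E (k.2.2 x hx)) k.2.2) hγ (Y := preIn q.hom (extAut (groupFusionSystem S) E)) (fun k => h2 k.2) conj
      fun a ha k X h3 h4 t => clo a ha k X h3 h4 (t.of_frat' hpE le_rfl)
  have h4 := mul_card_le_of_lt hN lt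
  rw [CL.Grp.card_eq_relIndex_mul_card lt.le] at h4
  obtain ⟨H, s, k⟩ := exists_side hN lt.le inf_le_right (le_antisymm h3 (Nat.le_of_mul_le_mul_right h4 Nat.card_pos))
    (sylIn_aut hS hF hE.2.1)
  obtain ⟨a, ha, haE⟩ := s.exists_notMem
  refine ⟨H, s, fun t => h2 (conj a ha haE γ hγ (sup_le (clo a ha haE H s.norm (s.PH ha) t) (fun c hc => ?_) (k γ hγ a ha))).2⟩
  have h5 := centralizer_le_normalizer _ hc
  exact ⟨h5, ((q.ker c h5).2 hc).symm ▸ one_mem _⟩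

theorem ext_of_tr (hQ : (groupFusionSystem S).IsFullyNormalized Q) (t : Tr p (ncl 𝒩(Q) (S ⊓ 𝒩(Q))) Q ⊥) (hg : g ∈ 𝒩(Q)) :
    ∃ σ ∈ 𝒩(S ⊓ 𝒩(Q)), σ⁻¹ * g ∈ 𝒞(Q) := by
  refine ext_of_cen hS hF (fullyCentralized_of_fullyNormalized hS hF hQ) g hg fun a ha => ?_
  have hU : ncl 𝒩(Q) (S ⊓ 𝒩(Q)) ≤ 𝒩(Q) := ncl_le inf_le_right le_normalizer
  have h3 := (sylIn_aut hS hF hQ).2.2 _ (t.isPGroup hU) (GS.autInducedBy_mono le_ncl Q) (GS.autInducedBy_mono hU Q)
  have h4 := ncl_le_iff.1 (le_refl (ncl 𝒩(Q) (S ⊓ 𝒩(Q)))) g hg a ha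
  rw [← img_quoAut hU, ← img_quoAut inf_le_right] at h3
  exact ((quoAut Q).mem_iff (sup_le inf_le_right (centralizer_le_normalizer _)) le_sup_right (hU h4)).1
    (img_mono _ le_sup_left (h3 (mem_img_of_mem _ h4)))

variable (hE : (groupFusionSystem S).IsEssential p E)
include hE

theorem cb_conj (c : Cb p S E) (hg : E.map (cjh g) ≤ S) : Cb p S (E.map (cjh g)) := by
  have hc : (groupFusionSystem S).IsConj E (E.map (cjh g)) :=
    img_conj E g ▸ Mor.isConj (mor_group_iff.2 ⟨hE.1.1, fun x hx => hg ⟨x, hx, rfl⟩, g, fun _ _ => rfl⟩)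
  have c1 := (GS.card_map_conj E g).trans c.card
  refine ⟨hg, by rw [GS.centralizer_map_conj]; exact map_mono c.ab, c1, fun x hx k => hE.1.2 _ hc ⟨hx, k⟩,
    le_antisymm ((hE.2.1.2 _ hc).trans c.cN.le) ?_⟩
  have := mul_card_le_of_lt (hS.to_le inf_le_left) (lt_normalizerIn hS (lt_of_le_of_ne hg fun a => by
    have := card_le_of_le (inf_le_left : S ⊓ 𝒩(E) ≤ S)
    rw [c.cN, ← a, c1] at this
    have := pow_lt_pow this
    omega))
  rwa [c1, ← pow_succ'] at this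

theorem TW.fn (t : TW p r S K L E Z e) (h4 : 4 ≤ k) (hk : k + 1 ≤ r) :
    (groupFusionSystem S).IsFullyNormalized (Z k ⊔ zpowers e) := ⟨t.PS k, fun Q hQ => by
  obtain ⟨f, hf, rfl⟩ := isConj_iff.1 hQ
  have h1 := hf.img_le
  obtain ⟨-, -, g, hg⟩ := mor_group_iff.1 hf
  rw [img_congr hg, img_conj] at h1 ⊢
  have h2 := map_mono (f := cjh g) (t.EP (k := k) (by omega))
  have c := cb_conj hS hF hE t.c (h2.trans h1)
  obtain ⟨e', v⟩ := (t.h.cases c (by omega)).resolve_right fun a => by omega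
  have t' : TW p r S K L _ Z e' := ⟨t.h, c, v⟩
  have c1 := (GS.card_map_conj _ g).trans (t.card (k := k) (by omega) (by omega))
  rw [← eq_of_le_of_card_ge (t'.le_of_card h2 h1 (by omega) (by omega) c1.ge) (c1.trans (t'.card (by omega) (by omega)).symm).le,
    normalizerIn, normalizerIn, t.normP (by omega) hk, t'.normP (by omega) hk, t.card (by omega) hk, t'.card (by omega) hk]⟩

theorem TW.climb (t : TW p r S K L E Z e) (hg : ∀ j, 2 ≤ j → j ≤ 4 → g ∈ 𝒩(Z j ⊔ zpowers e)) (h4 : 4 ≤ k) (hk : k ≤ r) :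
    ∃ σ, (∀ j, 2 ≤ j → j ≤ k → σ ∈ 𝒩(Z j ⊔ zpowers e)) ∧ ∀ x ∈ Z 4 ⊔ zpowers e, σ * x * σ⁻¹ = g * x * g⁻¹ := by
  induction k, h4 using Nat.le_induction with
  | base => exact ⟨g, hg, fun _ _ => rfl⟩
  | succ k h4 ih =>
    obtain ⟨σ, h1, h2⟩ := ih (by omega)
    have eN := t.normP (by omega) hk
    obtain ⟨τ, h3, h5⟩ := ext_of_tr hS hF (t.fn hS hF hE h4 hk) (eN.symm ▸ t.tr h4 hk) (h1 k (by omega) le_rfl)
    have e2 : ∀ x ∈ Z k ⊔ zpowers e, τ * x * τ⁻¹ = σ * x * σ⁻¹ := fun x hx => by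
      conv_lhs => rw [← conj_eq_of_mem_centralizer h5 hx]
      group
    refine ⟨τ, fun j a b => ?_, fun x hx => (e2 x (t.mono h4 hx)).trans (h2 x hx)⟩
    obtain rfl | c := b.eq_or_lt
    · exact eN ▸ h3
    · exact mem_normalizer_of_finite fun x hx => by
        rw [e2 x (t.mono (by omega) hx)]; exact conj_mem_of_mem_normalizer (h1 j a (by omega)) hx

variable (h5 : 5 ≤ p) (h : MC p r S K L Z) (ab : E ≤ centralizer (E : Set G)) (el : ∀ x ∈ E, x ^ p = 1) (cE : Nat.card E = p ^ 3)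
include h5 h ab el cE

theorem cube_data : ∃ H, Side p (S ⊓ 𝒩(E)) E H ∧ ¬ Tr p H E ⊥ ∧ Cb p S E ∧ ¬ S ≤ 𝒩(E) := by
  obtain ⟨H, s, n⟩ := side_of_ess' hS hF hE (cE ▸ Nat.le_of_dvd Nat.card_pos (relIndex_dvd_card _ _))
  have c : Nat.card ↥(S ⊓ 𝒩(E)) = p ^ 4 := by rw [s.card, cE, ← pow_succ']
  refine ⟨H, s, n, ⟨hE.1.1, ab, cE, fun x hx k => IsCentric.centralizerIn_le hE.1 ⟨hx, k⟩, c⟩, fun k => ?_⟩
  rw [inf_eq_left.2 k, h.cardS] at c
  have := Nat.pow_right_injective hp.out.two_le c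
  have := h.r3
  omega

theorem cube_false_aux (hN : (groupFusionSystem S).IsFullyNormalized (S ⊓ 𝒩(E))) : False := by
  obtain ⟨H, s, n, c, hn⟩ := cube_data hS hF hE h5 h ab el cE
  have lt : S ⊓ 𝒩(E) < S ⊓ 𝒩(S ⊓ 𝒩(E)) := lt_normalizerIn hS (inf_lt_left.2 hn)
  have hM := hS.to_le (inf_le_left : S ⊓ 𝒩(S ⊓ 𝒩(E)) ≤ S)
  obtain ⟨D, hDE, cD, iN, zD, lZ, σ, σM, σN, σE, wE, wN, c₀, hc, c1, hσ⟩ := gl h5 s n hM ab el cE lt.le inf_le_right
    (fun x hx h => ⟨hx.1, h⟩) lt.not_ge (ext_of_cen hS hF (fullyCentralized_of_centric hE.1))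
    (ext_of_cen hS hF (fullyCentralized_of_fullyNormalized hS hF hN))
    (fun i => exists_side hM lt.le inf_le_right i (sylIn_aut hS hF hN)) fun A hA mA g e => lt.not_ge (eq_of_le_of_card_ge lt.le
      ((card_le_of_le (le_inf inf_le_left mA)).trans (hE.2.1.2 A (by
        have : E.map (cjh g⁻¹) = A := by rw [← e, GS.map_conj_map_conj, inv_mul_cancel, GS.map_conj_one]
        rw [← this, ← img_conj]
        exact Mor.isConj (mor_group_iff.2 ⟨hE.1.1, fun x hx => (hA (this.le ⟨x, hx, rfl⟩)).1, _, fun _ _ => rfl⟩))))).ge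
  obtain rfl | h4 := h.r3.eq_or_lt
  · rw [eq_of_le_of_card_ge (inf_le_left : S ⊓ 𝒩(S ⊓ 𝒩(E)) ≤ S) (by
      rw [card_of_relIndex lt.le iN, c.cN, h.cardS, ← pow_succ'])] at zD
    have := card_le_of_le fun x hx => h.cen x (c.le (hDE hx)) (zD hx)
    rw [cD, h.card 1 (by omega)] at this
    have := pow_lt_pow this
    omega
  obtain ⟨e, v⟩ | ⟨rfl, hK, e, he, k⟩ := h.cases c h4
  · have t : TW p r S K L E Z e := ⟨h, c, v⟩
    have e1 : S ⊓ 𝒩(E) = Z 3 ⊔ zpowers e := by rw [← t.normP le_rfl h.r3, v.eq]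
    rw [e1] at σM σN wN lZ
    rw [t.normP (by omega) h4] at σM
    obtain rfl : Z 2 = D := eq_of_le_of_card_ge (fun x hx => lZ ⟨mem_sup_left (h.mono (by omega) hx), cen_of_comm fun y hy =>
      h.lIn y (t.PL h.r3 hy) x hx⟩) (by rw [cD, h.card 2 (by omega)])
    obtain ⟨τ, h1, h2⟩ := t.climb hS hF hE (g := σ) (fun j a b => by
      interval_cases j
      exacts [v.eq.symm ▸ σE, σN, σM]) h4 le_rfl
    exact c1 (t.fix h4 h1 (fun x hx => (h2 x (t.EP (by omega) hx)).symm ▸ wE x hx)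
      (fun x hx => (h2 x (t.mono (by omega) hx)).symm ▸ v.eq.symm ▸ wN x hx) (by omega) hc
      ((h2 _ (mem_sup_left (h.mono (by omega) hc))).trans hσ))
  · obtain ⟨e1, -, d, hd, d2⟩ := h.third c hK he k
    obtain ⟨-, y, hy, z, hz, nz⟩ := h.exc fun a => k (a ▸ hK he)
    have hdD := lZ ⟨e1.le (mem_sup_left hd.1), e1 ▸ mem_cen_sup (ab hd.1) (cen_of_comm fun x hx =>
      h.c1 (i := 3) (j := 3) (by omega) (by omega) le_rfl hd.2 hx)⟩
    have h1 : Z 3 ≤ 𝒞(Z 4) := h.sup (j := 2) (by omega) hd.2 d2 ▸ sup_le (fun x hx => cen_of_comm fun y hy =>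
      h.c1 (i := 2) (j := 4) (by omega) (by omega) le_rfl hx hy) (zpowers_le.2 (cen_mono (h.third_norm c hK he k (by omega) le_rfl) (zD hdD)))
    exact nz (mem_bot.1 (sw (mem_bot.2 (comm_of_cen' (h1 hz) hy))))

theorem cube_false : False := by
  obtain ⟨f, hf, h1⟩ := exists_mor_normalizerIn_fullyNormalized (Q := normalizerIn S E) hS hF inf_le_left
  have h2 := hf.mono (R := normalizerIn S E) (le_normalizerIn inf_le_left)
  have h3 := h2.fullyNormalized_img hE.2.1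
  have h4 := h2.img_normalizerIn hE.2.1
  obtain ⟨-, -, g, hg⟩ := mor_group_iff.1 h2
  rw [h4] at h1
  rw [img_congr fun x hx => hg x (le_normalizerIn hE.1.1 hx), img_conj] at h1 h3
  refine cube_false_aux hS hF (ess_conj hE h3) h5 h (by rw [GS.centralizer_map_conj]; exact map_mono ab) ?_
    ((GS.card_map_conj E g).trans cE) h1
  rintro _ ⟨x, hx, rfl⟩
  rw [← map_pow, el x hx, map_one]

end CL.Fus.Rk
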