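/-
Fundamental quaternion subgroups of linear groups in odd characteristic, part 1: linear algebra.
-/
import Cfsg.Agent.Fus.SylIn
import Mathlib.LinearAlgebra.Transvection.Basic
import Mathlib.LinearAlgebra.Center
import Mathlib.FieldTheory.Finite.Basic

set_option autoImplicit false

open Module

namespace CL.PslAut

variable {K V : Type*} [Field K] [AddCommGroup V] [Module K V] {s s' x x' y g : V ≃ₗ[K] V} {u v : V}
  {W : Submodule K V}

/-- The `-1`-eigenspace. -/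
def Ng (s : V ≃ₗ[K] V) : Submodule K V := LinearMap.eqLocus (s : V →ₗ[K] V) (-LinearMap.id)

/-- The fixed space. -/
def Ps (s : V ≃ₗ[K] V) : Submodule K V := LinearMap.eqLocus (s : V →ₗ[K] V) LinearMap.id

theorem mem_Ng : v ∈ Ng s ↔ s v = -v := Iff.rfl

theorem mem_Ps : v ∈ Ps s ↔ s v = v := Iff.rfl

theorem comm_apply (h : Commute g x) (v : V) : g (x v) = x (g v) := LinearEquiv.congr_fun h.eq v

/-- Linear independence of two vectors. -/
def Ind (K : Type*) [Field K] [Module K V] (u v : V) : Prop := ∀ a b : K, a • u + b • v = 0 → a = 0 ∧ b = 0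

theorem Ind.rank_eq (h : Ind K u v) : finrank K (Submodule.span K {u, v}) = 2 := by
  have := finrank_span_eq_card (LinearIndependent.pair_iff.2 h)
  rwa [Matrix.range_cons_cons_empty] at this

theorem Ind.span (h : Ind K u v) (hW : finrank K W = 2) (hu : u ∈ W) (hv : v ∈ W) {w : V} (hw : w ∈ W) :
    ∃ a b : K, w = a • u + b • v := by
  have := Module.finite_of_finrank_eq_succ hW
  rw [← Submodule.eq_of_le_of_finrank_eq (Submodule.span_le.2 (Set.pair_subset hu hv)) (h.rank_eq.trans hW.symm)] at hw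
  exact (Submodule.mem_span_pair.1 hw).imp fun a => .imp fun b => .symm

theorem exists_ind (hW : ∀ v ∈ W, g v ∈ W) (h : ∀ c : K, ∃ u ∈ W, g u ≠ c • u) : ∃ u ∈ W, Ind K u (g u) := by
  by_contra hn
  obtain ⟨c, hc⟩ := LinearMap.exists_eq_smul_id_of_forall_notLinearIndependent (f := (g : End K V).restrict hW) fun v hv =>
    hn ⟨v, v.2, fun a b e => LinearIndependent.pair_iff.1 hv a b (Subtype.ext e)⟩
  obtain ⟨u, hu, e⟩ := h c
  exact e (congrArg Subtype.val (LinearMap.congr_fun hc ⟨u, hu⟩))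

/-- An element of order four of a fundamental `SL₂`. -/
structure Fd (x : V ≃ₗ[K] V) : Prop where
  pow : x * x * (x * x) = 1
  fix : ∀ v, x (x v) = v → x v = v
  dim : finrank K (Ng (x * x)) = 2
  ns : ∀ c : K, ∃ u, x (x u) = -u ∧ x u ≠ c • u

theorem Fd.inv_eq (h : Fd x) : x⁻¹ = x * (x * x) := inv_eq_of_mul_eq_one_right ((mul_assoc _ _ _).symm.trans h.pow)

theorem Fd.inv_sq (h : Fd x) : x⁻¹ * x⁻¹ = x * x := by rw [← mul_inv_rev, inv_eq_of_mul_eq_one_right h.pow]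

theorem Fd.inv_apply (h : Fd x) (hu : x (x u) = -u) : x⁻¹ u = -x u := by simp [h.inv_eq, hu]

theorem Fd.inv (h : Fd x) : Fd x⁻¹ :=
  have e : ∀ v, x⁻¹ (x⁻¹ v) = x (x v) := LinearEquiv.congr_fun h.inv_sq
  ⟨h.inv_sq ▸ h.pow, fun v hv => by simp [h.inv_eq, h.fix v (e v ▸ hv)], h.inv_sq ▸ h.dim, fun c =>
    let ⟨u, h1, h2⟩ := h.ns (-c); ⟨u, (e u).trans h1, fun e' => h2 (by rw [neg_smul, ← e', h.inv_apply h1, neg_neg])⟩⟩

theorem Ng_conj (s g : V ≃ₗ[K] V) : Ng (g * s * g⁻¹) = (Ng s).map (g : V →ₗ[K] V) := by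
  ext v
  obtain ⟨v, rfl⟩ := g.surjective v
  simp [mem_Ng, ← map_neg]

theorem Fd.conj (h : Fd x) (g : V ≃ₗ[K] V) : Fd (g * x * g⁻¹) := by
  refine ⟨by rw [conj_mul, conj_mul, h.pow, mul_one, mul_inv_cancel], fun v => ?_,
    by rw [conj_mul, Ng_conj, LinearEquiv.finrank_map_eq, h.dim], fun c => ?_⟩
  · obtain ⟨v, rfl⟩ := g.surjective v
    simpa using h.fix v
  · obtain ⟨u, h1, h2⟩ := h.ns c
    exact ⟨g u, by simp [h1], by simpa [← map_smul] using h2⟩

theorem Fd.cyc (h : Fd x) : ∃ u, x (x u) = -u ∧ Ind K u (x u) ∧ ∀ w, x (x w) = -w → ∃ a b : K, w = a • u + b • x u := by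
  have hW : ∀ v ∈ Ng (x * x), x v ∈ Ng (x * x) := fun v hv => (congrArg x hv).trans (map_neg x v)
  obtain ⟨u, hu, hi⟩ := exists_ind hW h.ns
  exact ⟨u, hu, hi, fun w hw => hi.span h.dim hu (hW u hu) hw⟩

theorem Fd.cent (h : Fd x) (hg : Commute g x) : ∃ a b : K, ∀ w, x (x w) = -w → g w = a • w + b • x w := by
  obtain ⟨u, h1, -, h3⟩ := h.cyc
  obtain ⟨a, b, e⟩ := h3 (g u) (by rw [← comm_apply hg, ← comm_apply hg, h1, map_neg])
  refine ⟨a, b, fun w hw => ?_⟩
  obtain ⟨c, d, rfl⟩ := h3 w hw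
  simp only [map_add, map_smul, comm_apply hg, e, h1]
  module

/-- Two generators of a quaternion subgroup of a fundamental `SL₂`. -/
structure QP (x y : V ≃ₗ[K] V) : Prop where
  fx : Fd x
  fy : Fd y
  sq : y * y = x * x
  inv : y * x * y⁻¹ = x⁻¹

theorem QP.symm (h : QP x y) : QP y x :=
  ⟨h.fy, h.fx, h.sq.symm, by
    rw [← mul_inv_cancel_left x y, mul_inv_eq_iff_eq_mul.1 h.inv |>.symm]
    calc x * (x * (y * x)) * x⁻¹ = (x * x) * y := by group
      _ = _ := by rw [← h.sq, ← h.fy.inv_sq, mul_inv_eq_iff_eq_mul.1 h.inv]; group⟩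

theorem QP.conj (h : QP x y) (g : V ≃ₗ[K] V) : QP (g * x * g⁻¹) (g * y * g⁻¹) :=
  ⟨h.fx.conj g, h.fy.conj g, by rw [conj_mul, conj_mul, h.sq], by rw [conj_inv, conj_mul, conj_mul, h.inv, conj_inv]⟩

theorem QP.sq_apply (h : QP x y) (v : V) : y (y v) = x (x v) := LinearEquiv.congr_fun h.sq v

theorem QP.mem (h : QP x y) (hu : x (x u) = -u) : x (x (y u)) = -y u := by rw [← h.sq_apply, h.sq_apply u, hu, map_neg]

theorem QP.anti (h : QP x y) (hu : x (x u) = -u) : y (x u) = -x (y u) :=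
  (LinearEquiv.congr_fun (mul_inv_eq_iff_eq_mul.1 h.inv) u).trans (h.fx.inv_apply (h.mem hu))

/-- Two coordinate vectors and a complement. -/
structure Fr (u v : V) (W : Submodule K V) : Prop where
  dec : ∀ z, ∃ a b : K, ∃ w ∈ W, z = a • u + b • v + w
  ind : ∀ a b : K, ∀ w ∈ W, a • u + b • v + w = 0 → a = 0 ∧ b = 0

theorem Fr.ext (h : Fr u v W) {f f' : V ≃ₗ[K] V} (h1 : f u = f' u) (h2 : f v = f' v) (h3 : ∀ w ∈ W, f w = f' w) :
    f = f' := LinearEquiv.ext fun z => by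
  obtain ⟨a, b, w, hw, rfl⟩ := h.dec z
  simp [h1, h2, h3 w hw]

theorem Fr.exists_end [FiniteDimensional K V] (h : Fr u v W) (a b c d : K) : ∃ f : End K V,
    f.det = a * d - b * c ∧ f u = a • u + c • v ∧ f v = b • u + d • v ∧ ∀ w ∈ W, f w = w := by
  obtain ⟨e, he⟩ : ∃ e : ((Fin 2 → K) × W) ≃ₗ[K] V, ∀ p, e p = p.1 0 • u + p.1 1 • v + p.2 := by
    let φ : ((Fin 2 → K) × W) →ₗ[K] V :=
      ((LinearMap.proj (0 : Fin 2)).smulRight u + (LinearMap.proj (1 : Fin 2)).smulRight v).coprod W.subtype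
    refine ⟨.ofBijective φ ⟨(injective_iff_map_eq_zero φ).2 fun p hp => ?_, fun z => ?_⟩, fun _ => rfl⟩
    · obtain ⟨h1, h2⟩ := h.ind (p.1 0) (p.1 1) _ p.2.2 hp
      refine Prod.ext (funext (Fin.forall_fin_two.2 ⟨h1, h2⟩)) (Subtype.ext ?_)
      simpa [h1, h2] using (show p.1 0 • u + p.1 1 • v + p.2 = 0 from hp)
    · obtain ⟨a, b, w, hw, rfl⟩ := h.dec z
      exact ⟨(![a, b], ⟨w, hw⟩), rfl⟩
  have h1 : ∀ p : (Fin 2 → K) × W,
      (e.toLinearMap ∘ₗ (Matrix.toLin' !![a, b; c, d]).prodMap LinearMap.id ∘ₗ e.symm.toLinearMap) (e p) =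
      (a * p.1 0 + b * p.1 1) • u + (c * p.1 0 + d * p.1 1) • v + p.2 := fun p => by
    rw [LinearMap.comp_apply, LinearMap.comp_apply, LinearEquiv.coe_coe, LinearEquiv.coe_coe, e.symm_apply_apply, he]
    simp [dotProduct]
  refine ⟨e.toLinearMap ∘ₗ (Matrix.toLin' !![a, b; c, d]).prodMap LinearMap.id ∘ₗ e.symm.toLinearMap, by
    rw [LinearMap.det_conj, LinearMap.det_prodMap, LinearMap.det_toLin', Matrix.det_fin_two_of,
    LinearMap.det_id, mul_one], ?_, ?_, fun w hw => ?_⟩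
  · simpa [he] using h1 (![1, 0], 0)
  · simpa [he] using h1 (![0, 1], 0)
  · simpa [he] using h1 (0, ⟨w, hw⟩)

/-- The determinant as an element of the field. -/
noncomputable abbrev dt (g : V ≃ₗ[K] V) : K := LinearMap.det (g : End K V)

/-- The special linear group. -/
noncomputable def SLV (K V : Type*) [Field K] [AddCommGroup V] [Module K V] : Subgroup (V ≃ₗ[K] V) :=
  (LinearEquiv.det : (V ≃ₗ[K] V) →* Kˣ).ker

theorem mem_SLV : g ∈ SLV K V ↔ dt g = 1 := by rw [SLV, MonoidHom.mem_ker, ← Units.val_eq_one, LinearEquiv.coe_det]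

instance : (SLV K V).Normal := MonoidHom.normal_ker _

theorem dt_mul (g x : V ≃ₗ[K] V) : dt (g * x) = dt g * dt x := LinearMap.det_comp _ _

theorem dt_ne (g : V ≃ₗ[K] V) : dt g ≠ 0 := (LinearEquiv.isUnit_det' g).ne_zero

theorem Fr.exists_blk [FiniteDimensional K V] (h : Fr u v W) {a b c d : K} (h0 : a * d - b * c ≠ 0) : ∃ g : V ≃ₗ[K] V,
    dt g = a * d - b * c ∧ g u = a • u + c • v ∧ g v = b • u + d • v ∧ ∀ w ∈ W, g w = w :=
  let ⟨f, h1, h2⟩ := h.exists_end a b c d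
  ⟨f.equivOfDetNeZero (h1 ▸ h0), h1, h2⟩

theorem Fr.dt_eq [FiniteDimensional K V] (h : Fr u v W) {a b c d : K} (h1 : g u = a • u + c • v)
    (h2 : g v = b • u + d • v) (h3 : ∀ w ∈ W, g w = w) : dt g = a * d - b * c := by
  obtain ⟨f, e, e1, e2, e3⟩ := h.exists_end a b c d
  rw [← e]
  refine congrArg _ (LinearMap.ext fun z => ?_)
  obtain ⟨a, b, w, hw, rfl⟩ := h.dec z
  simp [h1, h2, h3 w hw, e1, e2, e3 w hw]

theorem exists_dil [FiniteDimensional K V] {f : V →ₗ[K] K} (hf : f v = 1) {c : K} (hc : c ≠ 0) :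
    ∃ d : V ≃ₗ[K] V, dt d = c ∧ ∀ z, d z = z + (f z * (c - 1)) • v :=
  have h : (LinearMap.transvection f ((c - 1) • v)).det = c := by simp [hf]
  ⟨(LinearMap.transvection f ((c - 1) • v)).equivOfDetNeZero (h.symm ▸ hc), h, fun z => (LinearMap.transvection.apply ..).trans (by rw [smul_smul])⟩

variable [NeZero (2 : K)]

include K in
theorem eq_zero_of_neg (h : v = -v) : v = 0 :=
  (smul_eq_zero_iff_right (two_ne_zero (α := K))).1 ((two_smul K v).trans (eq_neg_iff_add_eq_zero.1 h))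

theorem dec (hs : s * s = 1) (v : V) : ∃ a b, s a = -a ∧ s b = b ∧ v = a + b := by
  have h : s (s v) = v := LinearEquiv.congr_fun hs v
  refine ⟨(2 : K)⁻¹ • (v - s v), (2 : K)⁻¹ • (v + s v), by simp [h, ← smul_neg], by simp [h, add_comm], ?_⟩
  rw [← smul_add, sub_add_add_cancel, ← two_smul K, smul_smul, inv_mul_cancel₀ two_ne_zero, one_smul]

theorem ext_dec (hs : s * s = 1) {f f' : V ≃ₗ[K] V} (h1 : ∀ a, s a = -a → f a = f' a) (h2 : ∀ b, s b = b → f b = f' b) :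
    f = f' := LinearEquiv.ext fun z => by
  obtain ⟨a, b, ha, hb, rfl⟩ := dec hs z
  simp [h1 a ha, h2 b hb]

theorem eq_zero_of_add {a b : V} (ha : s a = -a) (hb : s b = b) (h : a + b = 0) : a = 0 :=
  eq_zero_of_neg (K := K) (by rw [← ha, eq_neg_of_add_eq_zero_left h, map_neg, hb])

theorem Ind.fr (h : Ind K u v) (hs : s * s = 1) (hd : finrank K (Ng s) = 2) (hu : s u = -u) (hv : s v = -v) :
    Fr u v (Ps s) :=
  ⟨fun z => by
    obtain ⟨a, b, ha, hb, rfl⟩ := dec hs z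
    obtain ⟨c, d, rfl⟩ := h.span hd hu hv ha
    exact ⟨c, d, b, hb, rfl⟩, fun a b w hw e => h a b (eq_zero_of_add (by simp [hu, hv, add_comm]) hw e)⟩

theorem Fd.dt_eq [FiniteDimensional K V] (h : Fd x) : x ∈ SLV K V := by
  obtain ⟨u, h1, h2, -⟩ := h.cyc
  simpa [mem_SLV] using (h2.fr h.pow h.dim h1 (by simp [h1])).dt_eq (g := x) (a := 0) (b := -1) (c := 1) (d := 0)
    (by simp) (by simp [h1]) h.fix

theorem QP.scalar (h : QP x y) (h1 : Commute g x) (h2 : Commute g y) : ∃ c : K, ∀ w, x (x w) = -w → g w = c • w := by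
  obtain ⟨a, b, e⟩ := h.fx.cent h1
  obtain ⟨u, hu, h0⟩ := h.fx.ns 0
  have h3 := comm_apply h2 u
  rw [e _ (h.mem hu), e u hu, map_add, map_smul, map_smul, h.anti hu, add_right_inj, smul_neg] at h3
  have h4 : b = 0 := by simpa [show u ≠ 0 from fun e => h0 (by simp [e])] using eq_zero_of_neg (K := K) h3
  exact ⟨a, fun w hw => by simp [e w hw, h4]⟩

theorem QP.not_comm (h : QP x y) (hg : Fd g) (e : g * g = x * x) (h1 : Commute g x) (h2 : Commute g y) : False := by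
  obtain ⟨c, hc⟩ := h.scalar h1 h2
  obtain ⟨u, h3, h4⟩ := hg.ns c
  exact h4 (hc u ((LinearEquiv.congr_fun e u).symm.trans h3))

theorem QP.mul (h : QP x y) : QP x (x * y) := by
  have e : x * y * (x * y) = x * x := by
    calc _ = x * (y * x * y⁻¹) * (y * y) := by group
      _ = _ := by rw [h.inv, h.sq, mul_inv_cancel, one_mul]
  have e' : ∀ v, (x * y) ((x * y) v) = x (x v) := LinearEquiv.congr_fun e
  refine ⟨h.fx, ⟨e ▸ h.fx.pow, fun v hv => ?_, e ▸ h.fx.dim, fun c => ?_⟩, e, by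
    rw [mul_inv_rev, mul_assoc x, mul_assoc x, ← mul_assoc _ y⁻¹, h.inv, mul_inv_cancel_left]⟩
  · rw [e'] at hv
    rw [LinearEquiv.mul_apply, h.fy.fix v ((h.sq_apply v).trans hv), h.fx.fix v hv]
  · by_contra! hc
    obtain ⟨u, hu, h0⟩ := h.fx.ns 0
    have h1 := hc (x u) (by simp only [e', hu, map_neg])
    rw [LinearEquiv.mul_apply, h.anti hu, map_neg, ← LinearEquiv.mul_apply x y, hc u ((e' u).trans hu), map_smul] at h1
    have h2 := hc u ((e' u).trans hu)
    rw [(smul_eq_zero.1 (eq_zero_of_neg (K := K) h1.symm)).resolve_right fun e => h0 (by simp [e]), zero_smul] at h2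
    exact h0 (by simpa using h2)

theorem Fd.eq_or (h : Fd x) (h' : Fd x') (e : x' * x' = x * x) (hc : Commute x' x) : x' = x ∨ x' = x⁻¹ := by
  obtain ⟨a, b, hab⟩ := h.cent hc
  have e' : ∀ v, x' (x' v) = x (x v) := LinearEquiv.congr_fun e
  obtain ⟨u, h1, h2, -⟩ := h.cyc
  have h3 := (e' u).trans h1
  rw [hab u h1, map_add, map_smul, map_smul, comm_apply hc, hab u h1, map_add, map_smul, map_smul, h1] at h3
  obtain ⟨h4, h5⟩ := h2 (a * a - b * b + 1) (2 * a * b) (by linear_combination (norm := module) h3)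
  have h6 : b ≠ 0 := fun e0 => let ⟨w, hw, h0⟩ := h'.ns a; h0 (by simp [hab w ((e' w).symm.trans hw), e0])
  have h7 : a = 0 := by simpa [h6, two_ne_zero] using h5
  refine (mul_self_eq_one_iff.1 (show b * b = 1 by rw [h7] at h4; linear_combination -h4)).imp
    (fun hb => ext_dec h.pow (fun w hw => by simp [hab w hw, h7, hb]) fun w hw => ?_)
    fun hb => ext_dec h.pow (fun w hw => by simp [hab w hw, h7, hb, h.inv_apply hw]) fun w hw => ?_
  · rw [h.fix w hw, h'.fix w ((e' w).trans hw)]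
  · rw [h'.fix w ((e' w).trans hw), h.inv.fix w ((LinearEquiv.congr_fun h.inv_sq w).trans hw)]

theorem Fd.exists_fix (h : Fd x) (hn : 3 ≤ finrank K V) : ∃ w, w ≠ 0 ∧ x w = w := by
  by_contra! hc
  have : Ng (x * x) = ⊤ := eq_top_iff.2 fun v _ => by
    obtain ⟨a, b, ha, hb, rfl⟩ := dec h.pow v
    rwa [not_not.1 (mt (hc b) (not_not.2 (h.fix b hb))), add_zero]
  have h1 := h.dim
  rw [this, finrank_top] at h1
  omega

theorem Fd.eq_of_smul (h : Fd x) (h' : Fd x') (hn : 3 ≤ finrank K V) {c : K} (e : ∀ v, x' v = c • x v) : x' = x := by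
  obtain ⟨w, h0, hw⟩ := h.exists_fix hn
  have h1 : ∀ v, x' (x' v) = (c * c) • x (x v) := fun v => by rw [e, e, map_smul, smul_smul]
  have h2 : c * c * (c * c) = 1 := smul_left_injective K h0 (by
    simpa [h1, hw, smul_smul] using LinearEquiv.congr_fun h'.pow w)
  rcases mul_self_eq_one_iff.1 h2 with h3 | h3
  · have := h'.fix w (by simp [h1, h3, hw])
    rw [e, hw] at this
    exact LinearEquiv.ext fun v => by rw [e, smul_left_injective K h0 (this.trans (one_smul K w).symm), one_smul]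
  · obtain ⟨u, hu, h4⟩ := h.ns (-c)
    have := h'.fix u (by simp [h1, h3, hu])
    exact absurd (by linear_combination (norm := module) (-c) • ((e u).symm.trans this) + h3 • x u) h4

/-- Commuting involutions with independent `-1`-eigenspaces. -/
def Orth (s s' : V ≃ₗ[K] V) : Prop := Commute s s' ∧ ∀ u, s u = -u → s' u = u

theorem Orth.symm (h : Orth s s') (hs : s * s = 1) : Orth s' s :=
  ⟨h.1.symm, fun u hu => by
    obtain ⟨a, b, ha, hb, rfl⟩ := dec hs u
    have h1 : a + a + (b + s' b) = 0 := by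
      rw [map_add, h.2 a ha] at hu
      linear_combination (norm := module) hu
    rw [eq_zero_of_neg (K := K) (eq_neg_of_add_eq_zero_left (eq_zero_of_add (s := s) (by simp [ha])
      (by rw [map_add, comm_apply h.1, hb]) h1)), zero_add, hb]⟩

theorem comm_of_supp (hs : s * s = 1) {f f' : V ≃ₗ[K] V} (h1 : ∀ v, s v = v → f v = v) (h2 : Commute f s)
    (h3 : ∀ v, s v = -v → f' v = v) (h4 : Commute f' s) : Commute f f' :=
  ext_dec hs (fun a ha => by
    rw [LinearEquiv.mul_apply, LinearEquiv.mul_apply, h3 a ha, h3 _ (by rw [← comm_apply h2, ha, map_neg])]) fun b hb => by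
    rw [LinearEquiv.mul_apply, LinearEquiv.mul_apply, h1 b hb, h1 _ (by rw [← comm_apply h4, hb])]

omit [NeZero (2 : K)] in
theorem comm_sq (x : V ≃ₗ[K] V) : Commute x (x * x) := (Commute.refl x).mul_right (.refl x)

theorem Orth.comm_sq (h : Orth (x * x) s) (hx : Fd x) : Commute x s :=
  comm_of_supp hx.pow hx.fix (PslAut.comm_sq x) h.2 h.1.symm

theorem Orth.comm_fd (h : Orth (x * x) (x' * x')) (hx : Fd x) (hx' : Fd x') : Commute x x' :=
  comm_of_supp hx.pow hx.fix (PslAut.comm_sq x) (fun v hv => hx'.fix v (h.2 v hv))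
    ((h.symm hx.pow).comm_sq hx')

theorem isCompl_Ng (hs : s * s = 1) : IsCompl (Ng s) (Ps s) :=
  ⟨Submodule.disjoint_def.2 fun _ h1 h2 => eq_zero_of_neg (K := K) ((mem_Ps.1 h2).symm.trans h1),
    codisjoint_iff.2 (eq_top_iff.2 fun v _ => let ⟨_, _, ha, hb, e⟩ := dec hs v; e ▸ Submodule.add_mem_sup ha hb)⟩

theorem maschke {A : Subgroup (V ≃ₗ[K] V)} [Finite A] (hA : IsPGroup 2 A) (hW : ∀ a ∈ A, ∀ w ∈ W, a w ∈ W) :
    ∃ W' : Submodule K V, IsCompl W W' ∧ ∀ a ∈ A, ∀ w ∈ W', a w ∈ W' := by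
  classical
  have := Fintype.ofFinite A
  obtain ⟨W₀, h0⟩ := W.exists_isCompl
  obtain ⟨k, hk⟩ := hA.exists_card_eq
  have hc : (Fintype.card A : K) ≠ 0 := by rw [← Nat.card_eq_fintype_card, hk]; simp [two_ne_zero]
  let π : V →ₗ[K] W := (Fintype.card A : K)⁻¹ • ∑ a : A, ((a.1⁻¹ : V ≃ₗ[K] V) : End K V).restrict (hW _ (inv_mem a.2)) ∘ₗ
    W.projectionOnto W₀ h0 ∘ₗ (a.1 : End K V)
  have hπ : ∀ v, (π v : V) = (Fintype.card A : K)⁻¹ • ∑ a : A, a.1⁻¹ (W.projectionOnto W₀ h0 (a.1 v)) := fun v => by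
    simp [π]
  refine ⟨_, LinearMap.isCompl_of_proj (f := π) fun w => Subtype.ext ?_, fun a ha w hw => Subtype.ext ?_⟩
  · have : ∀ a : A, (W.projectionOnto W₀ h0 (a.1 w) : V) = a.1 w := fun a =>
      congrArg Subtype.val (Submodule.projectionOnto_apply_left h0 ⟨_, hW _ a.2 _ w.2⟩)
    simp [hπ, this, ← Nat.cast_smul_eq_nsmul K, smul_smul, hc]
  · have h1 := congrArg (fun z : W => a z) hw
    simp only [hπ, map_smul, map_sum] at h1
    rw [hπ, ← Equiv.sum_comp (Equiv.mulRight (⟨a, ha⟩⁻¹ : A))]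
    simpa using h1

omit [NeZero (2 : K)] in
theorem Ind.fr_of_isCompl (h : Ind K u v) (hc : IsCompl (Submodule.span K {u, v}) W) : Fr u v W :=
  ⟨fun z => by
    obtain ⟨_, ha, w, hw, rfl⟩ := Submodule.mem_sup.1 (hc.sup_eq_top.ge (Submodule.mem_top (x := z)))
    obtain ⟨a, b, rfl⟩ := Submodule.mem_span_pair.1 ha
    exact ⟨a, b, w, hw, rfl⟩, fun a b w hw e => h a b (Submodule.disjoint_def.1 hc.disjoint _
      (Submodule.mem_span_pair.2 ⟨a, b, rfl⟩) (eq_neg_of_add_eq_zero_left e ▸ neg_mem hw))⟩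

end CL.PslAut
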