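/-
Fundamental quaternion subgroups of linear groups in odd characteristic, part 2: recognition and commutation.
-/
import Cfsg.Agent.Fus.PslAut1
import Cfsg.Agent.Fus.Saturation

set_option autoImplicit false

open Module

namespace CL.PslAut

variable {K V Y : Type*} [Field K] [AddCommGroup V] [Module K V] [NeZero (2 : K)] [Group Y]
  {s s' x x' y y' g : V ≃ₗ[K] V} {u v : V} {μ : (V ≃ₗ[K] V) →* Y}

omit [NeZero (2 : K)] in
theorem Fd.exists_neg (h : Fd x) : ∃ u, u ≠ 0 ∧ x (x u) = -u :=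
  let ⟨u, h1, h2⟩ := h.ns 0; ⟨u, fun e => h2 (by simp [e]), h1⟩

omit [NeZero (2 : K)] in
theorem Fd.Ng_eq (h : Fd x) (h' : Fd x') (e : ∀ u, x (x u) = -u → x' (x' u) = -u) (hu : x' (x' u) = -u) :
    x (x u) = -u :=
  have := Module.finite_of_finrank_eq_succ h'.dim
  (Submodule.eq_of_le_of_finrank_eq (show Ng (x * x) ≤ Ng (x' * x') from e) (h.dim.trans h'.dim.symm)).ge hu

theorem QP.eq_or_orth (h' : QP x' y') (h : Fd x) (h1 : Commute x' (x * x)) (h2 : Commute y' (x * x)) :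
    x' * x' = x * x ∨ Orth (x' * x') (x * x) := by
  obtain ⟨c, hc⟩ := h'.scalar h1.symm h2.symm
  obtain ⟨u, h0, hu⟩ := h'.fx.exists_neg
  have h3 : c * c = 1 := smul_left_injective K h0 (by
    have := LinearEquiv.congr_fun h.pow u
    rw [LinearEquiv.mul_apply (x * x), hc u hu, map_smul, hc u hu, smul_smul] at this
    simpa using this)
  have h4 := h1.mul_left h1
  refine (mul_self_eq_one_iff.1 h3).symm.imp (fun e => ?_) fun e => ⟨h4, fun w hw => by rw [hc w hw, e, one_smul]⟩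
  have h5 : ∀ w, x' (x' w) = -w → x (x w) = -w := fun w hw => (hc w hw).trans (by rw [e, neg_one_smul])
  refine ext_dec h.pow (fun a ha => (h'.fx.Ng_eq h h5 ha).trans ha.symm) fun b hb => ?_
  obtain ⟨a, d, ha, hd, rfl⟩ := dec h'.fx.pow b
  have h6 : a + a + (d - (x * x) d) = 0 := by
    rw [map_add, show (x * x) a = -a from h5 a ha] at hb
    linear_combination (norm := module) -hb
  have h7 := eq_zero_of_add (s := x' * x') (by rw [map_add, ha, neg_add]) (by rw [map_sub, comm_apply h4, hd]) h6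
  rw [hb, eq_zero_of_neg (K := K) (eq_neg_of_add_eq_zero_left h7), zero_add, hd]

theorem comm_of_isPGroup [Finite (V ≃ₗ[K] V)] {H : Subgroup (V ≃ₗ[K] V)} (hH : IsPGroup 2 H) (h : QP x y) (hx : x ∈ H)
    (hy : y ∈ H) (hg : Fd g) (hgH : g ∈ H) : Commute g (x * x) := by
  induction hn : Nat.card H using Nat.strong_induction_on generalizing H x y g with
  | _ n ih =>
  rcases eq_top_or_exists_le_coatom ((Subgroup.centralizer {x * x}).subgroupOf H) with e | ⟨M, hM, hle⟩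
  · exact Subgroup.mem_centralizer_singleton_iff.1 (e.ge (Subgroup.mem_top (⟨g, hgH⟩ : H)))
  have := hH.isNilpotent
  have := Subgroup.NormalizerCondition.normal_of_coatom M Group.normalizerCondition_of_isNilpotent hM
  have hc : Nat.card (M.map H.subtype) < n := by
    rw [← hn, Subgroup.card_map_of_injective H.subtype_injective]
    exact lt_of_le_of_ne M.card_le_card_group fun e => hM.1 (M.eq_top_of_card_eq e)
  have a1 : ∀ z ∈ H, ∀ w ∈ H, Commute w (x * x) → z * w * z⁻¹ ∈ M.map H.subtype := fun z hz w hw e =>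
    ⟨_, this.conj_mem ⟨w, hw⟩ (hle (Subgroup.mem_centralizer_singleton_iff.2 e)) ⟨z, hz⟩, rfl⟩
  have b1 := comm_sq x
  have b2 : Commute y (x * x) := h.sq ▸ comm_sq y
  have key : ∀ z ∈ H, Commute z (x * x) ∨ ∀ u, x (x u) = -u → x (x (z u)) = z u := fun z hz => by
    have a2 := fun g hg hgM => ih _ hc (hH.to_le (Subgroup.map_subtype_le M)) h (by simpa using a1 1 (one_mem H) x hx b1)
      (by simpa using a1 1 (one_mem H) y hy b2) (g := g) hg hgM rfl
    refine ((h.conj z).eq_or_orth h.fx (a2 _ (h.fx.conj z) (a1 z hz x hx b1)) (a2 _ (h.fy.conj z) (a1 z hz y hy b2))).imp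
      (fun e => ?_) fun e u hu => e.2 _ (by simp [hu])
    rwa [conj_mul, mul_inv_eq_iff_eq_mul] at e
  by_contra hn'
  have k1 := (key g hgH).resolve_left hn'
  have k3 := (key g⁻¹ (inv_mem hgH)).resolve_left fun e => hn' (by simpa using e.inv_left)
  have k4 : ∀ u, x (x u) = -u → g (g u) + u = x (x (g (g u))) - u := fun u hu => by
    have e : g (g (g (g u))) = u := LinearEquiv.congr_fun hg.pow u
    have := hg.fix (g (g u) + u) (by simp [e, add_comm])
    rw [sub_eq_add_neg, ← hu, ← map_add, ← map_add, ← this, map_add, map_add, map_add, k1 u hu]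
    exact congrArg (· + g u) (by simpa [hg.inv_eq] using (k3 u hu).symm)
  obtain ⟨u, h0, hu⟩ := h.fx.exists_neg
  rcases key (g * g) (mul_mem hgH hgH) with e | e
  · have k5 : ∀ u, x (x u) = -u → g (g u) = -u := fun u hu => eq_neg_of_add_eq_zero_left (eq_zero_of_neg (K := K) (by
      have : x (x (g (g u))) = g (g (x (x u))) := (comm_apply e u).symm
      rw [neg_add, ← sub_eq_add_neg, k4 u hu, this, hu, map_neg, map_neg]))
    exact h0 (g.map_eq_zero_iff.1 (eq_zero_of_neg (K := K) ((k1 u hu).symm.trans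
      (h.fx.Ng_eq hg k5 (by rw [k5 u hu, map_neg])))))
  · have := k4 u hu
    rw [show x (x (g (g u))) = g (g u) from e u hu, sub_eq_add_neg, add_right_inj] at this
    exact h0 (eq_zero_of_neg (K := K) this)

theorem QP.eq_or_orth' [Finite (V ≃ₗ[K] V)] {H : Subgroup (V ≃ₗ[K] V)} (hH : IsPGroup 2 H) (h : QP x y) (hx : x ∈ H)
    (hy : y ∈ H) (h' : QP x' y') (hx' : x' ∈ H) (hy' : y' ∈ H) : x' * x' = x * x ∨ Orth (x' * x') (x * x) :=
  h'.eq_or_orth h.fx (comm_of_isPGroup hH h hx hy h'.fx hx') (comm_of_isPGroup hH h hx hy h'.fy hy')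

/-- The homomorphism identifies exactly the scalar multiples. -/
def Proj (μ : (V ≃ₗ[K] V) →* Y) : Prop := ∀ a b, μ a = μ b ↔ ∃ c : K, ∀ v, a v = c • b v

theorem Proj.eq (hμ : Proj μ) (hn : 3 ≤ finrank K V) (h : Fd x) (h' : Fd x') (e : μ x' = μ x) : x' = x :=
  let ⟨_, hc⟩ := (hμ _ _).1 e; h.eq_of_smul h' hn hc

theorem Proj.comm (hμ : Proj μ) (hn : 3 ≤ finrank K V) (h : Fd x) (e : Commute (μ g) (μ x)) : Commute g x :=
  mul_inv_eq_iff_eq_mul.1 (hμ.eq hn h (h.conj g) (by rw [map_mul, map_mul, e.eq, map_inv, mul_inv_cancel_right]))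

omit [NeZero (2 : K)] in
theorem Proj.sq (hμ : Proj μ) (h : Fd x) (h' : Fd y) (e : μ y * μ y = μ x * μ x) :
    y * y = x * x ∨ ∀ v, y (y v) = -x (x v) := by
  obtain ⟨c, hc⟩ := (hμ (y * y) (x * x)).1 (by simpa using e)
  obtain ⟨u, h0, hu⟩ := h.exists_neg
  have h1 : c * c = 1 := smul_left_injective K h0 (by
    have := LinearEquiv.congr_fun h'.pow u
    rw [LinearEquiv.mul_apply, hc, hc, map_smul, smul_smul, ← LinearEquiv.mul_apply, h.pow] at this
    simpa using this)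
  exact (mul_self_eq_one_iff.1 h1).imp (fun e => LinearEquiv.ext fun v => by rw [hc, e, one_smul])
    fun e v => (hc v).trans (by rw [e, neg_one_smul]; rfl)

theorem Proj.qp (hμ : Proj μ) (hn : 3 ≤ finrank K V) (h : Fd x) (h' : Fd y) (e : μ y * μ y = μ x * μ x)
    (e' : μ y * μ x * (μ y)⁻¹ = (μ x)⁻¹) : QP x y := by
  have h1 := hμ.eq hn h.inv (h.conj y) (by simpa using e')
  refine ⟨h, h', (hμ.sq h h' e).resolve_right fun h2 => ?_, h1⟩
  obtain ⟨u, h0, hu⟩ := h.exists_neg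
  have h3 : y (x u) = x⁻¹ (y u) := LinearEquiv.congr_fun (mul_inv_eq_iff_eq_mul.1 h1) u
  rw [h'.fix u (by rw [h2, hu, neg_neg]), h'.fix _ (by rw [h2, hu, map_neg, neg_neg]), h.inv_apply hu] at h3
  exact h0 (x.map_eq_zero_iff.1 (eq_zero_of_neg (K := K) h3))

theorem Proj.eq_or [FiniteDimensional K V] (hμ : Proj μ) (hn : 3 ≤ finrank K V) (h4 : finrank K V ≠ 4) (h : Fd x)
    (h' : Fd x') (e : μ x' * μ x' = μ x * μ x) (hc : Commute (μ x') (μ x)) : x' = x ∨ x' = x⁻¹ := by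
  refine h.eq_or h' ((hμ.sq h h' e).resolve_right fun h2 => h4 ?_) (hμ.comm hn h hc)
  have : Ps (x * x) = Ng (x' * x') := Submodule.ext fun v => by
    rw [mem_Ps, mem_Ng, LinearEquiv.mul_apply x', h2, neg_inj, LinearEquiv.mul_apply]
  rw [← Submodule.finrank_add_eq_of_isCompl (isCompl_Ng h.pow), this, h.dim, h'.dim]

omit [NeZero (2 : K)] in
theorem Proj.mk_fd (hμ : Proj μ) (hs : s * s = 1) (hd : finrank K (Ng s) = 2) {e β : K} (h1 : ∀ v, g (g v) = e • s v)
    (h2 : ∀ v, s v = v → g v = β • v) (h0 : u ≠ 0) (hu : s u = u) (h3 : ∀ c : K, ∃ w ∈ Ng s, g w ≠ c • w) :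
    ∃ z, Fd z ∧ μ z = μ g := by
  have hβ : β ≠ 0 := fun e => h0 (g.map_eq_zero_iff.1 (by rw [h2 u hu, e, zero_smul]))
  have h4 : β * β = e := smul_left_injective K h0 (by simpa only [h2 u hu, map_smul, smul_smul, hu] using h1 u)
  obtain ⟨z, hz⟩ : ∃ z : V ≃ₗ[K] V, ∀ v, z v = β⁻¹ • g v :=
    ⟨LinearEquiv.smulOfNeZero K V β⁻¹ (inv_ne_zero hβ) * g, fun _ => rfl⟩
  have h5 : z * z = s := LinearEquiv.ext fun v => by
    rw [LinearEquiv.mul_apply, hz, hz, map_smul, h1, ← h4, smul_smul, smul_smul]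
    field_simp
    exact one_smul K _
  have h6 : ∀ v, z (z v) = s v := LinearEquiv.congr_fun h5
  refine ⟨z, ⟨h5 ▸ hs, fun v hv => ?_, h5 ▸ hd, fun c => ?_⟩, (hμ _ _).2 ⟨_, hz⟩⟩
  · rw [hz, h2 v ((h6 v).symm.trans hv), inv_smul_smul₀ hβ]
  · obtain ⟨w, hw, e⟩ := h3 (β * c)
    exact ⟨w, (h6 w).trans hw, fun e' => e (by rw [mul_smul, ← e', hz, smul_inv_smul₀ hβ])⟩

theorem span_of_cond [Finite K] [FiniteDimensional K V] (hμ : Proj μ) {k : ℕ} (hx : x ^ 2 ^ k = 1) {e ε : K}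
    (hP : ∀ t, ∀ g ∈ SLV K V, t * t = 1 → Commute t x → g * x * g⁻¹ = t * x → μ t = 1 ∨ μ t = μ s)
    (hi : Ind K v (x v)) (h1 : x (x v) = e • v) (h2 : s v = ε • v) {w : V} (hw : s w = ε • w) :
    ∃ a b : K, w = a • v + b • x v := by
  have := Fintype.ofFinite K
  have : Finite (Subgroup.zpowers x) := (isOfFinOrder_iff_pow_eq_one.2 ⟨_, by positivity, hx⟩).finite_zpowers.to_subtype
  obtain ⟨W, hW, hW'⟩ := maschke (W := Submodule.span K {v, x v}) (CL.Fus.isPGroup_zpowers_of_pow_eq_one hx) fun a ha => by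
    obtain ⟨n, rfl⟩ := (isOfFinOrder_iff_pow_eq_one.2 ⟨_, by positivity, hx⟩).mem_powers_iff_mem_zpowers.2 ha
    induction n with
    | zero => exact fun _ => id
    | succ n ih =>
      intro w hw
      obtain ⟨a, b, e'⟩ := Submodule.mem_span_pair.1 (ih (Subgroup.npow_mem_zpowers x n) w hw)
      exact Submodule.mem_span_pair.2 ⟨b * e, a, by simp [pow_succ', ← e', h1, smul_smul, add_comm]⟩
  have hF := hi.fr_of_isCompl hW
  have hxW := hW' x (Subgroup.mem_zpowers x)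
  have he : e ≠ 0 := fun e0 => one_ne_zero (hi 1 0 (by simpa [e0] using h1)).1
  obtain ⟨p, q, hpq⟩ := FiniteField.exists_root_sum_quadratic (f := Polynomial.X ^ 2 + 1)
    (g := Polynomial.C (-e) * Polynomial.X ^ 2) (Polynomial.degree_X_pow_add_C two_pos (1 : K))
    (Polynomial.degree_C_mul_X_pow 2 (neg_ne_zero.2 he)) (FiniteField.odd_card_of_char_ne_two fun h =>
      two_ne_zero (α := K) (by simpa [h] using (ringChar.spec K 2).2 (h ▸ dvd_rfl)))
  simp only [Polynomial.eval_add, Polynomial.eval_pow, Polynomial.eval_X, Polynomial.eval_one, Polynomial.eval_mul,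
    Polynomial.eval_C] at hpq
  have hd : p * -p - -(e * q) * q = 1 := by linear_combination -hpq
  obtain ⟨g, g0, g1, g2, g3⟩ := hF.exists_blk (hd ▸ one_ne_zero)
  obtain ⟨t, -, t1, t2, t3⟩ := hF.exists_blk (a := -1) (b := 0) (c := 0) (d := -1) (by simp)
  simp only [neg_smul, one_smul, zero_smul, add_zero, zero_add] at t1 t2
  have h3 : t w = -w := by
    have h0 : v ≠ 0 := fun e0 => one_ne_zero (hi 1 0 (by simp [e0])).1
    rcases hP t g (mem_SLV.2 (g0.trans hd)) (hF.ext (by simp [t1]) (by simp [t2]) fun w hw => by simp [t3 w hw])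
      (hF.ext (by simp [t1, t2]) (by simp [t1, t2, h1]) fun w hw => by simp [t3 w hw, t3 _ (hxW w hw)])
      (mul_inv_eq_iff_eq_mul.2 (hF.ext (by simp [g1, g2, t1, t2, h1, smul_smul, mul_comm, add_comm])
        (by simp [g1, g2, t1, t2, h1, smul_smul, mul_comm, add_comm])
        fun w hw => by simp [g3 w hw, g3 _ (hxW w hw), t3 _ (hxW w hw)])) with h | h
    · obtain ⟨c, hc⟩ := (hμ t 1).1 (h.trans (map_one μ).symm)
      rw [hc, smul_left_injective K h0 ((hc v).symm.trans (t1.trans (neg_one_smul K v).symm)), neg_one_smul]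
      rfl
    · obtain ⟨c, hc⟩ := (hμ t s).1 h
      have := hc v
      rw [h2, smul_smul, t1, ← neg_one_smul K] at this
      rw [hc, hw, smul_smul, ← smul_left_injective K h0 this, neg_one_smul]
  obtain ⟨a, b, w', hw', rfl⟩ := hF.dec w
  simp only [map_add, map_smul, t1, t2, t3 w' hw', smul_neg, neg_add, add_right_inj] at h3
  exact ⟨a, b, by rw [eq_zero_of_neg (K := K) h3, add_zero]⟩

theorem Proj.exists_fd [Finite K] [FiniteDimensional K V] (hμ : Proj μ) {k : ℕ} (hx : x ^ 2 ^ k = 1)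
    (h1 : μ y * μ y = μ x * μ x) (h2 : μ y * μ x * (μ y)⁻¹ = (μ x)⁻¹) (h3 : μ x * μ x * (μ x * μ x) = 1)
    (h4 : μ x * μ x ≠ 1) (hP : finrank K V = 4 ∨
      ∀ t, ∀ g ∈ SLV K V, t * t = 1 → Commute t x → g * x * g⁻¹ = t * x → μ t = 1 ∨ μ t = μ x * μ x) :
    ∃ z, Fd z ∧ (μ z = μ x ∨ μ z = μ y ∨ μ z = μ (x * y)) := by
  obtain ⟨s, hs⟩ : ∃ s, y * x = s * (x * y) := ⟨y * x * (x * y)⁻¹, by group⟩
  have a0 : μ x * μ x = μ s := by
    have := congrArg μ hs
    rw [map_mul, mul_inv_eq_iff_eq_mul.1 h2, map_mul, map_mul, ← mul_assoc, mul_left_inj, ← mul_inv_eq_iff_eq_mul,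
      ← mul_inv_rev] at this
    exact (inv_eq_of_mul_eq_one_right h3).symm.trans this
  obtain ⟨a, ha⟩ := (hμ (x * x) s).1 (by rwa [map_mul])
  obtain ⟨b, hb⟩ := (hμ (y * y) s).1 (by rw [map_mul, h1, a0])
  simp only [LinearEquiv.mul_apply] at ha hb
  have hs' : ∀ v, y (x v) = s (x (y v)) := LinearEquiv.congr_fun hs
  rcases subsingleton_or_nontrivial V with hV | hV
  · exact absurd (by rw [← map_mul, Subsingleton.elim (x * x) 1, map_one]) h4
  obtain ⟨v0, hv0⟩ := exists_ne (0 : V)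
  have a1 : a ≠ 0 := fun e => hv0 (by simpa [e] using ha v0)
  have b1 : b ≠ 0 := fun e => hv0 (by simpa [e] using hb v0)
  have a2 : ∀ v, x (s v) = s (x v) := fun v => smul_right_injective V a1 (by simp only [← map_smul, ← ha])
  have b2 : ∀ v, y (s v) = s (y v) := fun v => smul_right_injective V b1 (by simp only [← map_smul, ← hb])
  have s2 : s * s = 1 := LinearEquiv.ext fun v => by
    obtain ⟨v, rfl⟩ := (x * x * y).surjective v
    change s (s (x (x (y v)))) = x (x (y v))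
    rw [← a2, ← hs', ← hs', ha, ha, map_smul, b2]
  have n1 : ∀ f : V ≃ₗ[K] V, (∀ v, f (s v) = s (f v)) → ∀ v ∈ Ng s, f v ∈ Ng s := fun f hf v hv =>
    (hf v).symm.trans ((congrArg f hv).trans (map_neg f v))
  have n2 : ∀ f : V ≃ₗ[K] V, (∀ v, f (s v) = s (f v)) → ∀ v ∈ Ps s, f v ∈ Ps s := fun f hf v hv =>
    (hf v).symm.trans (congrArg f hv)
  have n3 : ∀ v ∈ Ng s, y (x v) = -x (y v) := fun v hv => (hs' v).trans (n1 x a2 _ (n1 y b2 v hv))
  have n4 : ∀ v ∈ Ps s, y (x v) = x (y v) := fun v hv => (hs' v).trans (n2 x a2 _ (n2 y b2 v hv))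
  obtain ⟨u, u0, hu⟩ : ∃ u, u ≠ 0 ∧ s u = u := by
    by_contra! h
    refine h4 (a0.trans (((hμ s 1).2 ⟨-1, fun v => ?_⟩).trans (map_one μ)))
    obtain ⟨a, b, ha, hb, rfl⟩ := dec s2 v
    simp [not_not.1 (mt (h b) (not_not.2 hb)), ha]
  obtain ⟨w, w0, hw⟩ : ∃ w, w ≠ 0 ∧ s w = -w := by
    by_contra! h
    refine h4 (a0.trans (((hμ s 1).2 ⟨1, fun v => ?_⟩).trans (map_one μ)))
    obtain ⟨a, b, ha, hb, rfl⟩ := dec s2 v
    simp [not_not.1 (mt (h a) (not_not.2 ha)), hb]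
  have n5 : ∀ f f' : V ≃ₗ[K] V, (∀ v ∈ Ng s, f' v ∈ Ng s) → (∀ v ∈ Ng s, f' (f v) = -f (f' v)) →
      ∀ c : K, ∃ w ∈ Ng s, f w ≠ c • w := fun f f' e1 e2 c => by
    by_contra! h
    have := e2 w hw
    rw [h w hw, map_smul, ← h _ (e1 w hw)] at this
    exact w0 (by simpa using eq_zero_of_neg (K := K) this)
  have x1 := n5 x y (n1 y b2) n3
  obtain ⟨v, hv, hi⟩ := exists_ind (n1 x a2) x1
  have hc := Submodule.finrank_add_eq_of_isCompl (isCompl_Ng s2)
  have hd : finrank K (Ng s) = 2 := by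
    have d1 : Submodule.span K {v, x v} ≤ Ng s := Submodule.span_le.2 (Set.pair_subset hv (n1 x a2 v hv))
    rcases hP with hP | hP
    · have d2 := hi.rank_eq ▸ Submodule.finrank_mono d1
      have d3 : finrank K (Ps s) ≠ 0 := fun e => u0 ((Submodule.eq_bot_iff _).1 (Submodule.finrank_eq_zero.1 e) u hu)
      by_contra d4
      have d5 : ((y : End K V).restrict (n1 y b2)) ∘ₗ (x : End K V).restrict (n1 x a2) =
          (-1 : K) • ((x : End K V).restrict (n1 x a2) ∘ₗ (y : End K V).restrict (n1 y b2)) :=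
        LinearMap.ext fun v => Subtype.ext ((n3 v v.2).trans (neg_one_smul K _).symm)
      have d6 : ∀ (f : V ≃ₗ[K] V) (hf : ∀ v ∈ Ng s, f v ∈ Ng s), ((f : End K V).restrict hf).det ≠ 0 := fun f hf e =>
        (LinearMap.det_eq_zero_iff_ker_ne_bot.1 e) (LinearMap.ker_eq_bot.2 fun _ _ h =>
          Subtype.ext (f.injective (congrArg Subtype.val h)))
      have d7 := congrArg LinearMap.det d5
      rw [LinearMap.det_smul, LinearMap.det_comp, LinearMap.det_comp, show finrank K (Ng s) = 3 by omega, mul_comm,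
        ← sub_eq_zero] at d7
      exact mul_ne_zero (two_ne_zero (α := K)) (mul_ne_zero (d6 x (n1 x a2)) (d6 y (n1 y b2))) (by linear_combination d7)
    · rw [← hi.rank_eq, le_antisymm d1 fun w hw => ?_]
      obtain ⟨c, d, e⟩ := span_of_cond hμ hx (a0 ▸ hP) hi (e := -a) (ε := -1) (by rw [ha, mem_Ng.1 hv]; simp)
        (by rw [mem_Ng.1 hv]; simp) (w := w) (by rw [mem_Ng.1 hw]; simp)
      exact Submodule.mem_span_pair.2 ⟨c, d, e.symm⟩
  by_cases hx' : ∃ c : K, ∀ v ∈ Ps s, x v = c • v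
  · obtain ⟨c, hc⟩ := hx'
    exact (hμ.mk_fd s2 hd ha hc u0 hu x1).imp fun z hz => ⟨hz.1, Or.inl hz.2⟩
  obtain ⟨v, hv, hi⟩ := exists_ind (n2 x a2) (by simpa using hx')
  have sp : ∀ w ∈ Ps s, ∃ c d : K, w = c • v + d • x v := fun w hw => hP.elim
    (fun e => hi.span (by omega) hv (n2 x a2 v hv) hw) fun hP =>
      span_of_cond hμ hx (a0 ▸ hP) hi (e := a) (ε := 1) (by rw [ha, mem_Ps.1 hv]) (by rw [mem_Ps.1 hv, one_smul])
        (by rw [mem_Ps.1 hw, one_smul])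
  obtain ⟨c, d, e⟩ := sp _ (n2 y b2 v hv)
  have e1 : x (x v) = a • v := by rw [ha, mem_Ps.1 hv]
  have e2 : ∀ w ∈ Ps s, y w = c • w + d • x w := fun w hw => by
    obtain ⟨p, q, rfl⟩ := sp w hw
    simp only [map_add, map_smul, n4 v hv, e, e1]
    module
  have e3 := hb v
  rw [e2 _ (n2 y b2 v hv), e, map_add, map_smul, map_smul, e1, show s v = v from hv] at e3
  rcases mul_eq_zero.1 ((mul_eq_zero.1 (hi (c * c + d * d * a - b) (2 * (c * d))
    (by linear_combination (norm := module) e3)).2).resolve_left two_ne_zero) with rfl | rfl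
  · refine (hμ.mk_fd (g := x * y) (e := a * b) (β := d * a) s2 hd (fun v => ?_) (fun v hv => ?_) u0 hu
      (n5 _ y (n1 y b2) fun v hv => n3 _ (n1 y b2 v hv))).imp fun z hz => ⟨hz.1, Or.inr (Or.inr hz.2)⟩
    · change x (y (x (y v))) = _
      rw [hs', a2, ha, hb, map_smul, map_smul, map_smul, smul_smul, show s (s (s v)) = s v from LinearEquiv.congr_fun s2 _]
    · rw [LinearEquiv.mul_apply, e2 v hv, zero_smul, zero_add, map_smul, ha, hv, smul_smul]
  · exact (hμ.mk_fd s2 hd hb (fun v hv => by rw [e2 v hv, zero_smul, add_zero]) u0 hu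
      (n5 y x (n1 x a2) fun v hv => by rw [n3 v hv, neg_neg])).imp fun z hz => ⟨hz.1, Or.inr (Or.inl hz.2)⟩

omit [NeZero (2 : K)] in
theorem dil_comm {d : V ≃ₗ[K] V} {f : V →ₗ[K] K} {c ε : K} (hd : ∀ z, d z = z + (f z * c) • v) (h1 : s v = ε • v)
    (h2 : ∀ z, f (s z) = ε * f z) : Commute d s :=
  LinearEquiv.ext fun z => by simp [hd, h1, h2, smul_smul, mul_comm, mul_left_comm]

theorem exists_adj [FiniteDimensional K V] {S : Set (V ≃ₗ[K] V)} (h1 : ∀ s ∈ S, s * s = 1 ∧ ∃ u, u ≠ 0 ∧ s u = -u)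
    (h2 : ∀ s ∈ S, ∀ s' ∈ S, s = s' ∨ Orth s s') (hs : s ∈ S) (h0 : u ≠ 0) (hu : s u = u) {c : K} (hc : c ≠ 0) :
    ∃ d : V ≃ₗ[K] V, dt d = c ∧ (∀ s' ∈ S, Commute d s') ∧ ∀ w, s w = -w → d w = w := by
  have key : ∀ (s' : V ≃ₗ[K] V) (ε : K) w, s' * s' = 1 → w ≠ 0 → s' w = ε • w → ε * ε = 1 → ∃ f : V →ₗ[K] K, f w = 1 ∧
      (∀ z, f (s' z) = ε * f z) ∧ ∀ z, s' z = -ε • z → f z = 0 := fun s' ε w e1 e2 e3 e4 => by
    obtain ⟨f, hf⟩ := Projective.exists_dual_eq_one K e2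
    have e5 : ∀ z, s' (s' z) = z := LinearEquiv.congr_fun e1
    refine ⟨(2 : K)⁻¹ • (f + ε • f ∘ₗ (s' : End K V)), ?_, fun z => ?_, fun z hz => ?_⟩
    · simp [hf, e3, e4, ← two_mul, two_ne_zero]
    · simp only [LinearMap.smul_apply, LinearMap.add_apply, LinearMap.comp_apply, LinearEquiv.coe_coe, e5, smul_eq_mul]
      linear_combination (-2⁻¹ * f (s' z)) * e4
    · simp [hz, ← mul_assoc, e4]
  by_cases h : ∃ s' ∈ S, s ≠ s'
  · obtain ⟨s', hs', e⟩ := h
    obtain ⟨e1, w, w0, hw⟩ := h1 s' hs'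
    obtain ⟨f, f1, f2, f3⟩ := key s' (-1) w e1 w0 (by simp [hw]) (by simp)
    obtain ⟨d, d1, d2⟩ := exists_dil f1 hc
    have f4 : ∀ t ∈ S, t ≠ s' → ∀ z, t z = -z → f z = 0 := fun t ht e z hz =>
      f3 z (by simp [((h2 t ht s' hs').resolve_left e).2 z hz])
    refine ⟨d, d1, fun t ht => ?_, fun z hz => by simp [d2, f4 s hs e z hz]⟩
    rcases h2 s' hs' t ht with rfl | e'
    · exact dil_comm d2 (by simp [hw]) f2
    · refine dil_comm (ε := 1) d2 (by simp [e'.2 w hw]) fun z => ?_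
      obtain ⟨a, b, ha, hb, rfl⟩ := dec (h1 t ht).1 z
      have : t ≠ s' := fun e => w0 (eq_zero_of_neg (K := K) ((e'.2 w hw).symm.trans (e ▸ hw)))
      simp [ha, hb, f4 t ht this a ha]
  · obtain ⟨f, f1, f2, f3⟩ := key s 1 u (h1 s hs).1 h0 (by simp [hu]) (by simp)
    obtain ⟨d, d1, d2⟩ := exists_dil f1 hc
    exact ⟨d, d1, fun t ht => not_not.1 (not_and.1 (not_exists.1 h t) ht) ▸ dil_comm d2 (by simp [hu]) f2,
      fun z hz => by simp [d2, f3 z (by simp [hz])]⟩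

theorem QP.exists_add [FiniteDimensional K V] (h : QP x y) : ∃ g : V ≃ₗ[K] V, (∀ v, g v = x v + y v) ∧
    g * x * g⁻¹ = y ∧ g * y * g⁻¹ = x := by
  obtain ⟨g, hg⟩ : ∃ g : V ≃ₗ[K] V, ∀ v, g v = x v + y v :=
    ⟨LinearEquiv.ofInjectiveEndo ((x : End K V) + y) ((injective_iff_map_eq_zero _).2 fun v hv => by
      obtain ⟨a, b, ha, hb, rfl⟩ := dec h.fx.pow v
      have h1 : x a + y a + (b + b) = 0 := by
        rw [← hv]
        simp [h.fx.fix b hb, h.fy.fix b ((h.sq_apply b).trans hb), add_add_add_comm]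
      have ha' : x (x a) = -a := ha
      have h2 := eq_zero_of_add (s := x * x) (by simp [ha', h.mem ha', add_comm]) (by rw [map_add, hb]) h1
      have h3 : x (x a + y a) + y (x a + y a) = 0 := by simp [h2]
      rw [map_add, map_add, h.anti ha', h.sq_apply, ha'] at h3
      rw [h2, zero_add] at h1
      rw [eq_zero_of_neg (K := K) (eq_neg_of_add_eq_zero_left h1), add_zero]
      exact eq_zero_of_neg (K := K) (by linear_combination (norm := module) -h3)), fun _ => rfl⟩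
  have key : ∀ {x y : V ≃ₗ[K] V}, QP x y → (∀ v, g v = x v + y v) → g * x * g⁻¹ = y := fun {x y} h hg =>
    mul_inv_eq_iff_eq_mul.2 (LinearEquiv.ext fun v => by simp [hg, h.sq_apply, add_comm])
  exact ⟨g, hg, key h hg, key h.symm fun v => (hg v).trans (add_comm _ _)⟩

theorem QP.exists_conj [FiniteDimensional K V] (h : QP x y) (hn : 3 ≤ finrank K V) :
    ∃ g ∈ SLV K V, g * x * g⁻¹ = y := by
  obtain ⟨g, -, hg, -⟩ := h.exists_add
  obtain ⟨u, h0, hu⟩ := h.fy.exists_fix hn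
  obtain ⟨d, d1, d2, d3⟩ := exists_adj (S := {y * y}) (fun s hs => hs ▸ ⟨h.fy.pow, h.fy.exists_neg⟩)
    (fun s hs s' hs' => Or.inl (hs.trans hs'.symm)) rfl h0 (by simp [hu]) (inv_ne_zero (dt_ne g))
  refine ⟨d * g, mem_SLV.2 (by rw [dt_mul, d1, inv_mul_cancel₀ (dt_ne g)]), ?_⟩
  rw [mul_inv_rev, mul_assoc d, mul_assoc d, ← mul_assoc _ g⁻¹, hg, ← mul_assoc,
    ← (comm_of_supp h.fy.pow h.fy.fix (comm_sq y) d3 (d2 _ rfl)).eq, mul_inv_cancel_right]

end CL.PslAut
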