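/-
Fundamental quaternion subgroups of linear groups in odd characteristic, part 3: systems of orthogonal involutions.
-/
import Cfsg.Agent.Fus.PslAut2

set_option autoImplicit false

open Module

namespace CL.PslAut

variable {K V : Type*} [Field K] [AddCommGroup V] [Module K V] [NeZero (2 : K)]
  {s s' x x' y g z : V ≃ₗ[K] V} {u v : V} {S : Set (V ≃ₗ[K] V)} {W : Submodule K V}

/-- The common fixed space. -/
def Fx (S : Set (V ≃ₗ[K] V)) : Submodule K V where
  carrier := {w | ∀ s ∈ S, s w = w}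
  zero_mem' := fun s _ => map_zero s
  add_mem' := fun ha hb s hs => by rw [map_add, ha s hs, hb s hs]
  smul_mem' := fun c w hw s hs => by rw [map_smul, hw s hs]

/-- A finite family of involutions with independent two-dimensional `-1`-eigenspaces. -/
structure Sys (S : Set (V ≃ₗ[K] V)) : Prop where
  fin : S.Finite
  sq : ∀ s ∈ S, s * s = 1
  dim : ∀ s ∈ S, finrank K (Ng s) = 2
  orth : ∀ s ∈ S, ∀ s' ∈ S, s = s' ∨ Orth s s'

omit [NeZero (2 : K)] in
theorem Sys.mono (h : Sys S) {J : Set (V ≃ₗ[K] V)} (hJ : J ⊆ S) : Sys J :=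
  ⟨h.fin.subset hJ, fun s hs => h.sq s (hJ hs), fun s hs => h.dim s (hJ hs), fun s hs t ht => h.orth s (hJ hs) t (hJ ht)⟩

omit [NeZero (2 : K)] in
theorem Sys.neg (h : Sys S) (hs : s ∈ S) : ∃ u, u ≠ 0 ∧ s u = -u := by
  by_contra! hn
  have := h.dim s hs
  rw [(Submodule.eq_bot_iff (Ng s)).2 fun u hu => not_not.1 (mt (hn u) (not_not.2 hu)), finrank_bot] at this
  omega

theorem Sys.ext (h : Sys S) {f f' : End K V} (h1 : ∀ s ∈ S, ∀ u, s u = -u → f u = f' u) (h2 : ∀ w ∈ Fx S, f w = f' w) :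
    f = f' := by
  have key : ∀ J, J ⊆ S → ∀ v, ∃ w ∈ Fx J, f (v - w) = f' (v - w) := fun J hJ v => by
    induction J, h.fin.subset hJ using Set.Finite.induction_on with
    | empty => exact ⟨v, fun _ => False.elim, by simp⟩
    | @insert s J hs _ ih =>
      obtain ⟨w, hw, e⟩ := ih ((Set.subset_insert _ _).trans hJ)
      have hs' := hJ (Set.mem_insert _ _)
      obtain ⟨a, b, ha, hb, rfl⟩ := dec (h.sq s hs') w
      refine ⟨b, Set.forall_mem_insert.2 ⟨hb, fun t ht => ?_⟩, by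
        rw [show v - b = v - (a + b) + a by abel, map_add, map_add, e, h1 s hs' a ha]⟩
      have := hw t ht
      rwa [map_add, ((h.orth s hs' t (hJ (Or.inr ht))).resolve_left fun e => hs (e ▸ ht)).2 a ha, add_right_inj] at this
  refine LinearMap.ext fun v => ?_
  obtain ⟨w, hw, e⟩ := key S le_rfl v
  rw [← sub_add_cancel v w, map_add, map_add, e, h2 w hw]

theorem Sys.swap [FiniteDimensional K V] (h : Sys S) (hs : s ∈ S) (hs' : s' ∈ S) (hne : s ≠ s') :
    ∃ g ∈ SLV K V, g * s * g⁻¹ = s' ∧ g * s' * g⁻¹ = s ∧ ∀ t ∈ S, t ≠ s → t ≠ s' → g * t * g⁻¹ = t := by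
  have o1 := (h.orth s hs s' hs').resolve_left hne
  have o2 := o1.symm (h.sq s hs)
  obtain ⟨θ, hθ⟩ := Submodule.exists_linearEquiv_restrict_eq
    (LinearEquiv.ofFinrankEq (Ng s) (Ng s') ((h.dim s hs).trans (h.dim s' hs').symm))
  have t1 : ∀ a, s a = -a → s' (θ a) = -θ a := fun a ha => hθ ⟨a, ha⟩ ▸ mem_Ng.1 (Subtype.property _)
  have t2 : ∀ b, s' b = -b → s (θ.symm b) = -θ.symm b := fun b hb => by
    obtain ⟨a, ha⟩ := (LinearEquiv.ofFinrankEq (Ng s) (Ng s') ((h.dim s hs).trans (h.dim s' hs').symm)).surjective ⟨b, hb⟩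
    rw [show b = θ a from (congrArg Subtype.val ha).symm.trans (hθ a), θ.symm_apply_apply, mem_Ng.1 a.2]
  obtain ⟨f, f1, f2, f3⟩ : ∃ f : End K V, (∀ a, s a = -a → f a = θ a) ∧ (∀ b, s' b = -b → f b = θ.symm b) ∧
      ∀ c, s c = c → s' c = c → f c = c := by
    refine ⟨(2 : K)⁻¹ • ((θ : End K V) * (1 - s) + (θ.symm : End K V) * (1 - s') + (s + s')), fun a ha => ?_,
      fun a ha => ?_, fun a ha hb => ?_⟩
    · simp [ha, o1.2 a ha, ← two_smul K, smul_smul, two_ne_zero]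
    · simp [ha, o2.2 a ha, ← two_smul K, smul_smul, two_ne_zero]
    · simp [ha, hb, ← two_smul K, smul_smul, two_ne_zero]
  have ext : ∀ {p q : End K V}, (∀ a, s a = -a → p a = q a) → (∀ a, s' a = -a → p a = q a) →
      (∀ c, s c = c → s' c = c → p c = q c) → p = q := fun e1 e2 e3 =>
    (h.mono (Set.pair_subset hs hs')).ext (Set.forall_mem_insert.2 ⟨e1, fun _ e => e ▸ e2⟩)
      fun w hw => e3 w (hw s (Or.inl rfl)) (hw s' (Or.inr rfl))
  have f0 : f * f = 1 := ext (fun a ha => by simp [f1 a ha, f2 _ (t1 a ha)]) (fun a ha => by simp [f2 a ha, f1 _ (t2 a ha)])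
    fun c h1 h2 => by simp [f3 c h1 h2]
  obtain ⟨g, hg⟩ : ∃ g : V ≃ₗ[K] V, ∀ v, g v = f v := ⟨.ofLinearMap f f f0 f0, fun _ => rfl⟩
  obtain ⟨u, h0, hu⟩ := h.neg hs'
  obtain ⟨d, d1, d2, -⟩ := exists_adj (fun s hs => ⟨h.sq s hs, h.neg hs⟩) h.orth hs h0 (o2.2 u hu) (inv_ne_zero (dt_ne g))
  have key : ∀ t ∈ S, ∀ t' ∈ S, f * (t : End K V) = (t' : End K V) * f → d * g * t * (d * g)⁻¹ = t' := fun t _ t' ht' e => by
    rw [mul_inv_eq_iff_eq_mul, ← mul_assoc, ← (d2 t' ht').eq, mul_assoc, mul_assoc, mul_right_inj]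
    exact LinearEquiv.ext fun v => by simpa [hg] using LinearMap.congr_fun e v
  refine ⟨d * g, mem_SLV.2 (by rw [dt_mul, d1, inv_mul_cancel₀ (dt_ne g)]),
    key s hs s' hs' (ext (fun a ha => by simp [ha, f1 a ha, t1 a ha])
      (fun a ha => by simp [o2.2 a ha, f2 a ha, o1.2 _ (t2 a ha)]) fun c h1 h2 => by simp [h1, h2, f3 c h1 h2]),
    key s' hs' s hs (ext (fun a ha => by simp [o1.2 a ha, f1 a ha, o2.2 _ (t1 a ha)])
      (fun a ha => by simp [ha, f2 a ha, t2 a ha]) fun c h1 h2 => by simp [h1, h2, f3 c h1 h2]), fun t ht e1 e2 => ?_⟩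
  have o3 := (h.orth s hs t ht).resolve_left e1.symm
  have o4 := (h.orth s' hs' t ht).resolve_left e2.symm
  exact key t ht t ht (ext (fun a ha => by simp [o3.2 a ha, f1 a ha, o4.2 _ (t1 a ha)])
    (fun a ha => by simp [o4.2 a ha, f2 a ha, o3.2 _ (t2 a ha)]) fun c h1 h2 => by
      simp [f3 c h1 h2, f3 (t c) (by rw [comm_apply o3.1, h1]) (by rw [comm_apply o4.1, h2])])

theorem Sys.sign (h : Sys S) {C : Subgroup (V ≃ₗ[K] V)} (hC : S ⊆ C) {c : K} (h1 : ∀ v, z (z v) = c • v)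
    (h2 : ∀ s ∈ S, ∃ a : K, ∀ u, s u = -u → z u = a • u) (h3 : ∃ a : K, ∀ w ∈ Fx S, z w = a • w) :
    ∃ t ∈ C, ∃ a : K, ∀ v, z v = a • t v := by
  have key : ∀ J, J ⊆ S → ∃ t ∈ C, (∀ s ∈ J, ∀ u, s u = -u → t u = -u) ∧ ∀ u ∈ Fx J, t u = u := fun J hJ => by
    induction J, h.fin.subset hJ using Set.Finite.induction_on with
    | empty => exact ⟨1, one_mem C, fun _ => False.elim, fun _ _ => rfl⟩
    | @insert s J hs _ ih =>
      obtain ⟨t, ht, e1, e2⟩ := ih ((Set.subset_insert _ _).trans hJ)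
      have hs' := hJ (Set.mem_insert _ _)
      have o : ∀ r ∈ J, Orth s r := fun r hr => (h.orth s hs' r (hJ (Or.inr hr))).resolve_left fun e => hs (e ▸ hr)
      refine ⟨s * t, mul_mem (hC hs') ht, Set.forall_mem_insert.2 ⟨fun u hu => ?_, fun r hr u hu => ?_⟩, fun u hu => ?_⟩
      · rw [LinearEquiv.mul_apply, e2 u fun r hr => (o r hr).2 u hu, hu]
      · rw [LinearEquiv.mul_apply, e1 r hr u hu, map_neg, ((o r hr).symm (h.sq s hs')).2 u hu]
      · rw [LinearEquiv.mul_apply, e2 u fun r hr => hu r (Or.inr hr), hu s (Or.inl rfl)]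
  have ev : ∀ (a : K) u, u ≠ 0 → z u = a • u → a * a = c := fun a u h0 e =>
    smul_left_injective K h0 (by simpa only [e, map_smul, smul_smul] using h1 u)
  have ev' : ∀ s ∈ S, ∀ a : K, (∀ u, s u = -u → z u = a • u) → a * a = c := fun s hs a e =>
    let ⟨u, h0, hu⟩ := h.neg hs; ev a u h0 (e u hu)
  obtain ⟨a, a1, a2⟩ : ∃ a : K, (∀ w ∈ Fx S, z w = a • w) ∧ ∀ s ∈ S, a * a = c := by
    obtain ⟨b, hb⟩ := h3
    by_cases h4 : ∃ w ∈ Fx S, w ≠ 0
    · exact let ⟨w, hw, h0⟩ := h4; ⟨b, hb, fun _ _ => ev b w h0 (hb w hw)⟩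
    rcases S.eq_empty_or_nonempty with rfl | ⟨s, hs⟩
    · exact ⟨b, hb, fun _ => False.elim⟩
    · obtain ⟨a, ha⟩ := h2 s hs
      exact ⟨a, fun w hw => by simp [not_not.1 (not_and.1 (not_exists.1 h4 w) hw)], fun _ _ => ev' s hs a ha⟩
  obtain ⟨t, ht, t1, t2⟩ := key {s ∈ S | ∀ u, s u = -u → z u = -a • u} fun _ h => h.1
  refine ⟨t, ht, a, LinearMap.congr_fun (h.ext (f := z) (f' := a • (t : End K V)) (fun s hs u hu => ?_) fun w hw => ?_)⟩
  · obtain ⟨b, hb⟩ := h2 s hs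
    by_cases e : ∀ u, s u = -u → z u = -a • u
    · simp [t1 s ⟨hs, e⟩ u hu, e u hu]
    · have := (mul_self_eq_mul_self_iff.1 ((ev' s hs b hb).trans (a2 s hs).symm)).resolve_right fun e' => e (e' ▸ hb)
      simp [hb u hu, this, t2 u fun r hr => ((h.orth s hs r hr.1).resolve_left fun e' => e (e' ▸ hr.2)).2 u hu]
  · simp [a1 w hw, t2 w fun r hr => hw r hr.1]

theorem Fd.qp_of_inv [FiniteDimensional K V] (h : Fd x) (hg : g ∈ SLV K V) (h1 : ∀ v, x (x v) = v → g v = v)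
    (h2 : g * x * g⁻¹ = x⁻¹) : QP x g := by
  have h3 : ∀ v, g (x v) = x⁻¹ (g v) := LinearEquiv.congr_fun (mul_inv_eq_iff_eq_mul.1 h2)
  have h4 : ∀ v, x (x v) = -v → x (x (g v)) = -g v := fun v hv => by
    rw [← map_neg, ← hv, h3, h3]
    exact (LinearEquiv.congr_fun h.inv_sq _).symm
  have h5 : ∀ v, x (x v) = -v → g (x v) = -x (g v) := fun v hv => (h3 v).trans (h.inv_apply (h4 v hv))
  obtain ⟨u, hu, hi, hsp⟩ := h.cyc
  obtain ⟨p, q, e⟩ := hsp _ (h4 u hu)
  have hF := hi.fr h.pow h.dim hu (by simp [hu])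
  have e' : g (x u) = q • u + -p • x u := by
    rw [h5 u hu, e, map_add, map_smul, map_smul, hu]
    module
  have h6 := (mem_SLV.1 hg).symm.trans (hF.dt_eq e e' h1)
  have h7 : g (g u) = -u := by
    rw [e, map_add, map_smul, map_smul, e, e']
    linear_combination (norm := module) h6 • u
  have h8 : g * g = x * x := hF.ext (by simp [h7, hu]) (by simp [h5 u hu, h5 _ (h4 u hu), h7, hu])
    fun w hw => by rw [LinearEquiv.mul_apply, h1 w hw, h1 w hw, mem_Ps.1 hw]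
  refine ⟨h, ⟨h8 ▸ h.pow, fun v hv => h1 v ((LinearEquiv.congr_fun h8 v).symm.trans hv), h8 ▸ h.dim, fun c => ?_⟩, h8, h2⟩
  by_contra! hc
  have h9 := hc (x u) (by simp [h5 u hu, h5 _ (h4 u hu), h7])
  rw [h5 u hu, hc u h7, map_smul] at h9
  have h10 := hc u h7
  rw [(hi 0 c (by simpa using eq_zero_of_neg (K := K) h9.symm)).2, zero_smul, g.map_eq_zero_iff] at h10
  simpa using (hi 1 0 (by simp [h10])).1

theorem QP.eq_one_or [FiniteDimensional K V] (h : QP x y) (hg : g ∈ SLV K V) (h1 : ∀ v, x (x v) = v → g v = v)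
    (h2 : Commute g x) (h3 : Commute g y) : g = 1 ∨ g = x * x := by
  obtain ⟨c, hc⟩ := h.scalar h2 h3
  obtain ⟨u, hu, hi, -⟩ := h.fx.cyc
  have := (mem_SLV.1 hg).symm.trans ((hi.fr h.fx.pow h.fx.dim hu (by simp [hu])).dt_eq (a := c) (b := 0) (c := 0) (d := c)
    (by simp [hc u hu]) (by simp [hc (x u) (by simp [hu])]) h1)
  exact (mul_self_eq_one_iff.1 (by simpa using this.symm)).imp
    (fun e => ext_dec h.fx.pow (fun a ha => by simp [hc a ha, e]) fun b hb => by simp [h1 b hb])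
    fun e => ext_dec h.fx.pow (fun a ha => by rw [hc a ha, e, ha, neg_one_smul]) fun b hb => by rw [h1 b hb, hb]

theorem QP.type (h : QP x y) {c : K} (h1 : Commute g x) (h2 : ∀ v, g (g v) = c • v) (h3 : ¬ Commute g y) :
    ∃ b : K, ∀ w, x (x w) = -w → g w = b • x w := by
  obtain ⟨a, b, e⟩ := h.fx.cent h1
  obtain ⟨u, hu, hi, -⟩ := h.fx.cyc
  have h4 := h2 u
  rw [e u hu, map_add, map_smul, map_smul, comm_apply h1, e u hu, map_add, map_smul, map_smul, hu] at h4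
  rcases mul_eq_zero.1 ((mul_eq_zero.1 (hi (a * a - b * b - c) (2 * (a * b))
    (by linear_combination (norm := module) h4)).2).resolve_left two_ne_zero) with rfl | rfl
  · exact ⟨b, by simpa using e⟩
  · refine absurd (ext_dec h.fx.pow (fun w hw => by simp [e w hw, e _ (h.mem hw)]) fun w hw => ?_) h3
    have h5 : ∀ w, x (x w) = w → y w = w := fun w hw => h.fy.fix w ((h.sq_apply w).trans hw)
    rw [LinearEquiv.mul_apply, LinearEquiv.mul_apply, h5 w hw, h5]
    rw [← comm_apply h1, ← comm_apply h1]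
    exact congrArg g hw

theorem Fr.exists_qp [Finite K] [FiniteDimensional K V] (h : Fr u v W) :
    ∃ x y : V ≃ₗ[K] V, QP x y ∧ (∀ w ∈ W, x w = w) ∧ (∀ w ∈ W, y w = w) ∧ Ng (x * x) = Submodule.span K {u, v} := by
  obtain ⟨a, b, hab⟩ := have := NeZero.mk (CharP.ringChar_ne_zero_of_finite K); CharP.sq_add_sq K (ringChar K) (-1)
  have hd : (a : K) * -a - b * b = 1 := by
    push_cast at hab
    linear_combination -hab
  obtain ⟨x, -, x1, x2, x3⟩ := h.exists_blk (a := 0) (b := -1) (c := 1) (d := 0) (by simp)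
  obtain ⟨y, y0, y1, y2, y3⟩ := h.exists_blk (hd ▸ one_ne_zero)
  simp only [zero_smul, one_smul, neg_smul, zero_add, add_zero] at x1 x2
  have hi : Ind K u v := fun a b e => h.ind a b 0 (zero_mem _) (by rw [e, add_zero])
  have h1 : ∀ z, x (x z) = z → z ∈ W := fun z hz => by
    obtain ⟨p, q, w, hw, rfl⟩ := h.dec z
    simp only [map_add, map_smul, map_neg, x1, x2, x3 w hw, smul_neg, add_left_inj, ← neg_add] at hz
    rwa [eq_zero_of_neg (K := K) hz.symm, zero_add]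
  have h2 : Ng (x * x) = Submodule.span K {u, v} := le_antisymm (fun z hz => by
    obtain ⟨p, q, w, hw, rfl⟩ := h.dec z
    simp only [mem_Ng, LinearEquiv.mul_apply, map_add, map_smul, map_neg, x1, x2, x3 w hw, smul_neg, neg_add,
      add_right_inj] at hz
    exact Submodule.mem_span_pair.2 ⟨p, q, by rw [eq_zero_of_neg (K := K) hz, add_zero]⟩)
    (Submodule.span_le.2 (Set.pair_subset (by simp [mem_Ng, x1, x2]) (by simp [mem_Ng, x1, x2])))
  have hx : Fd x := ⟨h.ext (by simp [x1, x2]) (by simp [x1, x2]) fun w hw => by simp [x3 w hw],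
    fun z hz => x3 z (h1 z hz), h2 ▸ hi.rank_eq, fun c => ⟨u, by simp [x1, x2], fun e =>
      one_ne_zero (hi (-c) 1 (by simp [← e, x1])).2⟩⟩
  refine ⟨x, y, hx.qp_of_inv (mem_SLV.2 (y0.trans hd)) (fun z hz => y3 z (h1 z hz)) ?_, x3, y3, h2⟩
  rw [mul_inv_eq_iff_eq_mul, eq_inv_mul_iff_mul_eq]
  exact h.ext (by simp [x1, x2, y1, y2, add_comm]) (by simp [x1, x2, y1, y2, add_comm]) fun w hw => by simp [x3 w hw, y3 w hw]

end CL.PslAut
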