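/-
Fundamental quaternion subgroups of linear groups in odd characteristic, part 4: fusion preserving automorphisms of a
Sylow `2`-subgroup permute the fundamental subgroups, trivially if they have odd order.
-/
import Cfsg.Agent.Fus.PslAut3
import Cfsg.Agent.Known.AltSelfNorm

set_option autoImplicit false

open Module Subgroup CL.Fus

namespace CL.PslAut

theorem exists_conj2 {G : Type*} [Group G] [Finite G] {H L : Subgroup G} (h : SylIn 2 H L) {a b : G} (ha : a ∈ L)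
    (hb : b ∈ L) {i j : ℕ} (h1 : a ^ 2 ^ i = 1) (h2 : b ^ 2 ^ j = 1) (h3 : b * a * b⁻¹ ∈ zpowers a) :
    ∃ m ∈ L, m * a * m⁻¹ ∈ H ∧ m * b * m⁻¹ ∈ H := by
  obtain ⟨m, hm, e⟩ := h.exists_conj_le ((isPGroup_zpowers_of_pow_eq_one h1).to_sup_of_normal_left'
    (isPGroup_zpowers_of_pow_eq_one h2) (zpowers_le.2 (mem_normalizer_fintype (by
      rintro _ ⟨k, rfl⟩
      simpa only [conj_zpow, SetLike.mem_coe] using (zpowers a).zpow_mem h3 k)))) (sup_le (zpowers_le.2 ha) (zpowers_le.2 hb))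
  exact ⟨m, hm, e a (mem_sup_left (mem_zpowers a)), e b (mem_sup_right (mem_zpowers b))⟩

/-- The conjugation action on a subset. -/
def cact {G : Type*} [Group G] (S : Set G) : normalizer S →* Equiv.Perm S :=
  .mk' (fun g => Equiv.Perm.subtypePerm (MulAut.conj g.1).toEquiv fun x => (g.2 x).symm)
    fun a b => Equiv.ext fun x => Subtype.ext (DFunLike.congr_fun (map_mul MulAut.conj a.1 b.1) x.1)

variable {K V X Y : Type*} [Field K] [AddCommGroup V] [Module K V] [Group X] [Group Y] {H : Subgroup (V ≃ₗ[K] V)}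
  {μ : (V ≃ₗ[K] V) →* Y} {ι : X →* Y} {α β : MulAut X} {s s' s'' x x' x'' y y' g g' : V ≃ₗ[K] V} {p q r : Y} {u v : V}

instance [Finite V] : Finite (V ≃ₗ[K] V) := DFunLike.finite _

theorem Fd.pow' (h : Fd x) : x ^ 2 ^ 2 = 1 := by rw [← h.pow, pow_two 2, pow_mul, pow_two, pow_two]

/-- Conjugacy under the image of the special linear group. -/
def Cj (μ : (V ≃ₗ[K] V) →* Y) (p q : Y) : Prop := ∃ g ∈ SLV K V, μ g * p * (μ g)⁻¹ = q

theorem Cj.of (hg : g ∈ SLV K V) (h : g * x * g⁻¹ = y) : Cj μ (μ x) (μ y) := ⟨g, hg, by simp [← h]⟩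

theorem Cj.symm (h : Cj μ p q) : Cj μ q p := let ⟨g, hg, e⟩ := h; ⟨g⁻¹, inv_mem hg, by simp [← e, mul_assoc]⟩

theorem Cj.fd (h : Cj μ p q) (h' : ∃ z, Fd z ∧ μ z = p) : ∃ z, Fd z ∧ μ z = q :=
  let ⟨g, _, e⟩ := h; let ⟨z, hz, e'⟩ := h'; ⟨_, hz.conj g, by simp [← e, e']⟩

/-- The automorphism preserves fusion of elements. -/
def Pres (μ : (V ≃ₗ[K] V) →* Y) (ι : X →* Y) (α : MulAut X) : Prop :=
  ∀ a b, Cj μ (ι a) (ι b) ↔ Cj μ (ι (α a)) (ι (α b))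

/-- The graph of the automorphism, lifted to the linear group. -/
def Rl (μ : (V ≃ₗ[K] V) →* Y) (ι : X →* Y) (α : MulAut X) (x x' : V ≃ₗ[K] V) : Prop := ∃ a, ι a = μ x ∧ ι (α a) = μ x'

theorem Rl.one : Rl μ ι α 1 1 := ⟨1, by simp⟩

theorem Rl.mul (h : Rl μ ι α x x') (h' : Rl μ ι α y y') : Rl μ ι α (x * y) (x' * y') :=
  let ⟨a, a1, a2⟩ := h; let ⟨b, b1, b2⟩ := h'; ⟨a * b, by simp [a1, b1], by simp [a2, b2]⟩

theorem Rl.inv (h : Rl μ ι α x x') : Rl μ ι α x⁻¹ x'⁻¹ := let ⟨a, a1, a2⟩ := h; ⟨a⁻¹, by simp [a1], by simp [a2]⟩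

theorem Rl.symm (h : Rl μ ι α x x') : Rl μ ι α⁻¹ x' x := let ⟨a, a1, a2⟩ := h; ⟨α a, a2, by simp [a1]⟩

theorem Rl.cj (h : Rl μ ι α x x') (h' : Rl μ ι α y y') (hα : Pres μ ι α) : Cj μ (μ x) (μ y) ↔ Cj μ (μ x') (μ y') := by
  obtain ⟨a, a1, a2⟩ := h
  obtain ⟨b, b1, b2⟩ := h'
  rw [← a1, ← a2, ← b1, ← b2, hα]

/-- The standing hypotheses. -/
structure Ctx (H : Subgroup (V ≃ₗ[K] V)) (μ : (V ≃ₗ[K] V) →* Y) (ι : X →* Y) : Prop where
  hn : 3 ≤ finrank K V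
  syl : SylIn 2 H (SLV K V)
  proj : Proj μ
  inj : Function.Injective ι
  rg : ι.range = H.map μ

theorem Ctx.eq (c : Ctx H μ ι) (h : Rl μ ι α x x') (h' : Rl μ ι α y y') (e : μ x = μ y) : μ x' = μ y' := by
  obtain ⟨a, a1, a2⟩ := h
  obtain ⟨b, b1, b2⟩ := h'
  rw [← a2, ← b2, c.inj (a1.trans (e.trans b1.symm))]

theorem Ctx.comm (c : Ctx H μ ι) (h : Rl μ ι α x x') (h' : Rl μ ι α y y') (e : Commute (μ x) (μ y)) :
    Commute (μ x') (μ y') := by simpa [commute_iff_eq] using c.eq (h.mul h') (h'.mul h) (by simpa using e.eq)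

theorem Ctx.trans (c : Ctx H μ ι) (h : Rl μ ι β x x') (h' : Rl μ ι α x' x'') : Rl μ ι (α * β) x x'' :=
  let ⟨a, a1, a2⟩ := h; let ⟨_, b1, b2⟩ := h'; ⟨a, a1, by rw [MulAut.mul_apply, c.inj (a2.trans b1.symm), b2]⟩

theorem Ctx.exists_rl (c : Ctx H μ ι) (α : MulAut X) (hx : x ∈ H) : ∃ x' ∈ H, Rl μ ι α x x' := by
  obtain ⟨a, ha⟩ := c.rg.ge ⟨x, hx, rfl⟩
  obtain ⟨x', hx', e⟩ := c.rg.le ⟨α a, rfl⟩
  exact ⟨x', hx', a, ha, e.symm⟩

theorem Ctx.pow (c : Ctx H μ ι) (hx : x ∈ H) : ∃ k, x ^ 2 ^ k = 1 :=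
  (c.syl.isPGroup ⟨x, hx⟩).imp fun _ => congrArg Subtype.val

/-- The involutions of the fundamental quaternion subgroups. -/
def Sg (H : Subgroup (V ≃ₗ[K] V)) : Set (V ≃ₗ[K] V) := {s | ∃ x ∈ H, ∃ y ∈ H, QP x y ∧ x * x = s}

/-- The relation induced on these involutions. -/
def SR (H : Subgroup (V ≃ₗ[K] V)) (μ : (V ≃ₗ[K] V) →* Y) (ι : X →* Y) (α : MulAut X) (s s' : V ≃ₗ[K] V) : Prop :=
  ∃ x ∈ H, ∃ y ∈ H, ∃ x' ∈ H, ∃ y' ∈ H, QP x y ∧ QP x' y' ∧ Rl μ ι α x x' ∧ Rl μ ι α y y' ∧ x * x = s ∧ x' * x' = s'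

theorem SR.symm (h : SR H μ ι α s s') : SR H μ ι α⁻¹ s' s :=
  let ⟨x, hx, y, hy, x', hx', y', hy', q, q', r, r', e, e'⟩ := h
  ⟨x', hx', y', hy', x, hx, y, hy, q', q, r.symm, r'.symm, e', e⟩

theorem SR.conj (h : SR H μ ι α s s') (hg : g ∈ H) (hg' : g' ∈ H) (e : Rl μ ι α g g') :
    SR H μ ι α (g * s * g⁻¹) (g' * s' * g'⁻¹) :=
  let ⟨_, hx, _, hy, _, hx', _, hy', q, q', r, r', e1, e2⟩ := h
  have m : ∀ {g x}, g ∈ H → x ∈ H → g * x * g⁻¹ ∈ H := fun hg hx => mul_mem (mul_mem hg hx) (inv_mem hg)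
  ⟨_, m hg hx, _, m hg hy, _, m hg' hx', _, m hg' hy', q.conj g, q'.conj g', (e.mul r).mul e.inv, (e.mul r').mul e.inv,
    e1 ▸ conj_mul, e2 ▸ conj_mul⟩

variable [Finite V]

theorem le_normalizer_Sg : H ≤ normalizer (Sg H) := fun g hg => mem_normalizer_fintype fun _ ⟨_, hx, _, hy, q, e⟩ =>
  ⟨_, mul_mem (mul_mem hg hx) (inv_mem hg), _, mul_mem (mul_mem hg hy) (inv_mem hg), q.conj g, e ▸ conj_mul⟩

variable [NeZero (2 : K)]

theorem sys_Sg (hH : IsPGroup 2 H) : Sys (Sg H) :=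
  ⟨Set.toFinite _, fun _ ⟨_, _, _, _, q, e⟩ => e ▸ q.fx.pow, fun _ ⟨_, _, _, _, q, e⟩ => e ▸ q.fx.dim,
    fun _ ⟨_, hx, _, hy, q, e⟩ _ ⟨_, hx', _, hy', q', e'⟩ => e ▸ e' ▸ q'.eq_or_orth' hH hx' hy' q hx hy⟩

theorem Ctx.mem (c : Ctx H μ ι) (h : Fd x) (hg : g ∈ H) (e : μ x = μ g) : x ∈ H := by
  obtain ⟨a, ha⟩ := (c.proj x g).1 e
  obtain ⟨k, hk⟩ := c.pow hg
  have h1 : ∀ y, Commute y (x * g⁻¹) := fun y => LinearEquiv.ext fun v => by simp [ha]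
  have h2 : Commute x g⁻¹ := by simpa using (h1 g⁻¹).symm.mul_left (Commute.refl g).inv_right
  obtain ⟨y, -, hy⟩ := c.syl.exists_conj_le (isPGroup_zpowers_of_pow_eq_one (x := x * g⁻¹) (k := 2 + k) (by
    rw [h2.mul_pow, pow_add, pow_mul, h.pow', mul_comm, pow_mul, inv_pow, hk]; simp))
    (zpowers_le.2 (mul_mem h.dt_eq (inv_mem (c.syl.le hg))))
  simpa [(h1 y).eq] using mul_mem (hy _ (mem_zpowers _)) hg

omit [Finite V] in
theorem Ctx.sq_ne (c : Ctx H μ ι) (h : Fd x) : μ (x * x) ≠ μ 1 := fun e => by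
  obtain ⟨u, h0, hu⟩ := h.exists_neg
  have := c.proj.eq c.hn h h.inv (by rw [map_inv, inv_eq_iff_mul_eq_one, ← map_mul, e, map_one])
  exact h0 (eq_zero_of_neg (K := K) ((LinearEquiv.congr_fun (inv_eq_iff_mul_eq_one.1 this) u).symm.trans hu))

theorem Ctx.unique (c : Ctx H μ ι) (h : SR H μ ι α s s') (h' : SR H μ ι α s s'') : s' = s'' := by
  obtain ⟨x, hx, y, hy, x', hx', y', hy', q, q', r, r', rfl, rfl⟩ := h
  obtain ⟨z, hz, w, hw, z', hz', w', hw', p, p', t, t', e, rfl⟩ := h'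
  refine (p'.eq_or_orth' c.syl.isPGroup hz' hw' q' hx' hy').resolve_right fun o => q.not_comm p.fx e
    (c.proj.comm c.hn q.fx (c.comm t.symm r.symm ((o.comm_fd q'.fx p'.fx).symm.map μ)))
    (c.proj.comm c.hn q.fy (c.comm t.symm r'.symm ((Orth.comm_fd (q'.sq ▸ o) q'.fy p'.fx).symm.map μ)))

variable [Finite K]

theorem Ctx.tr (c : Ctx H μ ι) (hα : Pres μ ι α) (h : QP x y) (hx : x ∈ H) (hy : y ∈ H) :
    ∃ x' ∈ H, ∃ y' ∈ H, QP x' y' ∧ Rl μ ι α x x' ∧ Rl μ ι α y y' := by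
  obtain ⟨x1, hx1, r1⟩ := c.exists_rl α hx
  obtain ⟨y1, hy1, r2⟩ := c.exists_rl α hy
  obtain ⟨k, hk⟩ := c.pow hx1
  have e1 : μ y1 * μ y1 = μ x1 * μ x1 := by simpa using c.eq (r2.mul r2) (r1.mul r1) (congrArg μ h.sq)
  have e2 : μ y1 * μ x1 * (μ y1)⁻¹ = (μ x1)⁻¹ := by simpa using c.eq ((r2.mul r1).mul r2.inv) r1.inv (congrArg μ h.inv)
  have e3 : μ x1 * μ x1 * (μ x1 * μ x1) = 1 := by
    simpa using c.eq ((r1.mul r1).mul (r1.mul r1)) .one (congrArg μ h.fx.pow)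
  obtain ⟨z, hz, e⟩ := c.proj.exists_fd hk e1 e2 e3
    (fun e => c.sq_ne h.fx (c.eq (r1.mul r1).symm .one (by simpa using e))) (or_iff_not_imp_left.2 fun h4 t g hg t1 t2 t3 => by
      have hx1' := c.syl.le hx1
      obtain ⟨m, hm, m1, m2⟩ := exists_conj2 c.syl (a := t) (i := 1)
        (by simpa [t3] using mul_mem (mul_mem (mul_mem hg hx1') (inv_mem hg)) (inv_mem hx1')) hx1' (by simpa [pow_two] using t1) hk
        (by simp [← t2.eq])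
      obtain ⟨a, -, ra⟩ := c.exists_rl α⁻¹ m1
      obtain ⟨d, -, rd⟩ := c.exists_rl α⁻¹ m2
      obtain ⟨w, hw, ew⟩ := ((r1.cj rd.symm hα).2 (.of hm rfl)).fd ⟨x, h.fx, rfl⟩
      obtain ⟨w', hw', ew'⟩ := ((rd.symm.cj (ra.mul rd).symm hα).2 (.of (g := m * g * m⁻¹) (mul_mem (mul_mem hm hg) (inv_mem hm))
        (by rw [conj_inv, conj_mul, conj_mul, conj_mul, t3]))).fd ⟨w, hw, ew⟩
      rcases c.proj.eq_or c.hn h4 hw hw' (by
        rw [ew, ew', ← map_mul, ← map_mul]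
        refine c.eq ((ra.mul rd).mul (ra.mul rd)) (rd.mul rd) ?_
        rw [conj_mul, conj_mul, conj_mul, t2.symm.mul_mul_mul_comm, t1, one_mul])
        (ew ▸ ew' ▸ c.comm (ra.mul rd) rd (((t2.conj m).mul_left (.refl _)).map μ)) with rfl | rfl
      · simpa using Or.inl (c.eq (ra.mul rd).symm rd.symm (ew'.symm.trans ew))
      · have := c.eq (ra.mul rd).symm rd.inv.symm (ew'.symm.trans (by simp [ew]))
        rw [conj_mul, conj_inv, map_mul, map_mul, map_mul _ (_ * _), map_mul μ m, mul_left_inj, mul_right_inj, map_mul,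
          map_inv, ← eq_mul_inv_iff_mul_eq, ← mul_inv_rev] at this
        exact Or.inr (this.trans (inv_eq_of_mul_eq_one_right e3)))
  have c1 : Cj μ (μ x1) (μ y1) := let ⟨g, hg, e⟩ := h.exists_conj c.hn; (r1.cj r2 hα).1 (.of hg e)
  have c2 : Cj μ (μ x1) (μ (x1 * y1)) := let ⟨g, hg, e⟩ := h.mul.exists_conj c.hn; (r1.cj (r1.mul r2) hα).1 (.of hg e)
  obtain ⟨x', hx', ex⟩ : ∃ z, Fd z ∧ μ z = μ x1 :=
    e.elim (fun e => ⟨z, hz, e⟩) fun e => e.elim (fun e => c1.symm.fd ⟨z, hz, e⟩) fun e => c2.symm.fd ⟨z, hz, e⟩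
  obtain ⟨y', hy', ey⟩ := c1.fd ⟨x', hx', ex⟩
  exact ⟨x', c.mem hx' hx1 ex, y', c.mem hy' hy1 ey, c.proj.qp c.hn hx' hy' (ex ▸ ey ▸ e1) (ex ▸ ey ▸ e2),
    r1.imp fun _ h => ⟨h.1, ex ▸ h.2⟩, r2.imp fun _ h => ⟨h.1, ey ▸ h.2⟩⟩

theorem Ctx.sq_eq (c : Ctx H μ ι) (hα : Pres μ ι α) {k : ℕ} (hk : Odd k) (e : α ^ k = 1) (h : SR H μ ι α s s') :
    s' = s := by
  classical
  have tot : ∀ s : Sg H, ∃ s' : Sg H, SR H μ ι α s s' := fun ⟨_, x, hx, y, hy, q, e⟩ =>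
    let ⟨x', hx', y', hy', q', r⟩ := c.tr hα q hx hy
    ⟨⟨_, x', hx', y', hy', q', rfl⟩, x, hx, y, hy, x', hx', y', hy', q, q', r.1, r.2, e, rfl⟩
  choose f hf using tot
  obtain ⟨σ, hσ⟩ : ∃ σ : Equiv.Perm (Sg H), ∀ s : Sg H, SR H μ ι α s (σ s) :=
    ⟨.ofBijective f (Finite.injective_iff_bijective.1 fun s t e => Subtype.ext (c.unique (hf s).symm (e ▸ (hf t).symm))), hf⟩
  have pw : ∀ j, ∀ s : Sg H, SR H μ ι (α ^ j) s ((σ ^ j) s) := fun j s => by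
    induction j with
    | zero =>
      obtain ⟨_, x, hx, y, hy, q, rfl⟩ := s
      exact ⟨x, hx, y, hy, x, hx, y, hy, q, q, (c.rg.ge ⟨x, hx, rfl⟩).imp fun _ e => ⟨e, e⟩,
        (c.rg.ge ⟨y, hy, rfl⟩).imp fun _ e => ⟨e, e⟩, rfl, rfl⟩
    | succ j ih =>
      obtain ⟨x, hx, y, hy, x', hx', y', hy', q, q', r, r', e1, e2⟩ := ih
      obtain ⟨z, hz, w, hw, p, t, t'⟩ := c.tr hα q' hx' hy'
      rw [pow_succ', pow_succ']
      exact ⟨x, hx, y, hy, z, hz, w, hw, q, p, c.trans r t, c.trans r' t', e1,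
        c.unique ⟨x', hx', y', hy', z, hz, w, hw, q', p, t, t', e2, rfl⟩ (hσ _)⟩
  have hS := sys_Sg c.syl.isPGroup
  have hle := le_inf c.syl.le (le_normalizer_Sg (H := H))
  have syl := ((sylIn_subgroupOf_iff hle inf_le_right).2 (c.syl.mono hle inf_le_left)).map (cact (Sg H))
  rw [show Subgroup.map _ (Subgroup.subgroupOf (_ ⊓ _) _) = ⊤ from ?_] at syl
  · have := CL.Known.eq_one_of_odd_of_normalizes _ _ rfl _ ⟨le_top, syl.isPGroup, syl.not_dvd_relIndex⟩ σ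
      (mem_normalizer_fintype ?_) k hk (Equiv.ext fun s => Subtype.ext (c.unique (pw k s) (e ▸ pw 0 s)))
    · obtain ⟨x, hx, y, hy, -, -, -, -, q, -, -, -, e, -⟩ := id h
      simpa [this] using c.unique h (hσ ⟨s, x, hx, y, hy, q, e⟩)
    · rintro _ ⟨g, hg, rfl⟩
      obtain ⟨g', hg', r⟩ := c.exists_rl α hg
      exact ⟨⟨g', le_normalizer_Sg hg'⟩, hg', eq_mul_inv_of_mul_eq (Equiv.ext fun s =>
        Subtype.ext (c.unique ((hσ s).conj hg hg' r) (hσ (cact _ g s))))⟩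
  · rw [eq_top_iff, ← Equiv.Perm.closure_isSwap, closure_le]
    rintro _ ⟨s, t, hne, rfl⟩
    obtain ⟨g, hg, g1, g2, g3⟩ := hS.swap s.2 t.2 (Subtype.coe_ne_coe.2 hne)
    have hN : g ∈ normalizer (Sg H) := mem_normalizer_fintype fun r hr => by
      by_cases e1 : r = s
      · exact e1 ▸ g1 ▸ t.2
      by_cases e2 : r = t
      · exact e2 ▸ g2 ▸ s.2
      exact (g3 r hr e1 e2).symm ▸ hr
    refine ⟨⟨g, hN⟩, ⟨hg, hN⟩, Equiv.ext fun r => Subtype.ext ?_⟩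
    by_cases e1 : r = s
    · rw [e1, Equiv.swap_apply_left]
      exact g1
    by_cases e2 : r = t
    · rw [e2, Equiv.swap_apply_right]
      exact g2
    rw [Equiv.swap_apply_of_ne_of_ne e1 e2]
    exact g3 r r.2 (Subtype.coe_ne_coe.2 e1) (Subtype.coe_ne_coe.2 e2)

end CL.PslAut
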