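/-
Fusion preserving automorphisms of odd order of a Sylow `2`-subgroup of `PSL_n(q)`, `q` odd, `n ≥ 3`, are trivial.
-/
import Cfsg.Agent.Fus.PslAut4
import Cfsg.Agent.Loc.Chief

set_option autoImplicit false

open Module Subgroup CL.Fus
open scoped commutatorElement

namespace CL.PslAut

theorem fix_of_mul {X : Type*} [Group X] (hX : IsPGroup 2 X) {α : MulAut X} {k : ℕ} (hk : Odd k) (e : α ^ k = 1) {b z : X}
    (h1 : α b = b * z) (h2 : α z = z) : α b = b := by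
  have : ∀ j, (α ^ j) b = b * z ^ j := fun j => by
    induction j with
    | zero => simp
    | succ j ih => rw [pow_succ', MulAut.mul_apply, ih, map_mul, map_pow, h1, h2, pow_succ', mul_assoc]
  obtain ⟨m, hm⟩ := hX z
  rw [h1, (pow_eq_one_iff_of_coprime (hk.coprime_two_right.pow_right m)).1 ⟨by simpa [e] using this k, hm⟩, mul_one]

variable {K V X Y : Type*} [Field K] [AddCommGroup V] [Module K V] [Group X] [Group Y] {H : Subgroup (V ≃ₗ[K] V)}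
  {μ : (V ≃ₗ[K] V) →* Y} {ι : X →* Y} {α : MulAut X} {s x x' y g g' : V ≃ₗ[K] V} {u v : V} {k : ℕ}

theorem Ctx.isPGroup (c : Ctx H μ ι) : IsPGroup 2 X :=
  (c.rg ▸ c.syl.isPGroup.map μ : IsPGroup 2 ι.range).of_equiv (MonoidHom.ofInjective c.inj).symm

theorem Ctx.fix (c : Ctx H μ ι) (hk : Odd k) (e : α ^ k = 1) (h : Rl μ ι α g g') (h' : Rl μ ι α (g⁻¹ * g') (g⁻¹ * g')) :
    Rl μ ι α g g :=
  let ⟨a, a1, a2⟩ := h; let ⟨_, b1, b2⟩ := h'
  ⟨a, a1, by rw [fix_of_mul c.isPGroup hk e (c.inj (by simp [a1, a2, b1])) (c.inj (b2.trans b1.symm)), a1]⟩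

theorem comm_Fx {S : Set (V ≃ₗ[K] V)} (hg : g ∈ centralizer S) (hu : u ∈ Fx S) : g u ∈ Fx S := fun s hs =>
  (LinearEquiv.congr_fun (hg s hs) u).trans (congrArg g (hu s hs))

/-- Elements normalised by the centraliser of all fundamental involutions. -/
def NH (H : Subgroup (V ≃ₗ[K] V)) (x : V ≃ₗ[K] V) : Prop :=
  ∀ a ∈ H ⊓ centralizer (Sg H), a * x * a⁻¹ = x ∨ a * x * a⁻¹ = x⁻¹

variable [Finite V] [NeZero (2 : K)]

omit [NeZero (2 : K)] in
theorem Ctx.syl0 (c : Ctx H μ ι) : SylIn 2 (H ⊓ centralizer (Sg H)) (SLV K V ⊓ centralizer (Sg H)) := by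
  have := (c.syl.mono (le_inf c.syl.le le_normalizer_Sg) inf_le_left).inf (N := centralizer (Sg H))
    fun g hg => mem_normalizer_fintype fun a ha s hs => by
      have := ha _ ((mem_set_normalizer_iff''.1 hg.2 s).1 hs)
      calc _ = g * (g⁻¹ * s * g * a) * g⁻¹ := by group
        _ = _ := by rw [this]; group
  rwa [inf_assoc, inf_eq_right.2 (centralizer_le_normalizer _)] at this

theorem Ctx.cent (c : Ctx H μ ι) (h : Fd x) (hs : x * x ∈ Sg H) : x ∈ centralizer (Sg H) := fun t ht =>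
  ((sys_Sg c.syl.isPGroup).orth _ hs t ht).elim (fun e => e ▸ (comm_sq x).symm.eq) fun o => (o.comm_sq h).symm.eq

theorem Ctx.exists_nh (c : Ctx H μ ι) (hs : s ∈ Sg H) : ∃ x ∈ H, ∃ y ∈ H, QP x y ∧ x * x = s ∧ NH H x := by
  obtain ⟨x, hx, y, hy, q, rfl⟩ := id hs
  obtain ⟨Q, mQ⟩ : ∃ Q : Subgroup (V ≃ₗ[K] V), ∀ z, z ∈ Q ↔ z ∈ H ∧ (∀ v, x (x v) = v → z v = v) ∧ z ∈ centralizer {x * x} :=
    ⟨H ⊓ (fixingSubgroup _ (Ps (x * x) : Set V) ⊓ centralizer {x * x}), fun _ =>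
      and_congr_right' (and_congr_left' (mem_fixingSubgroup_iff _))⟩
  have hQ : ∀ a ∈ H ⊓ centralizer (Sg H), ∀ z ∈ Q, a * z * a⁻¹ ∈ Q := fun a ha z hz =>
    have h1 : a ∈ centralizer {x * x} := centralizer_le (Set.singleton_subset_iff.2 hs) ha.2
    have h2 := (mQ z).1 hz
    (mQ _).2 ⟨H.mul_mem (H.mul_mem ha.1 h2.1) (H.inv_mem ha.1), fun v hv => by
      simpa using congrArg a (h2.2.1 (a⁻¹ v) ((LinearEquiv.congr_fun (inv_mem h1 _ rfl) v).trans (congrArg (a⁻¹ ·) hv))),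
      mul_mem (mul_mem h1 h2.2.2) (inv_mem h1)⟩
  obtain ⟨z, hzQ, h1, h2⟩ := CL.Loc.exists_not_mem_commutator_mem (D := centralizer {x, y}) c.syl.isPGroup.isNilpotent
    (fun z hz => ((mQ z).1 hz).1) inf_le_left (fun a ha => mem_normalizer_fintype (hQ a ha)) fun h =>
      q.not_comm q.fx rfl (.refl x) (h ((mQ x).2 ⟨hx, q.fx.fix, mem_centralizer_singleton_iff.2 (comm_sq x)⟩) y (Or.inr rfl)).symm
  have hz := (mQ z).1 hzQ
  have h3 : ∀ a ∈ H ⊓ centralizer (Sg H), ⁅z, a⁆ = 1 ∨ ⁅z, a⁆ = x * x := fun a ha =>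
    have := (mQ ⁅z, a⁆).1 (by simpa only [commutatorElement_def, mul_assoc] using mul_mem hzQ (hQ a ha _ (inv_mem hzQ)))
    q.eq_one_or (c.syl.le this.1) this.2.1 (h2 a ha x (Or.inl rfl)).symm (h2 a ha y (Or.inr rfl)).symm
  have h4 : ∀ w, Fd w → w * w = x * x → ⁅z, w⁆ = x * x → QP w z := fun w hw e e' => hw.qp_of_inv (c.syl.le hz.1)
    (fun v hv => hz.2.1 v ((LinearEquiv.congr_fun e v).symm.trans hv)) (by
      rw [mul_inv_eq_iff_eq_mul.1 e', ← e, hw.inv_eq, mul_assoc])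
  obtain ⟨w, hw, q', e⟩ : ∃ w ∈ H, QP w z ∧ w * w = x * x := by
    rcases h3 x ⟨hx, c.cent q.fx hs⟩ with e | e
    · rcases h3 y ⟨hy, c.cent q.fy (q.sq ▸ hs)⟩ with e' | e'
      · refine absurd ?_ h1
        rintro _ (rfl | rfl)
        exacts [(commutatorElement_eq_one_iff_commute.1 e).symm, (commutatorElement_eq_one_iff_commute.1 e').symm]
      · exact ⟨y, hy, h4 y q.fy q.sq e', q.sq⟩
    · exact ⟨x, hx, h4 x q.fx rfl e, rfl⟩
  refine ⟨z, hz.1, w, hw, q'.symm, q'.sq.trans e, fun a ha => (h3 a ha).imp (fun e' => ?_) fun e' => ?_⟩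
  · rw [← (commutatorElement_eq_one_iff_commute.1 e').eq, mul_inv_cancel_right]
  · rw [← e, ← q'.sq, commutatorElement_def, mul_assoc, mul_assoc, mul_right_inj, ← mul_assoc] at e'
    rw [← inv_inj, conj_inv, e', inv_inv]

theorem Ctx.eq_or (c : Ctx H μ ι) (h : Fd x) (h' : Fd y) (hs : x * x ∈ Sg H) (e : y * y = x * x) (hy : y ∈ H)
    (n1 : NH H x) (n2 : NH H y) : y = x ∨ y = x⁻¹ := by
  have hS := sys_Sg c.syl.isPGroup
  have c1 := c.cent h hs
  have c2 := c.cent h' (e ▸ hs)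
  rcases n1 y ⟨hy, c2⟩ with e' | e'
  · exact h.eq_or h' e (mul_inv_eq_iff_eq_mul.1 e')
  obtain ⟨g, g1, g2, g3⟩ := QP.exists_add ⟨h, h', e, e'⟩
  obtain ⟨u, h0, hu⟩ := h.exists_fix c.hn
  obtain ⟨d, d1, d2, d3⟩ := exists_adj (fun s hs => ⟨hS.sq s hs, hS.neg hs⟩) hS.orth hs h0 (by simp [hu])
    (inv_ne_zero (dt_ne g))
  have d4 : d * x * d⁻¹ = x := by rw [← (comm_of_supp h.pow h.fix (comm_sq x) d3 (d2 _ hs)).eq, mul_inv_cancel_right]
  have d5 : d * y * d⁻¹ = y := by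
    rw [← (comm_of_supp h'.pow h'.fix (comm_sq y) (e ▸ d3) (e ▸ d2 _ hs)).eq, mul_inv_cancel_right]
  have f1 : d * g * x * (d * g)⁻¹ = y := by rw [← d5, ← g2]; group
  have f2 : d * g * y * (d * g)⁻¹ = x := by rw [← d4, ← g3]; group
  have n3 : ∀ a ∈ H ⊓ centralizer (Sg H), ∀ z ∈ ({x, x⁻¹, y, y⁻¹} : Set _), a * z * a⁻¹ = z ∨ a * z * a⁻¹ = z⁻¹ := by
    rintro a ha _ (rfl | rfl | rfl | rfl)
    exacts [n1 a ha, by simpa only [← conj_inv, inv_inj] using n1 a ha, n2 a ha,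
      by simpa only [← conj_inv, inv_inj] using n2 a ha]
  obtain ⟨j, m, ⟨r, rfl⟩, hm⟩ := Nat.exists_eq_two_pow_mul_odd (orderOf_pos (d * g)).ne'
  obtain ⟨b, hb, hb'⟩ := (c.syl0.mono (Y' := SLV K V ⊓ centralizer (Sg H) ⊓ normalizer {x, x⁻¹, y, y⁻¹})
    (le_inf c.syl0.le fun a ha => mem_normalizer_fintype fun z hz => (n3 a ha z hz).elim (fun e => e.symm ▸ hz) fun e => by
      rw [e]
      rcases hz with rfl | rfl | rfl | rfl <;> simp) inf_le_left).exists_conj_le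
    (isPGroup_zpowers_of_pow_eq_one (x := (d * g) ^ (2 * r + 1)) (k := j) (by
      rw [← pow_mul, mul_comm, ← hm, pow_orderOf_eq_one])) (zpowers_le.2 (pow_mem (mem_inf.2 ⟨mem_inf.2 ⟨mem_SLV.2 (by
        rw [dt_mul, d1, inv_mul_cancel₀ (dt_ne g)]), (centralizer (Sg H)).mul_mem (fun s hs => (d2 s hs).symm.eq) fun s hs =>
          LinearEquiv.ext fun v => by simp [g1, comm_apply (c1 s hs), comm_apply (c2 s hs)]⟩,
        mem_normalizer_fintype (by rintro _ (rfl | rfl | rfl | rfl) <;> simp only [← conj_inv, f1, f2] <;> simp)⟩) _))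
  have f3 : (d * g) ^ (2 * r + 1) * x * ((d * g) ^ (2 * r + 1))⁻¹ = y := by
    have : Commute ((d * g) ^ 2) x := mul_inv_eq_iff_eq_mul.1 (by rw [pow_two, mul_inv_rev, mul_assoc (d * g), mul_assoc (d * g),
      ← mul_assoc _ (d * g)⁻¹, f1, ← mul_assoc, f2])
    rw [pow_succ', pow_mul, mul_assoc (d * g), (this.pow_left r).eq, ← f1]
    group
  have := n3 _ (hb' _ (mem_zpowers _)) _ ((hb.2 x).1 (Or.inl rfl))
  rwa [conj_inv, conj_mul, conj_mul, f3, conj_inv, mul_left_inj, mul_right_inj, mul_left_inj, mul_right_inj] at this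

variable [Finite K]

theorem Ctx.scalar (c : Ctx H μ ι) (hg : g ∈ centralizer (Sg H)) : ∃ a : K, ∀ w ∈ Fx (Sg H), g w = a • w := by
  by_contra! hn
  obtain ⟨u, hu, hi⟩ := exists_ind (fun _ => comm_Fx hg) hn
  have hv := comm_Fx hg hu
  generalize g u = v at hi hv
  obtain ⟨W, hW, hW'⟩ := maschke (W := Submodule.span K {u, v}) (c.syl.isPGroup.to_inf_left
    (K := MulAction.stabilizer _ u ⊓ MulAction.stabilizer _ v)) fun a ha w hw => by
      obtain ⟨p, q, rfl⟩ := Submodule.mem_span_pair.1 hw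
      rwa [map_add, map_smul, map_smul, show a u = u from ha.2.1, show a v = v from ha.2.2]
  have hF := hi.fr_of_isCompl hW
  obtain ⟨x, y, q, hx, hy, e⟩ := hF.exists_qp
  have h1 : Ng (x * x) ≤ Fx (Sg H) := e ▸ Submodule.span_le.2 (Set.pair_subset hu hv)
  have h2 : u ∈ Ng (x * x) := e ▸ Submodule.subset_span (Or.inl rfl)
  have h3 : v ∈ Ng (x * x) := e ▸ Submodule.subset_span (Or.inr rfl)
  have key : ∀ f : V ≃ₗ[K] V, (∀ w ∈ W, f w = w) → (∀ w, x (x w) = -w → x (x (f w)) = -f w) → f ∈ centralizer (Sg H) :=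
    fun f f1 f2 s hs => hF.ext (by simp [hu s hs, h1 (f2 u h2) s hs]) (by simp [hv s hs, h1 (f2 v h3) s hs]) fun w hw => by
      obtain ⟨z, hz, -, -, -, rfl⟩ := id hs
      rw [LinearEquiv.mul_apply, LinearEquiv.mul_apply f, f1 w hw, f1 _ (hW' _ ⟨mul_mem hz hz, hu _ hs, hv _ hs⟩ w hw)]
  obtain ⟨m, hm, m1, m2⟩ := exists_conj2 c.syl0 ⟨q.fx.dt_eq, key x hx fun w hw => by simp [hw]⟩
    ⟨q.fy.dt_eq, key y hy fun w => q.mem⟩ q.fx.pow' q.fy.pow' (q.inv ▸ inv_mem (mem_zpowers x))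
  have := comm_Fx hm.2 hu _ ⟨_, m1.1, _, m2.1, q.conj m, rfl⟩
  have h4 : m u = 0 := eq_zero_of_neg (K := K) (by simpa [show x (x u) = -u from h2] using this.symm)
  exact one_ne_zero (hi 1 0 (by simpa using h4)).1

variable (c : Ctx H μ ι) (hα : Pres μ ι α) (hk : Odd k) (e : α ^ k = 1)
include c hα hk e

theorem Ctx.exists_fix (hs : s ∈ Sg H) :
    ∃ x ∈ H, ∃ y ∈ H, ∃ y' ∈ H, QP x y ∧ QP x y' ∧ x * x = s ∧ Rl μ ι α x x ∧ Rl μ ι α y y' := by
  have h1 : ∀ t ∈ Sg H, SR H μ ι α t t := fun t ⟨x, hx, y, hy, q, e'⟩ =>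
    let ⟨x', hx', y', hy', q', r⟩ := c.tr hα q hx hy
    have : SR H μ ι α t (x' * x') := ⟨x, hx, y, hy, x', hx', y', hy', q, q', r.1, r.2, e', rfl⟩
    c.sq_eq hα hk e this ▸ this
  obtain ⟨x, hx, y, hy, q, rfl, hn⟩ := c.exists_nh hs
  obtain ⟨x', hx', y', hy', q', r, r'⟩ := c.tr hα q hx hy
  have h2 := c.sq_eq hα hk e ⟨x, hx, y, hy, x', hx', y', hy', q, q', r, r', rfl, rfl⟩
  have h3 : Rl μ ι α x x := c.fix hk e r (by
    refine (c.eq_or q.fx q'.fx hs h2 hx' hn fun a ha => ?_).elim (fun e' => by simpa [e'] using Rl.one)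
      fun e' => by simpa [e', q.fx.inv_sq] using r.mul r
    obtain ⟨b, hb, rb⟩ := c.exists_rl α⁻¹ ha.1
    refine (hn b ⟨hb, fun t ht => ?_⟩).imp (fun e' => c.proj.eq c.hn q'.fx (q'.fx.conj a) (c.eq ((rb.symm.mul r).mul rb.symm.inv)
      r (congrArg μ e'))) fun e' => c.proj.eq c.hn q'.fx.inv (q'.fx.conj a)
        (c.eq ((rb.symm.mul r).mul rb.symm.inv) r.inv (congrArg μ e'))
    have := c.sq_eq hα hk e ((h1 t ht).conj hb ha.1 rb.symm)
    rw [← ha.2 t ht, mul_inv_cancel_right, eq_mul_inv_iff_mul_eq] at this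
    exact this)
  obtain rfl := c.proj.eq c.hn q.fx q'.fx (c.eq r h3 rfl)
  exact ⟨x', hx, y, hy, y', hy', q, q', rfl, h3, r'⟩

theorem Ctx.fix_of_cent (hg : g ∈ H) (h : g ∈ centralizer {x | Fd x ∧ Rl μ ι α x x}) : Rl μ ι α g g := by
  have hS := sys_Sg c.syl.isPGroup
  have a1 : centralizer {x | Fd x ∧ Rl μ ι α x x} ≤ centralizer (Sg H) := fun g h s hs => by
    obtain ⟨x, -, y, -, -, -, q, -, rfl, r, -⟩ := c.exists_fix hα hk e hs
    exact (Commute.mul_left (h x ⟨q.fx, r⟩) (h x ⟨q.fx, r⟩)).eq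
  have a2 : ∀ g ∈ centralizer {x | Fd x ∧ Rl μ ι α x x}, ∀ g' ∈ centralizer {x | Fd x ∧ Rl μ ι α x x}, Commute g g' :=
    fun g h g' h' => LinearEquiv.toLinearMap_injective (hS.ext (fun s hs u hu => by
      obtain ⟨x, -, y, -, -, -, q, -, rfl, r, -⟩ := c.exists_fix hα hk e hs
      obtain ⟨a, b, e⟩ := q.fx.cent (Commute.symm (h' x ⟨q.fx, r⟩))
      have := comm_apply (Commute.symm (h x ⟨q.fx, r⟩))
      simp [e u hu, e (g u) (by rw [← this, ← this, show x (x u) = -u from hu, map_neg]), this]) fun w hw => by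
        obtain ⟨a, ha⟩ := c.scalar (a1 h')
        simp [ha w hw, ha _ (comm_Fx (a1 h) hw)])
  have a3 : ∀ g ∈ centralizer {x | Fd x ∧ Rl μ ι α x x}, ∀ g', Rl μ ι α g g' →
      g' ∈ centralizer {x | Fd x ∧ Rl μ ι α x x} := fun g h g' r x hx =>
    (c.proj.comm c.hn hx.1 (c.comm r hx.2 ((Commute.symm (h x hx)).map μ))).symm.eq
  have a4 : ∀ g ∈ H, g ∈ centralizer {x | Fd x ∧ Rl μ ι α x x} → μ (g * g) = μ 1 → Rl μ ι α g g := fun g hg h e1 => by
    obtain ⟨g', hg', r⟩ := c.exists_rl α hg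
    have h' := a3 g h g' r
    have e2 := c.eq (r.mul r) .one e1
    obtain ⟨b, hb⟩ := (c.proj _ _).1 e1
    obtain ⟨b', hb'⟩ := (c.proj _ _).1 e2
    obtain ⟨a, ha⟩ := (c.proj (g⁻¹ * g' * (g⁻¹ * g')) 1).1 (by
      rw [(a2 g' h' g h).inv_right.mul_mul_mul_comm, ← mul_inv_rev, map_mul, map_inv, e1, e2, inv_mul_cancel, map_one])
    refine (hS.sign (C := ⟨⟨⟨{t | Rl μ ι α t t}, Rl.mul⟩, Rl.one⟩, Rl.inv⟩) (fun s hs =>
      let ⟨_, _, _, _, _, _, _, _, e, r, _⟩ := c.exists_fix hα hk e hs; e ▸ r.mul r) ha (fun s hs => ?_)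
      (c.scalar (a1 (mul_mem (inv_mem h) h')))).elim fun t ⟨ht, hd⟩ =>
        c.fix hk e r (ht.imp fun _ h => ((c.proj _ _).2 hd).symm ▸ h)
    obtain ⟨x, -, y, -, y', -, q, q', rfl, r1, r2⟩ := c.exists_fix hα hk e hs
    have c1 := Commute.symm (h x ⟨q.fx, r1⟩)
    have c2 := Commute.symm (h' x ⟨q.fx, r1⟩)
    obtain ⟨f, p, p', f1, f2⟩ : ∃ f : V → V, ∃ p p' : K, (∀ w, x (x w) = -w → g w = p • f w) ∧
        ∀ w, x (x w) = -w → g' w = p' • f w := by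
      by_cases h3 : Commute g y
      · exact let ⟨p, hp⟩ := q.scalar c1 h3
          let ⟨p', hp'⟩ := q'.scalar c2 (c.proj.comm c.hn q'.fy (c.comm r r2 (h3.map μ))); ⟨id, p, p', hp, hp'⟩
      · exact let ⟨p, hp⟩ := q.type c1 hb h3
          let ⟨p', hp'⟩ := q'.type c2 hb' fun h4 => h3 (c.proj.comm c.hn q.fy (c.comm r.symm r2.symm (h4.map μ)))
          ⟨x, p, p', hp, hp'⟩
    obtain ⟨u, h0, hu⟩ := q.fx.exists_neg
    have : p ≠ 0 := fun e => h0 (by simpa [e] using f1 u hu)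
    exact ⟨p' / p, fun w hw => g.injective (by simp [f1 w hw, f2 w hw, smul_smul, this])⟩
  obtain ⟨j, hj⟩ := c.pow hg
  induction j generalizing g with
  | zero => simpa [show g = 1 by simpa using hj] using Rl.one
  | succ j ih =>
    obtain ⟨g', hg', r⟩ := c.exists_rl α hg
    have h' := a3 g h g' r
    refine c.fix hk e r (a4 _ (mul_mem (inv_mem hg) hg') (mul_mem (inv_mem h) h') ?_)
    rw [(a2 g' h' g h).inv_right.mul_mul_mul_comm, ← mul_inv_rev, map_mul, map_inv, c.eq (r.mul r)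
      (ih (mul_mem hg hg) (mul_mem h h) (by rw [← pow_two, ← pow_mul, ← pow_succ', hj])) rfl, inv_mul_cancel, map_one]

theorem Ctx.eq_one : α = 1 := by
  have : Finite ι.range := c.rg ▸ Finite.of_surjective _ (μ.subgroupMap_surjective H)
  have := Finite.of_injective _ (MonoidHom.ofInjective c.inj).injective
  have := c.isPGroup.isNilpotent
  by_contra hne
  obtain ⟨b, hb, hb'⟩ := SetLike.exists_of_lt (Group.normalizerCondition_of_isNilpotent (α.toMonoidHom.eqLocus (.id X))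
    (lt_top_iff_ne_top.2 fun h => hne (MulEquiv.ext fun a => h.ge (mem_top a))))
  obtain ⟨g, hg, e'⟩ := c.rg.le ⟨b⁻¹ * α b, rfl⟩
  obtain ⟨z, z1, z2⟩ := c.fix_of_cent hα hk e hg fun x ⟨hx, a, a1, a2⟩ => (c.proj.comm c.hn hx (by
    have h1 : α a = a := c.inj (a2.trans a1.symm)
    have h2 : α (b * a * b⁻¹) = b * a * b⁻¹ := (hb a).1 h1
    rw [map_mul, map_mul, h1, map_inv, mul_inv_eq_iff_eq_mul] at h2
    rw [e', ← a1]
    exact Commute.map (by rw [commute_iff_eq, mul_assoc, h2]; group) ι)).symm.eq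
  obtain rfl := c.inj (z1.trans e')
  exact hb' (fix_of_mul c.isPGroup hk e (mul_inv_cancel_left _ _).symm (c.inj (z2.trans z1.symm)))

end CL.PslAut
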