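/-
A normal subsystem isomorphic to the `2`-fusion system of `PSL_n(q)`, `q` odd, with trivial centraliser in a system
without quotients of `2`-power order, is the whole system.
-/
import Cfsg.Agent.Fus.PslAut5
import Cfsg.Agent.Fus.SimpleTwo
import Cfsg.Agent.Fus.CentE
import Cfsg.Agent.Fus.CentFoc
import Cfsg.Agent.Fus.ModelUniq
import Cfsg.Agent.Fus.PIndexGroup
import Cfsg.Agent.Cls.SL2Quat
import Cfsg.Agent.S3116

set_option autoImplicit false

open Cfsg Cfsg.FusionSystem Subgroup CL.Fus Matrix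

namespace CL.PslAut

theorem eq_of_isPGroup_aut {Ω : Type*} [Group Ω] {S T : Subgroup Ω} [Finite S] {p : ℕ} [Fact p.Prime]
    {F : FusionSystem S} {E : FusionSystem T} (hS : IsPGroup p S) (hE : E.IsNormalIn F p)
    (h1 : S ≤ F.hyperfocalSubgroup p) (h2 : centE F E ≤ T)
    (h3 : ∀ α ∈ F.autGroup T, (orderOf α).Coprime p → α = 1) : T = S ∧ ∀ P, E.Hom P = F.Hom P := by
  have hF := hE.1.2.1
  have hT := hE.1.2.2.2.1
  have h4 : pResidualOf p (F.autGroup T) = ⊥ := le_bot_iff.1 (CL.Even.res_le_of h3)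
  have h5 : ∀ x ∈ S, ∃ t ∈ T, ∀ y ∈ T, x * y * x⁻¹ = t * y * t⁻¹ := fun x hx => by
    obtain ⟨-, α, hα, e⟩ := conjAut_mem_res_sup_Inn hS hF hT (h1 hx)
    obtain ⟨t, ht, e'⟩ := mem_Inn_iff.1 (by rwa [h4, bot_sup_eq] at hα)
    exact ⟨t, ht, fun y hy => (e y hy).trans (e' y hy)⟩
  have := finite_autGroup F T
  have h6 : F.autGroup T ≤ E.autGroup T := (sylIn_of_fullyAutomized (fullyAutomized_of_fullyNormalized hS hF
    (WeaklyClosed.isFullyNormalized (StronglyClosed.weaklyClosed hT)))).le_of_res_le (h4 ▸ bot_le) fun α hα => by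
      obtain ⟨x, hx, e⟩ := mem_autInducedBy.1 hα
      obtain ⟨t, ht, e'⟩ := h5 x hx
      exact Inn_le_autGroup E le_rfl (mem_Inn_iff.2 ⟨t, ht, fun y hy => (e y hy).trans (e' y hy)⟩)
  have hC := isCentralizerSystem_centralizerSystem F hT.1
  have h7 := IsNormalIn.hasPPowerIndexIn_of_focal_le hS hE hC ((focal_le_centE hS hE hC).trans h2) hF hE.1.2.2.1
    (fun _ => subset_rfl) (fun x hx => by
      obtain ⟨t, ht, e⟩ := h5 x hx
      rw [← mul_inv_cancel_left t x]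
      refine mul_mem_sup ht ⟨S.mul_mem (S.inv_mem (hT.1 ht)) hx, fun y hy => ?_⟩
      rw [mul_assoc, mul_inv_eq_iff_eq_mul.1 (e y hy)]
      group) h6
  have h8 := le_antisymm hT.1 (h1.trans h7.2.1)
  refine ⟨h8, fun P => (hE.1.2.2.1 P).antisymm (hom_subset_iff.2 fun f hf =>
    (IsInvariantIn.fratCond hE.1.2.2).mor (fun a ha hi => ?_) (hf.le.trans h8.ge) hf)⟩
  obtain ⟨α, hα, e⟩ := ha.exists_aut hi
  exact (mor_autFun le_rfl (h6 hα)).congr e

variable {F : Type*} [Field F] [Fintype F] {n : ℕ}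

theorem psl_aut_eq_one (hn : 2 ≤ n) (hq : Odd (Fintype.card F))
    (h2 : n = 2 → Fintype.card F % 8 = 1 ∨ Fintype.card F % 8 = 7) {X : Type*} [Group X]
    {ι : X →* ProjectiveSpecialLinearGroup (Fin n) F} (hι : Function.Injective ι) (hs : SylIn 2 ι.range ⊤) {α : MulAut X}
    (hα : ∀ a b, IsConj (ι a) (ι b) ↔ IsConj (ι (α a)) (ι (α b))) (hk : (orderOf α).Coprime 2) : α = 1 := by
  have h0 : (2 : F) ≠ 0 := CL.GL2.two_ne_zero_of_odd hq
  have := Finite.of_injective ι hι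
  have hX := hs.isPGroup.of_equiv (MonoidHom.ofInjective hι).symm
  rcases hn.eq_or_lt with rfl | hn
  · have h8 : 2 ^ 3 ∣ Nat.card X := by
      obtain ⟨S, hS⟩ := sylIn_top_iff.1 hs
      have h1 := CL.SL2.card_psl_mul (F := F)
      have h16 : 16 ∣ Fintype.card F ^ 2 - 1 := by
        obtain ⟨k, hk⟩ : ∃ k, Fintype.card F = 8 * k + Fintype.card F % 8 := ⟨_, (Nat.div_add_mod _ 8).symm⟩
        rcases h2 rfl with e | e <;> rw [hk, e]
        exacts [⟨4 * k * k + k, Nat.sub_eq_of_eq_add (by ring)⟩, ⟨4 * k * k + 7 * k + 3, Nat.sub_eq_of_eq_add (by ring)⟩]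
      rw [CL.SL2.gcd_two_of_ne h0] at h1
      rw [Nat.card_congr (MonoidHom.ofInjective hι).toEquiv, ← hS]
      exact S.pow_dvd_card_of_pow_dvd_card (Nat.dvd_of_mul_dvd_mul_right two_pos (h1 ▸ h16.mul_left _))
    rcases cyclic_or_dih_of_pgl2 h0 hX (ProjectiveSpecialLinearGroup.toPGL.comp ι)
      (ProjectiveSpecialLinearGroup.toPGL_injective.comp hι) with h | ⟨m, ⟨e⟩⟩
    · obtain ⟨a, b, hab⟩ := CL.SL2.exists_qpair_of_finite (F := F)
      have hV := (hab.cpair h0).isKleinFour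
      obtain ⟨y, -, hy⟩ := hs.exists_map_conj_le (IsPGroup.of_card (p := 2) (n := 2) hV.card_four) le_top
      have := (MonoidHom.ofInjective hι).isCyclic.1 h
      have := Subgroup.isCyclic_of_le hy
      exact absurd ((Subgroup.equivMapOfInjective _ (MulAut.conj y).toMonoidHom (MulAut.conj y).injective).isCyclic.2 this)
        IsKleinFour.not_isCyclic
    · refine CL.Grp.eq_one_of_coprime_of_isPGroup (Cfsg.Agent.S3116.result hX (Or.inl ⟨m, ?_, ⟨e⟩⟩)) hk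
      have h0 := Nat.le_of_dvd Nat.card_pos h8
      rw [Nat.card_congr e.toEquiv, DihedralGroup.nat_card] at h0
      omega
  have := NeZero.mk h0
  obtain ⟨ε, hε⟩ : ∃ ε : GL (Fin n) F ≃* ((Fin n → F) ≃ₗ[F] (Fin n → F)), ∀ A, (ε A : Module.End F _) = toLin' A.1 :=
    ⟨GeneralLinearGroup.toLin.trans (LinearMap.GeneralLinearGroup.generalLinearEquiv _ _), fun _ => rfl⟩
  obtain ⟨μ, hμ⟩ : ∃ μ : ((Fin n → F) ≃ₗ[F] (Fin n → F)) →* ProjGenLinGroup (Fin n) F, ∀ A, μ (ε A) = .mk A :=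
    ⟨ProjGenLinGroup.mk.comp ε.symm.toMonoidHom, fun _ => by simp⟩
  have h1 : (SLV F _).map μ = ProjectiveSpecialLinearGroup.toPGL.range := le_antisymm (by
    rintro _ ⟨g, hg, rfl⟩
    obtain ⟨A, rfl⟩ := ε.surjective g
    exact ⟨QuotientGroup.mk ⟨A.1, by simpa [mem_SLV, dt, hε] using hg⟩,
      ((hμ A).trans (congrArg ProjGenLinGroup.mk (Units.ext (by rfl)))).symm⟩) (by
    rintro _ ⟨⟨A⟩, rfl⟩
    exact ⟨ε A, by simp [mem_SLV, dt, hε], hμ _⟩)
  have hj := ProjectiveSpecialLinearGroup.toPGL_injective (n := Fin n) (R := F)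
  obtain ⟨H, hH⟩ := exists_sylIn 2 (SLV F (Fin n → F))
  have hs' := hs.map ProjectiveSpecialLinearGroup.toPGL
  rw [← MonoidHom.range_eq_map, ← h1] at hs'
  obtain ⟨_, ⟨g, hg, rfl⟩, e⟩ := hs'.exists_map_conj_eq (hH.map μ)
  have h3 : ∀ p q, Cj μ (ProjectiveSpecialLinearGroup.toPGL p) (ProjectiveSpecialLinearGroup.toPGL q) ↔ IsConj p q :=
    fun p q => isConj_iff.trans ⟨fun ⟨c, hc⟩ => let ⟨g, hg, e⟩ := h1.ge ⟨c, rfl⟩; ⟨g, hg, by simp [e, ← hc]⟩,
      fun ⟨g, hg, e⟩ => let ⟨c, hc⟩ := h1.le ⟨g, hg, rfl⟩; ⟨c, hj (by simp [hc, e])⟩⟩ |>.symm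
  refine Ctx.eq_one (ι := ProjectiveSpecialLinearGroup.toPGL.comp ι) ⟨by simpa using Nat.succ_le_of_lt hn, hH.conj_of_mem hg, fun a b => ?_,
    hj.comp hι, ?_⟩ (fun a b => (h3 _ _).trans ((hα a b).trans (h3 _ _).symm)) (Nat.coprime_two_right.1 hk)
    (pow_orderOf_eq_one α)
  · obtain ⟨A, rfl⟩ := ε.surjective a
    obtain ⟨B, rfl⟩ := ε.surjective b
    have h4 : ∀ C v, ε C v = C.1 *ᵥ v := fun C => LinearMap.congr_fun (hε C)
    rw [hμ, hμ, eq_comm, ProjGenLinGroup.mk_eq_mk_iff]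
    refine ⟨fun ⟨u, e⟩ => ⟨u, fun v => by simp [h4, ← e, mulVec_smul]⟩, fun ⟨c, e⟩ =>
      ⟨.mk0 c fun e0 => ?_, ε.injective (LinearEquiv.ext fun v => by simp [e, h4, mulVec_smul])⟩⟩
    simpa [e0] using e (Pi.single ⟨0, by omega⟩ 1)
  · rw [← MonoidHom.map_range, ← e, Subgroup.map_map, Subgroup.map_map]
    exact congrArg (Subgroup.map · H) (MonoidHom.ext fun x => by simp)

theorem psl_eq {G : Type*} [Group G] [Finite G] [IsSimpleGroup G] (hG : ¬ IsMulCommutative G) (S : Sylow 2 G)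
    (hn : 2 ≤ n) (hq : Odd (Fintype.card F)) (h2 : n = 2 → Fintype.card F % 8 = 1 ∨ Fintype.card F % 8 = 7)
    {T : Subgroup G} {E : FusionSystem T} (hE : E.IsNormalIn (groupFusionSystem (S : Subgroup G)) 2)
    {ι : T →* ProjectiveSpecialLinearGroup (Fin n) F} (hι : E.IsRealizedBy ι) (hs : SylIn 2 ι.range ⊤)
    (hC : centE (groupFusionSystem (S : Subgroup G)) E ≤ T) :
    T = S ∧ ∀ P, E.Hom P = (groupFusionSystem (S : Subgroup G)).Hom P := by
  have key : ∀ α ∈ (groupFusionSystem (S : Subgroup G)).autGroup T, ∀ a b, IsConj (ι a) (ι b) →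
      IsConj (ι (α a)) (ι (α b)) := fun α hα a b h => by
    obtain ⟨g, hg⟩ := isConj_iff.1 h
    have h1 := zpowers_le.2 a.2
    obtain ⟨f, hf, e⟩ := IsRealizedBy.exists_mor_conj hι g h1 (by
      rintro _ ⟨k, rfl⟩
      exact ⟨b ^ k, by rw [ext_apply _ (T.zpow_mem a.2 k), map_zpow, ← hg, conj_zpow, ← map_zpow]; rfl⟩)
    have h3 : f a = b := ext_injOn hι.1 (hf.mem (mem_zpowers _)) b.2 (by
      rw [e _ (mem_zpowers _), ext_apply _ a.2, ext_apply _ b.2, hg])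
    obtain ⟨k, hk, e'⟩ := IsInvariantIn.invCond hE.1.2.2 _ _ hf _ (mor_autFun hE.1.2.2.2.1.1 hα) (img_autFun α)
    obtain ⟨c, hc⟩ := IsRealizedBy.exists_conj hι hk
    have := hc _ (mem_img_of_mem _ (mem_zpowers _))
    rw [e' _ (mem_zpowers _), h3, autFun_coe, autFun_coe, ext_apply _ (α a).2, ext_apply _ (α b).2] at this
    exact isConj_iff.2 ⟨c, this.symm⟩
  refine eq_of_isPGroup_aut S.isPGroup' hE ?_ hC fun α hα => psl_aut_eq_one hn hq h2 hι.1 hs fun a b =>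
    ⟨key α hα a b, fun h => by simpa using key _ (inv_mem hα) _ _ h⟩
  rw [GS.groupFusionSystem_eq, hyperfocal_ofSubgroup_eq (sylIn_top S), CL.Even.res_top,
    (CL.Grp.pResidual_normal 2 G).eq_bot_or_eq_top.resolve_left fun h => hG ?_, inf_top_eq]
  have := (CL.Grp.pResidual_eq_bot_iff.1 h).isNilpotent
  exact ⟨⟨IsSimpleGroup.comm_iff_isSolvable.2 inferInstance⟩⟩

end CL.PslAut
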