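/-
The 2-fusion system of M11 is simple.
Generated by tools/pg.
-/
import Cfsg.Agent.Fus.SimpleM24Base
import Cfsg.Agent.Spor.PGCtx

set_option autoImplicit false
set_option maxRecDepth 200000
set_option Elab.async false
set_option linter.unusedVariables false

namespace CL.FusC.M11
open CL.PG

def P : Par := ⟨24, 24, 5, 3⟩
theorem hP : P.Ok := by decide
noncomputable def a0 : Net := (.cons 12 (nat_lit 0xd5e)
 (.cons 6 (nat_lit 0x32010)
 (.cons 3 (nat_lit 0x1021c6)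
 (.cons 1 (nat_lit 0x201000)
 (.cons 1 (nat_lit 0x482402)
 (.cons 1 (nat_lit 0x9208)
 (.cons 3 (nat_lit 0x2102)
 (.cons 6 (nat_lit 0x1803e)
 (.cons 12 (nat_lit 0x1dc)
 .nil)))))))))
noncomputable def a1 : Net := (.cons 12 (nat_lit 0xa04)
 (.cons 6 (nat_lit 0x1b026)
 (.cons 3 (nat_lit 0x80182)
 (.cons 1 (nat_lit 0x82002)
 (.cons 1 (nat_lit 0x208208)
 (.cons 3 (nat_lit 0x6000)
 (.cons 6 (nat_lit 0x28020)
 (.cons 12 (nat_lit 0xd58)
 .nil))))))))
noncomputable def a2 : Net := (.cons 12 (nat_lit 0xe12)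
 (.cons 6 (nat_lit 0x3b030)
 (.cons 3 (nat_lit 0xc3002)
 (.cons 1 (nat_lit 0x8)
 (.cons 1 (nat_lit 0x402092)
 (.cons 1 (nat_lit 0x248200)
 (.cons 3 (nat_lit 0x102084)
 (.cons 6 (nat_lit 0x3403c)
 (.cons 12 (nat_lit 0x454)
 .nil)))))))))
noncomputable def a3 : Net := (.cons 12 (nat_lit 0xdde)
 (.cons 6 (nat_lit 0x13012)
 (.cons 3 (nat_lit 0x431c6)
 (.cons 1 (nat_lit 0x48000)
 (.cons 1 (nat_lit 0x492010)
 (.cons 1 (nat_lit 0x40208)
 (.cons 3 (nat_lit 0x184084)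
 (.cons 6 (nat_lit 0x3001a)
 (.cons 12 (nat_lit 0x344)
 .nil)))))))))
noncomputable def a4 : Net := (.cons 12 (nat_lit 0x5c4)
 (.cons 6 (nat_lit 0x7016)
 (.cons 3 (nat_lit 0x1060c6)
 (.cons 1 (nat_lit 0x8008)
 (.cons 1 (nat_lit 0x490010)
 (.cons 1 (nat_lit 0x9040)
 (.cons 3 (nat_lit 0x4086)
 (.cons 6 (nat_lit 0x3801a)
 (.cons 12 (nat_lit 0xf80)
 .nil)))))))))
noncomputable def a5 : Net := (.cons 12 (nat_lit 0xdd4)
 (.cons 6 (nat_lit 0x13030)
 (.cons 3 (nat_lit 0x102046)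
 (.cons 1 (nat_lit 0x200008)
 (.cons 1 (nat_lit 0x410012)
 (.cons 1 (nat_lit 0x40208)
 (.cons 3 (nat_lit 0x100006)
 (.cons 6 (nat_lit 0x1203c)
 (.cons 12 (nat_lit 0x6c4)
 .nil)))))))))
noncomputable def a6 : Net := (.cons 12 (nat_lit 0x6c4)
 (.cons 6 (nat_lit 0x2d03c)
 (.cons 3 (nat_lit 0x1840c6)
 (.cons 1 (nat_lit 0x8)
 (.cons 1 (nat_lit 0x90012)
 (.cons 1 (nat_lit 0x9048)
 (.cons 3 (nat_lit 0x104086)
 (.cons 6 (nat_lit 0x2c030)
 (.cons 12 (nat_lit 0xdd4)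
 .nil)))))))))
noncomputable def a7 : Net := (.cons 12 (nat_lit 0xe54)
 (.cons 6 (nat_lit 0x2800c)
 (.cons 3 (nat_lit 0x183184)
 (.cons 1 (nat_lit 0x208)
 (.cons 1 (nat_lit 0x80490)
 (.cons 1 (nat_lit 0x200208)
 (.cons 3 (nat_lit 0x180184)
 (.cons 6 (nat_lit 0x28000)
 (.cons 12 (nat_lit 0xe14)
 .nil)))))))))
noncomputable def a8 : Net := (.cons 12 (nat_lit 0xb44)
 (.cons 6 (nat_lit 0x2b030)
 (.cons 3 (nat_lit 0x43180)
 (.cons 1 (nat_lit 0x402010)
 (.cons 1 (nat_lit 0x48040)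
 (.cons 3 (nat_lit 0x2080)
 (.cons 6 (nat_lit 0x20030)
 (.cons 12 (nat_lit 0xb44)
 .nil))))))))
noncomputable def a9 : Net := (.cons 12 (nat_lit 0x664)
 (.cons 6 (nat_lit 0x2d03a)
 (.cons 3 (nat_lit 0x45086)
 (.cons 1 (nat_lit 0x200008)
 (.cons 1 (nat_lit 0x480010)
 (.cons 1 (nat_lit 0x49040)
 (.cons 3 (nat_lit 0x180080)
 (.cons 6 (nat_lit 0x36)
 (.cons 12 (nat_lit 0x9c8)
 .nil)))))))))
noncomputable def a10 : Net := (.cons 12 (nat_lit 0x9e8)
 (.cons 6 (nat_lit 0x2f030)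
 (.cons 3 (nat_lit 0x143080)
 (.cons 1 (nat_lit 0x1000)
 (.cons 1 (nat_lit 0x492400)
 (.cons 1 (nat_lit 0x200040)
 (.cons 3 (nat_lit 0x80)
 (.cons 6 (nat_lit 0x10030)
 (.cons 12 (nat_lit 0x948)
 .nil)))))))))
noncomputable def a11 : Net := (.cons 12 (nat_lit 0xd48)
 (.cons 6 (nat_lit 0x2a01e)
 (.cons 3 (nat_lit 0x84186)
 (.cons 1 (nat_lit 0x48208)
 (.cons 1 (nat_lit 0x90410)
 (.cons 1 (nat_lit 0x248248)
 (.cons 3 (nat_lit 0x84184)
 (.cons 6 (nat_lit 0xa012)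
 (.cons 12 (nat_lit 0xd48)
 .nil)))))))))
noncomputable def a12 : Net := (.cons 12 (nat_lit 0x8c0)
 (.cons 6 (nat_lit 0xb02c)
 (.cons 3 (nat_lit 0x142104)
 (.cons 1 (nat_lit 0x40208)
 (.cons 1 (nat_lit 0x490490)
 (.cons 1 (nat_lit 0x201208)
 (.cons 3 (nat_lit 0x104)
 (.cons 6 (nat_lit 0x38020)
 (.cons 12 (nat_lit 0x8c0)
 .nil)))))))))
noncomputable def a13 : Net := (.cons 12 (nat_lit 0x8c0)
 (.cons 6 (nat_lit 0xb02c)
 (.cons 3 (nat_lit 0x142104)
 (.cons 1 (nat_lit 0x40208)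
 (.cons 1 (nat_lit 0x490490)
 (.cons 1 (nat_lit 0x201208)
 (.cons 3 (nat_lit 0x104)
 (.cons 6 (nat_lit 0x38020)
 (.cons 12 (nat_lit 0x8c0)
 .nil)))))))))
noncomputable def a14 : Net := (.cons 12 (nat_lit 0x664)
 (.cons 6 (nat_lit 0x18018)
 (.cons 3 (nat_lit 0x1c0)
 (.cons 1 (nat_lit 0x201040)
 (.cons 1 (nat_lit 0x492480)
 (.cons 1 (nat_lit 0x9200)
 (.cons 6 (nat_lit 0x20018)
 (.cons 12 (nat_lit 0x664)
 .nil))))))))
noncomputable def a15 : Net := (.cons 12 (nat_lit 0xce8)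
 (.cons 6 (nat_lit 0x15024)
 (.cons 3 (nat_lit 0x182180)
 (.cons 1 (nat_lit 0x200208)
 (.cons 1 (nat_lit 0x402490)
 (.cons 1 (nat_lit 0x40208)
 (.cons 3 (nat_lit 0x100)
 (.cons 6 (nat_lit 0xa028)
 (.cons 12 (nat_lit 0x6c0)
 .nil)))))))))
noncomputable def a16 : Net := (.cons 12 (nat_lit 0x8c0)
 (.cons 6 (nat_lit 0xb02c)
 (.cons 3 (nat_lit 0x142104)
 (.cons 1 (nat_lit 0x40208)
 (.cons 1 (nat_lit 0x490490)
 (.cons 1 (nat_lit 0x201208)
 (.cons 3 (nat_lit 0x104)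
 (.cons 6 (nat_lit 0x38020)
 (.cons 12 (nat_lit 0x8c0)
 .nil)))))))))
noncomputable def a17 : Net := (.cons 12 (nat_lit 0x9dc)
 (.cons 6 (nat_lit 0x3a020)
 (.cons 3 (nat_lit 0x1c3086)
 (.cons 1 (nat_lit 0x201008)
 (.cons 1 (nat_lit 0x412092)
 (.cons 1 (nat_lit 0x1208)
 (.cons 3 (nat_lit 0x180102)
 (.cons 6 (nat_lit 0x1a018)
 (.cons 12 (nat_lit 0xbd8)
 .nil)))))))))
noncomputable def a18 : Net := (.cons 12 (nat_lit 0xa82)
 (.cons 6 (nat_lit 0x14)
 (.cons 3 (nat_lit 0x1c0006)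
 (.cons 1 (nat_lit 0x200)
 (.cons 1 (nat_lit 0x10490)
 (.cons 1 (nat_lit 0x201040)
 (.cons 3 (nat_lit 0x4104)
 (.cons 6 (nat_lit 0x14002)
 (.cons 12 (nat_lit 0x100)
 .nil)))))))))
noncomputable def a19 : Net := (.cons 12 (nat_lit 0xdd4)
 (.cons 6 (nat_lit 0x13030)
 (.cons 3 (nat_lit 0x102046)
 (.cons 1 (nat_lit 0x200008)
 (.cons 1 (nat_lit 0x410012)
 (.cons 1 (nat_lit 0x40208)
 (.cons 3 (nat_lit 0x100006)
 (.cons 6 (nat_lit 0x1203c)
 (.cons 12 (nat_lit 0x6c4)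
 .nil)))))))))
noncomputable def a20 : Net := (.cons 12 (nat_lit 0xb40)
 (.cons 6 (nat_lit 0x1401e)
 (.cons 3 (nat_lit 0x4182)
 (.cons 1 (nat_lit 0x410402)
 (.cons 1 (nat_lit 0x1048)
 (.cons 3 (nat_lit 0x100182)
 (.cons 6 (nat_lit 0x2001e)
 (.cons 12 (nat_lit 0xb40)
 .nil))))))))
noncomputable def a21 : Net := (.cons 12 (nat_lit 0x6c4)
 (.cons 6 (nat_lit 0x2d03c)
 (.cons 3 (nat_lit 0x1840c6)
 (.cons 1 (nat_lit 0x8)
 (.cons 1 (nat_lit 0x90012)
 (.cons 1 (nat_lit 0x9048)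
 (.cons 3 (nat_lit 0x104086)
 (.cons 6 (nat_lit 0x2c030)
 (.cons 12 (nat_lit 0xdd4)
 .nil)))))))))
noncomputable def ns0 : List Net := [a0, a1]
noncomputable def ws : List (List ℕ) :=
  [W (nat_lit 0x30080300c03),
  W (nat_lit 0x40100101001),
  W (nat_lit 0x60200801407),
  W (nat_lit 0x1806),
  W (nat_lit 0x902c09),
  W (nat_lit 0xa0300902c0a0300c0280a),
  W (nat_lit 0xf024090300801404),
  W (nat_lit 0xe0240c024080080a),
  W (nat_lit 0x120501104c12),
  W (nat_lit 0x1105014),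
  W (nat_lit 0x541105014),
  W (nat_lit 0x541105014),
  W (nat_lit 0x1504415),
  W (nat_lit 0x5413),
  W (nat_lit 0x541105014),
  W (nat_lit 0x4c1205011),
  W (nat_lit 0x501c0502008),
  W (nat_lit 0x1806),
  W (nat_lit 0x9c26098260a0260982709425),
  W (nat_lit 0x2609c270982709826)]
noncomputable def ns : List Net := [a0, a1, a2, a3, a4, a5, a6, a7, a8, a9, a10, a11, a12, a13, a14, a15, a16, a17, a18, a19, a20, a21]
noncomputable def D : List (ℕ × List ℕ) := app [] (mkDefs ws 2)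
noncomputable def chk : List (List ℕ × List ℕ) → Bool := P.relsB ns
noncomputable def G_v0 : Lev :=
  ⟨5, 12, sg (W (nat_lit 0x4010040100c01)), [[4], [6]], 0, 2⟩
noncomputable def G_v1 : Lev :=
  ⟨1, 11, sg (W (nat_lit 0x501c0501c05)), [[8], [10]], 2, 2⟩
noncomputable def G_v2 : Lev :=
  ⟨2, 10, sg (W (nat_lit 0x240b0240b02409)), [[12], [14]], 4, 2⟩
noncomputable def G_v3 : Lev :=
  ⟨4, 6, sg (W (nat_lit 0xd03c0d)), [], 6, 0⟩
noncomputable def G_vs4 : List Lev :=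
  []
noncomputable def G_vs3 : List Lev :=
  G_v3 :: G_vs4
noncomputable def G_vs2 : List Lev :=
  G_v2 :: G_vs3
noncomputable def G_vs1 : List Lev :=
  G_v1 :: G_vs2
noncomputable def G_vs : List Lev :=
  G_v0 :: G_vs1
noncomputable def T_ps : List PcG :=
  [⟨[18], 2, W (nat_lit 0x1904417), [[16], W (nat_lit 0x6417), [24]]⟩,
  ⟨[22], 2, [], [W (nat_lit 0x6411), [24]]⟩,
  ⟨[16], 2, [], [[24]]⟩,
  ⟨[24], 2, [], []⟩]
noncomputable def T_v0 : Lev :=
  ⟨2, 8, sg (W (nat_lit 0x1304c1104c11)), [[20]], 8, 1⟩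
noncomputable def T_v1 : Lev :=
  ⟨3, 2, sg [20], [], 9, 0⟩
noncomputable def T_vs2 : List Lev :=
  []
noncomputable def T_vs1 : List Lev :=
  T_v1 :: T_vs2
noncomputable def T_vs : List Lev :=
  T_v0 :: T_vs1
noncomputable def zm5 : ℕ :=
  (nat_lit 0x20498b)
noncomputable def sccz_F : List (List ℕ × ℕ × ℕ) :=
  [([0], zm5, zm5)]
noncomputable def scczG_v0 : Lev :=
  ⟨2, 8, sg (W (nat_lit 0x1304c1104c11)), [[20]], 8, 1⟩
noncomputable def scczG_v1 : Lev :=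
  ⟨3, 2, sg [20], [], 9, 0⟩
noncomputable def scczG_vs2 : List Lev :=
  []
noncomputable def scczG_vs1 : List Lev :=
  scczG_v1 :: scczG_vs2
noncomputable def scczG_vs : List Lev :=
  scczG_v0 :: scczG_vs1
noncomputable def sccz_x : List (ℕ × List ℕ) :=
  [((nat_lit 0), [(nat_lit 0x1334c)]),
  ((nat_lit 0), [(nat_lit 0x200)])]
noncomputable def sccz_G : Gl :=
  ⟨P, ns, (app D []), (diag [[16], [18]]), [], [], memM (app D []) [[26]], true⟩
noncomputable def sccz_s : St :=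
  ⟨(mkS P.n scczG_vs sccz_x), [[16], [18]], [], mapL Prod.snd sccz_F, memM (app D []) [[26]], []⟩
noncomputable def zt9 : ST :=
  (.orb 0 (.img [2] 1 (.and 1 0 (.br 0 [[26]] [0] [(2, [])] (.cons (.orb 0 (.img [3] 0 (.br 0 [] [] [(3, [])] (.cons .fnd
 .nil))))
 .nil)))))
noncomputable def zst13 : List (List ℕ × ℕ × List ℕ) :=
  [(W (nat_lit 0x380f02409), 20, [26]),
  ([18], 28, [20]),
  (W (nat_lit 0xf0240c02407), 30, W (nat_lit 0x541d)),
  ([], 16, W (nat_lit 0x741b)),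
  ([], 18, W (nat_lit 0x801d))]
noncomputable def zm17 : ℕ :=
  (nat_lit 0x20498b)
noncomputable def k1_F : List (List ℕ × ℕ × ℕ) :=
  [([0], zm17, zm17)]
noncomputable def k1G_v0 : Lev :=
  ⟨2, 8, sg (W (nat_lit 0x1304c1104c11)), [[20]], 8, 1⟩
noncomputable def k1G_v1 : Lev :=
  ⟨3, 2, sg [20], [], 9, 0⟩
noncomputable def k1G_vs2 : List Lev :=
  []
noncomputable def k1G_vs1 : List Lev :=
  k1G_v1 :: k1G_vs2
noncomputable def k1G_vs : List Lev :=
  k1G_v0 :: k1G_vs1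
noncomputable def k1_x : List (ℕ × List ℕ) :=
  [((nat_lit 0), [(nat_lit 0x1334c)]),
  ((nat_lit 0), [(nat_lit 0x200)])]
noncomputable def k1_G : Gl :=
  ⟨P, ns, (app D []), (diag [[16], [18]]), [], [], memM (app D []) [[32]], true⟩
noncomputable def k1_s : St :=
  ⟨(mkS P.n k1G_vs k1_x), [[16], [18]], [], mapL Prod.snd k1_F, memM (app D []) [[32]], []⟩
noncomputable def zt21 : ST :=
  (.orb 0 (.img [2] 1 (.and 1 0 (.br 0 [[32]] [0] [(2, [])] (.cons (.orb 0 (.img [3] 0 (.br 0 [] [] [(3, [])] (.cons .fnd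
 .nil))))
 .nil)))))
noncomputable def zL25 : List (List ℕ × List ℕ × List ℕ) :=
  [([34], [16], [19]),
  ([], [16], [16]),
  ([35], [16], [18]),
  ([34], [18], [16]),
  ([], [18], [18])]
noncomputable def zcj28 : List (List (List ℕ)) :=
  [[[35]],
  [[34]]]
noncomputable def nTG_v0 : Lev :=
  ⟨5, 12, sg (W (nat_lit 0x4010040100c01)), [[4], [6]], 0, 2⟩
noncomputable def nTG_v1 : Lev :=
  ⟨15, 11, sg (W (nat_lit 0x50140701c05)), [[36], [38]], 16, 2⟩
noncomputable def nTG_v2 : Lev :=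
  ⟨19, 10, sg (W (nat_lit 0x250942709425)), [[40], [42]], 18, 2⟩
noncomputable def nTG_v3 : Lev :=
  ⟨20, 6, sg (W (nat_lit 0x290ac29)), [], 20, 0⟩
noncomputable def nTG_vs4 : List Lev :=
  []
noncomputable def nTG_vs3 : List Lev :=
  nTG_v3 :: nTG_vs4
noncomputable def nTG_vs2 : List Lev :=
  nTG_v2 :: nTG_vs3
noncomputable def nTG_vs1 : List Lev :=
  nTG_v1 :: nTG_vs2
noncomputable def nTG_vs : List Lev :=
  nTG_v0 :: nTG_vs1
noncomputable def nT_x : List (ℕ × List ℕ) :=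
  [((nat_lit 0x1), [(nat_lit 0xfacca0)]),
  ((nat_lit 0), [(nat_lit 0xfacc80)]),
  ((nat_lit 0), []),
  ((nat_lit 0), [])]
noncomputable def nT_G : Gl :=
  ⟨P, ns, (app D []), [], (diag [[[16], [18]], [[32]], [[34]]]), [], memM (app D []) [[16], [18]], true⟩
noncomputable def nT_s : St :=
  ⟨(mkS P.n nTG_vs nT_x), [[0], [2]], [], [], memM (app D []) [[16], [18]], []⟩
noncomputable def zt34 : ST :=
  (.orb 0 (.br 0 [W (nat_lit 0x1504415), W (nat_lit 0x4c15)] (W (nat_lit 0xc0300c01)) [(10, [1]), (5, [])] (.cons (.clo 1 0 [0] [] (.mis 0))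
 (.cons (.orb 0 (.clo 2 1 (W (nat_lit 0x100401)) (W (nat_lit 0x100401)) (.and 1 0 (.clo 1 3 [0] [0] (.dif 1 0 (.br 0 [W (nat_lit 0x1105014)] [0] [(15, [])] (.cons (.dif 2 6 (.br 0 [] [] [(19, [])] (.cons (.dif 3 2 (.br 0 [] [] [(20, [])] (.cons .fnd
 .nil)))
 .nil)))
 .nil)))))))
 .nil))))

theorem zc0 : P.chainB ns D G_vs [[0], [2]] = true := by decide +kernel
theorem zr1 : chk (pcsR T_ps []) = true := by decide +kernel
theorem zb2 : bnd (pcsB D T_ps []) (leB (app D []) [[16], [18]] (pcGens T_ps [])) = true := by decide +kernel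
theorem zc3 : P.chainB ns D T_vs [[16], [18]] = true := by decide +kernel
theorem zm4 : leB D [[16], [18]] [[0], [2]] = true := by decide +kernel
theorem zf6 : P.fixXB ns (diag [[16], [18]]) sccz_F = true := by decide +kernel
theorem zc7 : P.chainB ns D scczG_vs [[16], [18]] = true := by decide +kernel
theorem zs8 : ssB P.N ns D (mkS P.n scczG_vs sccz_x) [[16], [18]] = true := by decide +kernel
theorem zs10 : sccz_G.chk zt9 sccz_s none = true := by decide +kernel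
theorem zr11 : chk (comR [[26]] (mapL Prod.snd (diag [[16], [18]]))) = true := by decide +kernel
theorem zm12 : leB D [[26]] [[16], [18]] = true := by decide +kernel
theorem zr14 : chk [([26, 26], [])] = true := by decide +kernel
theorem zf15 : CL.Fus.fusB (memM D [[0], [2]]) (memM D [[16], [18]]) [[16], [18]] zst13 (maskW [[26]]) = true := by decide +kernel
theorem zr16 : chk (CL.Fus.fusR zst13) = true := by decide +kernel
theorem zf18 : P.fixXB ns (diag [[16], [18]]) k1_F = true := by decide +kernel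
theorem zc19 : P.chainB ns D k1G_vs [[16], [18]] = true := by decide +kernel
theorem zs20 : ssB P.N ns D (mkS P.n k1G_vs k1_x) [[16], [18]] = true := by decide +kernel
theorem zs22 : k1_G.chk zt21 k1_s none = true := by decide +kernel
theorem zr23 : chk (comR [[32]] (mapL Prod.snd (diag [[16], [18]]))) = true := by decide +kernel
theorem zm24 : leB D [[32]] [[16], [18]] = true := by decide +kernel
theorem zf26 : CL.Fus.cmB D [[16], [18]] [[34]] zL25 = true := by decide +kernel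
theorem zr27 : chk (CL.Fus.cmR zL25) = true := by decide +kernel
theorem zm29 : nrmB D [[16], [18]] [[34]] zcj28 = true := by decide +kernel
theorem zr30 : chk (nrmR [[16], [18]] [[34]] zcj28) = true := by decide +kernel
theorem zm31 : leB D [[34]] [[16], [18]] = true := by decide +kernel
theorem zc32 : P.chainB ns D nTG_vs [[0], [2]] = true := by decide +kernel
theorem zs33 : ssB P.N ns D (mkS P.n nTG_vs nT_x) [[0], [2]] = true := by decide +kernel
theorem zs35 : nT_G.chk zt34 nT_s none = true := by decide +kernel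
theorem zm36 : leB D [[16], [18]] [[0], [2]] = true := by decide +kernel
theorem zk37 : allL (keepB P.n P.N) ns0 = true := by decide +kernel
theorem ze38 : extB ns0 ns 2 ws [] = true := by decide +kernel
theorem zn39 : P.netsB ns (mkDefs ws 2) = true := by decide +kernel

variable {G X : Type*} [Group G] [MulAction G X] {e : ℕ → X} {gs : List G}

theorem keep0 : allL (keepB P.n P.N) ns0 = true := zk37

theorem len {k} (c : Ctx P e gs ns0 [] k) : gs.length = 2 := c.len ze38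

theorem ctx0 {k} (c : Ctx P e gs ns0 [] k) : Ctx P e (ext gs ws) ns D chk0 :=
  c.ext rfl ze38 zn39

theorem ctx {k} (c : Ctx P e gs ns0 [] k) {H : Subgroup G} (hF : Faithful e P.n H) (hH : ∀ g ∈ gs, g ∈ H) :
    Ctx P e (ext gs ws) ns D chk :=
  (ctx0 c).withB hF (mem_of_mem_ext hH _)

theorem G_c : P.chainB ns D G_vs [[0], [2]] = true :=
  zc0

theorem G_o : prodL G_vs 1 = 7920 := by decide +kernel

theorem G_lb (c : Ctx P e gs ns D chk) :
    LB (subW gs [[0], [2]]) 7920 :=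
  c.lb G_c G_o

theorem T_pr (c : Ctx P e gs ns D chk) :
    Rels gs (pcsR T_ps []) :=
  (c.rels _ zr1)

theorem T_pe (c : Ctx P e gs ns D chk) :
    Rels gs (defRels []) :=
  (Rels.nil _)

theorem T_pb : bnd (pcsB D T_ps []) (leB (app D []) [[16], [18]] (pcGens T_ps [])) = true := zb2

theorem T_ub (c : Ctx P e gs ns D chk) :
    UB (subW gs [[16], [18]]) 16 :=
  c.pcs (UB.nil gs) (T_pe c) (T_pr c) T_pb (by decide +kernel)

theorem T_c : P.chainB ns D T_vs [[16], [18]] = true :=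
  zc3

theorem T_o : prodL T_vs 1 = 16 := by decide +kernel

theorem T_lb (c : Ctx P e gs ns D chk) :
    LB (subW gs [[16], [18]]) 16 :=
  c.lb T_c T_o

theorem le (c : Ctx P e gs ns D chk) :
    (subW gs [[16], [18]]) ≤ (subW gs [[0], [2]]) :=
  (c.le zm4)

theorem scczG_c : P.chainB ns D scczG_vs [[16], [18]] = true :=
  zc7

theorem scczG_o : prodL scczG_vs 1 = 16 := by decide +kernel

theorem sccz (c : Ctx P e gs ns D chk) :
    (subW gs [[16], [18]]) ⊓ Subgroup.centralizer (subW gs [[16], [18]] : Set G) = (subW gs [[26]]) :=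
  c.cent (lx := [[16], [18]]) (Rels.nil _) (c.sOk (c.exact scczG_c scczG_o (T_ub c)) zs8) (fun _ h => by cases h)
    (c.fixX zf6) (c.rels _ zr11) zm12 zs10

theorem scz2 (c : Ctx P e gs ns D chk) :
    wordG gs [26, 26] = wordG gs [] :=
  c.eq zr14

theorem sc (c : Ctx P e gs ns D chk) :
    CL.Fus.SCFull (subW gs [[0], [2]]) (subW gs [[16], [18]]) :=
  CL.Fus.scFull_of_cert (k := 4) (st := zst13) c.defs ((T_ub c).card_eq (T_lb c)) (le c)
    (sccz c) (scz2 c) (c.rels _ zr16) zf15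

theorem T_chr (c : Ctx P e gs ns D chk) :
    CL.Fus.Chr (subW gs [[16], [18]]) (subW gs [[16], [18]]) :=
  CL.Fus.Chr.self _

theorem k1G_c : P.chainB ns D k1G_vs [[16], [18]] = true :=
  zc19

theorem k1G_o : prodL k1G_vs 1 = 16 := by decide +kernel

theorem k1 (c : Ctx P e gs ns D chk) :
    (subW gs [[16], [18]]) ⊓ Subgroup.centralizer (subW gs [[16], [18]] : Set G) = (subW gs [[32]]) :=
  c.cent (lx := [[16], [18]]) (Rels.nil _) (c.sOk (c.exact k1G_c k1G_o (T_ub c)) zs20) (fun _ h => by cases h)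
    (c.fixX zf18) (c.rels _ zr23) zm24 zs22

theorem k1C_chr (c : Ctx P e gs ns D chk) :
    CL.Fus.Chr (subW gs [[16], [18]]) (subW gs [[32]]) :=
  k1 c ▸ (T_chr c).cent (T_chr c)

theorem k2 (c : Ctx P e gs ns D chk) :
    ⁅(subW gs [[16], [18]]), (subW gs [[16], [18]])⁆ = (subW gs [[34]]) :=
  have hfin : Finite (subW gs [[34]]) := (UB.mono (T_ub c) (c.le zm31)).1
  CL.Fus.comm_eq_of_cert (L := zL25) c.defs (c.le_normalizer (cj := zcj28) hfin (c.rels _ zr30) zm29) (c.rels _ zr27) zf26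

theorem k2C_chr (c : Ctx P e gs ns D chk) :
    CL.Fus.Chr (subW gs [[16], [18]]) (subW gs [[34]]) :=
  k2 c ▸ (T_chr c).comm (T_chr c)

theorem nTG_c : P.chainB ns D nTG_vs [[0], [2]] = true :=
  zc32

theorem nTG_o : prodL nTG_vs 1 = 7920 := by decide +kernel

theorem nT (c : Ctx P e gs ns D chk) (hU : UB (subW gs [[0], [2]]) 7920) :
    (subW gs [[0], [2]]) ⊓ Subgroup.normalizer ((subW gs [[16], [18]]) : Set G) = (subW gs [[16], [18]]) :=
  CL.Fus.selfNorm_of_search c (As := [[[16], [18]], [[32]], [[34]]]) (Rels.nil _) (c.sOk (c.exact nTG_c nTG_o hU) zs33)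
    (List.forall_mem_cons.2 ⟨T_chr c, List.forall_mem_cons.2 ⟨k1C_chr c, List.forall_mem_cons.2 ⟨k2C_chr c, fun _ h => by cases h⟩⟩⟩) zm36 zs35

noncomputable def Ps : List ℕ := [886085840059077615271163129535541760, 983541744891996863739970616027418880]
theorem base : CL.Fus.mgsB P CL.Pc.t11 Ps ns0 = true := by decide +kernel
theorem c1 : Ctx P CL.Spor.gPt (ext (CL.Fus.mgs Ps) ws) ns D chk :=
  ctx (CL.Fus.mgs_ctx hP rfl (CL.Fus.mgs_spec hP rfl CL.Pc.t11_ok base).1) CL.Fus.gPt_faithful fun _ _ => trivial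
theorem G_le : subW (ext (CL.Fus.mgs Ps) ws) [[0], [2]] ≤ Cfsg.Spor.M11 :=
  subW_le.2 fun w _ => wordG_mem (mem_of_mem_ext (CL.Fus.mgs_spec hP rfl CL.Pc.t11_ok base).2 _) w
theorem simple (S : Sylow 2 Cfsg.Spor.M11) : (Cfsg.groupFusionSystem (S : Subgroup Cfsg.Spor.M11)).IsSimple 2 := by
  have hU := UB.of_card CL.Spor.card_M11 (by decide)
  have e := hU.eq_of_lb (G_lb c1) G_le
  have := hU.1
  have hc := (T_ub c1).card_eq (T_lb c1)
  refine CL.Fus.isSimple_of_selfNorm (CL.Fus.sylIn_two_of_card ((le c1).trans G_le) (a := 4) (m := 495) hc CL.Spor.card_M11 rfl)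
    (fun h => by rw [h, Subgroup.card_bot] at hc; cases hc) ((sc c1).mono G_le) ?_ S
  have := nT c1 (hU.mono G_le)
  rwa [e] at this


end CL.FusC.M11
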