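/-
The 2-fusion system of M12 is simple.
Generated by tools/pg.
-/
import Cfsg.Agent.Fus.SimpleM24Base
import Cfsg.Agent.Spor.PGCtx

set_option autoImplicit false
set_option maxRecDepth 200000
set_option Elab.async false
set_option linter.unusedVariables false

namespace CL.FusC.M12
open CL.PG

def P : Par := ⟨24, 24, 5, 3⟩
theorem hP : P.Ok := by decide
noncomputable def a0 : Net := (.cons 12 (nat_lit 0x82c)
 (.cons 6 (nat_lit 0x2900c)
 (.cons 3 (nat_lit 0x141182)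
 (.cons 1 (nat_lit 0x1000)
 (.cons 1 (nat_lit 0x92402)
 (.cons 1 (nat_lit 0x8008)
 (.cons 3 (nat_lit 0x4000)
 (.cons 6 (nat_lit 0x4)
 (.cons 12 (nat_lit 0x2b4)
 .nil)))))))))
noncomputable def a1 : Net := (.cons 12 (nat_lit 0x7d3)
 (.cons 6 (nat_lit 0x36022)
 (.cons 3 (nat_lit 0x82001)
 (.cons 1 (nat_lit 0x48000)
 (.cons 1 (nat_lit 0x92082)
 (.cons 1 (nat_lit 0x209)
 (.cons 3 (nat_lit 0x4)
 (.cons 6 (nat_lit 0x14020)
 (.cons 12 (nat_lit 0x604)
 .nil)))))))))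
noncomputable def a2 : Net := (.cons 12 (nat_lit 0xfc2)
 (.cons 6 (nat_lit 0x17030)
 (.cons 3 (nat_lit 0xc6100)
 (.cons 1 (nat_lit 0x8200)
 (.cons 1 (nat_lit 0x92412)
 (.cons 1 (nat_lit 0x200008)
 (.cons 3 (nat_lit 0x80082)
 (.cons 6 (nat_lit 0x22028)
 (.cons 12 (nat_lit 0xbc0)
 .nil)))))))))
noncomputable def a3 : Net := (.cons 12 (nat_lit 0xee0)
 (.cons 6 (nat_lit 0x2e03a)
 (.cons 3 (nat_lit 0x7044)
 (.cons 1 (nat_lit 0x8048)
 (.cons 1 (nat_lit 0x410092)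
 (.cons 1 (nat_lit 0x201248)
 (.cons 3 (nat_lit 0x84080)
 (.cons 6 (nat_lit 0x1803a)
 (.cons 12 (nat_lit 0x4e4)
 .nil)))))))))
noncomputable def a4 : Net := (.cons 12 (nat_lit 0x1cc)
 (.cons 6 (nat_lit 0x3f030)
 (.cons 3 (nat_lit 0xc10c6)
 (.cons 1 (nat_lit 0x48000)
 (.cons 1 (nat_lit 0x92002)
 (.cons 1 (nat_lit 0x1248)
 (.cons 3 (nat_lit 0x84000)
 (.cons 6 (nat_lit 0x12032)
 (.cons 12 (nat_lit 0xb84)
 .nil)))))))))
noncomputable def a5 : Net := (.cons 12 (nat_lit 0xad2)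
 (.cons 6 (nat_lit 0x3f03e)
 (.cons 3 (nat_lit 0x180084)
 (.cons 1 (nat_lit 0x240008)
 (.cons 1 (nat_lit 0x492012)
 (.cons 1 (nat_lit 0x208048)
 (.cons 3 (nat_lit 0x2000)
 (.cons 6 (nat_lit 0x34032)
 (.cons 12 (nat_lit 0x484)
 .nil)))))))))
noncomputable def a6 : Net := (.cons 12 (nat_lit 0x78c)
 (.cons 6 (nat_lit 0x3f038)
 (.cons 3 (nat_lit 0x42086)
 (.cons 1 (nat_lit 0x41008)
 (.cons 1 (nat_lit 0x92012)
 (.cons 1 (nat_lit 0x1048)
 (.cons 3 (nat_lit 0x82086)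
 (.cons 6 (nat_lit 0x1a030)
 (.cons 12 (nat_lit 0x3dc)
 .nil)))))))))
noncomputable def a7 : Net := (.cons 12 (nat_lit 0x10c)
 (.cons 6 (nat_lit 0x36004)
 (.cons 3 (nat_lit 0x1c60c4)
 (.cons 1 (nat_lit 0x8008)
 (.cons 1 (nat_lit 0x410010)
 (.cons 1 (nat_lit 0x240008)
 (.cons 3 (nat_lit 0x106004)
 (.cons 6 (nat_lit 0x18004)
 (.cons 12 (nat_lit 0x10c)
 .nil)))))))))
noncomputable def a8 : Net := (.cons 12 (nat_lit 0xe54)
 (.cons 6 (nat_lit 0x2800c)
 (.cons 3 (nat_lit 0x183184)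
 (.cons 1 (nat_lit 0x208)
 (.cons 1 (nat_lit 0x80490)
 (.cons 1 (nat_lit 0x200208)
 (.cons 3 (nat_lit 0x180184)
 (.cons 6 (nat_lit 0x28000)
 (.cons 12 (nat_lit 0xe14)
 .nil)))))))))
noncomputable def a9 : Net := (.cons 12 (nat_lit 0xa88)
 (.cons 6 (nat_lit 0x3d018)
 (.cons 3 (nat_lit 0x1020c0)
 (.cons 1 (nat_lit 0x80000)
 (.cons 1 (nat_lit 0x208240)
 (.cons 3 (nat_lit 0x102000)
 (.cons 6 (nat_lit 0x38018)
 (.cons 12 (nat_lit 0x288)
 .nil))))))))
noncomputable def a10 : Net := (.cons 12 (nat_lit 0xd06)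
 (.cons 6 (nat_lit 0x27003)
 (.cons 3 (nat_lit 0xc7043)
 (.cons 1 (nat_lit 0x8)
 (.cons 1 (nat_lit 0x90090)
 (.cons 1 (nat_lit 0x241201)
 (.cons 3 (nat_lit 0x106004)
 (.cons 6 (nat_lit 0x3c018)
 (.cons 12 (nat_lit 0x2e8)
 .nil)))))))))
noncomputable def a11 : Net := (.cons 12 (nat_lit 0x28e)
 (.cons 6 (nat_lit 0x10)
 (.cons 3 (nat_lit 0x81046)
 (.cons 1 (nat_lit 0x200008)
 (.cons 1 (nat_lit 0x480092)
 (.cons 1 (nat_lit 0x8248)
 (.cons 3 (nat_lit 0x102002)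
 (.cons 6 (nat_lit 0x20030)
 (.cons 12 (nat_lit 0xdae)
 .nil)))))))))
noncomputable def a12 : Net := (.cons 12 (nat_lit 0x269)
 (.cons 6 (nat_lit 0x3023)
 (.cons 3 (nat_lit 0x70c0)
 (.cons 1 (nat_lit 0x8008)
 (.cons 1 (nat_lit 0x490092)
 (.cons 1 (nat_lit 0x200040)
 (.cons 3 (nat_lit 0x4000)
 (.cons 6 (nat_lit 0x1c03c)
 (.cons 12 (nat_lit 0xd96)
 .nil)))))))))
noncomputable def a13 : Net := (.cons 12 (nat_lit 0xdae)
 (.cons 6 (nat_lit 0x20030)
 (.cons 3 (nat_lit 0x101082)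
 (.cons 1 (nat_lit 0x48)
 (.cons 1 (nat_lit 0x480092)
 (.cons 1 (nat_lit 0x201208)
 (.cons 3 (nat_lit 0x82006)
 (.cons 6 (nat_lit 0x10)
 (.cons 12 (nat_lit 0x28e)
 .nil)))))))))
noncomputable def a14 : Net := (.cons 12 (nat_lit 0x80c)
 (.cons 6 (nat_lit 0x2c030)
 (.cons 3 (nat_lit 0x6006)
 (.cons 1 (nat_lit 0x48048)
 (.cons 1 (nat_lit 0x90092)
 (.cons 1 (nat_lit 0x49248)
 (.cons 3 (nat_lit 0x6006)
 (.cons 6 (nat_lit 0xc030)
 (.cons 12 (nat_lit 0x80c)
 .nil)))))))))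
noncomputable def a15 : Net := (.cons 12 (nat_lit 0x480)
 (.cons 6 (nat_lit 0xc010)
 (.cons 3 (nat_lit 0x106142)
 (.cons 1 (nat_lit 0x8000)
 (.cons 1 (nat_lit 0x10400)
 (.cons 1 (nat_lit 0x209008)
 (.cons 3 (nat_lit 0x6102)
 (.cons 6 (nat_lit 0xc010)
 (.cons 12 (nat_lit 0x400)
 .nil)))))))))
noncomputable def a16 : Net := (.cons 12 (nat_lit 0x227)
 (.cons 6 (nat_lit 0x5035)
 (.cons 3 (nat_lit 0x1830c6)
 (.cons 1 (nat_lit 0x1000)
 (.cons 1 (nat_lit 0x82402)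
 (.cons 1 (nat_lit 0x208248)
 (.cons 3 (nat_lit 0x184106)
 (.cons 6 (nat_lit 0x2038)
 (.cons 12 (nat_lit 0x1d8)
 .nil)))))))))
noncomputable def a17 : Net := (.cons 12 (nat_lit 0x26a)
 (.cons 6 (nat_lit 0x2002c)
 (.cons 3 (nat_lit 0x44004)
 (.cons 1 (nat_lit 0x40)
 (.cons 1 (nat_lit 0x400090)
 (.cons 1 (nat_lit 0x241)
 (.cons 3 (nat_lit 0x4)
 (.cons 6 (nat_lit 0x2000c)
 (.cons 12 (nat_lit 0x26a)
 .nil)))))))))
noncomputable def a18 : Net := (.cons 12 (nat_lit 0x26a)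
 (.cons 6 (nat_lit 0x2002c)
 (.cons 3 (nat_lit 0x44004)
 (.cons 1 (nat_lit 0x40)
 (.cons 1 (nat_lit 0x400090)
 (.cons 1 (nat_lit 0x241)
 (.cons 3 (nat_lit 0x4)
 (.cons 6 (nat_lit 0x2000c)
 (.cons 12 (nat_lit 0x26a)
 .nil)))))))))
noncomputable def a19 : Net := (.cons 12 (nat_lit 0x6d2)
 (.cons 6 (nat_lit 0x10024)
 (.cons 3 (nat_lit 0x400c0)
 (.cons 1 (nat_lit 0x200)
 (.cons 1 (nat_lit 0x80480)
 (.cons 1 (nat_lit 0x9048)
 (.cons 3 (nat_lit 0x100)
 (.cons 6 (nat_lit 0x10024)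
 (.cons 12 (nat_lit 0x6d2)
 .nil)))))))))
noncomputable def a20 : Net := (.cons 12 (nat_lit 0xee4)
 (.cons 6 (nat_lit 0x20021)
 (.cons 3 (nat_lit 0x46004)
 (.cons 1 (nat_lit 0x10400)
 (.cons 1 (nat_lit 0x1000)
 (.cons 3 (nat_lit 0x6000)
 (.cons 6 (nat_lit 0x20)
 (.cons 12 (nat_lit 0xe64)
 .nil))))))))
noncomputable def a21 : Net := (.cons 12 (nat_lit 0x4f0)
 (.cons 6 (nat_lit 0x3002e)
 (.cons 3 (nat_lit 0x82084)
 (.cons 1 (nat_lit 0x8048)
 (.cons 1 (nat_lit 0x12090)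
 (.cons 1 (nat_lit 0x48248)
 (.cons 3 (nat_lit 0x82084)
 (.cons 6 (nat_lit 0x3000e)
 (.cons 12 (nat_lit 0x470)
 .nil)))))))))
noncomputable def a22 : Net := (.cons 12 (nat_lit 0x26a)
 (.cons 6 (nat_lit 0x2002c)
 (.cons 3 (nat_lit 0x44004)
 (.cons 1 (nat_lit 0x40)
 (.cons 1 (nat_lit 0x400090)
 (.cons 1 (nat_lit 0x241)
 (.cons 3 (nat_lit 0x4)
 (.cons 6 (nat_lit 0x2000c)
 (.cons 12 (nat_lit 0x26a)
 .nil)))))))))
noncomputable def a23 : Net := (.cons 12 (nat_lit 0xed2)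
 (.cons 6 (nat_lit 0x18001)
 (.cons 3 (nat_lit 0x184180)
 (.cons 1 (nat_lit 0x240200)
 (.cons 1 (nat_lit 0x490482)
 (.cons 1 (nat_lit 0x208201)
 (.cons 3 (nat_lit 0x84180)
 (.cons 6 (nat_lit 0x20)
 (.cons 12 (nat_lit 0x172)
 .nil)))))))))
noncomputable def a24 : Net := (.cons 12 (nat_lit 0x480)
 (.cons 6 (nat_lit 0xc010)
 (.cons 3 (nat_lit 0x106142)
 (.cons 1 (nat_lit 0x8000)
 (.cons 1 (nat_lit 0x10400)
 (.cons 1 (nat_lit 0x209008)
 (.cons 3 (nat_lit 0x6102)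
 (.cons 6 (nat_lit 0xc010)
 (.cons 12 (nat_lit 0x400)
 .nil)))))))))
noncomputable def a25 : Net := (.cons 12 (nat_lit 0x26a)
 (.cons 6 (nat_lit 0x2002c)
 (.cons 3 (nat_lit 0x44004)
 (.cons 1 (nat_lit 0x40)
 (.cons 1 (nat_lit 0x400090)
 (.cons 1 (nat_lit 0x241)
 (.cons 3 (nat_lit 0x4)
 (.cons 6 (nat_lit 0x2000c)
 (.cons 12 (nat_lit 0x26a)
 .nil)))))))))
noncomputable def a26 : Net := (.cons 12 (nat_lit 0x69)
 (.cons 6 (nat_lit 0xf031)
 (.cons 3 (nat_lit 0x2042)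
 (.cons 1 (nat_lit 0x48)
 (.cons 1 (nat_lit 0x480092)
 (.cons 1 (nat_lit 0x201241)
 (.cons 3 (nat_lit 0x82004)
 (.cons 6 (nat_lit 0x2e030)
 (.cons 12 (nat_lit 0xc16)
 .nil)))))))))
noncomputable def a27 : Net := (.cons 12 (nat_lit 0xe99)
 (.cons 6 (nat_lit 0x11032)
 (.cons 3 (nat_lit 0x5002)
 (.cons 1 (nat_lit 0x82002)
 (.cons 1 (nat_lit 0x8209)
 (.cons 3 (nat_lit 0x2084)
 (.cons 6 (nat_lit 0x30038)
 (.cons 12 (nat_lit 0x234)
 .nil))))))))
noncomputable def a28 : Net := (.cons 12 (nat_lit 0xb82)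
 (.cons 6 (nat_lit 0xd004)
 (.cons 3 (nat_lit 0x184046)
 (.cons 1 (nat_lit 0x200040)
 (.cons 1 (nat_lit 0x490082)
 (.cons 1 (nat_lit 0x8240)
 (.cons 3 (nat_lit 0x4180)
 (.cons 6 (nat_lit 0x2e)
 (.cons 12 (nat_lit 0xc2e)
 .nil)))))))))
noncomputable def a29 : Net := (.cons 12 (nat_lit 0x1a4)
 (.cons 6 (nat_lit 0x2c03c)
 (.cons 3 (nat_lit 0x82044)
 (.cons 1 (nat_lit 0x208000)
 (.cons 1 (nat_lit 0x412090)
 (.cons 1 (nat_lit 0x9200)
 (.cons 3 (nat_lit 0x104)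
 (.cons 6 (nat_lit 0x401c)
 (.cons 12 (nat_lit 0x144)
 .nil)))))))))
noncomputable def a30 : Net := (.cons 12 (nat_lit 0x5c)
 (.cons 6 (nat_lit 0x1c01e)
 (.cons 3 (nat_lit 0xc61c6)
 (.cons 1 (nat_lit 0x8008)
 (.cons 1 (nat_lit 0x412012)
 (.cons 1 (nat_lit 0x200040)
 (.cons 3 (nat_lit 0x84)
 (.cons 6 (nat_lit 0x36006)
 (.cons 12 (nat_lit 0x85c)
 .nil)))))))))
noncomputable def a31 : Net := (.cons 12 (nat_lit 0xb50)
 (.cons 6 (nat_lit 0x3903e)
 (.cons 3 (nat_lit 0x184082)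
 (.cons 1 (nat_lit 0x201000)
 (.cons 1 (nat_lit 0x402002)
 (.cons 1 (nat_lit 0x208048)
 (.cons 3 (nat_lit 0x80)
 (.cons 6 (nat_lit 0x601e)
 (.cons 12 (nat_lit 0xb00)
 .nil)))))))))
noncomputable def a32 : Net := (.cons 12 (nat_lit 0x60c)
 (.cons 6 (nat_lit 0x2b020)
 (.cons 3 (nat_lit 0x3000)
 (.cons 1 (nat_lit 0x8)
 (.cons 1 (nat_lit 0x80090)
 (.cons 1 (nat_lit 0x8040)
 (.cons 3 (nat_lit 0x184)
 (.cons 6 (nat_lit 0x801c)
 (.cons 12 (nat_lit 0x14c)
 .nil)))))))))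
noncomputable def ns0 : List Net := [a0, a1]
noncomputable def ws : List (List ℕ) :=
  [W (nat_lit 0x10100100404),
  W (nat_lit 0x100401),
  W (nat_lit 0x80200501408),
  W (nat_lit 0x14050200802005),
  W (nat_lit 0x2c0b0240c),
  W (nat_lit 0x90240b02c0b),
  W (nat_lit 0xf0340f03c0f03810),
  W (nat_lit 0xe03c0d04010),
  W (nat_lit 0x130440e0440700c06),
  W (nat_lit 0xd0440f0280a01c0d),
  W (nat_lit 0x130440d02c0a0180800c0d),
  W (nat_lit 0x1906418),
  W (nat_lit 0x581a05c16),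
  W (nat_lit 0x6c1b),
  W (nat_lit 0x1b05417),
  W (nat_lit 0x741b06c1907419),
  W (nat_lit 0x741b06c1907419),
  W (nat_lit 0x701d06c1e0781b),
  W (nat_lit 0x6c19),
  W (nat_lit 0x1d06c1b),
  W (nat_lit 0x741b06c1907419),
  W (nat_lit 0x601605c15),
  W (nat_lit 0x601a05c19),
  W (nat_lit 0xbc2f),
  W (nat_lit 0xc42f),
  W (nat_lit 0x641d),
  W (nat_lit 0x701808),
  W (nat_lit 0x80140501c05),
  W (nat_lit 0x3c0e83c0f03a0e83a),
  W (nat_lit 0x3d0f43c),
  W (nat_lit 0xec3d0ec3b)]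
noncomputable def ns : List Net := [a0, a1, a2, a3, a4, a5, a6, a7, a8, a9, a10, a11, a12, a13, a14, a15, a16, a17, a18, a19, a20, a21, a22, a23, a24, a25, a26, a27, a28, a29, a30, a31, a32]
noncomputable def D : List (ℕ × List ℕ) := app [] (mkDefs ws 2)
noncomputable def chk : List (List ℕ × List ℕ) → Bool := P.relsB ns
noncomputable def G_v0 : Lev :=
  ⟨0, 12, sg (W (nat_lit 0xc0100c0100403)), [[4], [6]], 0, 2⟩
noncomputable def G_v1 : Lev :=
  ⟨5, 12, sg (W (nat_lit 0x14050140501c05)), [[8], [10]], 2, 2⟩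
noncomputable def G_v2 : Lev :=
  ⟨1, 11, sg (W (nat_lit 0xb0240902c09)), [[12], [14]], 4, 2⟩
noncomputable def G_v3 : Lev :=
  ⟨2, 10, sg (W (nat_lit 0x3c0d0340f0340d)), [[16], [18]], 6, 2⟩
noncomputable def G_v4 : Lev :=
  ⟨4, 6, sg (W (nat_lit 0x1104c11)), [], 8, 0⟩
noncomputable def G_vs5 : List Lev :=
  []
noncomputable def G_vs4 : List Lev :=
  G_v4 :: G_vs5
noncomputable def G_vs3 : List Lev :=
  G_v3 :: G_vs4
noncomputable def G_vs2 : List Lev :=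
  G_v2 :: G_vs3
noncomputable def G_vs1 : List Lev :=
  G_v1 :: G_vs2
noncomputable def G_vs : List Lev :=
  G_v0 :: G_vs1
noncomputable def T_ps : List PcG :=
  [⟨[24], 2, [], [W (nat_lit 0x7c1c), [30], W (nat_lit 0x8c21), [20], [34]]⟩,
  ⟨[27], 2, [30], [[30], [20], W (nat_lit 0x8c21), [34]]⟩,
  ⟨[30], 2, [], [W (nat_lit 0x8c21), W (nat_lit 0x8c15), [34]]⟩,
  ⟨[32], 2, [], [W (nat_lit 0x8c15), [34]]⟩,
  ⟨[20], 2, [], [[34]]⟩,
  ⟨[34], 2, [], []⟩]
noncomputable def zE1 : List (ℕ × List ℕ) :=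
  [(22, [27])]
noncomputable def T_v0 : Lev :=
  ⟨0, 8, sg (W (nat_lit 0x190541706415)), [[26], [28]], 11, 2⟩
noncomputable def T_v1 : Lev :=
  ⟨1, 4, sg (W (nat_lit 0x1b06c1b)), [[28]], 13, 0⟩
noncomputable def T_v2 : Lev :=
  ⟨2, 2, sg [28], [], 13, 0⟩
noncomputable def T_vs3 : List Lev :=
  []
noncomputable def T_vs2 : List Lev :=
  T_v2 :: T_vs3
noncomputable def T_vs1 : List Lev :=
  T_v1 :: T_vs2
noncomputable def T_vs : List Lev :=
  T_v0 :: T_vs1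
noncomputable def zm7 : ℕ :=
  (nat_lit 0x42005)
noncomputable def sccz_F : List (List ℕ × ℕ × ℕ) :=
  [([2], zm7, zm7)]
noncomputable def scczG_v0 : Lev :=
  ⟨0, 8, sg (W (nat_lit 0x190541706415)), [[26], [28]], 11, 2⟩
noncomputable def scczG_v1 : Lev :=
  ⟨4, 4, sg (W (nat_lit 0x741b)), [[38]], 17, 1⟩
noncomputable def scczG_v2 : Lev :=
  ⟨1, 2, sg [38], [], 18, 0⟩
noncomputable def scczG_vs3 : List Lev :=
  []
noncomputable def scczG_vs2 : List Lev :=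
  scczG_v2 :: scczG_vs3
noncomputable def scczG_vs1 : List Lev :=
  scczG_v1 :: scczG_vs2
noncomputable def scczG_vs : List Lev :=
  scczG_v0 :: scczG_vs1
noncomputable def sccz_x : List (ℕ × List ℕ) :=
  [((nat_lit 0x5000), []),
  ((nat_lit 0), []),
  ((nat_lit 0), [(nat_lit 0x1002)])]
noncomputable def sccz_G : Gl :=
  ⟨P, ns, (app D []), (diag [[20], [22], [24]]), [], [], memM (app D []) [[36]], true⟩
noncomputable def sccz_s : St :=
  ⟨(mkS P.n scczG_vs sccz_x), [[20], [22], [24]], [], mapL Prod.snd sccz_F, memM (app D []) [[36]], []⟩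
noncomputable def zt11 : ST :=
  (.br 0 [[36]] [0] [(2, W (nat_lit 0x641d)), (0, [])] (.cons (.img (W (nat_lit 0xc01)) 0 (.img (W (nat_lit 0x1401)) 1 (.dif 1 0 (.mis 0))))
 (.cons (.img [0] 0 (.br 0 [] [] [(4, [])] (.cons (.orb 0 (.img [2] 0 (.and 1 0 (.br 0 [] [] [(1, [])] (.cons .fnd
 .nil)))))
 .nil)))
 .nil)))
noncomputable def zst15 : List (List ℕ × ℕ × List ℕ) :=
  [(W (nat_lit 0x1104c0e01c0d00c0f), 28, [36]),
  ([20], 40, [28]),
  ([22], 42, [28]),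
  (W (nat_lit 0x130440e02c0502c0300403), 27, W (nat_lit 0xa41d)),
  (W (nat_lit 0x1104c0f02405), 20, W (nat_lit 0x1b0a425)),
  ([], 20, [20]),
  ([], 22, [27]),
  ([], 24, W (nat_lit 0x7029))]
noncomputable def zm19 : ℕ :=
  (nat_lit 0x42005)
noncomputable def k1_F : List (List ℕ × ℕ × ℕ) :=
  [([2], zm19, zm19)]
noncomputable def k1G_v0 : Lev :=
  ⟨0, 8, sg (W (nat_lit 0x190541706415)), [[26], [28]], 11, 2⟩
noncomputable def k1G_v1 : Lev :=
  ⟨4, 4, sg (W (nat_lit 0x741b)), [[38]], 17, 1⟩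
noncomputable def k1G_v2 : Lev :=
  ⟨1, 2, sg [38], [], 18, 0⟩
noncomputable def k1G_vs3 : List Lev :=
  []
noncomputable def k1G_vs2 : List Lev :=
  k1G_v2 :: k1G_vs3
noncomputable def k1G_vs1 : List Lev :=
  k1G_v1 :: k1G_vs2
noncomputable def k1G_vs : List Lev :=
  k1G_v0 :: k1G_vs1
noncomputable def k1_x : List (ℕ × List ℕ) :=
  [((nat_lit 0x5000), []),
  ((nat_lit 0), []),
  ((nat_lit 0), [(nat_lit 0x1002)])]
noncomputable def k1_G : Gl :=
  ⟨P, ns, (app D []), (diag [[20], [22], [24]]), [], [], memM (app D []) [[44]], true⟩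
noncomputable def k1_s : St :=
  ⟨(mkS P.n k1G_vs k1_x), [[20], [22], [24]], [], mapL Prod.snd k1_F, memM (app D []) [[44]], []⟩
noncomputable def zt23 : ST :=
  (.br 0 [[44]] [0] [(2, W (nat_lit 0x641d)), (0, [])] (.cons (.img (W (nat_lit 0xc01)) 0 (.img (W (nat_lit 0x1401)) 1 (.dif 1 0 (.mis 0))))
 (.cons (.img [0] 0 (.br 0 [] [] [(4, [])] (.cons (.orb 0 (.img [2] 0 (.and 1 0 (.br 0 [] [] [(1, [])] (.cons .fnd
 .nil)))))
 .nil)))
 .nil)))
noncomputable def zL27 : List (List ℕ × List ℕ × List ℕ) :=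
  [([46], [20], [22]),
  ([48], [24], [22]),
  ([], [20], [20]),
  ([46], [20], [22]),
  ([], [20], [24]),
  ([47], [22], [20]),
  ([], [22], [22]),
  ([48], [22], [24]),
  ([], [24], [20]),
  ([48], [24], [22]),
  ([], [24], [24])]
noncomputable def zcj30 : List (List (List ℕ)) :=
  [[[47], W (nat_lit 0x310bc2f)],
  [[46], [48]],
  [[47], [48]]]
noncomputable def k2C_ps : List PcG :=
  [⟨[48], 2, [], [[46], [50]]⟩,
  ⟨[46], 2, [50], [[50]]⟩,
  ⟨[50], 2, [], []⟩]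
noncomputable def k2C_v0 : Lev :=
  ⟨0, 4, sg (W (nat_lit 0x2f0bc2f)), [[48]], 23, 0⟩
noncomputable def k2C_v1 : Lev :=
  ⟨1, 2, sg [48], [], 23, 0⟩
noncomputable def k2C_vs2 : List Lev :=
  []
noncomputable def k2C_vs1 : List Lev :=
  k2C_v1 :: k2C_vs2
noncomputable def k2C_vs : List Lev :=
  k2C_v0 :: k2C_vs1
noncomputable def k3_F : List (List ℕ × ℕ × ℕ) :=
  []
noncomputable def k3G_v0 : Lev :=
  ⟨0, 4, sg (W (nat_lit 0x2f0bc2f)), [[48]], 23, 0⟩
noncomputable def k3G_v1 : Lev :=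
  ⟨1, 2, sg [48], [], 23, 0⟩
noncomputable def k3G_vs2 : List Lev :=
  []
noncomputable def k3G_vs1 : List Lev :=
  k3G_v1 :: k3G_vs2
noncomputable def k3G_vs : List Lev :=
  k3G_v0 :: k3G_vs1
noncomputable def k3_x : List (ℕ × List ℕ) :=
  []
noncomputable def zE40 : List (ℕ × List ℕ) :=
  [(46, W (nat_lit 0xc435))]
noncomputable def k3_G : Gl :=
  ⟨P, ns, (app D zE40), (diag [[46], [48]]), [], [], memM (app D zE40) [[48], [52]], true⟩
noncomputable def k3_s : St :=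
  ⟨(mkS P.n k3G_vs k3_x), [[46], [48]], [], mapL Prod.snd k3_F, memM (app D zE40) [[48], [52]], []⟩
noncomputable def zt42 : ST :=
  .fnd
noncomputable def zm46 : ℕ :=
  (nat_lit 0x462825)
noncomputable def k4_F : List (List ℕ × ℕ × ℕ) :=
  [([0], zm46, zm46)]
noncomputable def k4G_v0 : Lev :=
  ⟨0, 8, sg (W (nat_lit 0x190541706415)), [[26], [28]], 11, 2⟩
noncomputable def k4G_v1 : Lev :=
  ⟨1, 4, sg (W (nat_lit 0x1b06c1b)), [[28]], 13, 0⟩
noncomputable def k4G_v2 : Lev :=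
  ⟨2, 2, sg [28], [], 13, 0⟩
noncomputable def k4G_vs3 : List Lev :=
  []
noncomputable def k4G_vs2 : List Lev :=
  k4G_v2 :: k4G_vs3
noncomputable def k4G_vs1 : List Lev :=
  k4G_v1 :: k4G_vs2
noncomputable def k4G_vs : List Lev :=
  k4G_v0 :: k4G_vs1
noncomputable def k4_x : List (ℕ × List ℕ) :=
  [((nat_lit 0), [(nat_lit 0x42355)]),
  ((nat_lit 0), [(nat_lit 0x1100a)]),
  ((nat_lit 0), [])]
noncomputable def k4_G : Gl :=
  ⟨P, ns, (app D []), (diag [[48], [52]]), [], [], memM (app D []) [[27], [54]], true⟩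
noncomputable def k4_s : St :=
  ⟨(mkS P.n k4G_vs k4_x), [[20], [22], [24]], [], mapL Prod.snd k4_F, memM (app D []) [[27], [54]], []⟩
noncomputable def zt50 : ST :=
  (.orb 0 (.and 1 0 (.br 0 [W (nat_lit 0x6c38)] (W (nat_lit 0x100401)) [(0, [])] (.cons (.orb 0 (.br 0 [[27]] (W (nat_lit 0x100401)) [(1, [])] (.cons (.img [3] 2 (.br 0 [] [] [(2, [])] (.cons .fnd
 .nil)))
 .nil)))
 .nil))))
noncomputable def nTG_v0 : Lev :=
  ⟨0, 12, sg (W (nat_lit 0xc0100c0100403)), [[4], [6]], 0, 2⟩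
noncomputable def nTG_v1 : Lev :=
  ⟨1, 11, sg (W (nat_lit 0x701c0501c05)), [[56], [58]], 26, 2⟩
noncomputable def nTG_v2 : Lev :=
  ⟨2, 10, sg (W (nat_lit 0xe43b0ec3b0e439)), [[59], [60]], 28, 1⟩
noncomputable def nTG_v3 : Lev :=
  ⟨3, 9, sg (W (nat_lit 0x3d0f03c0f43c)), [[62], [64]], 29, 2⟩
noncomputable def nTG_v4 : Lev :=
  ⟨13, 8, sg (W (nat_lit 0xfc3f1043f)), [], 31, 0⟩
noncomputable def nTG_vs5 : List Lev :=
  []
noncomputable def nTG_vs4 : List Lev :=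
  nTG_v4 :: nTG_vs5
noncomputable def nTG_vs3 : List Lev :=
  nTG_v3 :: nTG_vs4
noncomputable def nTG_vs2 : List Lev :=
  nTG_v2 :: nTG_vs3
noncomputable def nTG_vs1 : List Lev :=
  nTG_v1 :: nTG_vs2
noncomputable def nTG_vs : List Lev :=
  nTG_v0 :: nTG_vs1
noncomputable def nT_x : List (ℕ × List ℕ) :=
  [((nat_lit 0x3), [(nat_lit 0x5335f)]),
  ((nat_lit 0), [(nat_lit 0x5335e)]),
  ((nat_lit 0), []),
  ((nat_lit 0), []),
  ((nat_lit 0), [])]
noncomputable def nT_G : Gl :=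
  ⟨P, ns, (app D []), [], (diag [[[20], [22], [24]], [[44]], [[46], [48]], [[48], [52]], [[27], [54]]]), [], memM (app D []) [[20], [22], [24]], true⟩
noncomputable def nT_s : St :=
  ⟨(mkS P.n nTG_vs nT_x), [[0], [2]], [], [], memM (app D []) [[20], [22], [24]], []⟩
noncomputable def zt56 : ST :=
  (.orb 0 (.br 0 [W (nat_lit 0x1b06c19), W (nat_lit 0x741b05417), W (nat_lit 0x1b06c15)] (W (nat_lit 0x40500c01)) [(1, W (nat_lit 0x300403)), (0, [])] (.cons (.clo 1 0 [0] [] (.mis 0))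
 (.cons (.orb 0 (.clo 0 1 (W (nat_lit 0x50040301401)) (W (nat_lit 0x50040301401)) (.dif 1 0 (.br 0 [[28], W (nat_lit 0x741b)] (W (nat_lit 0x300403)) [(1, [])] (.cons (.dif 2 4 (.clo 2 5 (W (nat_lit 0x100401)) (W (nat_lit 0x100401)) (.and 1 0 (.clo 1 7 [0] [0] (.dif 1 0 (.br 0 [[28]] [0] [(2, [])] (.cons (.dif 7 6 (.clo 2 7 [2] [2] (.and 1 0 (.br 0 [] [] [(3, [])] (.cons (.dif 6 14 (.br 0 [] [] [(13, [])] (.cons .fnd
 .nil)))
 .nil)))))
 .nil)))))))
 .nil)))))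
 .nil))))

theorem zc0 : P.chainB ns D G_vs [[0], [2]] = true := by decide +kernel
theorem zr2 : chk (pcsR T_ps []) = true := by decide +kernel
theorem zr3 : chk (defRels zE1) = true := by decide +kernel
theorem zb4 : bnd (pcsB D T_ps []) (leB (app D zE1) [[20], [22], [24]] (pcGens T_ps [])) = true := by decide +kernel
theorem zc5 : P.chainB ns D T_vs [[20], [22], [24]] = true := by decide +kernel
theorem zm6 : leB D [[20], [22], [24]] [[0], [2]] = true := by decide +kernel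
theorem zf8 : P.fixXB ns (diag [[20], [22], [24]]) sccz_F = true := by decide +kernel
theorem zc9 : P.chainB ns D scczG_vs [[20], [22], [24]] = true := by decide +kernel
theorem zs10 : ssB P.N ns D (mkS P.n scczG_vs sccz_x) [[20], [22], [24]] = true := by decide +kernel
theorem zs12 : sccz_G.chk zt11 sccz_s none = true := by decide +kernel
theorem zr13 : chk (comR [[36]] (mapL Prod.snd (diag [[20], [22], [24]]))) = true := by decide +kernel
theorem zm14 : leB D [[36]] [[20], [22], [24]] = true := by decide +kernel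
theorem zr16 : chk [([36, 36], [])] = true := by decide +kernel
theorem zf17 : CL.Fus.fusB (memM D [[0], [2]]) (memM D [[20], [22], [24]]) [[20], [22], [24]] zst15 (maskW [[36]]) = true := by decide +kernel
theorem zr18 : chk (CL.Fus.fusR zst15) = true := by decide +kernel
theorem zf20 : P.fixXB ns (diag [[20], [22], [24]]) k1_F = true := by decide +kernel
theorem zc21 : P.chainB ns D k1G_vs [[20], [22], [24]] = true := by decide +kernel
theorem zs22 : ssB P.N ns D (mkS P.n k1G_vs k1_x) [[20], [22], [24]] = true := by decide +kernel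
theorem zs24 : k1_G.chk zt23 k1_s none = true := by decide +kernel
theorem zr25 : chk (comR [[44]] (mapL Prod.snd (diag [[20], [22], [24]]))) = true := by decide +kernel
theorem zm26 : leB D [[44]] [[20], [22], [24]] = true := by decide +kernel
theorem zf28 : CL.Fus.cmB D [[20], [22], [24]] [[46], [48]] zL27 = true := by decide +kernel
theorem zr29 : chk (CL.Fus.cmR zL27) = true := by decide +kernel
theorem zm31 : nrmB D [[20], [22], [24]] [[46], [48]] zcj30 = true := by decide +kernel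
theorem zr32 : chk (nrmR [[20], [22], [24]] [[46], [48]] zcj30) = true := by decide +kernel
theorem zm33 : leB D [[46], [48]] [[20], [22], [24]] = true := by decide +kernel
theorem zr34 : chk (pcsR k2C_ps []) = true := by decide +kernel
theorem zb35 : bnd (pcsB D k2C_ps []) (leB (app D []) [[46], [48]] (pcGens k2C_ps [])) = true := by decide +kernel
theorem zc36 : P.chainB ns D k2C_vs [[46], [48]] = true := by decide +kernel
theorem zf37 : P.fixXB ns (diag [[46], [48]]) k3_F = true := by decide +kernel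
theorem zc38 : P.chainB ns D k3G_vs [[46], [48]] = true := by decide +kernel
theorem zs39 : ssB P.N ns D (mkS P.n k3G_vs k3_x) [[46], [48]] = true := by decide +kernel
theorem zr41 : chk (defRels zE40) = true := by decide +kernel
theorem zs43 : k3_G.chk zt42 k3_s none = true := by decide +kernel
theorem zr44 : chk (comR [[48], [52]] (mapL Prod.snd (diag [[46], [48]]))) = true := by decide +kernel
theorem zm45 : leB D [[48], [52]] [[46], [48]] = true := by decide +kernel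
theorem zf47 : P.fixXB ns (diag [[48], [52]]) k4_F = true := by decide +kernel
theorem zc48 : P.chainB ns D k4G_vs [[20], [22], [24]] = true := by decide +kernel
theorem zs49 : ssB P.N ns D (mkS P.n k4G_vs k4_x) [[20], [22], [24]] = true := by decide +kernel
theorem zs51 : k4_G.chk zt50 k4_s none = true := by decide +kernel
theorem zr52 : chk (comR [[27], [54]] (mapL Prod.snd (diag [[48], [52]]))) = true := by decide +kernel
theorem zm53 : leB D [[27], [54]] [[20], [22], [24]] = true := by decide +kernel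
theorem zc54 : P.chainB ns D nTG_vs [[0], [2]] = true := by decide +kernel
theorem zs55 : ssB P.N ns D (mkS P.n nTG_vs nT_x) [[0], [2]] = true := by decide +kernel
theorem zs57 : nT_G.chk zt56 nT_s none = true := by decide +kernel
theorem zm58 : leB D [[20], [22], [24]] [[0], [2]] = true := by decide +kernel
theorem zk59 : allL (keepB P.n P.N) ns0 = true := by decide +kernel
theorem ze60 : extB ns0 ns 2 ws [] = true := by decide +kernel
theorem zn61 : P.netsB ns (mkDefs ws 2) = true := by decide +kernel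

variable {G X : Type*} [Group G] [MulAction G X] {e : ℕ → X} {gs : List G}

theorem keep0 : allL (keepB P.n P.N) ns0 = true := zk59

theorem len {k} (c : Ctx P e gs ns0 [] k) : gs.length = 2 := c.len ze60

theorem ctx0 {k} (c : Ctx P e gs ns0 [] k) : Ctx P e (ext gs ws) ns D chk0 :=
  c.ext rfl ze60 zn61

theorem ctx {k} (c : Ctx P e gs ns0 [] k) {H : Subgroup G} (hF : Faithful e P.n H) (hH : ∀ g ∈ gs, g ∈ H) :
    Ctx P e (ext gs ws) ns D chk :=
  (ctx0 c).withB hF (mem_of_mem_ext hH _)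

theorem G_c : P.chainB ns D G_vs [[0], [2]] = true :=
  zc0

theorem G_o : prodL G_vs 1 = 95040 := by decide +kernel

theorem G_lb (c : Ctx P e gs ns D chk) :
    LB (subW gs [[0], [2]]) 95040 :=
  c.lb G_c G_o

theorem T_pr (c : Ctx P e gs ns D chk) :
    Rels gs (pcsR T_ps []) :=
  (c.rels _ zr2)

theorem T_pe (c : Ctx P e gs ns D chk) :
    Rels gs (defRels zE1) :=
  (c.rels _ zr3)

theorem T_pb : bnd (pcsB D T_ps []) (leB (app D zE1) [[20], [22], [24]] (pcGens T_ps [])) = true := zb4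

theorem T_ub (c : Ctx P e gs ns D chk) :
    UB (subW gs [[20], [22], [24]]) 64 :=
  c.pcs (UB.nil gs) (T_pe c) (T_pr c) T_pb (by decide +kernel)

theorem T_c : P.chainB ns D T_vs [[20], [22], [24]] = true :=
  zc5

theorem T_o : prodL T_vs 1 = 64 := by decide +kernel

theorem T_lb (c : Ctx P e gs ns D chk) :
    LB (subW gs [[20], [22], [24]]) 64 :=
  c.lb T_c T_o

theorem le (c : Ctx P e gs ns D chk) :
    (subW gs [[20], [22], [24]]) ≤ (subW gs [[0], [2]]) :=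
  (c.le zm6)

theorem scczG_c : P.chainB ns D scczG_vs [[20], [22], [24]] = true :=
  zc9

theorem scczG_o : prodL scczG_vs 1 = 64 := by decide +kernel

theorem sccz (c : Ctx P e gs ns D chk) :
    (subW gs [[20], [22], [24]]) ⊓ Subgroup.centralizer (subW gs [[20], [22], [24]] : Set G) = (subW gs [[36]]) :=
  c.cent (lx := [[20], [22], [24]]) (Rels.nil _) (c.sOk (c.exact scczG_c scczG_o (T_ub c)) zs10) (fun _ h => by cases h)
    (c.fixX zf8) (c.rels _ zr13) zm14 zs12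

theorem scz2 (c : Ctx P e gs ns D chk) :
    wordG gs [36, 36] = wordG gs [] :=
  c.eq zr16

theorem sc (c : Ctx P e gs ns D chk) :
    CL.Fus.SCFull (subW gs [[0], [2]]) (subW gs [[20], [22], [24]]) :=
  CL.Fus.scFull_of_cert (k := 6) (st := zst15) c.defs ((T_ub c).card_eq (T_lb c)) (le c)
    (sccz c) (scz2 c) (c.rels _ zr18) zf17

theorem T_chr (c : Ctx P e gs ns D chk) :
    CL.Fus.Chr (subW gs [[20], [22], [24]]) (subW gs [[20], [22], [24]]) :=
  CL.Fus.Chr.self _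

theorem k1G_c : P.chainB ns D k1G_vs [[20], [22], [24]] = true :=
  zc21

theorem k1G_o : prodL k1G_vs 1 = 64 := by decide +kernel

theorem k1 (c : Ctx P e gs ns D chk) :
    (subW gs [[20], [22], [24]]) ⊓ Subgroup.centralizer (subW gs [[20], [22], [24]] : Set G) = (subW gs [[44]]) :=
  c.cent (lx := [[20], [22], [24]]) (Rels.nil _) (c.sOk (c.exact k1G_c k1G_o (T_ub c)) zs22) (fun _ h => by cases h)
    (c.fixX zf20) (c.rels _ zr25) zm26 zs24

theorem k1C_chr (c : Ctx P e gs ns D chk) :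
    CL.Fus.Chr (subW gs [[20], [22], [24]]) (subW gs [[44]]) :=
  k1 c ▸ (T_chr c).cent (T_chr c)

theorem k2 (c : Ctx P e gs ns D chk) :
    ⁅(subW gs [[20], [22], [24]]), (subW gs [[20], [22], [24]])⁆ = (subW gs [[46], [48]]) :=
  have hfin : Finite (subW gs [[46], [48]]) := (UB.mono (T_ub c) (c.le zm33)).1
  CL.Fus.comm_eq_of_cert (L := zL27) c.defs (c.le_normalizer (cj := zcj30) hfin (c.rels _ zr32) zm31) (c.rels _ zr29) zf28

theorem k2C_chr (c : Ctx P e gs ns D chk) :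
    CL.Fus.Chr (subW gs [[20], [22], [24]]) (subW gs [[46], [48]]) :=
  k2 c ▸ (T_chr c).comm (T_chr c)

theorem k2C_pr (c : Ctx P e gs ns D chk) :
    Rels gs (pcsR k2C_ps []) :=
  (c.rels _ zr34)

theorem k2C_pe (c : Ctx P e gs ns D chk) :
    Rels gs (defRels []) :=
  (Rels.nil _)

theorem k2C_pb : bnd (pcsB D k2C_ps []) (leB (app D []) [[46], [48]] (pcGens k2C_ps [])) = true := zb35

theorem k2C_ub (c : Ctx P e gs ns D chk) :
    UB (subW gs [[46], [48]]) 8 :=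
  c.pcs (UB.nil gs) (k2C_pe c) (k2C_pr c) k2C_pb (by decide +kernel)

theorem k2C_c : P.chainB ns D k2C_vs [[46], [48]] = true :=
  zc36

theorem k2C_o : prodL k2C_vs 1 = 8 := by decide +kernel

theorem k2C_lb (c : Ctx P e gs ns D chk) :
    LB (subW gs [[46], [48]]) 8 :=
  c.lb k2C_c k2C_o

theorem k3G_c : P.chainB ns D k3G_vs [[46], [48]] = true :=
  zc38

theorem k3G_o : prodL k3G_vs 1 = 8 := by decide +kernel

theorem k3 (c : Ctx P e gs ns D chk) :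
    (subW gs [[46], [48]]) ⊓ Subgroup.centralizer (subW gs [[46], [48]] : Set G) = (subW gs [[48], [52]]) :=
  c.cent (lx := [[46], [48]]) (c.rels _ zr41) (c.sOk (c.exact k3G_c k3G_o (k2C_ub c)) zs39) (fun _ h => by cases h)
    (c.fixX zf37) (c.rels _ zr44) zm45 zs43

theorem k3C_chr (c : Ctx P e gs ns D chk) :
    CL.Fus.Chr (subW gs [[20], [22], [24]]) (subW gs [[48], [52]]) :=
  k3 c ▸ (k2C_chr c).cent (k2C_chr c)

theorem k4G_c : P.chainB ns D k4G_vs [[20], [22], [24]] = true :=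
  zc48

theorem k4G_o : prodL k4G_vs 1 = 64 := by decide +kernel

theorem k4 (c : Ctx P e gs ns D chk) :
    (subW gs [[20], [22], [24]]) ⊓ Subgroup.centralizer (subW gs [[48], [52]] : Set G) = (subW gs [[27], [54]]) :=
  c.cent (lx := [[48], [52]]) (Rels.nil _) (c.sOk (c.exact k4G_c k4G_o (T_ub c)) zs49) (fun _ h => by cases h)
    (c.fixX zf47) (c.rels _ zr52) zm53 zs51

theorem k4C_chr (c : Ctx P e gs ns D chk) :
    CL.Fus.Chr (subW gs [[20], [22], [24]]) (subW gs [[27], [54]]) :=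
  k4 c ▸ (T_chr c).cent (k3C_chr c)

theorem nTG_c : P.chainB ns D nTG_vs [[0], [2]] = true :=
  zc54

theorem nTG_o : prodL nTG_vs 1 = 95040 := by decide +kernel

theorem nT (c : Ctx P e gs ns D chk) (hU : UB (subW gs [[0], [2]]) 95040) :
    (subW gs [[0], [2]]) ⊓ Subgroup.normalizer ((subW gs [[20], [22], [24]]) : Set G) = (subW gs [[20], [22], [24]]) :=
  CL.Fus.selfNorm_of_search c (As := [[[20], [22], [24]], [[44]], [[46], [48]], [[48], [52]], [[27], [54]]]) (Rels.nil _) (c.sOk (c.exact nTG_c nTG_o hU) zs55)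
    (List.forall_mem_cons.2 ⟨T_chr c, List.forall_mem_cons.2 ⟨k1C_chr c, List.forall_mem_cons.2 ⟨k2C_chr c, List.forall_mem_cons.2 ⟨k3C_chr c, List.forall_mem_cons.2 ⟨k4C_chr c, fun _ h => by cases h⟩⟩⟩⟩⟩) zm58 zs57

noncomputable def Ps : List ℕ := [859958088260639337318978574685880576, 734317593927276169438670411958589538]
theorem base : CL.Fus.mgsB P CL.Pc.t12 Ps ns0 = true := by decide +kernel
theorem c1 : Ctx P CL.Spor.gPt (ext (CL.Fus.mgs Ps) ws) ns D chk :=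
  ctx (CL.Fus.mgs_ctx hP rfl (CL.Fus.mgs_spec hP rfl CL.Pc.t12_ok base).1) CL.Fus.gPt_faithful fun _ _ => trivial
theorem G_le : subW (ext (CL.Fus.mgs Ps) ws) [[0], [2]] ≤ Cfsg.Spor.M12 :=
  subW_le.2 fun w _ => wordG_mem (mem_of_mem_ext (CL.Fus.mgs_spec hP rfl CL.Pc.t12_ok base).2 _) w
theorem simple (S : Sylow 2 Cfsg.Spor.M12) : (Cfsg.groupFusionSystem (S : Subgroup Cfsg.Spor.M12)).IsSimple 2 := by
  have hU := UB.of_card CL.Spor.card_M12 (by decide)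
  have e := hU.eq_of_lb (G_lb c1) G_le
  have := hU.1
  have hc := (T_ub c1).card_eq (T_lb c1)
  refine CL.Fus.isSimple_of_selfNorm (CL.Fus.sylIn_two_of_card ((le c1).trans G_le) (a := 6) (m := 1485) hc CL.Spor.card_M12 rfl)
    (fun h => by rw [h, Subgroup.card_bot] at hc; cases hc) ((sc c1).mono G_le) ?_ S
  have := nT c1 (hU.mono G_le)
  rwa [e] at this


end CL.FusC.M12
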