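/-
The 2-fusion system of M24 is simple.
Generated by tools/pg.
-/
import Cfsg.Agent.Fus.SimpleM24Base
import Cfsg.Agent.Spor.PGCtx

set_option autoImplicit false
set_option maxRecDepth 200000
set_option Elab.async false
set_option linter.unusedVariables false

namespace CL.FusC.M24
open CL.PG

def P : Par := ⟨24, 24, 5, 3⟩
theorem hP : P.Ok := by decide
noncomputable def a0 : Net := (.cons 12 (nat_lit 0x1)
 (.cons 6 (nat_lit 0x1001)
 (.cons 3 (nat_lit 0x41041)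
 (.cons 1 (nat_lit 0x49249)
 (.cons 1 (nat_lit 0x92492)
 (.cons 1 (nat_lit 0x200000)
 .nil))))))
noncomputable def a1 : Net := (.cons 12 (nat_lit 0xdfb)
 (.cons 6 (nat_lit 0x1e021)
 (.cons 3 (nat_lit 0x81144)
 (.cons 1 (nat_lit 0x8041)
 (.cons 1 (nat_lit 0x90082)
 (.cons 1 (nat_lit 0x48001)
 (.cons 3 (nat_lit 0x100180)
 (.cons 6 (nat_lit 0x2c032)
 (.cons 12 (nat_lit 0x204)
 .nil)))))))))
noncomputable def a2 : Net := (.cons 12 (nat_lit 0xf70)
 (.cons 6 (nat_lit 0x3c01e)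
 (.cons 3 (nat_lit 0x183106)
 (.cons 1 (nat_lit 0x40008)
 (.cons 1 (nat_lit 0x482410)
 (.cons 1 (nat_lit 0x1048)
 (.cons 3 (nat_lit 0x100)
 (.cons 6 (nat_lit 0xc01a)
 (.cons 12 (nat_lit 0xa84)
 .nil)))))))))
noncomputable def a3 : Net := (.cons 12 (nat_lit 0x3b4)
 (.cons 6 (nat_lit 0x1d026)
 (.cons 3 (nat_lit 0x141040)
 (.cons 1 (nat_lit 0x40200)
 (.cons 1 (nat_lit 0x492490)
 (.cons 1 (nat_lit 0x201248)
 (.cons 3 (nat_lit 0x180104)
 (.cons 6 (nat_lit 0x26010)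
 (.cons 12 (nat_lit 0x80a)
 .nil)))))))))
noncomputable def a4 : Net := (.cons 12 (nat_lit 0xa84)
 (.cons 6 (nat_lit 0xc01a)
 (.cons 3 (nat_lit 0x87102)
 (.cons 1 (nat_lit 0x8008)
 (.cons 1 (nat_lit 0x490410)
 (.cons 1 (nat_lit 0x40048)
 (.cons 3 (nat_lit 0x84104)
 (.cons 6 (nat_lit 0x3c01e)
 (.cons 12 (nat_lit 0xf70)
 .nil)))))))))
noncomputable def a5 : Net := (.cons 12 (nat_lit 0x206)
 (.cons 6 (nat_lit 0x3e01e)
 (.cons 3 (nat_lit 0x103100)
 (.cons 1 (nat_lit 0x208200)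
 (.cons 1 (nat_lit 0x412490)
 (.cons 1 (nat_lit 0x1240)
 (.cons 3 (nat_lit 0x100)
 (.cons 6 (nat_lit 0x6018)
 (.cons 12 (nat_lit 0x742)
 .nil)))))))))
noncomputable def a6 : Net := (.cons 12 (nat_lit 0x256)
 (.cons 6 (nat_lit 0x2103a)
 (.cons 3 (nat_lit 0x1c50c6)
 (.cons 1 (nat_lit 0x40008)
 (.cons 1 (nat_lit 0x90410)
 (.cons 1 (nat_lit 0x240)
 (.cons 3 (nat_lit 0x4002)
 (.cons 6 (nat_lit 0x14008)
 (.cons 12 (nat_lit 0x822)
 .nil)))))))))
noncomputable def a7 : Net := (.cons 12 (nat_lit 0x908)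
 (.cons 6 (nat_lit 0x37010)
 (.cons 3 (nat_lit 0x106040)
 (.cons 1 (nat_lit 0x8008)
 (.cons 1 (nat_lit 0x12010)
 (.cons 1 (nat_lit 0x208048)
 (.cons 3 (nat_lit 0x80000)
 (.cons 6 (nat_lit 0x4020)
 (.cons 12 (nat_lit 0x150)
 .nil)))))))))
noncomputable def a8 : Net := (.cons 12 (nat_lit 0x62c)
 (.cons 6 (nat_lit 0x2e022)
 (.cons 3 (nat_lit 0x106004)
 (.cons 1 (nat_lit 0x49048)
 (.cons 1 (nat_lit 0x92490)
 (.cons 1 (nat_lit 0x1040)
 (.cons 3 (nat_lit 0x180006)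
 (.cons 6 (nat_lit 0x1c026)
 (.cons 12 (nat_lit 0x95c)
 .nil)))))))))
noncomputable def a9 : Net := (.cons 12 (nat_lit 0x880)
 (.cons 6 (nat_lit 0x5004)
 (.cons 3 (nat_lit 0x2144)
 (.cons 1 (nat_lit 0x48000)
 (.cons 1 (nat_lit 0x92080)
 (.cons 1 (nat_lit 0x208240)
 (.cons 3 (nat_lit 0x102100)
 (.cons 6 (nat_lit 0xa034)
 (.cons 12 (nat_lit 0xdf0)
 .nil)))))))))
noncomputable def a10 : Net := (.cons 12 (nat_lit 0xbc0)
 (.cons 6 (nat_lit 0x3f000)
 (.cons 3 (nat_lit 0x1440c0)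
 (.cons 1 (nat_lit 0x40040)
 (.cons 1 (nat_lit 0x480480)
 (.cons 1 (nat_lit 0x241040)
 (.cons 6 (nat_lit 0x6020)
 (.cons 12 (nat_lit 0x760)
 .nil))))))))
noncomputable def a11 : Net := (.cons 12 (nat_lit 0x380)
 (.cons 6 (nat_lit 0x14028)
 (.cons 3 (nat_lit 0x42080)
 (.cons 1 (nat_lit 0x8048)
 (.cons 1 (nat_lit 0x410490)
 (.cons 1 (nat_lit 0x8048)
 (.cons 3 (nat_lit 0x80)
 (.cons 6 (nat_lit 0x10028)
 (.cons 12 (nat_lit 0x380)
 .nil)))))))))
noncomputable def a12 : Net := (.cons 12 (nat_lit 0x8a0)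
 (.cons 6 (nat_lit 0x2020)
 (.cons 3 (nat_lit 0xc4040)
 (.cons 1 (nat_lit 0x200000)
 (.cons 1 (nat_lit 0x480080)
 (.cons 1 (nat_lit 0x48000)
 (.cons 3 (nat_lit 0x100000)
 (.cons 6 (nat_lit 0x2000)
 (.cons 12 (nat_lit 0x8a0)
 .nil)))))))))
noncomputable def a13 : Net := (.cons 12 (nat_lit 0x760)
 (.cons 6 (nat_lit 0x39020)
 (.cons 3 (nat_lit 0x1071c0)
 (.cons 1 (nat_lit 0x9200)
 (.cons 1 (nat_lit 0x12480)
 (.cons 1 (nat_lit 0x48200)
 (.cons 3 (nat_lit 0x2100)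
 (.cons 12 (nat_lit 0xbc0)
 .nil))))))))
noncomputable def a14 : Net := (.cons 12 (nat_lit 0xdec)
 (.cons 6 (nat_lit 0x35034)
 (.cons 3 (nat_lit 0x46144)
 (.cons 1 (nat_lit 0x8)
 (.cons 1 (nat_lit 0x10010)
 (.cons 1 (nat_lit 0x201040)
 (.cons 3 (nat_lit 0x82004)
 (.cons 6 (nat_lit 0x24014)
 (.cons 12 (nat_lit 0xdec)
 .nil)))))))))
noncomputable def a15 : Net := (.cons 12 (nat_lit 0x88d)
 (.cons 6 (nat_lit 0x1c031)
 (.cons 3 (nat_lit 0x1c51c2)
 (.cons 1 (nat_lit 0x1208)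
 (.cons 1 (nat_lit 0x82410)
 (.cons 1 (nat_lit 0x249240)
 (.cons 3 (nat_lit 0x100186)
 (.cons 6 (nat_lit 0xc030)
 (.cons 12 (nat_lit 0xbec)
 .nil)))))))))
noncomputable def a16 : Net := (.cons 12 (nat_lit 0xe7a)
 (.cons 6 (nat_lit 0x1003e)
 (.cons 3 (nat_lit 0x145140)
 (.cons 1 (nat_lit 0x9009)
 (.cons 1 (nat_lit 0x92412)
 (.cons 1 (nat_lit 0x1049)
 (.cons 3 (nat_lit 0x102100)
 (.cons 6 (nat_lit 0x12030)
 (.cons 12 (nat_lit 0x430)
 .nil)))))))))
noncomputable def a17 : Net := (.cons 12 (nat_lit 0x570)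
 (.cons 6 (nat_lit 0x5018)
 (.cons 3 (nat_lit 0x1c1007)
 (.cons 1 (nat_lit 0x208000)
 (.cons 1 (nat_lit 0x410010)
 (.cons 1 (nat_lit 0x201008)
 (.cons 3 (nat_lit 0x4000)
 (.cons 6 (nat_lit 0xc038)
 (.cons 12 (nat_lit 0xc22)
 .nil)))))))))
noncomputable def a18 : Net := (.cons 12 (nat_lit 0x14d)
 (.cons 6 (nat_lit 0x1f00c)
 (.cons 3 (nat_lit 0x6086)
 (.cons 1 (nat_lit 0x8008)
 (.cons 1 (nat_lit 0x10012)
 (.cons 1 (nat_lit 0x200008)
 (.cons 3 (nat_lit 0x80002)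
 (.cons 6 (nat_lit 0x1002c)
 (.cons 12 (nat_lit 0x21c)
 .nil)))))))))
noncomputable def a19 : Net := (.cons 12 (nat_lit 0x754)
 (.cons 6 (nat_lit 0xa022)
 (.cons 3 (nat_lit 0x1021c6)
 (.cons 1 (nat_lit 0x1240)
 (.cons 1 (nat_lit 0x482490)
 (.cons 1 (nat_lit 0x208208)
 (.cons 3 (nat_lit 0x86)
 (.cons 6 (nat_lit 0x4020)
 (.cons 12 (nat_lit 0x474)
 .nil)))))))))
noncomputable def a20 : Net := (.cons 12 (nat_lit 0x52)
 (.cons 6 (nat_lit 0x1f018)
 (.cons 3 (nat_lit 0x1c51c0)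
 (.cons 1 (nat_lit 0x1208)
 (.cons 1 (nat_lit 0x402410)
 (.cons 1 (nat_lit 0x249240)
 (.cons 3 (nat_lit 0x100)
 (.cons 6 (nat_lit 0xe000)
 (.cons 12 (nat_lit 0x3a2)
 .nil)))))))))
noncomputable def a21 : Net := (.cons 12 (nat_lit 0xff0)
 (.cons 6 (nat_lit 0x1f030)
 (.cons 3 (nat_lit 0x860c2)
 (.cons 1 (nat_lit 0x8048)
 (.cons 1 (nat_lit 0x92090)
 (.cons 1 (nat_lit 0x201000)
 (.cons 3 (nat_lit 0x2082)
 (.cons 6 (nat_lit 0x36)
 (.cons 12 (nat_lit 0xca0)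
 .nil)))))))))
noncomputable def a22 : Net := (.cons 12 (nat_lit 0x292)
 (.cons 6 (nat_lit 0x11012)
 (.cons 3 (nat_lit 0xc50c2)
 (.cons 1 (nat_lit 0x201040)
 (.cons 1 (nat_lit 0x402080)
 (.cons 1 (nat_lit 0x249208)
 (.cons 3 (nat_lit 0x184000)
 (.cons 6 (nat_lit 0x38016)
 (.cons 12 (nat_lit 0x232)
 .nil)))))))))
noncomputable def a23 : Net := (.cons 12 (nat_lit 0x7a8)
 (.cons 6 (nat_lit 0x2c008)
 (.cons 3 (nat_lit 0x101106)
 (.cons 1 (nat_lit 0x40008)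
 (.cons 1 (nat_lit 0x82412)
 (.cons 1 (nat_lit 0x240008)
 (.cons 3 (nat_lit 0x100106)
 (.cons 6 (nat_lit 0x2c008)
 (.cons 12 (nat_lit 0x728)
 .nil)))))))))
noncomputable def a24 : Net := (.cons 12 (nat_lit 0xb36)
 (.cons 6 (nat_lit 0x1703a)
 (.cons 3 (nat_lit 0x185143)
 (.cons 1 (nat_lit 0x201208)
 (.cons 1 (nat_lit 0x482410)
 (.cons 1 (nat_lit 0x1040)
 (.cons 3 (nat_lit 0x106)
 (.cons 6 (nat_lit 0x3a030)
 (.cons 12 (nat_lit 0xa20)
 .nil)))))))))
noncomputable def a25 : Net := (.cons 12 (nat_lit 0x564)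
 (.cons 6 (nat_lit 0x18030)
 (.cons 3 (nat_lit 0x84146)
 (.cons 1 (nat_lit 0x201001)
 (.cons 1 (nat_lit 0x402012)
 (.cons 1 (nat_lit 0x241001)
 (.cons 3 (nat_lit 0x84006)
 (.cons 6 (nat_lit 0x18020)
 (.cons 12 (nat_lit 0x564)
 .nil)))))))))
noncomputable def a26 : Net := (.cons 12 (nat_lit 0xf20)
 (.cons 6 (nat_lit 0x25039)
 (.cons 3 (nat_lit 0x104)
 (.cons 1 (nat_lit 0x200008)
 (.cons 1 (nat_lit 0x412010)
 (.cons 1 (nat_lit 0x200008)
 (.cons 3 (nat_lit 0x4)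
 (.cons 6 (nat_lit 0x24028)
 (.cons 12 (nat_lit 0xf20)
 .nil)))))))))
noncomputable def a27 : Net := (.cons 12 (nat_lit 0x724)
 (.cons 6 (nat_lit 0x29018)
 (.cons 3 (nat_lit 0x1c1080)
 (.cons 1 (nat_lit 0x48000)
 (.cons 1 (nat_lit 0x90092)
 (.cons 1 (nat_lit 0x48200)
 (.cons 3 (nat_lit 0x100080)
 (.cons 6 (nat_lit 0x18)
 (.cons 12 (nat_lit 0x724)
 .nil)))))))))
noncomputable def a28 : Net := (.cons 12 (nat_lit 0x646)
 (.cons 6 (nat_lit 0x3602a)
 (.cons 3 (nat_lit 0x182187)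
 (.cons 1 (nat_lit 0x8009)
 (.cons 1 (nat_lit 0x410412)
 (.cons 1 (nat_lit 0x48201)
 (.cons 3 (nat_lit 0x180182)
 (.cons 6 (nat_lit 0x36024)
 (.cons 12 (nat_lit 0x640)
 .nil)))))))))
noncomputable def a29 : Net := (.cons 12 (nat_lit 0x634)
 (.cons 6 (nat_lit 0x38031)
 (.cons 3 (nat_lit 0x1011c6)
 (.cons 1 (nat_lit 0x40240)
 (.cons 1 (nat_lit 0x482482)
 (.cons 1 (nat_lit 0x40201)
 (.cons 3 (nat_lit 0x100086)
 (.cons 6 (nat_lit 0x38000)
 (.cons 12 (nat_lit 0x634)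
 .nil)))))))))
noncomputable def a30 : Net := (.cons 12 (nat_lit 0x3a8)
 (.cons 6 (nat_lit 0x2f004)
 (.cons 3 (nat_lit 0x86182)
 (.cons 1 (nat_lit 0x8200)
 (.cons 1 (nat_lit 0x410400)
 (.cons 1 (nat_lit 0x200208)
 (.cons 3 (nat_lit 0x182102)
 (.cons 6 (nat_lit 0x4)
 (.cons 12 (nat_lit 0x3a8)
 .nil)))))))))
noncomputable def a31 : Net := (.cons 12 (nat_lit 0x664)
 (.cons 6 (nat_lit 0x19024)
 (.cons 3 (nat_lit 0xc1002)
 (.cons 1 (nat_lit 0x402480)
 (.cons 1 (nat_lit 0x48008)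
 (.cons 3 (nat_lit 0x80002)
 (.cons 6 (nat_lit 0x24)
 (.cons 12 (nat_lit 0x664)
 .nil))))))))
noncomputable def a32 : Net := (.cons 12 (nat_lit 0xeb0)
 (.cons 6 (nat_lit 0x3801e)
 (.cons 3 (nat_lit 0x184086)
 (.cons 1 (nat_lit 0x40208)
 (.cons 1 (nat_lit 0x90412)
 (.cons 1 (nat_lit 0x240248)
 (.cons 3 (nat_lit 0x184086)
 (.cons 6 (nat_lit 0x3801c)
 (.cons 12 (nat_lit 0xeb0)
 .nil)))))))))
noncomputable def a33 : Net := (.cons 12 (nat_lit 0x710)
 (.cons 6 (nat_lit 0x2001c)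
 (.cons 3 (nat_lit 0x1420c6)
 (.cons 1 (nat_lit 0x248008)
 (.cons 1 (nat_lit 0x490012)
 (.cons 1 (nat_lit 0x249248)
 (.cons 3 (nat_lit 0x2006)
 (.cons 6 (nat_lit 0x2001c)
 (.cons 12 (nat_lit 0x410)
 .nil)))))))))
noncomputable def a34 : Net := (.cons 12 (nat_lit 0x204)
 (.cons 6 (nat_lit 0x3003a)
 (.cons 3 (nat_lit 0x2107)
 (.cons 1 (nat_lit 0x240009)
 (.cons 1 (nat_lit 0x480492)
 (.cons 1 (nat_lit 0x241201)
 (.cons 3 (nat_lit 0x2082)
 (.cons 6 (nat_lit 0x30034)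
 (.cons 12 (nat_lit 0x204)
 .nil)))))))))
noncomputable def a35 : Net := (.cons 12 (nat_lit 0x832)
 (.cons 6 (nat_lit 0x3800d)
 (.cons 3 (nat_lit 0x100082)
 (.cons 1 (nat_lit 0x48041)
 (.cons 1 (nat_lit 0x492082)
 (.cons 1 (nat_lit 0x48241)
 (.cons 3 (nat_lit 0x100080)
 (.cons 6 (nat_lit 0x38008)
 (.cons 12 (nat_lit 0x832)
 .nil)))))))))
noncomputable def a36 : Net := (.cons 12 (nat_lit 0x280)
 (.cons 6 (nat_lit 0x1a005)
 (.cons 3 (nat_lit 0x81080)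
 (.cons 1 (nat_lit 0x200241)
 (.cons 1 (nat_lit 0x410482)
 (.cons 1 (nat_lit 0x200241)
 (.cons 6 (nat_lit 0x1a000)
 (.cons 12 (nat_lit 0x280)
 .nil))))))))
noncomputable def a37 : Net := (.cons 12 (nat_lit 0x9c8)
 (.cons 6 (nat_lit 0x3a020)
 (.cons 3 (nat_lit 0x46100)
 (.cons 1 (nat_lit 0x200049)
 (.cons 1 (nat_lit 0x482092)
 (.cons 1 (nat_lit 0x48049)
 (.cons 3 (nat_lit 0x104100)
 (.cons 6 (nat_lit 0x20)
 (.cons 12 (nat_lit 0x9c8)
 .nil)))))))))
noncomputable def a38 : Net := (.cons 12 (nat_lit 0x18)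
 (.cons 6 (nat_lit 0x1b024)
 (.cons 3 (nat_lit 0x86080)
 (.cons 1 (nat_lit 0x200)
 (.cons 1 (nat_lit 0x82400)
 (.cons 1 (nat_lit 0x208200)
 (.cons 3 (nat_lit 0x86000)
 (.cons 6 (nat_lit 0x10020)
 (.cons 12 (nat_lit 0x18)
 .nil)))))))))
noncomputable def a39 : Net := (.cons 12 (nat_lit 0x18)
 (.cons 6 (nat_lit 0x3500a)
 (.cons 3 (nat_lit 0x4182)
 (.cons 1 (nat_lit 0x48)
 (.cons 1 (nat_lit 0x410090)
 (.cons 1 (nat_lit 0x249)
 (.cons 3 (nat_lit 0x100182)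
 (.cons 6 (nat_lit 0xa)
 (.cons 12 (nat_lit 0x18)
 .nil)))))))))
noncomputable def a40 : Net := (.cons 12 (nat_lit 0x2e)
 (.cons 6 (nat_lit 0x2601e)
 (.cons 3 (nat_lit 0x1c71c7)
 (.cons 1 (nat_lit 0x48008)
 (.cons 1 (nat_lit 0x90090)
 (.cons 1 (nat_lit 0x249040)
 (.cons 3 (nat_lit 0x100000)
 (.cons 6 (nat_lit 0x3a012)
 (.cons 12 (nat_lit 0xcc0)
 .nil)))))))))
noncomputable def a41 : Net := (.cons 12 (nat_lit 0x634)
 (.cons 6 (nat_lit 0x38031)
 (.cons 3 (nat_lit 0x1011c6)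
 (.cons 1 (nat_lit 0x40240)
 (.cons 1 (nat_lit 0x482482)
 (.cons 1 (nat_lit 0x40201)
 (.cons 3 (nat_lit 0x100086)
 (.cons 6 (nat_lit 0x38000)
 (.cons 12 (nat_lit 0x634)
 .nil)))))))))
noncomputable def a42 : Net := (.cons 12 (nat_lit 0x6f5)
 (.cons 6 (nat_lit 0x14004)
 (.cons 3 (nat_lit 0x145142)
 (.cons 1 (nat_lit 0x200041)
 (.cons 1 (nat_lit 0x402082)
 (.cons 1 (nat_lit 0x209048)
 (.cons 3 (nat_lit 0x4)
 (.cons 6 (nat_lit 0x4014)
 (.cons 12 (nat_lit 0x90a)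
 .nil)))))))))
noncomputable def a43 : Net := (.cons 12 (nat_lit 0xc37)
 (.cons 6 (nat_lit 0x9003)
 (.cons 3 (nat_lit 0x850c4)
 (.cons 1 (nat_lit 0x200200)
 (.cons 1 (nat_lit 0x402410)
 (.cons 1 (nat_lit 0x1008)
 (.cons 3 (nat_lit 0x104082)
 (.cons 6 (nat_lit 0x3c036)
 (.cons 12 (nat_lit 0x3c8)
 .nil)))))))))
noncomputable def a44 : Net := (.cons 12 (nat_lit 0x8cb)
 (.cons 6 (nat_lit 0x3c030)
 (.cons 3 (nat_lit 0x1c3045)
 (.cons 1 (nat_lit 0x8040)
 (.cons 1 (nat_lit 0x92080)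
 (.cons 1 (nat_lit 0x41249)
 (.cons 3 (nat_lit 0x86000)
 (.cons 6 (nat_lit 0x20)
 (.cons 12 (nat_lit 0x524)
 .nil)))))))))
noncomputable def a45 : Net := (.cons 12 (nat_lit 0xa30)
 (.cons 6 (nat_lit 0x20010)
 (.cons 3 (nat_lit 0x182140)
 (.cons 1 (nat_lit 0x200001)
 (.cons 1 (nat_lit 0x410402)
 (.cons 1 (nat_lit 0x241001)
 (.cons 3 (nat_lit 0x182100)
 (.cons 6 (nat_lit 0x20010)
 (.cons 12 (nat_lit 0xa10)
 .nil)))))))))
noncomputable def a46 : Net := (.cons 12 (nat_lit 0xff)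
 (.cons 6 (nat_lit 0x29006)
 (.cons 3 (nat_lit 0x1c6003)
 (.cons 1 (nat_lit 0x208200)
 (.cons 1 (nat_lit 0x410402)
 (.cons 1 (nat_lit 0x241249)
 (.cons 3 (nat_lit 0x100180)
 (.cons 6 (nat_lit 0x20000)
 (.cons 12 (nat_lit 0xf00)
 .nil)))))))))
noncomputable def a47 : Net := (.cons 12 (nat_lit 0x890)
 (.cons 6 (nat_lit 0x31030)
 (.cons 3 (nat_lit 0x104004)
 (.cons 1 (nat_lit 0x8200)
 (.cons 1 (nat_lit 0x10402)
 (.cons 1 (nat_lit 0x8208)
 (.cons 3 (nat_lit 0x4004)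
 (.cons 6 (nat_lit 0x20030)
 (.cons 12 (nat_lit 0x810)
 .nil)))))))))
noncomputable def a48 : Net := (.cons 12 (nat_lit 0xdac)
 (.cons 6 (nat_lit 0x10034)
 (.cons 3 (nat_lit 0x100002)
 (.cons 1 (nat_lit 0x200000)
 (.cons 1 (nat_lit 0x402402)
 (.cons 1 (nat_lit 0x208008)
 (.cons 3 (nat_lit 0x100106)
 (.cons 6 (nat_lit 0x10000)
 (.cons 12 (nat_lit 0xd2c)
 .nil)))))))))
noncomputable def a49 : Net := (.cons 12 (nat_lit 0x228)
 (.cons 6 (nat_lit 0x16000)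
 (.cons 3 (nat_lit 0x147086)
 (.cons 1 (nat_lit 0x8000)
 (.cons 1 (nat_lit 0x12002)
 (.cons 1 (nat_lit 0x1008)
 (.cons 3 (nat_lit 0x6)
 (.cons 6 (nat_lit 0x16000)
 (.cons 12 (nat_lit 0x228)
 .nil)))))))))
noncomputable def a50 : Net := (.cons 12 (nat_lit 0x564)
 (.cons 6 (nat_lit 0x32)
 (.cons 3 (nat_lit 0x186142)
 (.cons 1 (nat_lit 0x201000)
 (.cons 1 (nat_lit 0x412000)
 (.cons 1 (nat_lit 0x201008)
 (.cons 3 (nat_lit 0x106002)
 (.cons 6 (nat_lit 0x22)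
 (.cons 12 (nat_lit 0x564)
 .nil)))))))))
noncomputable def a51 : Net := (.cons 12 (nat_lit 0xa30)
 (.cons 6 (nat_lit 0x20010)
 (.cons 3 (nat_lit 0x182140)
 (.cons 1 (nat_lit 0x200001)
 (.cons 1 (nat_lit 0x410402)
 (.cons 1 (nat_lit 0x241001)
 (.cons 3 (nat_lit 0x182100)
 (.cons 6 (nat_lit 0x20010)
 (.cons 12 (nat_lit 0xa10)
 .nil)))))))))
noncomputable def a52 : Net := (.cons 12 (nat_lit 0x9ba)
 (.cons 6 (nat_lit 0x2d025)
 (.cons 3 (nat_lit 0x6002)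
 (.cons 1 (nat_lit 0x200)
 (.cons 1 (nat_lit 0x402402)
 (.cons 1 (nat_lit 0x208008)
 (.cons 3 (nat_lit 0x106006)
 (.cons 6 (nat_lit 0x38)
 (.cons 12 (nat_lit 0x604)
 .nil)))))))))
noncomputable def a53 : Net := (.cons 12 (nat_lit 0x646)
 (.cons 6 (nat_lit 0x3602a)
 (.cons 3 (nat_lit 0x182187)
 (.cons 1 (nat_lit 0x8009)
 (.cons 1 (nat_lit 0x410412)
 (.cons 1 (nat_lit 0x48201)
 (.cons 3 (nat_lit 0x180182)
 (.cons 6 (nat_lit 0x36024)
 (.cons 12 (nat_lit 0x640)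
 .nil)))))))))
noncomputable def a54 : Net := (.cons 12 (nat_lit 0xcb7)
 (.cons 6 (nat_lit 0xd027)
 (.cons 3 (nat_lit 0x1c2183)
 (.cons 1 (nat_lit 0x40208)
 (.cons 1 (nat_lit 0x90410)
 (.cons 1 (nat_lit 0x248009)
 (.cons 3 (nat_lit 0x106080)
 (.cons 6 (nat_lit 0x18032)
 (.cons 12 (nat_lit 0x348)
 .nil)))))))))
noncomputable def a55 : Net := (.cons 12 (nat_lit 0xaaa)
 (.cons 6 (nat_lit 0x502f)
 (.cons 3 (nat_lit 0xc5102)
 (.cons 1 (nat_lit 0x200208)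
 (.cons 1 (nat_lit 0x492492)
 (.cons 1 (nat_lit 0x1208)
 (.cons 3 (nat_lit 0x84)
 (.cons 6 (nat_lit 0x3a010)
 (.cons 12 (nat_lit 0xaaa)
 .nil)))))))))
noncomputable def a56 : Net := (.cons 12 (nat_lit 0x890)
 (.cons 6 (nat_lit 0x31030)
 (.cons 3 (nat_lit 0x104004)
 (.cons 1 (nat_lit 0x8200)
 (.cons 1 (nat_lit 0x10402)
 (.cons 1 (nat_lit 0x8208)
 (.cons 3 (nat_lit 0x4004)
 (.cons 6 (nat_lit 0x20030)
 (.cons 12 (nat_lit 0x810)
 .nil)))))))))
noncomputable def a57 : Net := (.cons 12 (nat_lit 0x228)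
 (.cons 6 (nat_lit 0x16000)
 (.cons 3 (nat_lit 0x147086)
 (.cons 1 (nat_lit 0x8000)
 (.cons 1 (nat_lit 0x12002)
 (.cons 1 (nat_lit 0x1008)
 (.cons 3 (nat_lit 0x6)
 (.cons 6 (nat_lit 0x16000)
 (.cons 12 (nat_lit 0x228)
 .nil)))))))))
noncomputable def a58 : Net := (.cons 12 (nat_lit 0x29a)
 (.cons 6 (nat_lit 0x2c02d)
 (.cons 3 (nat_lit 0x1c1081)
 (.cons 1 (nat_lit 0x1040)
 (.cons 1 (nat_lit 0x82090)
 (.cons 1 (nat_lit 0x249048)
 (.cons 3 (nat_lit 0x100006)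
 (.cons 6 (nat_lit 0x2c028)
 (.cons 12 (nat_lit 0x2ba)
 .nil)))))))))
noncomputable def a59 : Net := (.cons 12 (nat_lit 0x3ea)
 (.cons 6 (nat_lit 0x3901c)
 (.cons 3 (nat_lit 0xc3181)
 (.cons 1 (nat_lit 0x200048)
 (.cons 1 (nat_lit 0x480090)
 (.cons 1 (nat_lit 0x41009)
 (.cons 3 (nat_lit 0x2006)
 (.cons 6 (nat_lit 0x3800a)
 (.cons 12 (nat_lit 0x1da)
 .nil)))))))))
noncomputable def a60 : Net := (.cons 12 (nat_lit 0x632)
 (.cons 6 (nat_lit 0x400f)
 (.cons 3 (nat_lit 0x84143)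
 (.cons 1 (nat_lit 0x9)
 (.cons 1 (nat_lit 0x10492)
 (.cons 1 (nat_lit 0x240)
 (.cons 3 (nat_lit 0x4000)
 (.cons 6 (nat_lit 0x4030)
 (.cons 12 (nat_lit 0x632)
 .nil)))))))))
noncomputable def a61 : Net := (.cons 12 (nat_lit 0x564)
 (.cons 6 (nat_lit 0x32)
 (.cons 3 (nat_lit 0x186142)
 (.cons 1 (nat_lit 0x201000)
 (.cons 1 (nat_lit 0x412000)
 (.cons 1 (nat_lit 0x201008)
 (.cons 3 (nat_lit 0x106002)
 (.cons 6 (nat_lit 0x22)
 (.cons 12 (nat_lit 0x564)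
 .nil)))))))))
noncomputable def a62 : Net := (.cons 12 (nat_lit 0xb38)
 (.cons 6 (nat_lit 0x1703c)
 (.cons 3 (nat_lit 0x86086)
 (.cons 1 (nat_lit 0x41000)
 (.cons 1 (nat_lit 0x82402)
 (.cons 1 (nat_lit 0x200208)
 (.cons 3 (nat_lit 0x6082)
 (.cons 6 (nat_lit 0x10010)
 (.cons 12 (nat_lit 0x896)
 .nil)))))))))
noncomputable def a63 : Net := (.cons 12 (nat_lit 0xe37)
 (.cons 6 (nat_lit 0x3700f)
 (.cons 3 (nat_lit 0x80081)
 (.cons 1 (nat_lit 0x200208)
 (.cons 1 (nat_lit 0x482490)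
 (.cons 1 (nat_lit 0x248200)
 (.cons 3 (nat_lit 0x6104)
 (.cons 6 (nat_lit 0x2203c)
 (.cons 12 (nat_lit 0x6f4)
 .nil)))))))))
noncomputable def a64 : Net := (.cons 12 (nat_lit 0x2f)
 (.cons 6 (nat_lit 0x1b023)
 (.cons 3 (nat_lit 0x1c70c7)
 (.cons 1 (nat_lit 0x200200)
 (.cons 1 (nat_lit 0x402402)
 (.cons 1 (nat_lit 0x41009)
 (.cons 3 (nat_lit 0x4000)
 (.cons 6 (nat_lit 0x1c024)
 (.cons 12 (nat_lit 0xfd0)
 .nil)))))))))
noncomputable def a65 : Net := (.cons 12 (nat_lit 0x768)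
 (.cons 6 (nat_lit 0x14034)
 (.cons 3 (nat_lit 0x180187)
 (.cons 1 (nat_lit 0x208)
 (.cons 1 (nat_lit 0x2492)
 (.cons 1 (nat_lit 0x40201)
 (.cons 3 (nat_lit 0x80180)
 (.cons 6 (nat_lit 0x14034)
 (.cons 12 (nat_lit 0x768)
 .nil)))))))))
noncomputable def a66 : Net := (.cons 12 (nat_lit 0x896)
 (.cons 6 (nat_lit 0x2f012)
 (.cons 3 (nat_lit 0x181082)
 (.cons 1 (nat_lit 0x200)
 (.cons 1 (nat_lit 0x82402)
 (.cons 1 (nat_lit 0x49008)
 (.cons 3 (nat_lit 0x180086)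
 (.cons 6 (nat_lit 0x28034)
 (.cons 12 (nat_lit 0xb38)
 .nil)))))))))
noncomputable def a67 : Net := (.cons 12 (nat_lit 0x5a4)
 (.cons 6 (nat_lit 0x24038)
 (.cons 3 (nat_lit 0x180180)
 (.cons 1 (nat_lit 0x208000)
 (.cons 1 (nat_lit 0x412002)
 (.cons 1 (nat_lit 0x208200)
 (.cons 3 (nat_lit 0x100080)
 (.cons 6 (nat_lit 0x24028)
 (.cons 12 (nat_lit 0x5a4)
 .nil)))))))))
noncomputable def a68 : Net := (.cons 12 (nat_lit 0xca4)
 (.cons 6 (nat_lit 0xa02e)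
 (.cons 3 (nat_lit 0x182186)
 (.cons 1 (nat_lit 0x200000)
 (.cons 1 (nat_lit 0x400482)
 (.cons 1 (nat_lit 0x8200)
 (.cons 3 (nat_lit 0x102084)
 (.cons 6 (nat_lit 0x4018)
 (.cons 12 (nat_lit 0x928)
 .nil)))))))))
noncomputable def a69 : Net := (.cons 12 (nat_lit 0x564)
 (.cons 6 (nat_lit 0x32)
 (.cons 3 (nat_lit 0x186142)
 (.cons 1 (nat_lit 0x201000)
 (.cons 1 (nat_lit 0x412000)
 (.cons 1 (nat_lit 0x201008)
 (.cons 3 (nat_lit 0x106002)
 (.cons 6 (nat_lit 0x22)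
 (.cons 12 (nat_lit 0x564)
 .nil)))))))))
noncomputable def a70 : Net := (.cons 12 (nat_lit 0x7a8)
 (.cons 6 (nat_lit 0x2c008)
 (.cons 3 (nat_lit 0x101106)
 (.cons 1 (nat_lit 0x40008)
 (.cons 1 (nat_lit 0x82412)
 (.cons 1 (nat_lit 0x240008)
 (.cons 3 (nat_lit 0x100106)
 (.cons 6 (nat_lit 0x2c008)
 (.cons 12 (nat_lit 0x728)
 .nil)))))))))
noncomputable def a71 : Net := (.cons 12 (nat_lit 0x710)
 (.cons 6 (nat_lit 0x2001c)
 (.cons 3 (nat_lit 0x1420c6)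
 (.cons 1 (nat_lit 0x248008)
 (.cons 1 (nat_lit 0x490012)
 (.cons 1 (nat_lit 0x249248)
 (.cons 3 (nat_lit 0x2006)
 (.cons 6 (nat_lit 0x2001c)
 (.cons 12 (nat_lit 0x410)
 .nil)))))))))
noncomputable def a72 : Net := (.cons 12 (nat_lit 0x768)
 (.cons 6 (nat_lit 0x14034)
 (.cons 3 (nat_lit 0x180187)
 (.cons 1 (nat_lit 0x208)
 (.cons 1 (nat_lit 0x2492)
 (.cons 1 (nat_lit 0x40201)
 (.cons 3 (nat_lit 0x80180)
 (.cons 6 (nat_lit 0x14034)
 (.cons 12 (nat_lit 0x768)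
 .nil)))))))))
noncomputable def a73 : Net := (.cons 12 (nat_lit 0xf18)
 (.cons 6 (nat_lit 0x3f030)
 (.cons 3 (nat_lit 0x820c3)
 (.cons 1 (nat_lit 0x8008)
 (.cons 1 (nat_lit 0x492492)
 (.cons 1 (nat_lit 0x8201)
 (.cons 3 (nat_lit 0x2084)
 (.cons 6 (nat_lit 0x8016)
 (.cons 12 (nat_lit 0x8a2)
 .nil)))))))))
noncomputable def a74 : Net := (.cons 12 (nat_lit 0x3a)
 (.cons 6 (nat_lit 0xf01e)
 (.cons 3 (nat_lit 0xc6080)
 (.cons 1 (nat_lit 0x241000)
 (.cons 1 (nat_lit 0x492000)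
 (.cons 1 (nat_lit 0x208208)
 (.cons 3 (nat_lit 0x2080)
 (.cons 6 (nat_lit 0x2c010)
 (.cons 12 (nat_lit 0x618)
 .nil)))))))))
noncomputable def a75 : Net := (.cons 12 (nat_lit 0xeb8)
 (.cons 6 (nat_lit 0xd02b)
 (.cons 3 (nat_lit 0x1811c6)
 (.cons 1 (nat_lit 0x1001)
 (.cons 1 (nat_lit 0x482082)
 (.cons 1 (nat_lit 0x49240)
 (.cons 3 (nat_lit 0x84106)
 (.cons 6 (nat_lit 0xc038)
 (.cons 12 (nat_lit 0x2d0)
 .nil)))))))))
noncomputable def a76 : Net := (.cons 12 (nat_lit 0x228)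
 (.cons 6 (nat_lit 0x16000)
 (.cons 3 (nat_lit 0x147086)
 (.cons 1 (nat_lit 0x8000)
 (.cons 1 (nat_lit 0x12002)
 (.cons 1 (nat_lit 0x1008)
 (.cons 3 (nat_lit 0x6)
 (.cons 6 (nat_lit 0x16000)
 (.cons 12 (nat_lit 0x228)
 .nil)))))))))
noncomputable def a77 : Net := (.cons 12 (nat_lit 0x890)
 (.cons 6 (nat_lit 0x31030)
 (.cons 3 (nat_lit 0x104004)
 (.cons 1 (nat_lit 0x8200)
 (.cons 1 (nat_lit 0x10402)
 (.cons 1 (nat_lit 0x8208)
 (.cons 3 (nat_lit 0x4004)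
 (.cons 6 (nat_lit 0x20030)
 (.cons 12 (nat_lit 0x810)
 .nil)))))))))
noncomputable def a78 : Net := (.cons 12 (nat_lit 0x228)
 (.cons 6 (nat_lit 0x16000)
 (.cons 3 (nat_lit 0x147086)
 (.cons 1 (nat_lit 0x8000)
 (.cons 1 (nat_lit 0x12002)
 (.cons 1 (nat_lit 0x1008)
 (.cons 3 (nat_lit 0x6)
 (.cons 6 (nat_lit 0x16000)
 (.cons 12 (nat_lit 0x228)
 .nil)))))))))
noncomputable def a79 : Net := (.cons 12 (nat_lit 0x871)
 (.cons 6 (nat_lit 0x8004)
 (.cons 3 (nat_lit 0x107046)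
 (.cons 1 (nat_lit 0x40001)
 (.cons 1 (nat_lit 0x482002)
 (.cons 1 (nat_lit 0x49000)
 (.cons 3 (nat_lit 0x104006)
 (.cons 6 (nat_lit 0x8000)
 (.cons 12 (nat_lit 0x840)
 .nil)))))))))
noncomputable def a80 : Net := (.cons 12 (nat_lit 0xb80)
 (.cons 6 (nat_lit 0x2c029)
 (.cons 3 (nat_lit 0x100004)
 (.cons 1 (nat_lit 0x200008)
 (.cons 1 (nat_lit 0x412012)
 (.cons 1 (nat_lit 0x200208)
 (.cons 3 (nat_lit 0x100004)
 (.cons 6 (nat_lit 0x2c028)
 (.cons 12 (nat_lit 0xb00)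
 .nil)))))))))
noncomputable def a81 : Net := (.cons 12 (nat_lit 0x398)
 (.cons 6 (nat_lit 0x12032)
 (.cons 3 (nat_lit 0x184142)
 (.cons 1 (nat_lit 0x200)
 (.cons 1 (nat_lit 0x492402)
 (.cons 1 (nat_lit 0x8009)
 (.cons 3 (nat_lit 0x2104)
 (.cons 6 (nat_lit 0x10030)
 (.cons 12 (nat_lit 0xa0a)
 .nil)))))))))
noncomputable def a82 : Net := (.cons 12 (nat_lit 0x28b)
 (.cons 6 (nat_lit 0x101e)
 (.cons 3 (nat_lit 0x7087)
 (.cons 1 (nat_lit 0x240200)
 (.cons 1 (nat_lit 0x492480)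
 (.cons 1 (nat_lit 0x49248)
 (.cons 3 (nat_lit 0x80100)
 (.cons 6 (nat_lit 0x22036)
 (.cons 12 (nat_lit 0x716)
 .nil)))))))))
noncomputable def a83 : Net := (.cons 12 (nat_lit 0x232)
 (.cons 6 (nat_lit 0x29004)
 (.cons 3 (nat_lit 0x141146)
 (.cons 1 (nat_lit 0x48240)
 (.cons 1 (nat_lit 0x92490)
 (.cons 1 (nat_lit 0x48241)
 (.cons 3 (nat_lit 0x100006)
 (.cons 6 (nat_lit 0x4)
 (.cons 12 (nat_lit 0x232)
 .nil)))))))))
noncomputable def a84 : Net := (.cons 12 (nat_lit 0x397)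
 (.cons 6 (nat_lit 0x3903f)
 (.cons 3 (nat_lit 0x101140)
 (.cons 1 (nat_lit 0x208008)
 (.cons 1 (nat_lit 0x412490)
 (.cons 1 (nat_lit 0x208040)
 (.cons 3 (nat_lit 0x84)
 (.cons 6 (nat_lit 0x6)
 (.cons 12 (nat_lit 0x70)
 .nil)))))))))
noncomputable def a85 : Net := (.cons 12 (nat_lit 0x94)
 (.cons 6 (nat_lit 0x1b00e)
 (.cons 3 (nat_lit 0x44084)
 (.cons 1 (nat_lit 0x8008)
 (.cons 1 (nat_lit 0x492090)
 (.cons 1 (nat_lit 0x241008)
 (.cons 3 (nat_lit 0x6000)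
 (.cons 6 (nat_lit 0x2c00c)
 (.cons 12 (nat_lit 0x3bc)
 .nil)))))))))
noncomputable def a86 : Net := (.cons 12 (nat_lit 0x348)
 (.cons 6 (nat_lit 0x1c032)
 (.cons 3 (nat_lit 0x102180)
 (.cons 1 (nat_lit 0x208000)
 (.cons 1 (nat_lit 0x490000)
 (.cons 1 (nat_lit 0x209048)
 (.cons 3 (nat_lit 0x102080)
 (.cons 6 (nat_lit 0x1c030)
 (.cons 12 (nat_lit 0x348)
 .nil)))))))))
noncomputable def a87 : Net := (.cons 12 (nat_lit 0x934)
 (.cons 6 (nat_lit 0x1e026)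
 (.cons 3 (nat_lit 0x1c3082)
 (.cons 1 (nat_lit 0x1200)
 (.cons 1 (nat_lit 0x402490)
 (.cons 1 (nat_lit 0x248208)
 (.cons 3 (nat_lit 0x100106)
 (.cons 12 (nat_lit 0x994)
 .nil))))))))
noncomputable def a88 : Net := (.cons 12 (nat_lit 0x18)
 (.cons 6 (nat_lit 0x1b024)
 (.cons 3 (nat_lit 0x86080)
 (.cons 1 (nat_lit 0x200)
 (.cons 1 (nat_lit 0x82400)
 (.cons 1 (nat_lit 0x208200)
 (.cons 3 (nat_lit 0x86000)
 (.cons 6 (nat_lit 0x10020)
 (.cons 12 (nat_lit 0x18)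
 .nil)))))))))
noncomputable def a89 : Net := (.cons 12 (nat_lit 0x7a8)
 (.cons 6 (nat_lit 0x2c008)
 (.cons 3 (nat_lit 0x101106)
 (.cons 1 (nat_lit 0x40008)
 (.cons 1 (nat_lit 0x82412)
 (.cons 1 (nat_lit 0x240008)
 (.cons 3 (nat_lit 0x100106)
 (.cons 6 (nat_lit 0x2c008)
 (.cons 12 (nat_lit 0x728)
 .nil)))))))))
noncomputable def a90 : Net := (.cons 12 (nat_lit 0x634)
 (.cons 6 (nat_lit 0x38031)
 (.cons 3 (nat_lit 0x1011c6)
 (.cons 1 (nat_lit 0x40240)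
 (.cons 1 (nat_lit 0x482482)
 (.cons 1 (nat_lit 0x40201)
 (.cons 3 (nat_lit 0x100086)
 (.cons 6 (nat_lit 0x38000)
 (.cons 12 (nat_lit 0x634)
 .nil)))))))))
noncomputable def a91 : Net := (.cons 12 (nat_lit 0x748)
 (.cons 6 (nat_lit 0x20000)
 (.cons 3 (nat_lit 0x181000)
 (.cons 1 (nat_lit 0x1248)
 (.cons 1 (nat_lit 0x12490)
 (.cons 1 (nat_lit 0x208048)
 (.cons 3 (nat_lit 0x86080)
 (.cons 6 (nat_lit 0x38000)
 (.cons 12 (nat_lit 0x658)
 .nil)))))))))
noncomputable def a92 : Net := (.cons 12 (nat_lit 0xa18)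
 (.cons 6 (nat_lit 0x39018)
 (.cons 3 (nat_lit 0x1c4080)
 (.cons 1 (nat_lit 0x208208)
 (.cons 1 (nat_lit 0x412410)
 (.cons 1 (nat_lit 0x41000)
 (.cons 3 (nat_lit 0x100100)
 (.cons 6 (nat_lit 0x2028)
 (.cons 12 (nat_lit 0x620)
 .nil)))))))))
noncomputable def a93 : Net := (.cons 12 (nat_lit 0x488)
 (.cons 6 (nat_lit 0x3e030)
 (.cons 3 (nat_lit 0x184000)
 (.cons 1 (nat_lit 0x1000)
 (.cons 1 (nat_lit 0x402080)
 (.cons 1 (nat_lit 0x40208)
 (.cons 3 (nat_lit 0x180100)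
 (.cons 6 (nat_lit 0x20020)
 (.cons 12 (nat_lit 0x680)
 .nil)))))))))
noncomputable def a94 : Net := (.cons 12 (nat_lit 0x228)
 (.cons 6 (nat_lit 0x11008)
 (.cons 3 (nat_lit 0x4080)
 (.cons 1 (nat_lit 0x41008)
 (.cons 1 (nat_lit 0x482090)
 (.cons 1 (nat_lit 0x8000)
 (.cons 3 (nat_lit 0x100000)
 (.cons 6 (nat_lit 0x3c008)
 (.cons 12 (nat_lit 0x228)
 .nil)))))))))
noncomputable def a95 : Net := (.cons 12 (nat_lit 0x4e0)
 (.cons 6 (nat_lit 0x14030)
 (.cons 3 (nat_lit 0x5100)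
 (.cons 1 (nat_lit 0x200040)
 (.cons 1 (nat_lit 0x402480)
 (.cons 1 (nat_lit 0x200040)
 (.cons 3 (nat_lit 0x4100)
 (.cons 6 (nat_lit 0x30)
 (.cons 12 (nat_lit 0x460)
 .nil)))))))))
noncomputable def a96 : Net := (.cons 12 (nat_lit 0xd60)
 (.cons 6 (nat_lit 0x16018)
 (.cons 3 (nat_lit 0x101180)
 (.cons 1 (nat_lit 0x208000)
 (.cons 1 (nat_lit 0x412000)
 (.cons 1 (nat_lit 0x8048)
 (.cons 3 (nat_lit 0x102000)
 (.cons 6 (nat_lit 0x2030)
 (.cons 12 (nat_lit 0xd60)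
 .nil)))))))))
noncomputable def ns0 : List Net := [a0, a1, a2]
noncomputable def ws : List (List ℕ) :=
  [W (nat_lit 0x400803),
  W (nat_lit 0x401804),
  W (nat_lit 0x240802008),
  W (nat_lit 0x240802408),
  W (nat_lit 0xc0380c0340b),
  W (nat_lit 0x380b0380c0380e),
  W (nat_lit 0x4812),
  W (nat_lit 0x100480f04410),
  W (nat_lit 0x1605015054140581604c13),
  W (nat_lit 0x501504c130581605014),
  W (nat_lit 0x58140541505413),
  W (nat_lit 0x180701a0701a),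
  W (nat_lit 0x781b04c1305c0f0500d0340800406),
  W (nat_lit 0x641c04c1703c1202c1401c150080c),
  W (nat_lit 0x78170701704c1704c0f0640b064080340101417),
  W (nat_lit 0x78190781305c1303c1502c100340800407),
  W (nat_lit 0x802008024090220881f07c1f0982208c20),
  W (nat_lit 0x842308823088220881f0942408820),
  W (nat_lit 0x250902208c26088230981f08c220901f),
  W (nat_lit 0xb028),
  W (nat_lit 0x280a82c0a028),
  W (nat_lit 0x2d0bc2b07c22),
  W (nat_lit 0x7c1f),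
  W (nat_lit 0x2f0a41f),
  W (nat_lit 0x9c27),
  W (nat_lit 0xb42d07c1f),
  W (nat_lit 0xb42d09c2707c1f),
  W (nat_lit 0x290b027),
  W (nat_lit 0xa42c0a42c0a428),
  W (nat_lit 0x400f840100400f440),
  W (nat_lit 0xb42f),
  W (nat_lit 0xb42f07c1f),
  W (nat_lit 0xac21),
  W (nat_lit 0xbc270a421),
  W (nat_lit 0x2d0a022),
  W (nat_lit 0x2d0b42f),
  W (nat_lit 0x2d0bc20),
  W (nat_lit 0x2d0bc23),
  W (nat_lit 0xb42d09c2707c1f),
  W (nat_lit 0x84200881f),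
  W (nat_lit 0x802207c21),
  W (nat_lit 0x842408823),
  W (nat_lit 0x802407c23),
  W (nat_lit 0x842608825),
  W (nat_lit 0x5a15c5a174571585c1645c15c5e17856),
  W (nat_lit 0x16055178551685a16c5d16458),
  W (nat_lit 0x561645e1605916c5515c5a16c56),
  W (nat_lit 0x19062),
  W (nat_lit 0x1845a),
  W (nat_lit 0x1945f18457),
  W (nat_lit 0x15457),
  W (nat_lit 0x6517c55),
  W (nat_lit 0x18457),
  W (nat_lit 0x6d1bc6b1bc6e1b85f1b86c),
  W (nat_lit 0x1806e1bc5f1b86f1b06c17c6d1c05f17c6c),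
  W (nat_lit 0x551645716c561605c1705617856164551785a17456),
  W (nat_lit 0x1705a1605a1545d15c5c1545b1745516c571705d16c58),
  W (nat_lit 0x1605d16c56170561645d1585a1605a1585d16058),
  W (nat_lit 0x791e075),
  W (nat_lit 0x2e0bc2b),
  W (nat_lit 0x2e09c2707c22),
  W (nat_lit 0xb42a07c1f),
  W (nat_lit 0xb82a07c1f),
  W (nat_lit 0x801f8811f8821f47d2087d20480),
  W (nat_lit 0x801f8832087e200831f4832047e2108220080),
  W (nat_lit 0x821fc822107f204812048120080),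
  W (nat_lit 0x2288821886),
  W (nat_lit 0x852208a22885),
  W (nat_lit 0xb8300b82e),
  W (nat_lit 0x22c81),
  W (nat_lit 0x891fc83),
  W (nat_lit 0x22c8d21489),
  W (nat_lit 0x851fc7f),
  W (nat_lit 0x21485),
  W (nat_lit 0x1f4821f881),
  W (nat_lit 0x1f4841f883),
  W (nat_lit 0x1f47f1f880),
  W (nat_lit 0x2087f20480),
  W (nat_lit 0x2e0a822),
  W (nat_lit 0xb42d0bc2b07c22),
  W (nat_lit 0x2f0a420),
  W (nat_lit 0xb42d0a81f),
  W (nat_lit 0xa4298a3298a629ca4),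
  W (nat_lit 0x28ca92a0a42a0aa28ca7294a8),
  W (nat_lit 0x2a4a7298aa298a4294aa290a4),
  W (nat_lit 0x2c0ac2b0ac),
  W (nat_lit 0x2b0b02b8ac),
  W (nat_lit 0x1705916c5a),
  W (nat_lit 0x48120401104410),
  W (nat_lit 0x401204011),
  W (nat_lit 0xba2e8ba2e8b8),
  W (nat_lit 0xb82e8ba2e0b9),
  W (nat_lit 0x2e8b82e0b9),
  W (nat_lit 0x2fcbe)]
noncomputable def ns : List Net := [a0, a1, a2, a3, a4, a5, a6, a7, a8, a9, a10, a11, a12, a13, a14, a15, a16, a17, a18, a19, a20, a21, a22, a23, a24, a25, a26, a27, a28, a29, a30, a31, a32, a33, a34, a35, a36, a37, a38, a39, a40, a41, a42, a43, a44, a45, a46, a47, a48, a49, a50, a51, a52, a53, a54, a55, a56, a57, a58, a59, a60, a61, a62, a63, a64, a65, a66, a67, a68, a69, a70, a71, a72, a73, a74, a75, a76, a77, a78, a79, a80, a81, a82, a83, a84, a85, a86, a87, a88, a89, a90, a91, a92, a93, a94, a95, a96]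
noncomputable def D : List (ℕ × List ℕ) := app [] (mkDefs ws 3)
noncomputable def chk : List (List ℕ × List ℕ) → Bool := P.relsB ns
noncomputable def G_v0 : Lev :=
  ⟨0, 24, sg (W (nat_lit 0x40100c010040500c01)), [[6], [8]], 0, 2⟩
noncomputable def G_v1 : Lev :=
  ⟨1, 23, sg (W (nat_lit 0x701c070240701c0901c07)), [[10], [12]], 2, 2⟩
noncomputable def G_v2 : Lev :=
  ⟨2, 22, sg (W (nat_lit 0xd02c0b0340b0340b0340b)), [[14], [16]], 4, 2⟩
noncomputable def G_v3 : Lev :=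
  ⟨3, 21, sg (W (nat_lit 0x441103c1103c1103c0f)), [[18], [20]], 6, 2⟩
noncomputable def G_v4 : Lev :=
  ⟨4, 20, sg (W (nat_lit 0x541304c1504c1504c13)), [[22], [24], [26]], 8, 3⟩
noncomputable def G_v5 : Lev :=
  ⟨5, 16, sg (W (nat_lit 0x1905c1b06417)), [[28]], 11, 1⟩
noncomputable def G_v6 : Lev :=
  ⟨6, 3, sg (W (nat_lit 0x741d)), [], 12, 0⟩
noncomputable def G_vs7 : List Lev :=
  []
noncomputable def G_vs6 : List Lev :=
  G_v6 :: G_vs7
noncomputable def G_vs5 : List Lev :=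
  G_v5 :: G_vs6
noncomputable def G_vs4 : List Lev :=
  G_v4 :: G_vs5
noncomputable def G_vs3 : List Lev :=
  G_v3 :: G_vs4
noncomputable def G_vs2 : List Lev :=
  G_v2 :: G_vs3
noncomputable def G_vs1 : List Lev :=
  G_v1 :: G_vs2
noncomputable def G_vs : List Lev :=
  G_v0 :: G_vs1
noncomputable def T_ps : List PcG :=
  [⟨[36], 2, [52], [W (nat_lit 0x390d41f0c423), W (nat_lit 0xe42e0c421), W (nat_lit 0x370cc1f), W (nat_lit 0xe4370d41f0b831), W (nat_lit 0xdc350cc31), W (nat_lit 0xd433), [52], [56], [54]]⟩,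
  ⟨[34], 2, W (nat_lit 0xe43707c31), [W (nat_lit 0x390cc2e0c421), [30], W (nat_lit 0x350cc1f0b831), W (nat_lit 0xd431), W (nat_lit 0xe4370d433), W (nat_lit 0x390dc35), [56], [54]]⟩,
  ⟨[32], 2, W (nat_lit 0x7c2e), [W (nat_lit 0x350cc1f0b831), [30], W (nat_lit 0xe42e), W (nat_lit 0xe433), [52], [54], [56]]⟩,
  ⟨[48], 2, W (nat_lit 0xd433), [W (nat_lit 0x370d42e), W (nat_lit 0xd41f), W (nat_lit 0x390dc33), W (nat_lit 0x390dc35), [54], [56]]⟩,
  ⟨[45], 2, W (nat_lit 0xe433), [W (nat_lit 0xe41f), [50], W (nat_lit 0x390dc35), [54], [56]]⟩,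
  ⟨[30], 2, [50], [[50], W (nat_lit 0x390dc35), [54], [56]]⟩,
  ⟨[50], 2, [], [[52], [54], [56]]⟩,
  ⟨[52], 2, [], [[54], [56]]⟩,
  ⟨[54], 2, [], [[56]]⟩,
  ⟨[56], 2, [], []⟩]
noncomputable def T_v0 : Lev :=
  ⟨0, 16, sg (W (nat_lit 0x7c2507c230841f)), [[38], [40], [42]], 16, 3⟩
noncomputable def T_v1 : Lev :=
  ⟨1, 8, sg (W (nat_lit 0x2b0a427)), [[44], [46]], 19, 2⟩
noncomputable def T_v2 : Lev :=
  ⟨4, 8, sg (W (nat_lit 0xb42d0bc2d)), [], 21, 0⟩
noncomputable def T_vs3 : List Lev :=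
  []
noncomputable def T_vs2 : List Lev :=
  T_v2 :: T_vs3
noncomputable def T_vs1 : List Lev :=
  T_v1 :: T_vs2
noncomputable def T_vs : List Lev :=
  T_v0 :: T_vs1
noncomputable def zm5 : ℕ :=
  (nat_lit 0x82404)
noncomputable def zm6 : ℕ :=
  (nat_lit 0x88c48a)
noncomputable def sccz_F : List (List ℕ × ℕ × ℕ) :=
  [([0], zm5, zm5),
  (W (nat_lit 0x140501405), zm6, zm6)]
noncomputable def scczG_v0 : Lev :=
  ⟨0, 16, sg (W (nat_lit 0x7c2507c230841f)), [[38], [40], [42]], 16, 3⟩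
noncomputable def scczG_v1 : Lev :=
  ⟨4, 8, sg (W (nat_lit 0x9c270a427)), [[60], [62]], 27, 2⟩
noncomputable def scczG_v2 : Lev :=
  ⟨2, 4, sg (W (nat_lit 0x3d0fc3d)), [[64]], 29, 1⟩
noncomputable def scczG_v3 : Lev :=
  ⟨1, 2, sg [64], [], 30, 0⟩
noncomputable def scczG_vs4 : List Lev :=
  []
noncomputable def scczG_vs3 : List Lev :=
  scczG_v3 :: scczG_vs4
noncomputable def scczG_vs2 : List Lev :=
  scczG_v2 :: scczG_vs3
noncomputable def scczG_vs1 : List Lev :=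
  scczG_v1 :: scczG_vs2
noncomputable def scczG_vs : List Lev :=
  scczG_v0 :: scczG_vs1
noncomputable def sccz_x : List (ℕ × List ℕ) :=
  [((nat_lit 0), []),
  ((nat_lit 0), []),
  ((nat_lit 0), []),
  ((nat_lit 0), [(nat_lit 0x80002)])]
noncomputable def sccz_G : Gl :=
  ⟨P, ns, (app D []), (diag [[30], [32], [34], [36]]), [], [], memM (app D []) [[58]], true⟩
noncomputable def sccz_s : St :=
  ⟨(mkS P.n scczG_vs sccz_x), [[30], [32], [34], [36]], [], mapL Prod.snd sccz_F, memM (app D []) [[58]], []⟩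
noncomputable def zt10 : ST :=
  (.img [3] 0 (.dif 0 2 (.br 0 [[58]] [0] [(0, [])] (.cons (.img (W (nat_lit 0x1401)) 0 (.br 0 [] [] [(4, [])] (.cons (.img [2] 2 (.br 0 [] [] [(2, [])] (.cons (.orb 0 (.dif 0 8 (.br 0 [] [] [(1, [])] (.cons .fnd
 .nil))))
 .nil)))
 .nil)))
 .nil))))
noncomputable def zst14 : List (List ℕ × ℕ × List ℕ) :=
  [(W (nat_lit 0x781303c0f02c140280101407), 66, [58]),
  ([30], 68, [66]),
  ([34], 70, [66]),
  ([36], 72, [66]),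
  ([34], 74, [68]),
  (W (nat_lit 0x7417070130740f02c1701c1500805), 76, [66]),
  ([32], 78, [76]),
  (W (nat_lit 0x1b04c1603c0f0540e01c0c00808), 42, W (nat_lit 0x10c4d)),
  (W (nat_lit 0x190701303c0f0540803801), 80, W (nat_lit 0x13c2b12445)),
  ([], 30, W (nat_lit 0x13c43)),
  ([], 32, W (nat_lit 0xb047)),
  ([], 34, W (nat_lit 0x14447)),
  ([], 36, W (nat_lit 0x5213c4313443))]
noncomputable def zm18 : ℕ :=
  (nat_lit 0x82404)
noncomputable def zm19 : ℕ :=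
  (nat_lit 0x88c48a)
noncomputable def k1_F : List (List ℕ × ℕ × ℕ) :=
  [([0], zm18, zm18),
  (W (nat_lit 0x140501405), zm19, zm19)]
noncomputable def k1G_v0 : Lev :=
  ⟨0, 16, sg (W (nat_lit 0x7c2507c230841f)), [[38], [40], [42]], 16, 3⟩
noncomputable def k1G_v1 : Lev :=
  ⟨4, 8, sg (W (nat_lit 0x9c270a427)), [[60], [62]], 27, 2⟩
noncomputable def k1G_v2 : Lev :=
  ⟨2, 4, sg (W (nat_lit 0x3d0fc3d)), [[64]], 29, 1⟩
noncomputable def k1G_v3 : Lev :=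
  ⟨1, 2, sg [64], [], 30, 0⟩
noncomputable def k1G_vs4 : List Lev :=
  []
noncomputable def k1G_vs3 : List Lev :=
  k1G_v3 :: k1G_vs4
noncomputable def k1G_vs2 : List Lev :=
  k1G_v2 :: k1G_vs3
noncomputable def k1G_vs1 : List Lev :=
  k1G_v1 :: k1G_vs2
noncomputable def k1G_vs : List Lev :=
  k1G_v0 :: k1G_vs1
noncomputable def k1_x : List (ℕ × List ℕ) :=
  [((nat_lit 0), []),
  ((nat_lit 0), []),
  ((nat_lit 0), []),
  ((nat_lit 0), [(nat_lit 0x80002)])]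
noncomputable def k1_G : Gl :=
  ⟨P, ns, (app D []), (diag [[30], [32], [34], [36]]), [], [], memM (app D []) [[82]], true⟩
noncomputable def k1_s : St :=
  ⟨(mkS P.n k1G_vs k1_x), [[30], [32], [34], [36]], [], mapL Prod.snd k1_F, memM (app D []) [[82]], []⟩
noncomputable def zt23 : ST :=
  (.img [3] 0 (.dif 0 2 (.br 0 [[82]] [0] [(0, [])] (.cons (.img (W (nat_lit 0x1401)) 0 (.br 0 [] [] [(4, [])] (.cons (.img [2] 2 (.br 0 [] [] [(2, [])] (.cons (.orb 0 (.dif 0 8 (.br 0 [] [] [(1, [])] (.cons .fnd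
 .nil))))
 .nil)))
 .nil)))
 .nil))))
noncomputable def zL27 : List (List ℕ × List ℕ × List ℕ) :=
  [([84], [30], [33]),
  ([86], [32], [30]),
  ([88], [34], [33]),
  ([90], [34], [30]),
  ([92], [36], [33]),
  ([], [30], [30]),
  ([86], [30], [32]),
  (W (nat_lit 0x1845a), [30], [34]),
  (W (nat_lit 0x6515459), [30], [36]),
  ([86], [32], [30]),
  ([], [32], [32]),
  (W (nat_lit 0x5f1845d), [32], [34]),
  (W (nat_lit 0x1945a), [32], [36]),
  (W (nat_lit 0x1845a), [34], [30]),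
  (W (nat_lit 0x1945f15459), [34], [32]),
  ([], [34], [34]),
  (W (nat_lit 0x6515459), [34], [36]),
  (W (nat_lit 0x1845d), [36], [30]),
  (W (nat_lit 0x1945a), [36], [32]),
  (W (nat_lit 0x1845d), [36], [34]),
  ([], [36], [36])]
noncomputable def zcj30 : List (List (List ℕ)) :=
  [[[86], [84], W (nat_lit 0x1945f15459), W (nat_lit 0x651845d), W (nat_lit 0x5f18459)],
  [[86], [84], W (nat_lit 0x5f1845d), W (nat_lit 0x651845d), W (nat_lit 0x1945a)],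
  [[86], W (nat_lit 0x1945f18457), W (nat_lit 0x1945f15459), W (nat_lit 0x651845d), W (nat_lit 0x1945f1845d)],
  [[84], W (nat_lit 0x1945f18455), W (nat_lit 0x6115459), W (nat_lit 0x651845d), [92]]]
noncomputable def k2C_ps : List PcG :=
  [⟨[92], 2, [], [[102], W (nat_lit 0x551a459), W (nat_lit 0x551a457), [84], [104]]⟩,
  ⟨[102], 2, [], [W (nat_lit 0x551a459), W (nat_lit 0x551a457), [84], [104]]⟩,
  ⟨[88], 2, W (nat_lit 0x15469), [W (nat_lit 0x551a457), [84], [104]]⟩,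
  ⟨[86], 2, [], [[104], [84]]⟩,
  ⟨[104], 2, [], [[84]]⟩,
  ⟨[84], 2, [], []⟩]
noncomputable def zE34 : List (ℕ × List ℕ) :=
  [(90, [102])]
noncomputable def k2C_v0 : Lev :=
  ⟨0, 8, sg (W (nat_lit 0x5915c55)), [[94], [96], [98]], 44, 3⟩
noncomputable def k2C_v1 : Lev :=
  ⟨1, 4, sg (W (nat_lit 0x1845f)), [[100]], 47, 1⟩
noncomputable def k2C_v2 : Lev :=
  ⟨2, 2, sg [100], [], 48, 0⟩
noncomputable def k2C_vs3 : List Lev :=
  []
noncomputable def k2C_vs2 : List Lev :=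
  k2C_v2 :: k2C_vs3
noncomputable def k2C_vs1 : List Lev :=
  k2C_v1 :: k2C_vs2
noncomputable def k2C_vs : List Lev :=
  k2C_v0 :: k2C_vs1
noncomputable def k3_F : List (List ℕ × ℕ × ℕ) :=
  []
noncomputable def k3G_v0 : Lev :=
  ⟨1, 4, sg (W (nat_lit 0x15c55)), [[116], [118], [120]], 55, 3⟩
noncomputable def k3G_v1 : Lev :=
  ⟨0, 8, sg (W (nat_lit 0x791dc75)), [[122]], 58, 1⟩
noncomputable def k3G_v2 : Lev :=
  ⟨2, 2, sg [122], [], 59, 0⟩
noncomputable def k3G_vs3 : List Lev :=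
  []
noncomputable def k3G_vs2 : List Lev :=
  k3G_v2 :: k3G_vs3
noncomputable def k3G_vs1 : List Lev :=
  k3G_v1 :: k3G_vs2
noncomputable def k3G_vs : List Lev :=
  k3G_v0 :: k3G_vs1
noncomputable def k3_x : List (ℕ × List ℕ) :=
  [((nat_lit 0), [(nat_lit 0x80c002)]),
  ((nat_lit 0x800000000000000), [(nat_lit 0x212945)]),
  ((nat_lit 0), [(nat_lit 0x10000)])]
noncomputable def k3_G : Gl :=
  ⟨P, ns, (app D []), (diag [[84], [86], [88], [90], [92]]), [], [], memM (app D []) [[106], [94], [108], [110]], true⟩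
noncomputable def k3_s : St :=
  ⟨(mkS P.n k3G_vs k3_x), [[84], [86], [88], [90], [92]], [], mapL Prod.snd k3_F, memM (app D []) [[106], [94], [108], [110]], []⟩
noncomputable def zt42 : ST :=
  (.orb 0 (.br 0 [W (nat_lit 0x1cc6f), [106]] (W (nat_lit 0xc01)) [(1, [])] (.cons (.orb 0 (.br 0 [W (nat_lit 0x711cc6f), W (nat_lit 0x711cc6b)] (W (nat_lit 0xc01)) [(2, [119]), (0, [])] (.cons (.orb 0 (.img [0] 0 (.and 2 0 (.mis 0))))
 (.cons (.img [4] 0 (.br 0 [] [] [(2, [])] (.cons .fnd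
 .nil)))
 .nil))))
 .nil)))
noncomputable def zm46 : ℕ :=
  (nat_lit 0x212945)
noncomputable def k4_F : List (List ℕ × ℕ × ℕ) :=
  [([2], zm46, zm46)]
noncomputable def k4G_v0 : Lev :=
  ⟨0, 16, sg (W (nat_lit 0x7c2507c230841f)), [[38], [40], [42]], 16, 3⟩
noncomputable def k4G_v1 : Lev :=
  ⟨1, 8, sg (W (nat_lit 0x2b0a427)), [[44], [46]], 19, 2⟩
noncomputable def k4G_v2 : Lev :=
  ⟨2, 4, sg (W (nat_lit 0xbc2d)), [[142]], 68, 1⟩
noncomputable def k4G_v3 : Lev :=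
  ⟨3, 2, sg [142], [], 69, 0⟩
noncomputable def k4G_vs4 : List Lev :=
  []
noncomputable def k4G_vs3 : List Lev :=
  k4G_v3 :: k4G_vs4
noncomputable def k4G_vs2 : List Lev :=
  k4G_v2 :: k4G_vs3
noncomputable def k4G_vs1 : List Lev :=
  k4G_v1 :: k4G_vs2
noncomputable def k4G_vs : List Lev :=
  k4G_v0 :: k4G_vs1
noncomputable def k4_x : List (ℕ × List ℕ) :=
  [((nat_lit 0), []),
  ((nat_lit 0), [(nat_lit 0x88c48a)]),
  ((nat_lit 0), [(nat_lit 0x202104)]),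
  ((nat_lit 0), [(nat_lit 0x400)])]
noncomputable def k4_G : Gl :=
  ⟨P, ns, (app D []), (diag [[106], [94], [108], [110]]), [], [], memM (app D []) [[124], [126], [128], [130]], true⟩
noncomputable def k4_s : St :=
  ⟨(mkS P.n k4G_vs k4_x), [[30], [32], [34], [36]], [], mapL Prod.snd k4_F, memM (app D []) [[124], [126], [128], [130]], []⟩
noncomputable def zt50 : ST :=
  (.br 0 [W (nat_lit 0x21481), W (nat_lit 0x8b234852347f1fc81), W (nat_lit 0x8d21c80)] (W (nat_lit 0x500c01)) [(0, [])] (.cons (.orb 0 (.br 0 [W (nat_lit 0x8d21489), W (nat_lit 0x22c8d), W (nat_lit 0x21489)] (W (nat_lit 0x40301401)) [(1, [])] (.cons (.orb 0 (.br 0 [[138], W (nat_lit 0x22c8d)] (W (nat_lit 0xc01)) [(2, [])] (.cons (.orb 0 (.img [2] 0 (.br 0 [] [] [(3, [])] (.cons .fnd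
 .nil))))
 .nil)))
 .nil)))
 .nil))
noncomputable def k4C_ps : List PcG :=
  [⟨[144], 2, [], [[128], W (nat_lit 0x8625c93), W (nat_lit 0x8625c7f), W (nat_lit 0x26495), W (nat_lit 0x26497), W (nat_lit 0x26486), [152]]⟩,
  ⟨[128], 2, [], [[126], [146], [133], W (nat_lit 0x2648625c95), [148], [152]]⟩,
  ⟨[146], 2, W (nat_lit 0x21897), [[126], W (nat_lit 0x2648625c95), [133], [150], [152]]⟩,
  ⟨[126], 2, W (nat_lit 0x21897), [W (nat_lit 0x2648625c95), [133], [150], [152]]⟩,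
  ⟨[148], 2, [152], [[150], [133], [152]]⟩,
  ⟨[150], 2, [152], [[133], [152]]⟩,
  ⟨[133], 2, [152], [[152]]⟩,
  ⟨[152], 2, [], []⟩]
noncomputable def zE54 : List (ℕ × List ℕ) :=
  [(124, [133]),
  (130, [144])]
noncomputable def k4C_v0 : Lev :=
  ⟨0, 8, sg (W (nat_lit 0x2047f2047f)), [[132], [134], [136]], 63, 3⟩
noncomputable def k4C_v1 : Lev :=
  ⟨1, 8, sg (W (nat_lit 0x8921c85)), [[138], [140]], 66, 2⟩
noncomputable def k4C_v2 : Lev :=
  ⟨2, 4, sg (W (nat_lit 0x2348b)), [], 68, 0⟩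
noncomputable def k4C_vs3 : List Lev :=
  []
noncomputable def k4C_vs2 : List Lev :=
  k4C_v2 :: k4C_vs3
noncomputable def k4C_vs1 : List Lev :=
  k4C_v1 :: k4C_vs2
noncomputable def k4C_vs : List Lev :=
  k4C_v0 :: k4C_vs1
noncomputable def zL59 : List (List ℕ × List ℕ × List ℕ) :=
  [([154], [128], [125]),
  ([156], [130], [125]),
  ([158], [127], [125]),
  ([160], [127], [128]),
  ([], [124], [124]),
  ([158], [124], [126]),
  ([154], [124], [128]),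
  ([156], [124], [130]),
  ([158], [126], [124]),
  ([], [126], [126]),
  ([160], [126], [128]),
  (W (nat_lit 0x2749f), [126], [130]),
  ([154], [128], [124]),
  ([160], [128], [126]),
  ([], [128], [128]),
  ([], [128], [130]),
  ([156], [130], [124]),
  (W (nat_lit 0x2749f), [130], [126]),
  ([], [130], [128]),
  ([], [130], [130])]
noncomputable def zcj62 : List (List (List ℕ)) :=
  [[[154], [156], [158], [160]],
  [[154], [156], [158], [160]],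
  [[154], [156], [158], [160]],
  [[154], [156], [158], [160]]]
noncomputable def zm66 : ℕ :=
  (nat_lit 0x212945)
noncomputable def zm67 : ℕ :=
  (nat_lit 0x88c48a)
noncomputable def k6_F : List (List ℕ × ℕ × ℕ) :=
  [([0], zm66, zm66),
  ([4], zm67, zm67)]
noncomputable def k6G_v0 : Lev :=
  ⟨0, 16, sg (W (nat_lit 0x7c2507c230841f)), [[38], [40], [42]], 16, 3⟩
noncomputable def k6G_v1 : Lev :=
  ⟨1, 8, sg (W (nat_lit 0x2b0a427)), [[44], [46]], 19, 2⟩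
noncomputable def k6G_v2 : Lev :=
  ⟨2, 4, sg (W (nat_lit 0xbc2d)), [[142]], 68, 1⟩
noncomputable def k6G_v3 : Lev :=
  ⟨3, 2, sg [142], [], 69, 0⟩
noncomputable def k6G_vs4 : List Lev :=
  []
noncomputable def k6G_vs3 : List Lev :=
  k6G_v3 :: k6G_vs4
noncomputable def k6G_vs2 : List Lev :=
  k6G_v2 :: k6G_vs3
noncomputable def k6G_vs1 : List Lev :=
  k6G_v1 :: k6G_vs2
noncomputable def k6G_vs : List Lev :=
  k6G_v0 :: k6G_vs1
noncomputable def k6_x : List (ℕ × List ℕ) :=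
  [((nat_lit 0), []),
  ((nat_lit 0), []),
  ((nat_lit 0), [(nat_lit 0x202104)]),
  ((nat_lit 0), [(nat_lit 0x400)])]
noncomputable def k6_G : Gl :=
  ⟨P, ns, (app D []), (diag [[154], [156], [158], [160]]), [], [], memM (app D []) [[162], [164], [166], [168]], true⟩
noncomputable def k6_s : St :=
  ⟨(mkS P.n k6G_vs k6_x), [[30], [32], [34], [36]], [], mapL Prod.snd k6_F, memM (app D []) [[162], [164], [166], [168]], []⟩
noncomputable def zt71 : ST :=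
  (.br 0 [W (nat_lit 0xb12b0a4), [163]] (W (nat_lit 0x10040100c01)) [(0, [])] (.cons (.br 2 [W (nat_lit 0x2c4ab), W (nat_lit 0xb12acab)] (W (nat_lit 0xc0100c01)) [(1, [])] (.cons (.orb 0 (.br 0 [W (nat_lit 0x2c4b3), [176]] (W (nat_lit 0xc01)) [(2, [])] (.cons (.orb 0 (.img [0] 0 (.br 0 [] [] [(3, [])] (.cons .fnd
 .nil))))
 .nil)))
 .nil))
 .nil))
noncomputable def zL75 : List (List ℕ × List ℕ × List ℕ) :=
  [([180], [89], [90]),
  ([], [84], [84]),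
  ([], [84], [86]),
  ([180], [84], [88]),
  ([180], [84], [90]),
  ([180], [84], [92]),
  ([], [86], [84]),
  ([], [86], [86]),
  ([180], [86], [88]),
  ([180], [86], [90]),
  ([180], [86], [92]),
  ([180], [88], [84]),
  ([180], [88], [86]),
  ([], [88], [88]),
  ([180], [88], [90]),
  ([180], [88], [92]),
  ([180], [90], [84]),
  ([180], [90], [86]),
  ([180], [90], [88]),
  ([], [90], [90]),
  ([], [90], [92]),
  ([180], [92], [84]),
  ([180], [92], [86]),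
  ([180], [92], [88]),
  ([], [92], [90]),
  ([], [92], [92])]
noncomputable def zcj78 : List (List (List ℕ)) :=
  [[[180]],
  [[180]],
  [[180]],
  [[180]],
  [[180]]]
noncomputable def nTG_v0 : Lev :=
  ⟨0, 24, sg (W (nat_lit 0x40100c010040500c01)), [[6], [8]], 0, 2⟩
noncomputable def nTG_v1 : Lev :=
  ⟨1, 23, sg (W (nat_lit 0x701c070240701c0901c07)), [[10], [12]], 2, 2⟩
noncomputable def nTG_v2 : Lev :=
  ⟨2, 22, sg (W (nat_lit 0xd02c0b0340b0340b0340b)), [[14], [16]], 4, 2⟩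
noncomputable def nTG_v3 : Lev :=
  ⟨6, 21, sg (W (nat_lit 0x440f0440f0440f0440f)), [[182], [184]], 88, 2⟩
noncomputable def nTG_v4 : Lev :=
  ⟨11, 20, sg (W (nat_lit 0xb72e4b72e4b72e4b7)), [[186], [188], [190]], 90, 3⟩
noncomputable def nTG_v5 : Lev :=
  ⟨13, 16, sg (W (nat_lit 0x2f4bd2ecbf2f4bb)), [[192]], 93, 1⟩
noncomputable def nTG_v6 : Lev :=
  ⟨3, 3, sg (W (nat_lit 0x304c1)), [], 94, 0⟩
noncomputable def nTG_vs7 : List Lev :=
  []
noncomputable def nTG_vs6 : List Lev :=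
  nTG_v6 :: nTG_vs7
noncomputable def nTG_vs5 : List Lev :=
  nTG_v5 :: nTG_vs6
noncomputable def nTG_vs4 : List Lev :=
  nTG_v4 :: nTG_vs5
noncomputable def nTG_vs3 : List Lev :=
  nTG_v3 :: nTG_vs4
noncomputable def nTG_vs2 : List Lev :=
  nTG_v2 :: nTG_vs3
noncomputable def nTG_vs1 : List Lev :=
  nTG_v1 :: nTG_vs2
noncomputable def nTG_vs : List Lev :=
  nTG_v0 :: nTG_vs1
noncomputable def nT_x : List (ℕ × List ℕ) :=
  [((nat_lit 0x1), [(nat_lit 0xffffff)]),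
  ((nat_lit 0), [(nat_lit 0xfffffe)]),
  ((nat_lit 0), []),
  ((nat_lit 0), []),
  ((nat_lit 0), []),
  ((nat_lit 0), []),
  ((nat_lit 0), [(nat_lit 0x400208)])]
noncomputable def nT_G : Gl :=
  ⟨P, ns, (app D []), [], (diag [[[30], [32], [34], [36]], [[82]], [[84], [86], [88], [90], [92]], [[106], [94], [108], [110]], [[124], [126], [128], [130]], [[154], [156], [158], [160]], [[162], [164], [166], [168]], [[180]]]), [], memM (app D []) [[30], [32], [34], [36]], true⟩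
noncomputable def nT_s : St :=
  ⟨(mkS P.n nTG_vs nT_x), [[0], [2], [4]], [], [], memM (app D []) [[30], [32], [34], [36]], []⟩
noncomputable def zt84 : ST :=
  (.orb 0 (.br 0 [W (nat_lit 0x2e0bc2709c24), W (nat_lit 0x2d0b42f0ac25), W (nat_lit 0xa026)] (W (nat_lit 0x50040500c01)) [(1, [0]), (0, [])] (.cons (.clo 1 0 [0] [] (.mis 0))
 (.cons (.orb 0 (.clo 0 1 (W (nat_lit 0x4070040500c01)) (W (nat_lit 0x4070040500c01)) (.dif 1 0 (.br 0 [W (nat_lit 0x9c29), W (nat_lit 0x2d0b429)] (W (nat_lit 0x40100c01)) [(1, [])] (.cons (.clo 6 4 (W (nat_lit 0x700c01)) (W (nat_lit 0x700c01)) (.and 3 0 (.clo 3 6 (W (nat_lit 0x1401)) (W (nat_lit 0x1401)) (.dif 1 0 (.br 0 [[45]] (W (nat_lit 0x100401)) [(2, [])] (.cons (.clo 1 9 [0] [0] (.dif 3 0 (.br 0 [W (nat_lit 0xb42f)] [0] [(6, [])] (.cons (.dif 2 12 (.br 0 [] [] [(11, [])] (.cons (.dif 6 5 (.clo 1 6 [0] [0] (.and 1 0 (.br 0 [] [] [(13, [])] (.cons (.orb 0 (.dif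 0 17 (.br 0 [] [] [(3, [])] (.cons .fnd
 .nil))))
 .nil)))))
 .nil)))
 .nil))))
 .nil))))))
 .nil)))))
 .nil))))

theorem zc0 : P.chainB ns D G_vs [[0], [2], [4]] = true := by decide +kernel
theorem zr1 : chk (pcsR T_ps []) = true := by decide +kernel
theorem zb2 : bnd (pcsB D T_ps []) (leB (app D []) [[30], [32], [34], [36]] (pcGens T_ps [])) = true := by decide +kernel
theorem zc3 : P.chainB ns D T_vs [[30], [32], [34], [36]] = true := by decide +kernel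
theorem zm4 : leB D [[30], [32], [34], [36]] [[0], [2], [4]] = true := by decide +kernel
theorem zf7 : P.fixXB ns (diag [[30], [32], [34], [36]]) sccz_F = true := by decide +kernel
theorem zc8 : P.chainB ns D scczG_vs [[30], [32], [34], [36]] = true := by decide +kernel
theorem zs9 : ssB P.N ns D (mkS P.n scczG_vs sccz_x) [[30], [32], [34], [36]] = true := by decide +kernel
theorem zs11 : sccz_G.chk zt10 sccz_s none = true := by decide +kernel
theorem zr12 : chk (comR [[58]] (mapL Prod.snd (diag [[30], [32], [34], [36]]))) = true := by decide +kernel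
theorem zm13 : leB D [[58]] [[30], [32], [34], [36]] = true := by decide +kernel
theorem zr15 : chk [([58, 58], [])] = true := by decide +kernel
theorem zf16 : CL.Fus.fusB (memM D [[0], [2], [4]]) (memM D [[30], [32], [34], [36]]) [[30], [32], [34], [36]] zst14 (maskW [[58]]) = true := by decide +kernel
theorem zr17 : chk (CL.Fus.fusR zst14) = true := by decide +kernel
theorem zf20 : P.fixXB ns (diag [[30], [32], [34], [36]]) k1_F = true := by decide +kernel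
theorem zc21 : P.chainB ns D k1G_vs [[30], [32], [34], [36]] = true := by decide +kernel
theorem zs22 : ssB P.N ns D (mkS P.n k1G_vs k1_x) [[30], [32], [34], [36]] = true := by decide +kernel
theorem zs24 : k1_G.chk zt23 k1_s none = true := by decide +kernel
theorem zr25 : chk (comR [[82]] (mapL Prod.snd (diag [[30], [32], [34], [36]]))) = true := by decide +kernel
theorem zm26 : leB D [[82]] [[30], [32], [34], [36]] = true := by decide +kernel
theorem zf28 : CL.Fus.cmB D [[30], [32], [34], [36]] [[84], [86], [88], [90], [92]] zL27 = true := by decide +kernel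
theorem zr29 : chk (CL.Fus.cmR zL27) = true := by decide +kernel
theorem zm31 : nrmB D [[30], [32], [34], [36]] [[84], [86], [88], [90], [92]] zcj30 = true := by decide +kernel
theorem zr32 : chk (nrmR [[30], [32], [34], [36]] [[84], [86], [88], [90], [92]] zcj30) = true := by decide +kernel
theorem zm33 : leB D [[84], [86], [88], [90], [92]] [[30], [32], [34], [36]] = true := by decide +kernel
theorem zr35 : chk (pcsR k2C_ps []) = true := by decide +kernel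
theorem zr36 : chk (defRels zE34) = true := by decide +kernel
theorem zb37 : bnd (pcsB D k2C_ps []) (leB (app D zE34) [[84], [86], [88], [90], [92]] (pcGens k2C_ps [])) = true := by decide +kernel
theorem zc38 : P.chainB ns D k2C_vs [[84], [86], [88], [90], [92]] = true := by decide +kernel
theorem zf39 : P.fixXB ns (diag [[84], [86], [88], [90], [92]]) k3_F = true := by decide +kernel
theorem zc40 : P.chainB ns D k3G_vs [[84], [86], [88], [90], [92]] = true := by decide +kernel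
theorem zs41 : ssB P.N ns D (mkS P.n k3G_vs k3_x) [[84], [86], [88], [90], [92]] = true := by decide +kernel
theorem zs43 : k3_G.chk zt42 k3_s none = true := by decide +kernel
theorem zr44 : chk (comR [[106], [94], [108], [110]] (mapL Prod.snd (diag [[84], [86], [88], [90], [92]]))) = true := by decide +kernel
theorem zm45 : leB D [[106], [94], [108], [110]] [[84], [86], [88], [90], [92]] = true := by decide +kernel
theorem zf47 : P.fixXB ns (diag [[106], [94], [108], [110]]) k4_F = true := by decide +kernel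
theorem zc48 : P.chainB ns D k4G_vs [[30], [32], [34], [36]] = true := by decide +kernel
theorem zs49 : ssB P.N ns D (mkS P.n k4G_vs k4_x) [[30], [32], [34], [36]] = true := by decide +kernel
theorem zs51 : k4_G.chk zt50 k4_s none = true := by decide +kernel
theorem zr52 : chk (comR [[124], [126], [128], [130]] (mapL Prod.snd (diag [[106], [94], [108], [110]]))) = true := by decide +kernel
theorem zm53 : leB D [[124], [126], [128], [130]] [[30], [32], [34], [36]] = true := by decide +kernel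
theorem zr55 : chk (pcsR k4C_ps []) = true := by decide +kernel
theorem zr56 : chk (defRels zE54) = true := by decide +kernel
theorem zb57 : bnd (pcsB D k4C_ps []) (leB (app D zE54) [[124], [126], [128], [130]] (pcGens k4C_ps [])) = true := by decide +kernel
theorem zc58 : P.chainB ns D k4C_vs [[124], [126], [128], [130]] = true := by decide +kernel
theorem zf60 : CL.Fus.cmB D [[124], [126], [128], [130]] [[154], [156], [158], [160]] zL59 = true := by decide +kernel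
theorem zr61 : chk (CL.Fus.cmR zL59) = true := by decide +kernel
theorem zm63 : nrmB D [[124], [126], [128], [130]] [[154], [156], [158], [160]] zcj62 = true := by decide +kernel
theorem zr64 : chk (nrmR [[124], [126], [128], [130]] [[154], [156], [158], [160]] zcj62) = true := by decide +kernel
theorem zm65 : leB D [[154], [156], [158], [160]] [[124], [126], [128], [130]] = true := by decide +kernel
theorem zf68 : P.fixXB ns (diag [[154], [156], [158], [160]]) k6_F = true := by decide +kernel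
theorem zc69 : P.chainB ns D k6G_vs [[30], [32], [34], [36]] = true := by decide +kernel
theorem zs70 : ssB P.N ns D (mkS P.n k6G_vs k6_x) [[30], [32], [34], [36]] = true := by decide +kernel
theorem zs72 : k6_G.chk zt71 k6_s none = true := by decide +kernel
theorem zr73 : chk (comR [[162], [164], [166], [168]] (mapL Prod.snd (diag [[154], [156], [158], [160]]))) = true := by decide +kernel
theorem zm74 : leB D [[162], [164], [166], [168]] [[30], [32], [34], [36]] = true := by decide +kernel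
theorem zf76 : CL.Fus.cmB D [[84], [86], [88], [90], [92]] [[180]] zL75 = true := by decide +kernel
theorem zr77 : chk (CL.Fus.cmR zL75) = true := by decide +kernel
theorem zm79 : nrmB D [[84], [86], [88], [90], [92]] [[180]] zcj78 = true := by decide +kernel
theorem zr80 : chk (nrmR [[84], [86], [88], [90], [92]] [[180]] zcj78) = true := by decide +kernel
theorem zm81 : leB D [[180]] [[84], [86], [88], [90], [92]] = true := by decide +kernel
theorem zc82 : P.chainB ns D nTG_vs [[0], [2], [4]] = true := by decide +kernel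
theorem zs83 : ssB P.N ns D (mkS P.n nTG_vs nT_x) [[0], [2], [4]] = true := by decide +kernel
theorem zs85 : nT_G.chk zt84 nT_s none = true := by decide +kernel
theorem zm86 : leB D [[30], [32], [34], [36]] [[0], [2], [4]] = true := by decide +kernel
theorem zk87 : allL (keepB P.n P.N) ns0 = true := by decide +kernel
theorem ze88 : extB ns0 ns 3 ws [] = true := by decide +kernel
theorem zn89 : P.netsB ns (mkDefs ws 3) = true := by decide +kernel

variable {G X : Type*} [Group G] [MulAction G X] {e : ℕ → X} {gs : List G}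

theorem keep0 : allL (keepB P.n P.N) ns0 = true := zk87

theorem len {k} (c : Ctx P e gs ns0 [] k) : gs.length = 3 := c.len ze88

theorem ctx0 {k} (c : Ctx P e gs ns0 [] k) : Ctx P e (ext gs ws) ns D chk0 :=
  c.ext rfl ze88 zn89

theorem ctx {k} (c : Ctx P e gs ns0 [] k) {H : Subgroup G} (hF : Faithful e P.n H) (hH : ∀ g ∈ gs, g ∈ H) :
    Ctx P e (ext gs ws) ns D chk :=
  (ctx0 c).withB hF (mem_of_mem_ext hH _)

theorem G_c : P.chainB ns D G_vs [[0], [2], [4]] = true :=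
  zc0

theorem G_o : prodL G_vs 1 = 244823040 := by decide +kernel

theorem G_lb (c : Ctx P e gs ns D chk) :
    LB (subW gs [[0], [2], [4]]) 244823040 :=
  c.lb G_c G_o

theorem T_pr (c : Ctx P e gs ns D chk) :
    Rels gs (pcsR T_ps []) :=
  (c.rels _ zr1)

theorem T_pe (c : Ctx P e gs ns D chk) :
    Rels gs (defRels []) :=
  (Rels.nil _)

theorem T_pb : bnd (pcsB D T_ps []) (leB (app D []) [[30], [32], [34], [36]] (pcGens T_ps [])) = true := zb2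

theorem T_ub (c : Ctx P e gs ns D chk) :
    UB (subW gs [[30], [32], [34], [36]]) 1024 :=
  c.pcs (UB.nil gs) (T_pe c) (T_pr c) T_pb (by decide +kernel)

theorem T_c : P.chainB ns D T_vs [[30], [32], [34], [36]] = true :=
  zc3

theorem T_o : prodL T_vs 1 = 1024 := by decide +kernel

theorem T_lb (c : Ctx P e gs ns D chk) :
    LB (subW gs [[30], [32], [34], [36]]) 1024 :=
  c.lb T_c T_o

theorem le (c : Ctx P e gs ns D chk) :
    (subW gs [[30], [32], [34], [36]]) ≤ (subW gs [[0], [2], [4]]) :=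
  (c.le zm4)

theorem scczG_c : P.chainB ns D scczG_vs [[30], [32], [34], [36]] = true :=
  zc8

theorem scczG_o : prodL scczG_vs 1 = 1024 := by decide +kernel

theorem sccz (c : Ctx P e gs ns D chk) :
    (subW gs [[30], [32], [34], [36]]) ⊓ Subgroup.centralizer (subW gs [[30], [32], [34], [36]] : Set G) = (subW gs [[58]]) :=
  c.cent (lx := [[30], [32], [34], [36]]) (Rels.nil _) (c.sOk (c.exact scczG_c scczG_o (T_ub c)) zs9) (fun _ h => by cases h)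
    (c.fixX zf7) (c.rels _ zr12) zm13 zs11

theorem scz2 (c : Ctx P e gs ns D chk) :
    wordG gs [58, 58] = wordG gs [] :=
  c.eq zr15

theorem sc (c : Ctx P e gs ns D chk) :
    CL.Fus.SCFull (subW gs [[0], [2], [4]]) (subW gs [[30], [32], [34], [36]]) :=
  CL.Fus.scFull_of_cert (k := 10) (st := zst14) c.defs ((T_ub c).card_eq (T_lb c)) (le c)
    (sccz c) (scz2 c) (c.rels _ zr17) zf16

theorem T_chr (c : Ctx P e gs ns D chk) :
    CL.Fus.Chr (subW gs [[30], [32], [34], [36]]) (subW gs [[30], [32], [34], [36]]) :=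
  CL.Fus.Chr.self _

theorem k1G_c : P.chainB ns D k1G_vs [[30], [32], [34], [36]] = true :=
  zc21

theorem k1G_o : prodL k1G_vs 1 = 1024 := by decide +kernel

theorem k1 (c : Ctx P e gs ns D chk) :
    (subW gs [[30], [32], [34], [36]]) ⊓ Subgroup.centralizer (subW gs [[30], [32], [34], [36]] : Set G) = (subW gs [[82]]) :=
  c.cent (lx := [[30], [32], [34], [36]]) (Rels.nil _) (c.sOk (c.exact k1G_c k1G_o (T_ub c)) zs22) (fun _ h => by cases h)
    (c.fixX zf20) (c.rels _ zr25) zm26 zs24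

theorem k1C_chr (c : Ctx P e gs ns D chk) :
    CL.Fus.Chr (subW gs [[30], [32], [34], [36]]) (subW gs [[82]]) :=
  k1 c ▸ (T_chr c).cent (T_chr c)

theorem k2 (c : Ctx P e gs ns D chk) :
    ⁅(subW gs [[30], [32], [34], [36]]), (subW gs [[30], [32], [34], [36]])⁆ = (subW gs [[84], [86], [88], [90], [92]]) :=
  have hfin : Finite (subW gs [[84], [86], [88], [90], [92]]) := (UB.mono (T_ub c) (c.le zm33)).1
  CL.Fus.comm_eq_of_cert (L := zL27) c.defs (c.le_normalizer (cj := zcj30) hfin (c.rels _ zr32) zm31) (c.rels _ zr29) zf28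

theorem k2C_chr (c : Ctx P e gs ns D chk) :
    CL.Fus.Chr (subW gs [[30], [32], [34], [36]]) (subW gs [[84], [86], [88], [90], [92]]) :=
  k2 c ▸ (T_chr c).comm (T_chr c)

theorem k2C_pr (c : Ctx P e gs ns D chk) :
    Rels gs (pcsR k2C_ps []) :=
  (c.rels _ zr35)

theorem k2C_pe (c : Ctx P e gs ns D chk) :
    Rels gs (defRels zE34) :=
  (c.rels _ zr36)

theorem k2C_pb : bnd (pcsB D k2C_ps []) (leB (app D zE34) [[84], [86], [88], [90], [92]] (pcGens k2C_ps [])) = true := zb37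

theorem k2C_ub (c : Ctx P e gs ns D chk) :
    UB (subW gs [[84], [86], [88], [90], [92]]) 64 :=
  c.pcs (UB.nil gs) (k2C_pe c) (k2C_pr c) k2C_pb (by decide +kernel)

theorem k2C_c : P.chainB ns D k2C_vs [[84], [86], [88], [90], [92]] = true :=
  zc38

theorem k2C_o : prodL k2C_vs 1 = 64 := by decide +kernel

theorem k2C_lb (c : Ctx P e gs ns D chk) :
    LB (subW gs [[84], [86], [88], [90], [92]]) 64 :=
  c.lb k2C_c k2C_o

theorem k3G_c : P.chainB ns D k3G_vs [[84], [86], [88], [90], [92]] = true :=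
  zc40

theorem k3G_o : prodL k3G_vs 1 = 64 := by decide +kernel

theorem k3 (c : Ctx P e gs ns D chk) :
    (subW gs [[84], [86], [88], [90], [92]]) ⊓ Subgroup.centralizer (subW gs [[84], [86], [88], [90], [92]] : Set G) = (subW gs [[106], [94], [108], [110]]) :=
  c.cent (lx := [[84], [86], [88], [90], [92]]) (Rels.nil _) (c.sOk (c.exact k3G_c k3G_o (k2C_ub c)) zs41) (fun _ h => by cases h)
    (c.fixX zf39) (c.rels _ zr44) zm45 zs43

theorem k3C_chr (c : Ctx P e gs ns D chk) :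
    CL.Fus.Chr (subW gs [[30], [32], [34], [36]]) (subW gs [[106], [94], [108], [110]]) :=
  k3 c ▸ (k2C_chr c).cent (k2C_chr c)

theorem k4G_c : P.chainB ns D k4G_vs [[30], [32], [34], [36]] = true :=
  zc48

theorem k4G_o : prodL k4G_vs 1 = 1024 := by decide +kernel

theorem k4 (c : Ctx P e gs ns D chk) :
    (subW gs [[30], [32], [34], [36]]) ⊓ Subgroup.centralizer (subW gs [[106], [94], [108], [110]] : Set G) = (subW gs [[124], [126], [128], [130]]) :=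
  c.cent (lx := [[106], [94], [108], [110]]) (Rels.nil _) (c.sOk (c.exact k4G_c k4G_o (T_ub c)) zs49) (fun _ h => by cases h)
    (c.fixX zf47) (c.rels _ zr52) zm53 zs51

theorem k4C_chr (c : Ctx P e gs ns D chk) :
    CL.Fus.Chr (subW gs [[30], [32], [34], [36]]) (subW gs [[124], [126], [128], [130]]) :=
  k4 c ▸ (T_chr c).cent (k3C_chr c)

theorem k4C_pr (c : Ctx P e gs ns D chk) :
    Rels gs (pcsR k4C_ps []) :=
  (c.rels _ zr55)

theorem k4C_pe (c : Ctx P e gs ns D chk) :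
    Rels gs (defRels zE54) :=
  (c.rels _ zr56)

theorem k4C_pb : bnd (pcsB D k4C_ps []) (leB (app D zE54) [[124], [126], [128], [130]] (pcGens k4C_ps [])) = true := zb57

theorem k4C_ub (c : Ctx P e gs ns D chk) :
    UB (subW gs [[124], [126], [128], [130]]) 256 :=
  c.pcs (UB.nil gs) (k4C_pe c) (k4C_pr c) k4C_pb (by decide +kernel)

theorem k4C_c : P.chainB ns D k4C_vs [[124], [126], [128], [130]] = true :=
  zc58

theorem k4C_o : prodL k4C_vs 1 = 256 := by decide +kernel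

theorem k4C_lb (c : Ctx P e gs ns D chk) :
    LB (subW gs [[124], [126], [128], [130]]) 256 :=
  c.lb k4C_c k4C_o

theorem k5 (c : Ctx P e gs ns D chk) :
    ⁅(subW gs [[124], [126], [128], [130]]), (subW gs [[124], [126], [128], [130]])⁆ = (subW gs [[154], [156], [158], [160]]) :=
  have hfin : Finite (subW gs [[154], [156], [158], [160]]) := (UB.mono (k4C_ub c) (c.le zm65)).1
  CL.Fus.comm_eq_of_cert (L := zL59) c.defs (c.le_normalizer (cj := zcj62) hfin (c.rels _ zr64) zm63) (c.rels _ zr61) zf60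

theorem k5C_chr (c : Ctx P e gs ns D chk) :
    CL.Fus.Chr (subW gs [[30], [32], [34], [36]]) (subW gs [[154], [156], [158], [160]]) :=
  k5 c ▸ (k4C_chr c).comm (k4C_chr c)

theorem k6G_c : P.chainB ns D k6G_vs [[30], [32], [34], [36]] = true :=
  zc69

theorem k6G_o : prodL k6G_vs 1 = 1024 := by decide +kernel

theorem k6 (c : Ctx P e gs ns D chk) :
    (subW gs [[30], [32], [34], [36]]) ⊓ Subgroup.centralizer (subW gs [[154], [156], [158], [160]] : Set G) = (subW gs [[162], [164], [166], [168]]) :=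
  c.cent (lx := [[154], [156], [158], [160]]) (Rels.nil _) (c.sOk (c.exact k6G_c k6G_o (T_ub c)) zs70) (fun _ h => by cases h)
    (c.fixX zf68) (c.rels _ zr73) zm74 zs72

theorem k6C_chr (c : Ctx P e gs ns D chk) :
    CL.Fus.Chr (subW gs [[30], [32], [34], [36]]) (subW gs [[162], [164], [166], [168]]) :=
  k6 c ▸ (T_chr c).cent (k5C_chr c)

theorem k7 (c : Ctx P e gs ns D chk) :
    ⁅(subW gs [[84], [86], [88], [90], [92]]), (subW gs [[84], [86], [88], [90], [92]])⁆ = (subW gs [[180]]) :=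
  have hfin : Finite (subW gs [[180]]) := (UB.mono (k2C_ub c) (c.le zm81)).1
  CL.Fus.comm_eq_of_cert (L := zL75) c.defs (c.le_normalizer (cj := zcj78) hfin (c.rels _ zr80) zm79) (c.rels _ zr77) zf76

theorem k7C_chr (c : Ctx P e gs ns D chk) :
    CL.Fus.Chr (subW gs [[30], [32], [34], [36]]) (subW gs [[180]]) :=
  k7 c ▸ (k2C_chr c).comm (k2C_chr c)

theorem nTG_c : P.chainB ns D nTG_vs [[0], [2], [4]] = true :=
  zc82

theorem nTG_o : prodL nTG_vs 1 = 244823040 := by decide +kernel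

theorem nT (c : Ctx P e gs ns D chk) (hU : UB (subW gs [[0], [2], [4]]) 244823040) :
    (subW gs [[0], [2], [4]]) ⊓ Subgroup.normalizer ((subW gs [[30], [32], [34], [36]]) : Set G) = (subW gs [[30], [32], [34], [36]]) :=
  CL.Fus.selfNorm_of_search c (As := [[[30], [32], [34], [36]], [[82]], [[84], [86], [88], [90], [92]], [[106], [94], [108], [110]], [[124], [126], [128], [130]], [[154], [156], [158], [160]], [[162], [164], [166], [168]], [[180]]]) (Rels.nil _) (c.sOk (c.exact nTG_c nTG_o hU) zs83)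
    (List.forall_mem_cons.2 ⟨T_chr c, List.forall_mem_cons.2 ⟨k1C_chr c, List.forall_mem_cons.2 ⟨k2C_chr c, List.forall_mem_cons.2 ⟨k3C_chr c, List.forall_mem_cons.2 ⟨k4C_chr c, List.forall_mem_cons.2 ⟨k5C_chr c, List.forall_mem_cons.2 ⟨k6C_chr c, List.forall_mem_cons.2 ⟨k7C_chr c, fun _ h => by cases h⟩⟩⟩⟩⟩⟩⟩⟩) zm86 zs85

noncomputable def Ps : List ℕ := [956302485175575353788796878166559809, 1795248432537898728475572672376535, 974380510768821363662145534143076928]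
theorem base : CL.Fus.mgsB P CL.Pc.t24 Ps ns0 = true := by decide +kernel
theorem c1 : Ctx P CL.Spor.gPt (ext (CL.Fus.mgs Ps) ws) ns D chk :=
  ctx (CL.Fus.mgs_ctx hP rfl (CL.Fus.mgs_spec hP rfl CL.Pc.t24_ok base).1) CL.Fus.gPt_faithful fun _ _ => trivial
theorem G_le : subW (ext (CL.Fus.mgs Ps) ws) [[0], [2], [4]] ≤ Cfsg.M24 :=
  subW_le.2 fun w _ => wordG_mem (mem_of_mem_ext (CL.Fus.mgs_spec hP rfl CL.Pc.t24_ok base).2 _) w
theorem simple (S : Sylow 2 Cfsg.M24) : (Cfsg.groupFusionSystem (S : Subgroup Cfsg.M24)).IsSimple 2 := by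
  have hU := UB.of_card CL.Spor.card_M24 (by decide)
  have e := hU.eq_of_lb (G_lb c1) G_le
  have := hU.1
  have hc := (T_ub c1).card_eq (T_lb c1)
  refine CL.Fus.isSimple_of_selfNorm (CL.Fus.sylIn_two_of_card ((le c1).trans G_le) (a := 10) (m := 239085) hc CL.Spor.card_M24 rfl)
    (fun h => by rw [h, Subgroup.card_bot] at hc; cases hc) ((sc c1).mono G_le) ?_ S
  have := nT c1 (hU.mono G_le)
  rwa [e] at this


end CL.FusC.M24
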