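/-
`p`-stability of fusion systems is a local property.
-/
import Cfsg.Agent.Fus.Stable
import Cfsg.Agent.Fus.TCentric

set_option autoImplicit false

namespace CL.Fus

open Cfsg Cfsg.FusionSystem
open scoped commutatorElement

variable {Ω G : Type*} [Group Ω] [Group G] {S T P Q R : Subgroup Ω} {F : FusionSystem S} {p : ℕ}

/-- `p`-stability at one subgroup. -/
def PStabAt (F : FusionSystem S) (p : ℕ) (Q : Subgroup Ω) : Prop :=
  ∀ a b : MulAut Q, a ∈ F.autGroup Q → b ∈ F.autGroup Q → QuadAut a → QuadAut b →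
    IsPGroup p (Subgroup.closure ({a, b} : Set (MulAut Q)))

theorem PStabAt.of_isConj (h : PStabAt F p R) (hc : F.IsConj Q R) : PStabAt F p Q := fun a b ha hb qa qb => by
  obtain ⟨f, hf, e⟩ := isConj_iff.1 hc
  have h2 := isPGroup_closure_of_map (MulAut.congr (hf.equiv e)).symm.toMonoidHom
    (h _ _ (congr_mem_autGroup hf e ha) (congr_mem_autGroup hf e hb) (qa.congr _) (qb.congr _))
  rwa [MulEquiv.coe_toMonoidHom, MulEquiv.symm_apply_apply, MulEquiv.symm_apply_apply] at h2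

theorem PStabAt.of_le {D : FusionSystem T} (h : PStabAt D p Q) (hle : F.autGroup Q ≤ D.autGroup Q) : PStabAt F p Q :=
  fun a b ha hb => h a b (hle ha) (hle hb)

theorem pStab_of_le (h : ∀ Q, Q ≤ S → PStabAt F p Q) : PStab F p := fun Q a b ha hb qa qb => by
  by_cases hQ : Q ≤ S
  · exact h Q hQ a b ha hb qa qb
  · rw [autGroup_eq_bot_of_not_le hQ] at ha hb
    exact IsPGroup.to_le (K := ⊥) IsPGroup.of_bot ((Subgroup.closure_le _).2 (by rintro s (rfl | rfl) <;> assumption))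

theorem QuadAut.pow_apply {A : Type*} [Group A] {χ : MulAut A} (h : QuadAut χ) (x : A) (n : ℕ) :
    (χ ^ n) x = x * (x⁻¹ * χ x) ^ n := by
  induction n with
  | zero => simp
  | succ n ih => rw [pow_succ', MulAut.mul_apply, ih, map_mul, map_pow, h x, pow_succ', ← mul_assoc, mul_inv_cancel_left]

theorem pStabAt_of_isCyclic [Fact p.Prime] [Finite Q] (hQ : IsPGroup p Q) (hc : IsCyclic Q) : PStabAt F p Q := by
  intro a b _ _ qa qb
  obtain ⟨k, hk⟩ := IsPGroup.iff_card.1 hQ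
  have key : ∀ c : MulAut Q, QuadAut c → c ^ p ^ k = 1 := fun c hc => MulEquiv.ext fun x => by
    rw [hc.pow_apply, ← hk, pow_card_eq_one', mul_one]; rfl
  have hcomm : ∀ c d : MulAut Q, Commute c d := fun c d => MulEquiv.ext fun x => by
    obtain ⟨g, hg⟩ := hc.exists_generator
    obtain ⟨n, rfl⟩ := hg x
    obtain ⟨i, hi⟩ := hg (c g)
    obtain ⟨j, hj⟩ := hg (d g)
    simp only [MulAut.mul_apply, map_zpow, ← hi, ← hj, ← zpow_mul]
    congr 1
    ring
  intro ⟨g, hg⟩
  refine ⟨k, Subtype.ext ?_⟩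
  change g ^ p ^ k = 1
  induction hg using Subgroup.closure_induction with
  | mem s hs => rcases hs with rfl | rfl; exacts [key _ qa, key _ qb]
  | one => exact one_pow _
  | mul x y _ _ hx hy => rw [(hcomm x y).mul_pow, hx, hy, mul_one]
  | inv x _ hx => rw [inv_pow, hx, inv_one]

variable [Finite S] [Fact p.Prime]

omit [Fact p.Prime] in
theorem pStab_of_at (h : ∀ Q, F.IsFullyNormalized Q → PStabAt F p Q) : PStab F p := pStab_of_le fun Q hQ => by
  obtain ⟨R, hc, hR⟩ := exists_isConj_fullyNormalized F hQ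
  exact (h R hR).of_isConj hc

/-- Every subgroup has a conjugate all of whose automorphisms extend to one fully normalized centric radical
subgroup. -/
theorem exists_centric_radical_ext (hS : IsPGroup p S) (hF : F.IsSaturated p) (hQ : Q ≤ S) :
    ∃ P R, F.IsConj Q P ∧ P ≤ R ∧ F.IsFullyNormalized R ∧ F.IsCentric R ∧ F.IsRadical p R ∧
      ∀ a, Mor F P a → img a P = P → ∃ g, Mor F R g ∧ img g R = R ∧ ∀ x ∈ P, g x = a x := by
  refine induction_card_down (fun X => ∀ Q, Q ≤ X → (∀ a, Mor F Q a → img a Q = Q →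
    ∃ g, Mor F X g ∧ img g X = X ∧ ∀ x ∈ Q, g x = a x) → ∃ P R, F.IsConj Q P ∧ P ≤ R ∧ F.IsFullyNormalized R ∧
      F.IsCentric R ∧ F.IsRadical p R ∧ ∀ a, Mor F P a → img a P = P →
        ∃ g, Mor F R g ∧ img g R = R ∧ ∀ x ∈ P, g x = a x) ?_ hQ Q le_rfl fun a ha e => ⟨a, ha, e, fun _ _ => rfl⟩
  intro X hX ih Q hQX hext
  obtain ⟨Y, hc, hY⟩ := exists_isConj_fullyNormalized F hX
  obtain ⟨h, hh, rfl⟩ := isConj_iff.1 hc
  have hext' : ∀ a, Mor F (img h Q) a → img a (img h Q) = img h Q →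
      ∃ g, Mor F (img h X) g ∧ img g (img h X) = img h X ∧ ∀ x ∈ img h Q, g x = a x := fun a ha e => by
    obtain ⟨k, hk, e1, e2, -⟩ := hh.exists_inv
    obtain ⟨a', ha', e3⟩ := hk.exists_conj (img_mono h hQX) ha fun x hx => img_mono h hQX (e.le (mem_img_of_mem a hx))
    have e4 : img k (img h Q) = Q := by
      rw [← (hh.homOn.mono hQX).img_comp, img_eq_self_of_fix fun x hx => e1 x (hQX hx)]
    rw [e4] at ha'
    obtain ⟨g, hg, e5, e6⟩ := hext a' ha' (ha'.img_eq_self le_rfl fun x hx => by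
      rw [← e1 x (hQX hx), e3 _ (mem_img_of_mem h hx)]
      exact e4.le (mem_img_of_mem k (e.le (mem_img_of_mem a (mem_img_of_mem h hx)))))
    obtain ⟨g', hg', e7⟩ := hh.exists_conj le_rfl hg fun x hx => e5.le (mem_img_of_mem g hx)
    refine ⟨g', hg', hg'.img_eq_self le_rfl fun y hy => ?_, fun y hy => ?_⟩
    · obtain ⟨x, hx, rfl⟩ := hh.mem_img.1 hy
      rw [e7 x hx]
      exact mem_img_of_mem h (e5.le (mem_img_of_mem g hx))
    · obtain ⟨x, hx, rfl⟩ := (hh.mono hQX).mem_img.1 hy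
      rw [e7 x (hQX hx), e6 x hx, ← e1 x (hQX hx), e3 _ hy, e1 x (hQX hx),
        e2 _ (img_mono h hQX (e.le (mem_img_of_mem a hy)))]
  set Y := img h X
  have hO : F.autGroup Y ≤ _ := Grp.le_normalizer_pCoreOf p (F.autGroup Y)
  have hYM := le_normK_of_Inn_le hY.1 (Inn_le_pCoreOf (F := F) hS hY.1)
  have hOS := SylIn.pCoreOf_le_sylow (sylIn_of_fullyNormalized hS hF hY)
  by_cases hM : normK S Y (pCoreOf p (F.autGroup Y)) ≤ Y
  · refine ⟨_, Y, hh.isConj' hQX, img_mono h hQX, hY, centric_of_fullyCentralized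
      (fullyCentralized_of_fullyNormalized hS hF hY) (centralizerIn_le_normK.trans hM),
      isRadical_iff_pCoreOf.2 ⟨hY.1, le_antisymm (fun α hα => ?_) (Inn_le_pCoreOf hS hY.1)⟩, hext'⟩
    obtain ⟨a, ha, e⟩ := mem_autInducedBy.1 (hOS hα)
    exact mem_Inn_iff.2 ⟨a, hM ⟨ha, α, hα, fun x hx => (e x hx).symm⟩, e⟩
  obtain ⟨P, R, h1, h2⟩ := ih _ normK_le_S (hh.card_img ▸ card_lt_of_lt (lt_of_le_not_ge hYM hM)) (img h Q)
    ((img_mono h hQX).trans hYM) fun a ha e => by
      obtain ⟨g, hg, e1, e2⟩ := hext' a ha e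
      obtain ⟨γ, hγ, e3⟩ := hg.exists_aut e1
      obtain ⟨g', hg', e4⟩ := hg.extend' (receptive_of_fullyNormalized hS hF hY) e1
        (R := normK S Y (pCoreOf p (F.autGroup Y))) fun s hs => by
          obtain ⟨hsS, α, hα, e5⟩ := hs
          obtain ⟨b, hb, e6⟩ := mem_autInducedBy.1 (hOS ((Subgroup.mem_normalizer_iff.1 (hO hγ) α).1 hα))
          refine ⟨hsS, normK_le_normalizer ⟨hsS, α, hα, e5⟩, b, hb, fun x hx => ?_⟩
          rw [e5 x hx, ← e3 x hx, ← e6 _ (autFun_mem γ hx), autFun_mul _ _ (autFun_mem γ hx), autFun_inv_apply γ hx,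
            autFun_mul _ _ hx, e3 _ (autFun_mem α hx)]
      rw [sup_eq_right.2 hYM] at hg'
      exact ⟨g', hg', hg'.img_normK_of_normal hO hYM ((img_congr e4).trans e1),
        fun x hx => (e4 x (img_mono h hQX hx)).trans (e2 x hx)⟩
  exact ⟨P, R, isConj_trans (hh.isConj' hQX) h1, h2⟩

omit [Finite S] [Fact p.Prime] in
theorem IsNormalizerSystem.autGroup_le {N : FusionSystem (normalizerIn S R)} (hN : F.IsNormalizerSystem R N)
    (hPR : P ≤ R) (hR : R ≤ S)
    (h : ∀ a, Mor F P a → img a P = P → ∃ g, Mor F R g ∧ img g R = R ∧ ∀ x ∈ P, g x = a x) :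
    F.autGroup P ≤ N.autGroup P := fun α hα => by
  obtain ⟨g, hg, e1, e2⟩ := h _ (mor_autFun (hPR.trans hR) hα) (img_autFun α)
  have h1 : P ≤ normalizerIn S R := hPR.trans (le_normalizerIn hR)
  exact (mem_autGroup_iff h1).2 ((IsNormalizerSystem.mor_iff hN).2 ⟨h1, g, by rwa [sup_eq_right.2 hPR], e2, e1⟩)

theorem pStab_of_centric_radical (hS : IsPGroup p S) (hF : F.IsSaturated p)
    (h : ∀ R (hR : F.IsFullyNormalized R), F.IsCentric R → F.IsRadical p R → PStab (normalizerSystem F R hR.1) p) :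
    PStab F p := pStab_of_le fun Q hQ => by
  obtain ⟨P, R, h1, h2, h3, h4, h5, h6⟩ := exists_centric_radical_ext hS hF hQ
  exact PStabAt.of_isConj (PStabAt.of_le (h R h3 h4 h5 P)
    (IsNormalizerSystem.autGroup_le (isNormalizerSystem_normalizerSystem F h3.1) h2 h3.1 h6)) h1

theorem pStab_of_not_isCyclic (hS : IsPGroup p S)
    (h : ∀ R (hR : F.IsFullyNormalized R), ¬ IsCyclic R → PStab (normalizerSystem F R hR.1) p) : PStab F p :=
  pStab_of_at fun Q hQ => by
    have := finite_of_le hQ.1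
    by_cases hc : IsCyclic Q
    · exact pStabAt_of_isCyclic (hS.to_le hQ.1) hc
    · exact PStabAt.of_le (h Q hQ hc Q) (IsNormalizerSystem.autGroup_le (isNormalizerSystem_normalizerSystem F hQ.1)
        le_rfl hQ.1 fun a ha e => ⟨a, ha, e, fun _ _ => rfl⟩)

theorem pStab_iff : PStab F p ↔ ∀ Q, F.IsFullyNormalized Q → ∀ χ ∈ F.autGroup Q,
    (∀ a : Q, χ a⁻¹ * a * χ a⁻¹ * χ (χ a) = 1) → χ ∈ (pCore p (F.autGroup Q)).map (F.autGroup Q).subtype :=
  ⟨fun h _ _ _ hχ hq => h.mem_pCore hχ (quadAut_iff.2 hq), pStab_of_fullyNormalized⟩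

omit [Finite S] in
theorem pStab_group_iff [Finite G] (P : Sylow p G) :
    PStab (groupFusionSystem (P : Subgroup G)) p ↔ IsNormalizerPStable p G := by
  refine ⟨fun h Q hQ g hg hq => ?_, fun h => pStab_of_le fun Q hQ a b ha hb qa qb => ?_⟩
  · by_contra hn
    obtain ⟨k, hk, y, hy, h'⟩ := Loc.exists_conj_not_pElement_mod' hn
    obtain ⟨T, hT⟩ := hQ.exists_le_sylow
    obtain ⟨u, rfl⟩ := MulAction.exists_smul_eq G P T
    let ι : (P : Subgroup G) →* G := (MulAut.conj u).toMonoidHom.comp (P : Subgroup G).subtype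
    have hι : Function.Injective ι := (MulAut.conj u).injective.comp Subtype.val_injective
    have hQι : Q ≤ ι.range := fun x hx => by
      obtain ⟨y, hy, rfl⟩ := hT hx
      exact ⟨⟨y, hy⟩, rfl⟩
    have hr : (groupFusionSystem (P : Subgroup G)).IsRealizedBy ι :=
      IsRealizedBy.comp_equiv (isRealizedBy_subtype _) (MulAut.conj u)
    have key : ∀ a ∈ Subgroup.normalizer (Q : Set G), ∃ f, Mor (groupFusionSystem (P : Subgroup G))
        (preimageAlong ι Q) f ∧ ∀ x ∈ preimageAlong ι Q, f x ∈ (P : Subgroup G) ∧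
          ext ι (f x) = a * ext ι x * a⁻¹ := fun a ha => by
      obtain ⟨f, hf, e⟩ := IsRealizedBy.exists_mor_conj hr a (preimageAlong_le ι Q) fun x hx =>
        hQι (conj_mem_of_mem_normalizer ha (mem_preimageAlong.1 hx).2)
      exact ⟨f, hf, fun x hx => ⟨hf.mem hx, e x hx⟩⟩
    have hq' := Loc.quad_iff.1 hq
    have hg' := Subgroup.mul_mem _ (Subgroup.mul_mem _ hk hg) (Subgroup.inv_mem _ hk)
    exact h.not_quadPair hι hQι (key g hg) (key _ hg') ⟨hg, hg',
      fun v hv => commutatorElement_eq_one_iff_commute.2 (hq' v hv),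
      fun v hv => commutatorElement_eq_one_iff_commute.2 (Loc.quad_conj hk hq' v hv), y, hy, h'⟩
  · let τ := QuotientGroup.lift _ Q.normalizerMonoidHom (Subgroup.normalizerMonoidHom_ker Q).ge
    have key : ∀ a ∈ (groupFusionSystem (P : Subgroup G)).autGroup Q, QuadAut a → a ∈ (pCore p _).map τ := by
      intro a ha qa
      obtain ⟨-, -, g, hg⟩ := mor_group_iff.1 (mor_autFun hQ ha)
      have hn := mem_normalizer_of_autFun_eq hg
      refine ⟨_, h Q (P.isPGroup'.to_le hQ) g hn (Loc.quad_iff.2 fun v hv => ?_), MulEquiv.ext fun x => Subtype.ext ?_⟩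
      · have h1 := congrArg Subtype.val (qa ⟨v⁻¹, Q.inv_mem hv⟩)
        rw [← autFun_coe, hg _ (Subtype.prop _), Subgroup.coe_mul, ← autFun_coe, hg _ (Subtype.prop _)] at h1
        simp only [commutatorElement_def, Commute, SemiconjBy]
        simpa [mul_assoc] using (mul_inv_eq_iff_eq_mul.1 h1).symm
      · rw [← autFun_coe a, hg _ x.2]; rfl
    exact IsPGroup.to_le ((Grp.pCore_isPGroup _ _).map τ) ((Subgroup.closure_le _).2 (by
      rintro s (rfl | rfl); exacts [key _ ha qa, key _ hb qb]))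

end CL.Fus
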