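/-
Supersoluble fusion systems: chains of strongly closed subgroups with cyclic steps.
-/
import Cfsg.Agent.Fus.SmallEss3
import Cfsg.Agent.Fus.AutMul
import Cfsg.Agent.Fus.GroupFS
import Cfsg.Agent.Grp.Supersolv2
import Cfsg.Agent.Inv.AutTwo

set_option autoImplicit false

namespace CL.Fus

open Cfsg Cfsg.FusionSystem Subgroup
open scoped commutatorElement

section Grp
variable {X : Type*} [Group X] {p : ℕ}

/-- Every `p'`-group of automorphisms of `X` is abelian of exponent dividing `p - 1`. -/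
def DiagAut (p : ℕ) (X : Type*) [Group X] : Prop := ∀ H : Subgroup (MulAut X), (∀ h ∈ H, (orderOf h).Coprime p) →
  (∀ a ∈ H, ∀ b ∈ H, a * b = b * a) ∧ ∀ h ∈ H, h ^ (p - 1) = 1

theorem DiagAut.of_injective {Y : Type*} [Group Y] (h : DiagAut p X) (φ : MulAut Y →* MulAut X)
    (hφ : Function.Injective φ) : DiagAut p Y := fun H hH => by
  obtain ⟨h1, h2⟩ := h (H.map φ) (by rintro _ ⟨a, ha, rfl⟩; rw [orderOf_injective φ hφ]; exact hH a ha)
  exact ⟨fun a ha b hb => hφ (by rw [map_mul, map_mul, h1 _ (mem_map_of_mem φ ha) _ (mem_map_of_mem φ hb)]),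
    fun a ha => hφ (by rw [map_pow, map_one, h2 _ (mem_map_of_mem φ ha)])⟩

theorem DiagAut.of_equiv {Y : Type*} [Group Y] (h : DiagAut p X) (e : X ≃* Y) : DiagAut p Y :=
  h.of_injective (MulAut.congr e.symm).toMonoidHom (MulAut.congr e.symm).injective

theorem DiagAut.of_prod {Y : Type*} [Group Y] (h : DiagAut p (X × Y)) : DiagAut p X :=
  h.of_injective
    { toFun := fun a => MulEquiv.prodCongr a (.refl Y), map_one' := rfl, map_mul' := fun _ _ => rfl }
    fun _ _ e => MulEquiv.ext fun x => congrArg (fun c : MulAut (X × Y) => (c (x, 1)).1) e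

variable [hp : Fact p.Prime]

theorem diagAut_iff [Finite X] : DiagAut p X ↔
    ∀ H : Subgroup (MulAut X), (Nat.card H).Coprime p → IsMulCommutative H ∧ ∀ h ∈ H, h ^ (p - 1) = 1 := by
  refine forall_congr' fun H => imp_congr ⟨fun h => ?_, fun h a ha => ?_⟩ (and_congr_left' ⟨fun h => ?_, fun h => ?_⟩)
  · refine (hp.out.coprime_iff_not_dvd.2 fun k => ?_).symm
    obtain ⟨a, ha⟩ := exists_prime_orderOf_dvd_card' p k
    have := h a a.2
    rw [Subgroup.orderOf_coe, ha, Nat.coprime_self] at this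
    exact hp.out.ne_one this
  · exact h.coprime_dvd_left (orderOf_dvd_natCard H ha)
  · exact ⟨⟨fun a b => Subtype.ext (h a a.2 b b.2)⟩⟩
  · exact fun a ha b hb => congrArg Subtype.val (h.is_comm.comm ⟨a, ha⟩ ⟨b, hb⟩)

theorem DiagAut.isPGroup [Finite X] (h : DiagAut 2 X) : IsPGroup 2 (MulAut X) :=
  isPGroup_of_forall_coprime fun a ha => pow_one a ▸ (h (zpowers a) fun _ hb =>
    ha.coprime_dvd_left (orderOf_dvd_of_mem_zpowers hb)).2 a (mem_zpowers a)

theorem step_triv {T : Subgroup X} [T.Normal] {x : X} (hx : x ^ p ∈ T) {H : Subgroup (MulAut X)}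
    (hT : ∀ a ∈ H, ∀ t ∈ T, a t ∈ T) (hU : ∀ a ∈ H, a x ∈ T ⊔ zpowers x) :
    (∀ a ∈ H, ∀ b ∈ H, ∀ u ∈ T ⊔ zpowers x, u⁻¹ * ⁅a, b⁆ u ∈ T) ∧
      ∀ a ∈ H, ∀ u ∈ T ⊔ zpowers x, u⁻¹ * (a ^ (p - 1)) u ∈ T := by
  let π := QuotientGroup.mk' T
  have ex : ∀ a ∈ H, ∃ r : ℤ, π (a x) = π x ^ r := fun a ha => by
    obtain ⟨r, hr⟩ := (mem_sup_zpowers_iff (normalizer_eq_top T ▸ mem_top x)).1 (hU a ha)
    exact ⟨r, (QuotientGroup.eq.2 hr).symm⟩
  have mul : ∀ a ∈ H, ∀ (b : MulAut X) (r s : ℤ), π (a x) = π x ^ r → π (b x) = π x ^ s →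
      π ((a * b) x) = π x ^ (r * s) := fun a ha b r s h1 h2 => by
    have h3 : π (a ((x ^ s)⁻¹ * b x)) = 1 := (QuotientGroup.eq_one_iff _).2 (hT a ha _ (QuotientGroup.eq.1 h2.symm))
    rw [MulAut.mul_apply, ← mul_inv_cancel_left (x ^ s) (b x), map_mul, map_mul, h3, map_zpow, map_zpow, h1, mul_one,
      zpow_mul]
  have red : ∀ a ∈ H, π (a x) = π x → ∀ u ∈ T ⊔ zpowers x, u⁻¹ * a u ∈ T := fun a ha h =>
    inv_mul_mem_of_sup (fun t ht => mul_mem (T.inv_mem ht) (hT a ha t ht))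
      (inv_mul_mem_of_zpowers (QuotientGroup.eq.1 h.symm))
  refine ⟨fun a ha b hb => red _ (mul_mem (mul_mem (mul_mem ha hb) (H.inv_mem ha)) (H.inv_mem hb)) ?_,
    fun a ha => red _ (pow_mem ha _) ?_⟩
  · obtain ⟨r, hr⟩ := ex a ha
    obtain ⟨s, hs⟩ := ex b hb
    obtain ⟨r', hr'⟩ := ex _ (H.inv_mem ha)
    obtain ⟨s', hs'⟩ := ex _ (H.inv_mem hb)
    have h1 := mul _ (mul_mem (mul_mem ha (H.inv_mem ha)) hb) _ _ _
      (mul _ (mul_mem ha (H.inv_mem ha)) _ _ _ (mul _ ha _ _ _ hr hr') hs) hs'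
    rw [mul_inv_cancel, one_mul, mul_inv_cancel, MulAut.one_apply] at h1
    rw [commutatorElement_def, mul _ (mul_mem (mul_mem ha hb) (H.inv_mem ha)) _ _ _
      (mul _ (mul_mem ha hb) _ _ _ (mul _ ha _ _ _ hr hs) hr') hs', mul_right_comm r, ← h1]
  · obtain ⟨r, hr⟩ := ex a ha
    have hp' : π x ^ p = 1 := (QuotientGroup.eq_one_iff _).2 hx
    have h1 : ∀ n : ℕ, π ((a ^ n) x) = π x ^ r ^ n := fun n => by
      induction n with
      | zero => simp
      | succ n ih => rw [pow_succ', pow_succ', mul a ha _ _ _ hr ih]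
    by_cases h2 : (p : ℤ) ∣ r
    · obtain ⟨c, rfl⟩ := h2
      rw [zpow_mul, zpow_natCast, hp', one_zpow] at hr
      have h3 := hT _ (H.inv_mem ha) _ ((QuotientGroup.eq_one_iff _).1 hr)
      rw [MulAut.inv_apply_self] at h3
      rw [h1, show π x = 1 from (QuotientGroup.eq_one_iff _).2 h3, one_zpow]
    · rw [h1, ← zpow_one (π x), ← zpow_mul, one_mul, zpow_eq_zpow_iff_modEq]
      exact (Int.ModEq.pow_card_sub_one_eq_one hp.out ((Nat.prime_iff_prime_int.1 hp.out).irreducible.coprime_iff_not_dvd.2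
        h2).symm).of_dvd (Int.natCast_dvd_natCast.2 (orderOf_dvd_of_pow_eq_one hp'))

theorem abelian_exp_of_chain [Finite X] (hX : IsPGroup p X) {H : Subgroup (MulAut X)}
    (hH : ∀ h ∈ H, (orderOf h).Coprime p) (n : ℕ) (C : ℕ → Subgroup X) (hn : ∀ i ≤ n, (C i).Normal)
    (hinv : ∀ i ≤ n, ∀ a ∈ H, ∀ x ∈ C i, a x ∈ C i) (h0 : C 0 ≤ frattini X) (htop : C n = ⊤)
    (hstep : ∀ i < n, ∃ x, x ^ p ∈ C i ∧ C (i + 1) = C i ⊔ zpowers x) :
    (∀ a ∈ H, ∀ b ∈ H, a * b = b * a) ∧ ∀ h ∈ H, h ^ (p - 1) = 1 := by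
  have key : ∀ i < n, (∀ a ∈ H, ∀ b ∈ H, ∀ u ∈ C (i + 1), u⁻¹ * ⁅a, b⁆ u ∈ C i) ∧
      ∀ a ∈ H, ∀ u ∈ C (i + 1), u⁻¹ * (a ^ (p - 1)) u ∈ C i := fun i hi => by
    obtain ⟨x, h1, h2⟩ := hstep i hi
    have := hn i hi.le
    exact h2 ▸ step_triv h1 (hinv i hi.le) fun a ha => h2 ▸ hinv _ hi a ha x (h2 ▸ mem_sup_right (mem_zpowers x))
  refine ⟨fun a ha b hb => commutatorElement_eq_one_iff_mul_comm.1 ?_, fun a ha => ?_⟩
  · have h := mul_mem (mul_mem (mul_mem ha hb) (H.inv_mem ha)) (H.inv_mem hb)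
    exact mulAut_eq_one_of_chain_frattini hX (hH _ h) n C (fun i hi => hinv i hi _ h) h0 (fun _ => htop ▸ mem_top _)
      fun i hi => (key i hi).1 a ha b hb
  · have h := pow_mem ha (p - 1)
    exact mulAut_eq_one_of_chain_frattini hX (hH _ h) n C (fun i hi => hinv i hi _ h) h0 (fun _ => htop ▸ mem_top _)
      fun i hi => (key i hi).2 a ha

theorem exists_invariant_step [Finite X] (hX : IsPGroup p X) {H : Subgroup (MulAut X)}
    (hab : ∀ a ∈ H, ∀ b ∈ H, a * b = b * a) (hexp : ∀ h ∈ H, h ^ (p - 1) = 1) (T : Subgroup X) [hn : T.Normal]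
    (hT : ∀ a ∈ H, ∀ t ∈ T, a t ∈ T) (hne : T ≠ ⊤) :
    ∃ x ∉ T, (T ⊔ zpowers x).Normal ∧ ∀ a ∈ H, ∀ u ∈ T ⊔ zpowers x, a u ∈ T ⊔ zpowers x := by
  let G := X ⋊[H.subtype] H
  have : Finite G := Finite.of_equiv _ SemidirectProduct.equivProd.symm
  let ι : X →* G := SemidirectProduct.inl
  have hι : Function.Injective ι := SemidirectProduct.inl_injective
  have hc : ∀ (a : H) (x : X), ι ((a : MulAut X) x) = .inr a * ι x * (.inr a)⁻¹ := fun a x => by
    rw [← map_inv]; exact SemidirectProduct.inl_aut (φ := H.subtype) a x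
  have : ι.range.Normal :=
    (SemidirectProduct.range_inl_eq_ker_rightHom (φ := H.subtype)).symm ▸ MonoidHom.normal_ker _
  have hG : IsSupersolvable G := by
    refine CL.Grp.isSupersolvable_of_ssRes_le_centralizer (P := ι.range) (H := SemidirectProduct.inr.range)
      (hX.of_surjective _ ι.rangeRestrict_surjective) ?_ ?_ (CL.Grp.ssRes_le_iff.2 ⟨?_, ?_⟩)
    · letI : CommGroup H := { (inferInstance : Group H) with mul_comm := fun a b => Subtype.ext (hab a a.2 b b.2) }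
      refine CL.Grp.IsSupersolvable.of_surjective (G := H) CL.Grp.isSupersolvable_of_isNilpotent
        ((QuotientGroup.mk' _).comp SemidirectProduct.inr) fun q => ?_
      obtain ⟨g, rfl⟩ := QuotientGroup.mk'_surjective _ q
      refine ⟨g.right, ?_⟩
      rw [← SemidirectProduct.inl_left_mul_inr_right g, map_mul, show QuotientGroup.mk' ι.range (.inl g.left) = 1 from
        (QuotientGroup.eq_one_iff _).2 ⟨_, rfl⟩, one_mul, SemidirectProduct.inl_left_mul_inr_right]
      rfl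
    · refine eq_top_iff.2 fun g _ => ?_
      rw [← SemidirectProduct.inl_left_mul_inr_right g]
      exact mul_mem (mem_sup_left ⟨_, rfl⟩) (mem_sup_right ⟨_, rfl⟩)
    · rintro _ ⟨a, rfl⟩ _ ⟨b, rfl⟩
      rw [← map_commutatorElement, commutatorElement_eq_one_iff_mul_comm.2 (Subtype.ext (hab a a.2 b b.2)), map_one]
      exact one_mem _
    · rintro _ ⟨a, rfl⟩
      rw [← map_pow, show a ^ (p - 1) = 1 from Subtype.ext (hexp a a.2), map_one]
      exact one_mem _
  have : (T.map ι).Normal := ⟨by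
    rintro _ ⟨t, ht, rfl⟩ g
    rw [← SemidirectProduct.inl_left_mul_inr_right g, mul_inv_rev, mul_assoc, mul_assoc, ← mul_assoc (ι t), ← mul_assoc
      (SemidirectProduct.inr g.right), ← mul_assoc (SemidirectProduct.inr g.right), ← hc, ← mul_assoc]
    exact ⟨_, hn.conj_mem _ (hT _ g.right.2 t ht) g.left, by rw [map_mul, map_mul, map_inv]⟩⟩
  have := (inferInstance : ι.range.Normal).map _ (QuotientGroup.mk'_surjective (T.map ι))
  obtain ⟨_, ⟨_, ⟨x, rfl⟩, rfl⟩, h1, h2⟩ := CL.Grp.IsSupersolvable.exists_zpowers_normal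
    (CL.Grp.IsSupersolvable.quotient hG (T.map ι)) (ι.range.map (QuotientGroup.mk' _)) fun k => hne (eq_top_iff.2 fun x _ =>
      (mem_map_iff_mem hι).1 (QuotientGroup.ker_mk' (T.map ι) ▸ (Subgroup.map_eq_bot_iff _).1 k ⟨x, rfl⟩))
  have h3 := h2.comap (QuotientGroup.mk' (T.map ι))
  rw [← MonoidHom.map_zpowers, comap_map_eq, QuotientGroup.ker_mk', ← MonoidHom.map_zpowers, ← Subgroup.map_sup,
    sup_comm] at h3
  refine ⟨x, fun k => h1 ((QuotientGroup.eq_one_iff _).2 (mem_map_of_mem ι k)),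
    comap_map_eq_self_of_injective hι (T ⊔ zpowers x) ▸ h3.comap ι, fun a ha u hu => (mem_map_iff_mem hι).1 ?_⟩
  rw [hc ⟨a, ha⟩]
  exact h3.conj_mem _ (mem_map_of_mem ι hu) _

/-- A product of cyclic `p`-groups of pairwise distinct orders. -/
theorem diagAut_pi {ι : Type*} [Finite ι] (e : ι → ℕ) (he : Function.Injective e) :
    DiagAut p (∀ i, Multiplicative (ZMod (p ^ e i))) := fun H hH => by
  classical
  have := Fintype.ofFinite ι
  have : ∀ i, NeZero (p ^ e i) := fun i => ⟨pow_ne_zero _ hp.out.ne_zero⟩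
  obtain ⟨n, hn⟩ : ∃ n, ∀ i, e i ≤ n := ⟨Finset.univ.sup e, fun i => Finset.le_sup (Finset.mem_univ i)⟩
  have hpow : ∀ i k, e i ≤ k → ∀ y : Multiplicative (ZMod (p ^ e i)), y ^ p ^ k = 1 := fun i k h y =>
    orderOf_dvd_iff_pow_eq_one.1 ((orderOf_dvd_natCard y).trans (by simpa using Nat.pow_dvd_pow p h))
  have hX : IsPGroup p (∀ i, Multiplicative (ZMod (p ^ e i))) := fun x => ⟨n, funext fun i => hpow i n (hn i) _⟩
  let C : ℕ → Subgroup (∀ i, Multiplicative (ZMod (p ^ e i))) := fun k => (powMonoidHom (p ^ k)).ker ⊔ frattini _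
  have key : ∀ k (x : ∀ i, Multiplicative (ZMod (p ^ e i))), (∀ i, e i = k + 1 → ∀ y, Pi.mulSingle i y ∈ zpowers x) →
      (powMonoidHom (p ^ (k + 1))).ker ≤ C k ⊔ zpowers x := fun k x hx y hy => by
    rw [← Finset.univ_prod_mulSingle y]
    refine prod_mem fun i _ => ?_
    rcases lt_trichotomy (e i) (k + 1) with h | h | h
    · refine mem_sup_left (mem_sup_left ?_)
      rw [MonoidHom.mem_ker, powMonoidHom_apply, ← Pi.mulSingle_pow, hpow i k (by omega), Pi.mulSingle_one]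
    · exact mem_sup_right (hx i h _)
    · obtain ⟨m, hm⟩ := ZMod.natCast_zmod_surjective (y i).toAdd
      have h1 : ((p ^ (k + 1) * m : ℕ) : ZMod (p ^ e i)) = 0 := by
        rw [Nat.cast_mul, hm, ← nsmul_eq_mul]; exact congrArg Multiplicative.toAdd (congrFun hy i)
      obtain ⟨c, rfl⟩ : p ∣ m := Nat.dvd_of_mul_dvd_mul_left (pow_pos hp.out.pos (k + 1))
        ((pow_succ p (k + 1) ▸ Nat.pow_dvd_pow p h).trans ((ZMod.natCast_eq_zero_iff _ _).1 h1))
      have h2 : y i = Multiplicative.ofAdd (c : ZMod (p ^ e i)) ^ p := by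
        rw [← ofAdd_nsmul, nsmul_eq_mul, ← Nat.cast_mul, hm, ofAdd_toAdd]
      rw [h2, Pi.mulSingle_pow]
      exact mem_sup_left (mem_sup_right (CL.Grp.pow_mem_frattini hX _))
  refine abelian_exp_of_chain hX hH n C (fun _ _ => inferInstance) (fun k _ a _ => ?_) (sup_le (fun x hx => ?_) le_rfl)
    (eq_top_iff.2 fun x _ => mem_sup_left (funext fun i => hpow i n (hn i) _)) fun k _ => ?_
  · refine map_le_iff_le_comap.1 (?_ : (C k).map a.toMonoidHom ≤ C k)
    rw [Subgroup.map_sup]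
    refine sup_le_sup ?_ (characteristic_iff_map_le.1 inferInstance a)
    rintro _ ⟨x, hx, rfl⟩
    exact (map_pow a x _).symm.trans ((congrArg a hx).trans (map_one a))
  · rw [show x = 1 by simpa using hx]; exact one_mem _
  · have h1 : C k ≤ C (k + 1) := sup_le_sup_right (fun x hx => by
      rw [MonoidHom.mem_ker, powMonoidHom_apply] at hx ⊢; rw [pow_succ, pow_mul, hx, one_pow]) _
    by_cases h : ∃ i, e i = k + 1
    · obtain ⟨i, hi⟩ := h
      refine ⟨Pi.mulSingle i (Multiplicative.ofAdd 1), mem_sup_right (CL.Grp.pow_mem_frattini hX _), le_antisymm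
        (sup_le (key k _ fun j hj y => ?_) (le_sup_right.trans le_sup_left)) (sup_le h1 (zpowers_le.2 (mem_sup_left ?_)))⟩
      · obtain rfl := he (hi.trans hj.symm)
        obtain ⟨m, hm⟩ := ZMod.natCast_zmod_surjective y.toAdd
        exact ⟨m, by
          rw [← ofAdd_toAdd y, ← hm]
          simp only [zpow_natCast, ← Pi.mulSingle_pow, ← ofAdd_nsmul, nsmul_eq_mul, mul_one]⟩
      · rw [MonoidHom.mem_ker, powMonoidHom_apply, ← Pi.mulSingle_pow, hpow i _ hi.le, Pi.mulSingle_one]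
    · exact ⟨1, by simp, le_antisymm (sup_le (key k 1 fun i hi => absurd ⟨i, hi⟩ h) (le_sup_right.trans le_sup_left))
        (sup_le h1 (by simp))⟩

theorem not_diagAut_prod_self {M : Type*} [CommGroup M] {a : M} (ha : a ≠ 1) (h2 : p ≠ 2 → a * a ≠ 1) :
    ¬ DiagAut p (M × M) := fun h => by
  by_cases hp2 : p = 2
  · subst hp2
    let t : MulAut (M × M) :=
      { toFun := fun x => (x.2⁻¹, x.1 * x.2⁻¹), invFun := fun x => (x.2 * x.1⁻¹, x.1⁻¹),
        left_inv := fun x => by simp, right_inv := fun x => by simp,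
        map_mul' := fun x y => by simp [mul_comm, mul_left_comm, mul_assoc] }
    have h3 : t ^ 3 = 1 := MulEquiv.ext fun x => by simp [pow_succ, t, mul_comm]
    have h4 := (h (zpowers t) fun b hb => (Nat.Coprime.coprime_dvd_left ((orderOf_dvd_of_mem_zpowers hb).trans
      (orderOf_dvd_of_pow_eq_one h3)) (by decide))).2 t (mem_zpowers t)
    have := congrArg (fun c : MulAut (M × M) => (c (a, 1)).1) h4
    exact ha (by simpa [t, eq_comm] using this)
  · let s : MulAut (M × M) := MulEquiv.prodComm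
    let r : MulAut (M × M) := s * MulEquiv.prodCongr (.refl M) (MulEquiv.inv M)
    have hr : ∀ x, r x = (x.2⁻¹, x.1) := fun _ => rfl
    have h3 : r ^ 4 = 1 := MulEquiv.ext fun x => by simp [pow_succ, hr]
    have h4 : s * s = 1 := rfl
    have h5 : s * r * s⁻¹ = r⁻¹ := eq_inv_of_mul_eq_one_left (MulEquiv.ext fun x => Prod.ext rfl (inv_inv _))
    have h6 : s ∈ normalizer (zpowers r : Set (MulAut (M × M))) := by
      have k : ∀ x ∈ zpowers r, s * x * s⁻¹ ∈ zpowers r := by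
        rintro _ ⟨i, rfl⟩
        rw [← conj_zpow, h5]
        exact zpow_mem (Subgroup.inv_mem _ (mem_zpowers r)) i
      refine mem_normalizer_iff.2 fun x => ⟨k x, fun hx => ?_⟩
      have := k _ hx
      rwa [← mul_assoc, ← mul_assoc, h4, one_mul, mul_assoc, ← mul_inv_rev, h4, inv_one, mul_one] at this
    have h7 := (h (zpowers r ⊔ zpowers s) fun b hb => Nat.Coprime.coprime_dvd_left (k := 2 ^ 2)
      (orderOf_dvd_of_pow_eq_one ?_) (((Nat.coprime_primes Nat.prime_two hp.out).2 (Ne.symm hp2)).pow_left 2)).1 r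
      (mem_sup_left (mem_zpowers r)) s (mem_sup_right (mem_zpowers s))
    · exact h2 hp2 (mul_eq_one_iff_eq_inv.2 (congrArg (fun c : MulAut (M × M) => (c (1, a)).2) h7))
    · rcases (CL.Inv.mem_sup_zpowers_iff h6 (h4 ▸ one_mem _) b).1 hb with ⟨i, rfl⟩ | ⟨i, hi⟩
      · rw [← zpow_natCast, ← zpow_mul, mul_comm, zpow_mul, zpow_natCast, show r ^ 2 ^ 2 = 1 from h3, one_zpow]
      · have k : b * b = 1 := by
          rw [← inv_mul_cancel_right b s, ← hi, mul_assoc, ← mul_assoc s, ← mul_inv_cancel_right (s * r ^ i * s) s,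
            mul_assoc (s * _) s s, h4, mul_one, ← conj_zpow, h5, inv_zpow, mul_inv_cancel]
        rw [sq, pow_mul, sq b, k, one_pow]

theorem not_diagAut_homocyclic {n : ℕ} (hn : 0 < n) :
    ¬ DiagAut p (Multiplicative (ZMod (p ^ n)) × Multiplicative (ZMod (p ^ n))) := by
  have h : ∀ m : ℕ, ¬ p ∣ m → Multiplicative.ofAdd (m : ZMod (p ^ n)) ≠ 1 := fun m hm k =>
    hm ((dvd_pow_self p hn.ne').trans ((ZMod.natCast_eq_zero_iff _ _).1 k))
  refine not_diagAut_prod_self (h 1 hp.out.not_dvd_one) fun h2 => ?_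
  rw [← ofAdd_add, ← Nat.cast_add]
  exact h 2 fun k => h2 ((Nat.prime_dvd_prime_iff_eq hp.out Nat.prime_two).1 k)

/-- A finite abelian `p`-group has pairwise distinct invariants or a homocyclic direct factor of rank two. -/
theorem diagAut_or_exists_prod [Finite X] (hX : IsPGroup p X) (hab : IsMulCommutative X) : DiagAut p X ∨
    ∃ (n : ℕ) (H : Type) (_ : CommGroup H), 0 < n ∧
      Nonempty (X ≃* (Multiplicative (ZMod (p ^ n)) × Multiplicative (ZMod (p ^ n))) × H) := by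
  classical
  letI : CommGroup X := { (inferInstance : Group X) with mul_comm := hab.is_comm.comm }
  obtain ⟨ι, _, m, hm, ⟨e⟩⟩ := CommGroup.equiv_prod_multiplicative_zmod_of_finite X
  have : ∀ i, ∃ k, m i = p ^ k := fun i => by
    have : NeZero (m i) := ⟨by have := hm i; omega⟩
    simpa using IsPGroup.iff_card.1 ((hX.of_equiv e).of_surjective (Pi.evalMonoidHom _ i) (Function.surjective_eval i))
  choose k hk using this
  obtain rfl : m = fun i => p ^ k i := funext hk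
  by_cases hinj : Function.Injective k
  · exact Or.inl ((diagAut_pi k hinj).of_equiv e.symm)
  obtain ⟨i, j, h, hij⟩ := Function.not_injective_iff.1 hinj
  have e' : Multiplicative (ZMod (p ^ k j)) ≃* Multiplicative (ZMod (p ^ k i)) := h ▸ .refl _
  let φ : (∀ l, Multiplicative (ZMod (p ^ k l))) →* _ × ∀ l : {l // l ≠ i ∧ l ≠ j}, Multiplicative (ZMod (p ^ k l)) :=
    ((Pi.evalMonoidHom _ i).prod (e'.toMonoidHom.comp (Pi.evalMonoidHom _ j))).prod
      (MonoidHom.pi fun l => Pi.evalMonoidHom _ l.1)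
  refine Or.inr ⟨k i, _, inferInstance, Nat.pos_of_ne_zero fun h0 => by simpa [h0] using hm i,
    ⟨e.trans (MulEquiv.ofBijective φ ⟨(injective_iff_map_eq_one φ).2 fun x hx => funext fun l => ?_, ?_⟩)⟩⟩
  · by_cases h1 : l = i
    · exact h1 ▸ congrArg (·.1.1) hx
    by_cases h2 : l = j
    · exact h2 ▸ e'.injective ((congrArg (·.1.2) hx).trans (map_one e').symm)
    · exact congrFun (congrArg (·.2) hx) ⟨l, h1, h2⟩
  · rintro ⟨⟨a, b⟩, c⟩
    refine ⟨fun l => if h1 : l = i then h1 ▸ a else if h2 : l = j then h2 ▸ e'.symm b else c ⟨l, h1, h2⟩,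
      Prod.ext (Prod.ext ?_ ?_) (funext fun l => ?_)⟩
    · simp [φ]
    · simp [φ, Ne.symm hij]
    · simp [φ, l.2.1, l.2.2]

end Grp

variable {Ω : Type*} [Group Ω] {S T U V P : Subgroup Ω} {p : ℕ} {F : FusionSystem S}

/-- `T` is reached from `1` by a chain of strongly closed subgroups with steps of order at most `p`. -/
inductive SSCh (F : FusionSystem S) (p : ℕ) : Subgroup Ω → Prop
  | bot : SSCh F p ⊥
  | step {T : Subgroup Ω} {x : Ω} : SSCh F p T → x ∈ S → x ^ p ∈ T → F.StronglyClosed (T ⊔ zpowers x) →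
      SSCh F p (T ⊔ zpowers x)

theorem SSCh.stronglyClosed (h : SSCh F p T) : F.StronglyClosed T := by
  cases h with
  | bot => exact stronglyClosed_bot F
  | step _ _ _ h => exact h

theorem SSCh.exists_chain (h : SSCh F p T) : ∃ (n : ℕ) (C : ℕ → Subgroup Ω), C 0 = ⊥ ∧ C n = T ∧
    (∀ i ≤ n, F.StronglyClosed (C i)) ∧ ∀ i < n, ∃ x ∈ S, x ^ p ∈ C i ∧ C (i + 1) = C i ⊔ zpowers x := by
  induction h with
  | bot => exact ⟨0, fun _ => ⊥, rfl, rfl, fun _ _ => stronglyClosed_bot F, fun _ h => absurd h (by omega)⟩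
  | @step T x _ hx hxp hU ih =>
    obtain ⟨n, C, h0, hn, h1, h2⟩ := ih
    refine ⟨n + 1, fun i => if i ≤ n then C i else T ⊔ zpowers x, by simpa using h0, by simp, fun i _ => ?_,
      fun i hi => ?_⟩
    · dsimp only
      split_ifs with k
      exacts [h1 i k, hU]
    · rcases (Nat.le_of_lt_succ hi).lt_or_eq with k | rfl
      · simpa only [if_pos k.le, if_pos (Nat.succ_le_of_lt k)] using h2 i k
      · exact ⟨x, hx, by simpa [hn] using hxp, by simp [hn]⟩

variable [Finite S]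

/-- A subgroup between two strongly closed subgroups with cyclic quotient is strongly closed. -/
theorem StronglyClosed.of_le_sup_zpowers (hT : F.StronglyClosed T) {x : Ω} (hU : F.StronglyClosed (T ⊔ zpowers x))
    (hTV : T ≤ V) (hV : V ≤ T ⊔ zpowers x) : F.StronglyClosed V := by
  have := finite_of_le hU.1
  have hn := hU.1.trans (StronglyClosed.le_normalizer hT)
  have := (normal_subgroupOf_iff_le_normalizer (le_sup_left : T ≤ T ⊔ zpowers x)).2 hn
  have hx : x ∈ T ⊔ zpowers x := mem_sup_right (mem_zpowers x)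
  let π := QuotientGroup.mk' (T.subgroupOf (T ⊔ zpowers x))
  have : IsCyclic (↥(T ⊔ zpowers x) ⧸ T.subgroupOf (T ⊔ zpowers x)) := ⟨⟨π ⟨x, hx⟩, fun q => by
    obtain ⟨u, rfl⟩ := QuotientGroup.mk'_surjective _ q
    obtain ⟨m, hm⟩ := (mem_sup_zpowers_iff (hn hx)).1 u.2
    exact ⟨m, QuotientGroup.eq.2 hm⟩⟩⟩
  refine stronglyClosed_iff.2 ⟨hV.trans hU.1, fun P f hf v hv hvV => ?_⟩
  have h1 := hf.mem_of_stronglyClosed hU hv (hV hvV)
  obtain ⟨m, hm⟩ := mem_zpowers_of_orderOf_dvd_of_isCyclic (x := π ⟨f v, h1⟩) (z := π ⟨v, hV hvV⟩)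
    (orderOf_dvd_of_pow_eq_one ((QuotientGroup.eq_one_iff _).2 (by
      rw [mem_subgroupOf, Subgroup.coe_pow, ← hf.homOn.map_pow hv]
      exact hf.mem_of_stronglyClosed hT (pow_mem hv _)
        ((QuotientGroup.eq_one_iff (_ ^ _ : ↥(T ⊔ zpowers x))).1 (pow_orderOf_eq_one (π ⟨v, hV hvV⟩))))))
  have h2 := QuotientGroup.eq.1 ((map_zpow π _ m).trans hm)
  exact (mul_mem_cancel_left (V.inv_mem (zpow_mem hvV m))).1 (hTV h2)

theorem SSCh.step' (hS : IsPGroup p S) (h : SSCh F p T) {x : Ω} (hx : x ∈ S)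
    (hU : F.StronglyClosed (T ⊔ zpowers x)) : SSCh F p (T ⊔ zpowers x) := by
  obtain ⟨k, hk⟩ := hS ⟨x, hx⟩
  replace hk : x ^ p ^ k = 1 := congrArg Subtype.val hk
  induction k generalizing x with
  | zero => rw [pow_zero, pow_one] at hk; simpa [hk] using h
  | succ k ih =>
    have h1 : T ⊔ zpowers (x ^ p) ≤ T ⊔ zpowers x := sup_le_sup_left (zpowers_le.2 (pow_mem (mem_zpowers x) p)) _
    have e : T ⊔ zpowers (x ^ p) ⊔ zpowers x = T ⊔ zpowers x :=
      le_antisymm (sup_le h1 le_sup_right) (sup_le_sup_right le_sup_left _)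
    exact e ▸ (ih (pow_mem hx p) (StronglyClosed.of_le_sup_zpowers h.stronglyClosed hU le_sup_left h1)
      (by rwa [← pow_mul, ← pow_succ'])).step hx (mem_sup_right (mem_zpowers _)) (e.symm ▸ hU)

theorem ssCh_iff (hS : IsPGroup p S) : SSCh F p S ↔ ∃ (m : ℕ) (c : Fin (m + 1) → Subgroup Ω), c 0 = ⊥ ∧
    c (Fin.last m) = S ∧ (∀ i : Fin (m + 1), F.StronglyClosed (c i)) ∧
      ∀ i : Fin m, c i.castSucc ≤ c i.succ ∧ ∃ x ∈ S, c i.succ = c i.castSucc ⊔ zpowers x := by
  constructor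
  · intro h
    obtain ⟨n, C, h0, hn, h1, h2⟩ := h.exists_chain
    refine ⟨n, fun i => C i, h0, hn, fun i => h1 i (Nat.le_of_lt_succ i.2), fun i => ?_⟩
    obtain ⟨x, hx, -, e⟩ := h2 i i.2
    exact ⟨e.ge.trans' le_sup_left, x, hx, e⟩
  · rintro ⟨m, c, h0, hn, h1, h2⟩
    have key : ∀ i, SSCh F p (c i) := fun i => by
      induction i using Fin.induction with
      | zero => exact h0 ▸ .bot
      | succ i ih =>
        obtain ⟨-, x, hx, e⟩ := h2 i
        exact e ▸ ih.step' hS hx (e ▸ h1 _)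
    have := key (Fin.last m)
    rwa [hn] at this

variable [hp : Fact p.Prime]

theorem SSCh.isNormal (hS : IsPGroup p S) (hF : F.IsSaturated p) (h : SSCh F p S) : F.IsNormal S := by
  obtain ⟨n, C, h0, hn, h1, h2⟩ := h.exists_chain
  refine isNormal_of_chain hS hF (StronglyClosed.weaklyClosed (stronglyClosed_self F)) n C h1 h0 hn.ge fun i hi =>
    commutator_le.2 fun u hu a ha => ?_
  obtain ⟨x, hx, hxp, e⟩ := h2 i hi
  have hn := StronglyClosed.le_normalizer (h1 i hi.le)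
  rw [← inv_inv u, ← inv_mul_conj_eq_commutator]
  refine comm_mem_of_card_le hS (e.ge.trans' le_sup_left) (h1 _ hi).1 ((h1 _ hi).1.trans hn) ha (hn ha)
    (StronglyClosed.le_normalizer (h1 _ hi) ha) ?_ (Subgroup.inv_mem _ hu)
  by_cases k : x ∈ C i
  · rw [e, sup_eq_left.2 (zpowers_le.2 k)]; exact Nat.le_mul_of_pos_left _ hp.out.pos
  · rw [e, card_sup_zpowers_of_normalizer (hn hx) k hxp]

omit [Finite S] hp in
theorem autInv_inner (A : Subgroup (MulAut S)) : AutInv (innerFusionSystem S) A := fun α _ P f hf => by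
  obtain ⟨hP, a, ha, e⟩ := mor_inner_iff.1 hf
  refine mor_inner_iff.2 ⟨img_autFun_le α hP, autFun α a, autFun_mem α ha, fun y hy => ?_⟩
  obtain ⟨x, hx, rfl⟩ := (((homOn_autFun α).mono hP).mem_img).1 hy
  rw [autFun_inv_apply α (hP hx), e x hx, (homOn_autFun α).map_conj ha (hP hx)]

theorem diagAut_of_ssCh (hS : IsPGroup p S) (h : ∀ F : FusionSystem S, F.IsSaturated p → SSCh F p S) :
    DiagAut p S := fun H hH => by
  obtain ⟨n, C, h0, hn, h1, h2⟩ := (h _ (isSaturated_autMul (h := autInv_inner H) (GS.isSaturated_inner hS) fun α hα =>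
    ⟨_, hH α hα, pow_orderOf_eq_one α ▸ one_mem _⟩)).exists_chain
  refine abelian_exp_of_chain hS hH n (fun i => (C i).subgroupOf S) (fun i hi => StronglyClosed.normal_subgroupOf (h1 i hi))
    (fun i hi a ha x hx => ?_) (by simp [h0]) (by simp [hn]) fun i hi => ?_
  · rw [mem_subgroupOf, ← autFun_coe]
    exact (mor_autMul_autFun ha).mem_of_stronglyClosed (h1 i hi) x.2 hx
  · obtain ⟨x, hx, hxp, e⟩ := h2 i hi
    refine ⟨⟨x, hx⟩, hxp, ?_⟩
    rw [e, subgroupOf_sup (h1 i hi.le).1 (zpowers_le.2 hx)]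
    congr 1
    ext y
    exact coe_mem_zpowers_iff (z := ⟨x, hx⟩)

theorem ssCh_of_diagAut (hS : IsPGroup p S) (hF : F.IsSaturated p) (hn : F.IsNormal S) (h : DiagAut p S) :
    SSCh F p S := by
  have := finite_autGroup F S
  have hI : Inn S ≤ F.autGroup S := Inn_le_autGroup F le_rfl
  have hnd : ¬ p ∣ ((Inn S).subgroupOf (F.autGroup S)).index := (sylIn_Inn_top hS hF).not_dvd_relIndex
  obtain ⟨K, hK⟩ := exists_right_complement'_of_coprime (N := (Inn S).subgroupOf (F.autGroup S)) (by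
    obtain ⟨k, hk⟩ := IsPGroup.iff_card.1 ((isPGroup_Inn hS).of_equiv (subgroupOfEquivOfLe hI).symm)
    rw [hk]
    exact (hp.out.coprime_iff_not_dvd.2 hnd).pow_left k)
  obtain ⟨h1, h2⟩ := h (K.map (F.autGroup S).subtype) (by
    rintro _ ⟨a, ha, rfl⟩
    refine (hp.out.coprime_iff_not_dvd.2 fun k => hnd ?_).symm
    rw [hK.symm.index_eq_card]
    exact (k.trans (Subgroup.orderOf_coe a).dvd).trans (orderOf_dvd_natCard K ha))
  have hmem : ∀ T : Subgroup S, T.Normal → (∀ a ∈ K.map (F.autGroup S).subtype, ∀ t ∈ T, a t ∈ T) →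
      F.StronglyClosed (T.map S.subtype) := fun T hT hT' => by
    refine stronglyClosed_iff.2 ⟨map_subtype_le _, fun P f hf x hx => ?_⟩
    rintro ⟨x, hxT, rfl⟩
    obtain ⟨g, hg, e1, e2⟩ := IsNormal.extend_aut hn hf.le hf
    obtain ⟨⟨⟨a, ha⟩, b⟩, e⟩ := hK.2 ⟨_, hg.equiv_mem_autGroup e1⟩
    obtain ⟨s, hs⟩ := ha
    refine ⟨_, hT.conj_mem _ (hT' _ (mem_map_of_mem _ b.2) x hxT) s, ?_⟩
    rw [← e2 _ hx]
    have := congrArg (fun c : F.autGroup S => ((c : MulAut S) x : Ω)) e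
    simp only [Subgroup.coe_mul, MulAut.mul_apply] at this
    exact (congrArg (fun c : MulAut S => (c _ : Ω)) hs).trans this
  have key : ∀ T : Subgroup S, T.Normal → (∀ a ∈ K.map (F.autGroup S).subtype, ∀ t ∈ T, a t ∈ T) →
      SSCh F p (T.map S.subtype) → SSCh F p S := fun T => by
    induction T using WellFoundedGT.induction with
    | ind T ih =>
      intro hT hT' hc
      by_cases e : T = ⊤
      · rwa [e, ← MonoidHom.range_eq_map, range_subtype] at hc
      obtain ⟨x, hx, h3, h4⟩ := exists_invariant_step hS h1 h2 T hT' e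
      refine ih _ (left_lt_sup.2 fun k => hx (k (mem_zpowers x))) h3 h4 ?_
      have h5 := hmem _ h3 h4
      rw [Subgroup.map_sup, MonoidHom.map_zpowers] at h5 ⊢
      exact hc.step' hS x.2 h5
  exact key ⊥ inferInstance (fun a _ t ht => by rw [mem_bot.1 ht, map_one]; exact one_mem _)
    (by rw [Subgroup.map_bot]; exact .bot)

theorem forall_ssCh_iff (hS : IsPGroup p S) : (∀ F : FusionSystem S, F.IsSaturated p → SSCh F p S) ↔
    (∀ F : FusionSystem S, F.IsSaturated p → F.IsNormal S) ∧ DiagAut p S :=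
  ⟨fun h => ⟨fun F hF => (h F hF).isNormal hS hF, diagAut_of_ssCh hS h⟩,
    fun h F hF => ssCh_of_diagAut hS hF (h.1 F hF) h.2⟩

end CL.Fus
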