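/-
The relative trace map for a group of automorphisms of an abelian subgroup.
-/
import Cfsg.Agent.Fus.Basic2

set_option autoImplicit false

namespace CL.Fus

open Cfsg Cfsg.FusionSystem

/-- The relative trace from the fixed points of `P` to the fixed points of `G`. -/
theorem exists_relTrace {G M : Type*} [Group G] [Finite G] [CommGroup M] [MulDistribMulAction G M] (P : Subgroup G) :
    ∃ t : M →* M, (∀ x, (∀ g ∈ P, g • x = x) → ∀ g : G, g • t x = t x) ∧
      (∀ x, (∀ g : G, g • x = x) → t x = x ^ P.index) ∧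
      (∀ N : Subgroup M, (∀ (g : G) x, x⁻¹ * g • x ∈ N) → ∀ x, (x ^ P.index)⁻¹ * t x ∈ N) ∧
      (P = ⊥ → ∀ (g : G) x, t (g • x) = t x) := by
  classical
  have := Fintype.ofFinite (G ⧸ P)
  let t : M →* M :=
    { toFun := fun v => ∏ q : G ⧸ P, q.out • v
      map_one' := by simp
      map_mul' := fun x y => by simp [smul_mul', Finset.prod_mul_distrib] }
  have ht : ∀ v, t v = ∏ q : G ⧸ P, q.out • v := fun _ => rfl
  have hidx : ∀ x : M, x ^ P.index = ∏ _q : G ⧸ P, x := fun x => by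
    rw [Finset.prod_const, Finset.card_univ, Subgroup.index, Nat.card_eq_fintype_card]
  refine ⟨t, fun x hx g => ?_, fun x hx => ?_, fun N hN x => ?_, ?_⟩
  · rw [ht, Finset.smul_prod']
    refine Fintype.prod_equiv (MulAction.toPerm g) _ _ fun q => ?_
    obtain ⟨h, hh⟩ := QuotientGroup.mk_out_eq_mul P (g * q.out)
    have : MulAction.toPerm g q = QuotientGroup.mk (g * q.out) := by
      rw [MulAction.toPerm_apply, ← smul_eq_mul, MulAction.Quotient.coe_smul_out]
    rw [this, hh, mul_smul, mul_smul, hx h h.2]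
  · rw [ht, hidx]
    exact Finset.prod_congr rfl fun q _ => hx _
  · rw [ht, hidx, ← Finset.prod_inv_distrib, ← Finset.prod_mul_distrib]
    exact N.prod_mem fun q _ => hN _ x
  · rintro rfl g x
    have := Fintype.ofFinite G
    have key : ∀ v : M, t v = ∏ a : G, a • v := fun v => by
      rw [ht]
      refine Fintype.prod_equiv QuotientGroup.quotientBot.toEquiv _ _ fun q => ?_
      congr 1
      obtain ⟨a, rfl⟩ := QuotientGroup.mk_surjective q
      obtain ⟨h, hh⟩ := QuotientGroup.mk_out_eq_mul (⊥ : Subgroup G) a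
      rw [hh, Subgroup.mem_bot.1 h.2, mul_one]
      rfl
    rw [key, key]
    exact Fintype.prod_equiv (Equiv.mulRight g) _ _ fun a => by simp [mul_smul]

variable {Ω : Type*} [Group Ω]

/-- The relative trace for subgroups `P ≤ Γ` of the automorphism group of an abelian subgroup `V`. -/
theorem exists_relTrace_aut {V : Subgroup Ω} [Finite V] (hV : ∀ x ∈ V, ∀ y ∈ V, x * y = y * x)
    (P Γ : Subgroup (MulAut V)) :
    ∃ t : Ω → Ω, HomOn V t ∧ (∀ x ∈ V, t x ∈ V) ∧
      (∀ x ∈ V, (∀ α ∈ P, autFun α x = x) → ∀ γ ∈ Γ, autFun γ (t x) = t x) ∧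
      (∀ x ∈ V, (∀ γ ∈ Γ, autFun γ x = x) → t x = x ^ P.relIndex Γ) ∧
      (∀ N : Subgroup Ω, (∀ γ ∈ Γ, ∀ x ∈ V, x⁻¹ * autFun γ x ∈ N) → ∀ x ∈ V, (x ^ P.relIndex Γ)⁻¹ * t x ∈ N) ∧
      (P = ⊥ → ∀ γ ∈ Γ, ∀ x ∈ V, t (autFun γ x) = t x) := by
  let _ : CommGroup V := { (inferInstance : Group V) with mul_comm := fun x y => Subtype.ext (hV x x.2 y y.2) }
  obtain ⟨t, h1, h2, h3, h4⟩ := exists_relTrace (M := V) (P.subgroupOf Γ)
  have hs : ∀ (γ : Γ) (x : V), ((γ • x : V) : Ω) = autFun (γ : MulAut V) x := fun γ x => (autFun_coe _ x).symm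
  refine ⟨ext (V.subtype.comp t), homOn_ext _, fun x hx => ?_, fun x hx h γ hγ => ?_, fun x hx h => ?_,
    fun N hN x hx => ?_, fun hP γ hγ x hx => ?_⟩
  · rw [ext_apply _ hx]; exact (t ⟨x, hx⟩).2
  · rw [ext_apply _ hx]
    exact (hs ⟨γ, hγ⟩ _).symm.trans (congrArg Subtype.val
      (h1 ⟨x, hx⟩ (fun g hg => Subtype.ext ((hs g _).trans (h g hg))) ⟨γ, hγ⟩))
  · rw [ext_apply _ hx]
    exact congrArg Subtype.val (h2 ⟨x, hx⟩ fun g => Subtype.ext ((hs g _).trans (h g g.2)))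
  · rw [ext_apply _ hx]
    exact h3 (N.subgroupOf V) (fun g y => by
      rw [Subgroup.mem_subgroupOf, Subgroup.coe_mul, Subgroup.coe_inv, hs]; exact hN g g.2 y y.2) ⟨x, hx⟩
  · rw [ext_apply _ hx, ext_apply _ (autFun_mem γ hx)]
    have := h4 (by rw [hP, Subgroup.bot_subgroupOf]) ⟨γ, hγ⟩ ⟨x, hx⟩
    refine congrArg Subtype.val (Eq.trans (congrArg t (Subtype.ext ?_)) this)
    exact (hs ⟨γ, hγ⟩ ⟨x, hx⟩).symm

/-- In a `p`-group, an element is a power of its `n`-th power when `n` is prime to `p`. -/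
theorem mem_of_pow_mem_pGroup {p n : ℕ} {V N : Subgroup Ω} (hV : IsPGroup p V) (hn : n.Coprime p) {x : Ω}
    (hx : x ∈ V) (h : x ^ n ∈ N) : x ∈ N := by
  have h1 : (orderOf x).Coprime n := by
    have := hV.orderOf_coprime hn.symm ⟨x, hx⟩
    rwa [← Subgroup.orderOf_coe] at this
  obtain ⟨m, hm⟩ := exists_pow_eq_self_of_coprime h1.symm
  rw [← hm]
  exact N.pow_mem h m

end CL.Fus
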