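/-
Relations for the Sylow `p`-subgroups of `SL₄(p)`, `SU₄(p)` and `G₂(p)`.
-/
import Cfsg.Agent.Fus.Rk3F

set_option autoImplicit false

namespace CL.Fus.Xs

open scoped commutatorElement

variable {G : Type*} [Group G]

/-- `⟨x, y, c, d, z⟩` is extraspecial of order `p ^ 5` and `e` acts with two Jordan blocks of size two -/
structure Rel6 (p : ℕ) (α β δ : ℤ) (x y c d z e : G) : Prop where
  ex : e * x * e⁻¹ = x * c
  ey : e * y * e⁻¹ = y * d
  ec : Commute e c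
  ed : Commute e d
  cd : Commute c d
  xy : Commute x y
  zx : Commute z x
  zy : Commute z y
  ze : Commute z e
  cx : ⁅c, x⁆ = z ^ α
  cy : ⁅c, y⁆ = z ^ β
  dx : ⁅d, x⁆ = z ^ β
  dy : ⁅d, y⁆ = z ^ δ
  px : x ^ p = 1
  py : y ^ p = 1
  pz : z ^ p = 1
  pe : e ^ p = 1

/-- `⟨a, b, c, d, z⟩` is extraspecial of order `p ^ 5` and `e` acts with one Jordan block -/
structure Rel7 (p : ℕ) (s t : ℤ) (a b c d z e : G) : Prop where
  ea : e * a * e⁻¹ = a * b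
  eb : e * b * e⁻¹ = b * c
  ec : e * c * e⁻¹ = c * d
  ed : Commute e d
  za : Commute z a
  ze : Commute z e
  ab : ⁅a, b⁆ = z ^ s
  ac : ⁅a, c⁆ = z ^ t
  ad : ⁅a, d⁆ = z ^ t
  bc : ⁅b, c⁆ = z ^ (-t)
  bd : Commute b d
  cd : Commute c d
  pa : a ^ p = 1
  pz : z ^ p = 1
  pe : e ^ p = 1

end CL.Fus.Xs
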