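/-
`p`-groups with an extraspecial subgroup of index `p`: the symplectic form and the action.
-/
import Cfsg.Agent.Fus.XsDefs
import Cfsg.Agent.Grp.ExtraBasic

set_option autoImplicit false
set_option linter.unusedSectionVars false

namespace CL.Fus.Xs

open Cfsg Subgroup CL.Fus.Rk
open scoped commutatorElement

local notation "𝒩(" X ")" => Subgroup.normalizer ((X : Subgroup _) : Set _)
local notation "𝒞(" X ")" => Subgroup.centralizer ((X : Subgroup _) : Set _)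

variable {G : Type*} [Group G] {p : ℕ} {S Q A B X Y : Subgroup G} {a b e g s u w x y z : G} {f : G → ZMod p}

/-- additive functions on a subgroup -/
def AddOn (A : Subgroup G) (f : G → ZMod p) : Prop := ∀ x ∈ A, ∀ y ∈ A, f (x * y) = f x + f y

namespace AddOn
variable (h : AddOn A f)
include h

theorem hom : HomOn A fun x => Multiplicative.ofAdd (f x) := fun x hx y hy => congrArg Multiplicative.ofAdd (h x hx y hy)

theorem mono (hB : B ≤ A) : AddOn B f := fun x hx y hy => h x (hB hx) y (hB hy)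

theorem one : f 1 = 0 := h.hom.map_one

theorem inv (hx : x ∈ A) : f x⁻¹ = -f x := h.hom.map_inv hx

theorem zpow (hx : x ∈ A) (n : ℤ) : f (x ^ n) = n * f x := 
  (congrArg Multiplicative.toAdd (h.hom.map_zpow hx n)).trans (zsmul_eq_mul _ n)

theorem pow (hx : x ∈ A) (n : ℕ) : f (x ^ n) = n * f x := by simpa using h.zpow hx n

theorem val [NeZero p] (hx : x ∈ A) (k : ZMod p) : f (x ^ k.val) = k * f x := by rw [h.pow hx, ZMod.natCast_zmod_val]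

theorem conj (hx : x ∈ A) (hy : y ∈ A) : f (y * x * y⁻¹) = f x := by
  rw [h _ (mul_mem hy hx) _ (inv_mem hy), h y hy x hx, h.inv hy]; ring

/-- the kernel -/
def ker : Subgroup G where
  carrier := {x | x ∈ A ∧ f x = 0}
  mul_mem' hx hy := ⟨mul_mem hx.1 hy.1, by rw [h _ hx.1 _ hy.1, hx.2, hy.2, add_zero]⟩
  one_mem' := ⟨one_mem A, h.one⟩
  inv_mem' hx := ⟨inv_mem hx.1, by rw [h.inv hx.1, hx.2, neg_zero]⟩

theorem ker_le : h.ker ≤ A := fun _ hx => hx.1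

theorem eq_zero (hX : X ≤ h.ker) (hx : x ∈ X) : f x = 0 := (hX hx).2

theorem card_le [Finite G] [NeZero p] : Nat.card A ≤ p * Nat.card h.ker := by
  rw [CL.Grp.card_eq_relIndex_mul_card h.ker_le]
  refine Nat.mul_le_mul_right _ ((Nat.card_le_card_of_injective (β := ZMod p) (fun q => f q.out) fun q q' e => ?_).trans
    (Nat.card_zmod p).le)
  rw [← q.out_eq', ← q'.out_eq', QuotientGroup.eq, mem_subgroupOf]
  refine ⟨(q.out⁻¹ * q'.out).2, ?_⟩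
  rw [coe_mul, coe_inv, h _ (inv_mem q.out.2) _ q'.out.2, h.inv q.out.2, show f q.out = f q'.out from e, neg_add_cancel]

end AddOn

open Classical in
/-- the logarithm to the base `z` -/
noncomputable def lg (p : ℕ) (z u : G) : ZMod p := if h : ∃ i : ℤ, z ^ i = u then (h.choose : ZMod p) else 0

/-- the symplectic form -/
noncomputable def om (p : ℕ) (z x y : G) : ZMod p := lg p z ⁅x, y⁆

/-- the commutator map -/
def cm (e x : G) : G := x⁻¹ * (e * x * e⁻¹)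

/-- the form attached to an element of `S` -/
noncomputable def bf (p : ℕ) (z s w x : G) : ZMod p := om p z w (cm s x)

/-- the power map -/
noncomputable def lam (p : ℕ) (z x : G) : ZMod p := lg p z (x ^ p)

theorem conj_eq_cm (e x : G) : e * x * e⁻¹ = x * cm e x := by rw [cm, mul_inv_cancel_left]

theorem cm_mul (e x y : G) : cm e (x * y) = y⁻¹ * cm e x * y⁻¹⁻¹ * cm e y := by simp only [cm]; group

theorem cm_eq_one : cm e x = 1 ↔ Commute x e := inv_mul_conj_eq_one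

theorem conj_eq_cm' (e x : G) : x⁻¹ * e * x⁻¹⁻¹ = cm e x * e := by simp only [cm]; group

variable [hp : Fact p.Prime]

theorem lg_zpow (hz : z ^ p = 1) (h1 : z ≠ 1) (i : ℤ) : lg p z (z ^ i) = i := by
  have k : ∃ j : ℤ, z ^ j = z ^ i := ⟨i, rfl⟩
  rw [lg, dif_pos k, eq_comm, ZMod.intCast_eq_intCast_iff_dvd_sub, ← zpow_eq_one_iff_dvd hz h1, zpow_sub, k.choose_spec,
    mul_inv_cancel]

/-- `Q` is extraspecial with centre `⟨z⟩` and has index `p` in `S` -/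
structure XQ (p : ℕ) (S Q : Subgroup G) (z : G) : Prop where
  p2 : p ≠ 2
  pg : IsPGroup p S
  le : Q ≤ S
  idx : Q.relIndex S = p
  nQ : S ≤ 𝒩(Q)
  zQ : z ∈ Q
  z1 : z ≠ 1
  zp : z ^ p = 1
  zc : ∀ x ∈ S, Commute z x
  comm : ⁅Q, Q⁆ ≤ zpowers z
  pow : ∀ x ∈ Q, x ^ p ∈ zpowers z
  cnt : ∀ A, zpowers z ≤ A → A ≤ Q → Nat.card A * Nat.card ↥(Q ⊓ 𝒞(A)) = Nat.card Q * p
  big : p ^ 5 ≤ Nat.card Q

variable [Finite G]

namespace XQ
variable (h : XQ p S Q z)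
include h

theorem Z_le : zpowers z ≤ Q := zpowers_le.2 h.zQ

theorem card_Z : Nat.card (zpowers z) = p := card_zpowers_of_pow_eq_one h.zp h.z1

theorem commZ (hu : u ∈ zpowers z) (hx : x ∈ S) : Commute u x := comm_of_cen (mem_cen_zpowers (h.zc x hx)) hu

theorem nZ : S ≤ 𝒩(zpowers z) := fun x hx => centralizer_le_normalizer _ (mem_cen_zpowers (h.zc x hx))

theorem nZ' : Q ≤ 𝒩(zpowers z) := h.le.trans h.nZ

theorem pgQ : IsPGroup p Q := h.pg.to_le h.le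

theorem card_S : Nat.card S = p * Nat.card Q := card_of_relIndex h.le h.idx

theorem Z_le_cen (hA : A ≤ S) : zpowers z ≤ Q ⊓ 𝒞(A) :=
  zpowers_le.2 ⟨h.zQ, mem_cen fun y hy => (h.zc y (hA hy)).symm⟩

theorem cen_eq : Q ⊓ 𝒞(Q) = zpowers z := (eq_of_le_of_card_ge (h.Z_le_cen h.le) (by
  rw [h.card_Z]; exact (Nat.eq_of_mul_eq_mul_left Nat.card_pos (h.cnt Q h.Z_le le_rfl)).le)).symm

theorem mem_Z (hx : x ∈ Q) (k : ∀ y ∈ Q, Commute y x) : x ∈ zpowers z := h.cen_eq.le ⟨hx, mem_cen k⟩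

theorem cen_cen (hZ : zpowers z ≤ A) (hA : A ≤ Q) : Q ⊓ 𝒞(Q ⊓ 𝒞(A)) = A :=
  (eq_of_le_of_card_ge (le_inf hA (le_centralizer_iff.1 inf_le_right)) (Nat.eq_of_mul_eq_mul_left Nat.card_pos
    ((h.cnt _ (h.Z_le_cen (hA.trans h.le)) inf_le_left).trans ((h.cnt A hZ hA).symm.trans (mul_comm _ _)))).le).symm

theorem comm_mem (hx : x ∈ Q) (hy : y ∈ Q) : ⁅x, y⁆ ∈ zpowers z := h.comm (commutator_mem_commutator hx hy)

theorem cmZ (hx : x ∈ Q) (hy : y ∈ Q) : cm y x ∈ zpowers z := h.comm (inv_mul_conj_mem_commutator hx hy)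

theorem norm (hZ : zpowers z ≤ A) (hA : A ≤ Q) : Q ≤ 𝒩(A) := le_normalizer_of_conj fun g hg x hx =>
  conj_eq_cm g x ▸ mul_mem hx (hZ (h.cmZ (hA hx) hg))

theorem sup (he : e ∈ S) (heQ : e ∉ Q) : Q ⊔ zpowers e = S := eq_sup_zpowers_of_relIndex h.le (h.idx ▸ hp.out) he heQ

theorem norm' (he : e ∈ S) (heQ : e ∉ Q) (hZ : zpowers z ≤ A) (hA : A ≤ Q) (k : ∀ x ∈ A, cm e x ∈ A) : S ≤ 𝒩(A) :=
  h.sup he heQ ▸ sup_le (h.norm hZ hA) (zpowers_le.2 (mem_normalizer_of_finite fun x hx => conj_eq_cm e x ▸ mul_mem hx (k x hx)))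

theorem powQ (hx : x ∈ S) : x ^ p ∈ Q := h.idx ▸ pow_mem_of_relIndex h.le h.nQ hx

theorem conjQ (hs : s ∈ S) (hx : x ∈ Q) : s * x * s⁻¹ ∈ Q := conj_mem_of_mem_normalizer (h.nQ hs) hx

theorem cmQ (hs : s ∈ S) (hx : x ∈ Q) : cm s x ∈ Q := mul_mem (inv_mem hx) (h.conjQ hs hx)

theorem commQ : ⁅S, S⁆ ≤ Q := comm_le_of_idx h.pg h.le le_rfl h.nQ le_normalizer h.idx

theorem ab_card (hZ : zpowers z ≤ A) (hA : A ≤ Q) (ab : A ≤ 𝒞(A)) : Nat.card A * Nat.card A ≤ Nat.card Q * p :=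
  h.cnt A hZ hA ▸ Nat.mul_le_mul_left _ (card_le_of_le (le_inf hA ab))

theorem card_sup (hx : x ∈ Q) (hZ : zpowers z ≤ A) (hA : A ≤ Q) (hxA : x ∉ A) : Nat.card ↥(A ⊔ zpowers x) = p * Nat.card A :=
  card_sup_zpowers_of_normalizer (h.norm hZ hA hx) hxA (hZ (h.pow x hx))

theorem zpow_lg (hu : u ∈ zpowers z) : z ^ ((lg p z u).val : ℤ) = u := by
  obtain ⟨i, rfl⟩ := mem_zpowers_iff.1 hu
  rw [lg_zpow h.zp h.z1, zpow_natCast, pow_val_intCast h.zp]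

theorem addOn_lg : AddOn (zpowers z) (lg p z) := fun u hu w hw => by
  obtain ⟨i, rfl⟩ := mem_zpowers_iff.1 hu
  obtain ⟨j, rfl⟩ := mem_zpowers_iff.1 hw
  rw [← zpow_add, lg_zpow h.zp h.z1, lg_zpow h.zp h.z1, lg_zpow h.zp h.z1, Int.cast_add]

theorem lg_eq_zero (hu : u ∈ zpowers z) : lg p z u = 0 ↔ u = 1 :=
  ⟨fun k => by rw [← h.zpow_lg hu, k, ZMod.val_zero, Nat.cast_zero, zpow_zero], fun k => k ▸ h.addOn_lg.one⟩

theorem lg_z : lg p z z = 1 := by simpa using lg_zpow h.zp h.z1 1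

theorem om_eq_zero (hx : x ∈ Q) (hy : y ∈ Q) : om p z x y = 0 ↔ Commute x y :=
  (h.lg_eq_zero (h.comm_mem hx hy)).trans commutatorElement_eq_one_iff_commute

theorem comm_eq (hx : x ∈ Q) (hy : y ∈ Q) : ⁅x, y⁆ = z ^ ((om p z x y).val : ℤ) := (h.zpow_lg (h.comm_mem hx hy)).symm

theorem comm_eq' (hx : x ∈ Q) (hy : y ∈ Q) {i : ℤ} (k : om p z x y = i) : ⁅x, y⁆ = z ^ i := by
  rw [h.comm_eq hx hy, k, zpow_natCast, pow_val_intCast h.zp]

theorem om_left (hw : w ∈ Q) (hx : x ∈ Q) (hy : y ∈ Q) : om p z (x * y) w = om p z x w + om p z y w := by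
  have := homOn_comm_left (E := Q) le_rfl h.cen_eq.ge (fun x hx => h.comm_mem hx hw) x hx y hy
  simp only [om] at this ⊢
  rw [this, h.addOn_lg _ (h.comm_mem hx hw) _ (h.comm_mem hy hw)]

theorem om_anti (hx : x ∈ Q) (hy : y ∈ Q) : om p z y x = -om p z x y := by
  rw [om, ← commutatorElement_inv, h.addOn_lg.inv (h.comm_mem hx hy), om]

theorem om_right (hw : w ∈ Q) : AddOn Q (om p z w) := fun x hx y hy => by
  rw [h.om_anti (mul_mem hx hy) hw, h.om_anti hx hw, h.om_anti hy hw, h.om_left hw hx hy, neg_add]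

theorem om_self (hx : x ∈ Q) : om p z x x = 0 := (h.om_eq_zero hx hx).2 (Commute.refl x)

theorem om_Z (hu : u ∈ zpowers z) (hx : x ∈ Q) : om p z u x = 0 := (h.om_eq_zero (h.Z_le hu) hx).2 (h.commZ hu (h.le hx))

theorem om_conj (hs : s ∈ S) (hx : x ∈ Q) (hy : y ∈ Q) : om p z (s * x * s⁻¹) (s * y * s⁻¹) = om p z x y := by
  rw [om, ← conjugate_commutatorElement, ← (h.commZ (h.comm_mem hx hy) hs).eq, mul_inv_cancel_right, om]

theorem om_cm (hs : s ∈ S) (hx : x ∈ Q) (hy : y ∈ Q) :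
    om p z (cm s x) y + om p z x (cm s y) + om p z (cm s x) (cm s y) = 0 := by
  have := h.om_conj hs hx hy
  rw [conj_eq_cm, conj_eq_cm, h.om_left (mul_mem hy (h.cmQ hs hy)) hx (h.cmQ hs hx), h.om_right hx _ hy _ (h.cmQ hs hy),
    h.om_right (h.cmQ hs hx) _ hy _ (h.cmQ hs hy)] at this
  linear_combination this

theorem addOn_bf (hs : s ∈ S) (hw : w ∈ Q) : AddOn Q (bf p z s w) := fun x hx y hy => by
  rw [bf, cm_mul, h.om_right hw _ (h.conjQ (h.le (inv_mem hy)) (h.cmQ hs hx)) _ (h.cmQ hs hy),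
    (h.om_right hw).conj (h.cmQ hs hx) (inv_mem hy), bf, bf]

theorem conj_eq (hx : x ∈ Q) (hy : y ∈ Q) : y * x * y⁻¹ = x * z ^ ((om p z y x).val : ℤ) := by
  rw [← h.comm_eq hy hx, ← (h.commZ (h.comm_mem hy hx) (h.le hx)).eq, commutatorElement_def, inv_mul_cancel_right]

theorem exists_om (hx : x ∈ Q) (hZ : zpowers z ≤ A) (hA : A ≤ Q) (hxA : x ∉ A) : ∃ y ∈ Q ⊓ 𝒞(A), om p z x y ≠ 0 := by
  by_contra! k
  exact hxA ((h.cen_cen hZ hA).le ⟨hx, mem_cen fun y hy => ((h.om_eq_zero hx hy.1).1 (k y hy)).symm⟩)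

theorem powZ (hu : u ∈ zpowers z) : u ^ p = 1 := by
  obtain ⟨i, rfl⟩ := mem_zpowers_iff.1 hu
  rw [← zpow_natCast, ← zpow_mul, mul_comm, zpow_mul, zpow_natCast, h.zp, one_zpow]

theorem mul_pow (hx : x ∈ Q) (hy : y ∈ Q) : (x * y) ^ p = x ^ p * y ^ p :=
  CL.Grp.mul_pow_prime_of_commute_comm hp.out h.p2 (h.commZ (h.comm_mem hy hx) (h.le hx)).symm
    (h.commZ (h.comm_mem hy hx) (h.le hy)).symm (h.powZ (h.comm_mem hy hx))

theorem addOn_lam : AddOn Q (lam p z) := fun x hx y hy => by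
  rw [lam, h.mul_pow hx hy, h.addOn_lg _ (h.pow x hx) _ (h.pow y hy), lam, lam]

theorem lam_eq_zero (hx : x ∈ Q) : lam p z x = 0 ↔ x ^ p = 1 := h.lg_eq_zero (h.pow x hx)

theorem lam_cm (hs : s ∈ S) (hx : x ∈ Q) : lam p z (cm s x) = 0 := by
  have := h.addOn_lam x hx _ (h.cmQ hs hx)
  rwa [← conj_eq_cm, lam, conj_pow, ← (h.commZ (h.pow x hx) hs).eq, mul_inv_cancel_right, ← lam, left_eq_add] at this

/-- the elements fixed modulo the centre -/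
def Ct : Subgroup G := commSub Q (zpowers z) h.nZ' S

theorem Ct_le : h.Ct ≤ Q := fun _ hx => hx.1

theorem cm_Ct (hs : s ∈ S) (hx : x ∈ h.Ct) : cm s x ∈ zpowers z := hx.2 s hs

theorem mem_Ct (he : e ∈ S) (heQ : e ∉ Q) (hx : x ∈ Q) (k : cm e x ∈ zpowers z) : x ∈ h.Ct := ⟨hx, fun s hs => by
  have := (h.sup he heQ).ge.trans (sup_le (le_secC (A := zpowers z ⊔ zpowers x) (h.norm le_sup_left (sup_le h.Z_le
    (zpowers_le.2 hx))) h.nZ' ((commutator_mono (sup_le h.Z_le (zpowers_le.2 hx)) le_rfl).trans h.comm)) (zpowers_le.2 ?_))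
  · exact (this hs).2.2 x (mem_sup_right (mem_zpowers x))
  have k' : zpowers z ⊔ zpowers x ≤ commSub Q (zpowers z) h.nZ' {e} := sup_le (fun u hu => ⟨h.Z_le hu, fun _ hb => hb ▸
    mul_mem (inv_mem hu) (conj_mem_of_mem_normalizer (h.nZ he) hu)⟩) (zpowers_le.2 ⟨hx, fun _ hb => hb ▸ k⟩)
  exact ⟨mem_normalizer_of_finite fun y hy => conj_eq_cm e y ▸ mul_mem hy (mem_sup_left ((k' hy).2 e rfl)), h.nZ he,
    fun y hy => (k' hy).2 e rfl⟩⟩

theorem Z_le_Ct : zpowers z ≤ h.Ct := fun _ hu =>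
  ⟨h.Z_le hu, fun _ hs => mul_mem (inv_mem hu) (conj_mem_of_mem_normalizer (h.nZ hs) hu)⟩

theorem n_of_le_Ct (hZ : zpowers z ≤ A) (hA : A ≤ h.Ct) : S ≤ 𝒩(A) := le_normalizer_of_conj fun g hg x hx =>
  conj_eq_cm g x ▸ mul_mem hx (hZ (h.cm_Ct hg (hA hx)))

theorem nCt : S ≤ 𝒩(h.Ct) := h.n_of_le_Ct h.Z_le_Ct le_rfl

theorem cm_mem_D (hs : s ∈ S) (hx : x ∈ Q) : cm s x ∈ Q ⊓ 𝒞(h.Ct) := ⟨h.cmQ hs hx, mem_cen fun y hy => by
  have := h.om_cm hs hy.1 hx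
  rw [h.om_Z (h.cm_Ct hs hy) hx, h.om_Z (h.cm_Ct hs hy) (h.cmQ hs hx), zero_add, add_zero] at this
  exact (h.om_eq_zero hy.1 (h.cmQ hs hx)).1 this⟩

/-- the image of the commutator map -/
def Im (hs : s ∈ S) : Subgroup G where
  carrier := {d | ∃ x ∈ Q, ∃ u ∈ zpowers z, d = cm s x * u}
  one_mem' := ⟨1, one_mem Q, 1, one_mem _, by simp [cm]⟩
  mul_mem' := by
    rintro _ _ ⟨x, hx, u, hu, rfl⟩ ⟨y, hy, w, hw, rfl⟩
    refine ⟨x * y, mul_mem hx hy, (cm y⁻¹ (cm s x))⁻¹ * (u * w), mul_mem (inv_mem (h.cmZ (h.cmQ hs hx) (inv_mem hy))) (mul_mem hu hw), ?_⟩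
    rw [cm_mul, conj_eq_cm y⁻¹, mul_assoc (cm s x) (cm _ _), (h.commZ (h.cmZ (h.cmQ hs hx) (inv_mem hy)) (h.le (h.cmQ hs hy))).eq,
      mul_assoc (cm s x) u, ← mul_assoc u, (h.commZ hu (h.le (h.cmQ hs hy))).eq]
    group
  inv_mem' := by
    rintro _ ⟨x, hx, u, hu, rfl⟩
    have k := h.cmZ (inv_mem (h.cmQ hs hx)) hx
    refine ⟨x⁻¹, inv_mem hx, (cm x (cm s x)⁻¹)⁻¹ * u⁻¹, mul_mem (inv_mem k) (inv_mem hu), ?_⟩
    rw [show cm s x⁻¹ = (cm s x)⁻¹ * cm x (cm s x)⁻¹ by simp only [cm]; group, mul_inv_rev,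
      (h.commZ (inv_mem hu) (h.le (inv_mem (h.cmQ hs hx)))).eq]
    group

theorem exists_cm (he : e ∈ S) (heQ : e ∉ Q) {d : G} (hd : d ∈ Q ⊓ 𝒞(h.Ct)) : ∃ x ∈ Q, ∃ u ∈ zpowers z, d = cm e x * u := by
  have h1 : zpowers z ≤ h.Im he := fun u hu => ⟨1, one_mem Q, u, hu, by simp [cm]⟩
  have h2 : h.Im he ≤ Q := by rintro _ ⟨x, hx, u, hu, rfl⟩; exact mul_mem (h.cmQ he hx) (h.Z_le hu)
  refine (h.cen_cen h1 h2).le ⟨hd.1, cen_mono (X := Q ⊓ 𝒞(h.Im he)) (fun y hy => h.mem_Ct he heQ hy.1 (h.mem_Z (h.cmQ he hy.1) fun w hw => ?_)) hd.2⟩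
  have h3 : e⁻¹ * w * e⁻¹⁻¹ ∈ Q := h.conjQ (inv_mem he) hw
  have h4 := h.om_conj he h3 hy.1
  have h5 := (h.om_eq_zero (h.cmQ he h3) hy.1).2 (comm_of_cen hy.2 ⟨_, h3, 1, one_mem _, (mul_one _).symm⟩)
  have h6 := h.om_left hy.1 h3 (h.cmQ he h3)
  rw [← conj_eq_cm] at h6
  rw [conj_eq_cm e y, h.om_right (h.conjQ he h3) _ hy.1 _ (h.cmQ he hy.1), h6, h5, add_zero, add_eq_left,
    show e * (e⁻¹ * w * e⁻¹⁻¹) * e⁻¹ = w by group] at h4
  exact (h.om_eq_zero hw (h.cmQ he hy.1)).1 h4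

theorem exists_fix (hB : B ≤ S) (nB : S ≤ 𝒩(B)) (hBA : ¬ B ≤ A) : ∃ x ∈ B, x ∉ A ∧ ∀ s ∈ S, cm s x ∈ A := by
  have := h.pg.isNilpotent
  obtain ⟨w, h1, h2, h3⟩ := CL.Grp.exists_mem_notMem_commutator_mem_in hB nB hBA
  exact ⟨w⁻¹, inv_mem h1, fun k => h2 (inv_mem_iff.1 k), fun s hs => by
    rw [cm, inv_mul_conj_eq_commutator, inv_inv]; exact h3 s hs⟩

theorem not_ab : ¬ Q ≤ 𝒞(Q) := fun k => by
  have h1 := card_le_of_le ((le_inf le_rfl k).trans h.cen_eq.le)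
  have := (h.big.trans h1).trans_eq (h.card_Z.trans (pow_one p).symm)
  exact absurd ((Nat.pow_le_pow_iff_right hp.out.one_lt).1 this) (by norm_num)

theorem Z_le_comm (hA : A ≤ Q) (na : ¬ A ≤ 𝒞(A)) : zpowers z ≤ ⁅A, A⁆ :=
  ((CL.Grp.eq_or_eq_of_relIndex_prime bot_le ((commutator_mono hA hA).trans h.comm) (by
    rw [relIndex_bot_left, h.card_Z]; exact hp.out)).resolve_left fun k => na (commutator_eq_bot_iff_le_centralizer.1 k)).ge

theorem norm_Z (hg : g ∈ 𝒩(S)) : g ∈ 𝒩(zpowers z) := mem_normalizer_of_finite fun _ hx => h.cen_eq.le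
  ⟨h.commQ (conj_mem_of_mem_normalizer (CL.Grp.le_normalizer_commutator' le_rfl le_rfl hg) (commutator_mono h.le h.le
    (h.Z_le_comm le_rfl h.not_ab hx))), cen_mono h.le (conj_mem_of_mem_normalizer (CL.Grp.le_normalizer_centralizer' le_rfl hg)
      (h.Z_le_cen le_rfl hx).2)⟩

theorem norm_Q (hc : Nat.card h.Ct ≤ p ^ 3) (hg : g ∈ 𝒩(S)) : g ∈ 𝒩(Q) := mem_normalizer_of_finite fun x hx => by_contra fun k => by
  have l : Q.map (cjh g) ≤ S := map_cjh hg ▸ map_mono h.le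
  have h1 : Q ⊓ Q.map (cjh g) ≤ h.Ct := fun y hy => h.mem_Ct (l ⟨x, hx, rfl⟩) k hy.1 (by
    have := inv_mul_conj_mem_commutator hy.2 (mem_map_of_mem (cjh g) hx)
    rw [← map_commutator] at this
    exact (map_cjh (h.norm_Z hg)).le (map_mono h.comm this))
  have h2 := card_of_relIndex (p := p) (X := Q ⊓ Q.map (cjh g)) inf_le_right (by
    rw [inf_relIndex_right]; exact relIndex_eq_of_not_le h.nQ h.le l h.idx fun c => k (c ⟨x, hx, rfl⟩))
  rw [card_map_of_injective (MulAut.conj g).injective] at h2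
  have := h.big.trans (h2.le.trans (Nat.mul_le_mul_left p ((card_le_of_le h1).trans hc)))
  rw [← pow_succ'] at this
  exact absurd ((Nat.pow_le_pow_iff_right hp.out.one_lt).1 this) (by norm_num)

/-- the elements whose commutator with `e` lies in `A` -/
def up (e : G) (hZ : zpowers z ≤ A) (hA : A ≤ Q) : Subgroup G := commSub Q A (h.norm hZ hA) {e}

section up
variable (hZ : zpowers z ≤ A) (hA : A ≤ Q)

theorem mem_up : x ∈ h.up e hZ hA ↔ x ∈ Q ∧ cm e x ∈ A := ⟨fun k => ⟨k.1, k.2 e rfl⟩, fun k => ⟨k.1, fun _ c => c ▸ k.2⟩⟩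

theorem up_le : h.up e hZ hA ≤ Q := fun _ hx => hx.1

theorem Ct_le_up (he : e ∈ S) : h.Ct ≤ h.up e hZ hA := fun _ hx => (h.mem_up hZ hA).2 ⟨hx.1, hZ (h.cm_Ct he hx)⟩

theorem card_up (he : e ∈ S) (heQ : e ∉ Q) : Nat.card (h.up e hZ hA) * p ≤ Nat.card h.Ct * Nat.card A := by
  have h1 := relIndex_commSub_le (I := A) ((h.up_le hZ hA (e := e)).trans h.nZ') (h.nZ he) fun a ha => ((h.mem_up hZ hA).1 ha).2
  have h2 := card_le_of_le (fun x hx => h.mem_Ct he heQ hx.1.1 (hx.2 e rfl) :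
    commSub _ _ ((h.up_le hZ hA (e := e)).trans h.nZ') {e} ≤ h.Ct)
  rw [CL.Grp.card_eq_relIndex_mul_card (K := h.up e hZ hA) (H := commSub _ _ ((h.up_le hZ hA).trans h.nZ') {e}) fun x hx => hx.1,
    CL.Grp.card_eq_relIndex_mul_card hZ, h.card_Z, ← mul_assoc, mul_comm (Nat.card h.Ct)]
  exact Nat.mul_le_mul_right _ (Nat.mul_le_mul h1 h2)

theorem le_up (he : e ∈ 𝒩(A)) : A ≤ h.up e hZ hA := fun _ hx =>
  (h.mem_up hZ hA).2 ⟨hA hx, mul_mem (inv_mem hx) (conj_mem_of_mem_normalizer he hx)⟩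

theorem n_up (he : e ∈ S) (heQ : e ∉ Q) (hn : e ∈ 𝒩(A)) : S ≤ 𝒩(h.up e hZ hA) :=
  h.norm' he heQ (hZ.trans (h.le_up hZ hA hn)) (h.up_le hZ hA) fun _ hx => h.le_up hZ hA hn ((h.mem_up hZ hA).1 hx).2

theorem lt_up (he : e ∈ S) (hn : e ∈ 𝒩(A)) (ne : ¬ Q ≤ A) : A < h.up e hZ hA := by
  obtain ⟨x, h1, h2, h3⟩ := h.exists_fix h.le h.nQ ne
  exact lt_of_le_not_ge (h.le_up hZ hA hn) fun k => h2 (k ((h.mem_up hZ hA).2 ⟨h1, h3 e he⟩))

theorem card_up_eq (hc : Nat.card h.Ct = p ^ 2) (he : e ∈ S) (heQ : e ∉ Q) (hn : e ∈ 𝒩(A)) (ne : ¬ Q ≤ A) :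
    Nat.card (h.up e hZ hA) = p * Nat.card A := by
  refine le_antisymm (Nat.le_of_mul_le_mul_right ((h.card_up hZ hA he heQ).trans_eq ?_) hp.out.pos)
    (mul_card_le_of_lt (h.pgQ.to_le (h.up_le hZ hA)) (h.lt_up hZ hA he hn ne))
  rw [hc]; ring

end up

end XQ

theorem exists_XQ (hp2 : p ≠ 2) (hS : IsPGroup p S) (hQS : Q ≤ S) (hQ : IsExtraspecial p Q) (hi : Q.relIndex S = p)
    (h6 : p ^ 6 ≤ Nat.card S) : ∃ z, XQ p S Q z := by
  obtain ⟨⟨z, hz⟩, z1⟩ := (Subgroup.ne_bot_iff_exists_ne_one).1 (CL.Grp.extra_center_ne_bot hQ)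
  have z1' : z ≠ 1 := fun k => z1 (Subtype.ext k)
  have e := CL.Grp.extra_zpowers_eq_center hQ hz z1'
  have e' : ∀ x : Q, x ∈ center Q ↔ (x : G) ∈ zpowers (z : G) := fun x => by
    rw [← e, ← (zpowers z).mem_map_iff_mem Q.subtype_injective, MonoidHom.map_zpowers]; rfl
  have zp : (z : G) ^ p = 1 := congrArg Subtype.val (CL.Grp.extra_pow_eq_one_of_mem_center hQ hz)
  have nQ : S ≤ 𝒩(Q) := by
    have := hS.isNilpotent
    have h1 := lt_normalizerIn hS (lt_of_le_of_ne hQS fun k => hp.out.one_lt.ne' (by rw [← hi, k, relIndex_self]))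
    exact ((CL.Grp.eq_or_eq_of_relIndex_prime h1.le inf_le_left (hi ▸ hp.out)).resolve_left h1.ne').ge.trans inf_le_right
  have cZ : Q ⊓ 𝒞(Q) = zpowers (z : G) := le_antisymm (fun x hx => (e' ⟨x, hx.1⟩).1 (Subgroup.mem_center_iff.2 fun y =>
    Subtype.ext (comm_of_cen hx.2 y.2).eq)) (zpowers_le.2 ⟨z.2, mem_cen fun y hy => congrArg Subtype.val (Subgroup.mem_center_iff.1 hz ⟨y, hy⟩)⟩)
  have cz := card_zpowers_of_pow_eq_one zp fun k => z1' (Subtype.ext k)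
  refine ⟨z, hp2, hS, hQS, hi, nQ, z.2, fun k => z1' (Subtype.ext k), zp, fun x hx => ?_, commutator_le.2 fun x hx y hy =>
    (e' _).1 (CL.Grp.extra_comm_mem_center hQ ⟨x, hx⟩ ⟨y, hy⟩), fun x hx => (e' _).1 (CL.Grp.extra_pow_mem_center hQ ⟨x, hx⟩),
    fun A hZ hA => ?_, ?_⟩
  · exact cm_eq_one.1 (mem_bot.1 (comm_mem_of_card_le hS bot_le ((zpowers_le.2 z.2).trans hQS) (le_normalizer_bot.trans' le_top) hx
      (le_normalizer_bot (mem_top x)) (cZ ▸ CL.Grp.le_normalizer_inf' nQ (CL.Grp.le_normalizer_centralizer' nQ) hx)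
      (by rw [cz, card_bot, mul_one]) (mem_zpowers _)))
  · have := CL.Grp.extra_card_mul_card_centralizer hQ (A := A.subgroupOf Q) fun x hx => hZ ((e' x).1 hx)
    rw [Nat.card_congr (subgroupOfEquivOfLe hA).toEquiv] at this
    rw [← this, ← Nat.card_congr (subgroupOfEquivOfLe (inf_le_left : Q ⊓ 𝒞(A) ≤ Q)).toEquiv]
    congr 3
    ext x
    exact ⟨fun k => mem_centralizer_iff.2 fun y hy => Subtype.ext (comm_of_cen k.2 hy).eq, fun k => ⟨x.2, mem_cen fun y hy =>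
      congrArg Subtype.val (mem_centralizer_iff.1 k ⟨y, hA hy⟩ hy)⟩⟩
  · rw [card_of_relIndex hQS hi, pow_succ'] at h6
    exact Nat.le_of_mul_le_mul_left h6 hp.out.pos

end CL.Fus.Xs
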