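/-
`p`-groups of order `p ^ 6` with an extraspecial subgroup of index `p`: relations.
-/
import Cfsg.Agent.Fus.XsA

set_option autoImplicit false
set_option linter.unusedSectionVars false

namespace CL.Fus.Xs

open Cfsg Subgroup CL.Fus.Rk
open scoped commutatorElement

local notation "𝒩(" X ")" => Subgroup.normalizer ((X : Subgroup _) : Set _)
local notation "𝒞(" X ")" => Subgroup.centralizer ((X : Subgroup _) : Set _)

variable {G : Type*} [Group G] {p : ℕ} {S Q A B X Y : Subgroup G} {a b e g s u w x y z : G} [hp : Fact p.Prime] [Finite G]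

/-- the three types of groups of order `p ^ 6` -/
def Six (p : ℕ) (S : Subgroup G) : Prop := Nat.card S = p ^ 6 ∧ ∃ e ∈ S, ∃ x ∈ S, ∃ y c d z, z ≠ 1 ∧
  ((y ∈ S ∧ Rel6 p 0 1 0 x y c d z e) ∨ (y ∈ S ∧ ∃ δ : ℤ, ¬ IsSquare (-(δ : ZMod p)) ∧ Rel6 p 1 0 δ x y c d z e) ∨
    (5 ≤ p ∧ ∃ s t : ℤ, ¬ (p : ℤ) ∣ t ∧ Rel7 p s t x y c d z e))

namespace XQ
variable (h : XQ p S Q z)
include h

theorem two_ne : (2 : ZMod p) ≠ 0 := fun k => not_dvd_two h.p2 ((ZMod.intCast_zmod_eq_zero_iff_dvd 2 p).1 (by exact_mod_cast k))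

theorem not_le {n : ℕ} (hn : n < 5) (k : Nat.card A ≤ p ^ n) : ¬ Q ≤ A := fun l =>
  absurd ((Nat.pow_le_pow_iff_right hp.out.one_lt).1 (h.big.trans ((card_le_of_le l).trans k))) (by omega)

theorem bf_symm (he : e ∈ S) (hx : x ∈ Q) (hy : y ∈ Q) (k : Commute (cm e x) (cm e y)) : bf p z e x y = bf p z e y x := by
  have := h.om_cm he hx hy
  rw [(h.om_eq_zero (h.cmQ he hx) (h.cmQ he hy)).2 k, h.om_anti hy (h.cmQ he hx)] at this
  simp only [bf]
  linear_combination this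

theorem zval_ne_one {k : ZMod p} (hk : k ≠ 0) : z ^ (k.val : ℤ) ≠ 1 := fun c => hk (by
  have := lg_zpow h.zp h.z1 (k.val : ℤ)
  rw [c, h.addOn_lg.one] at this
  simpa using this.symm)

theorem D_eq (hQ : Nat.card Q ≤ p ^ 5) (ab : h.Ct ≤ 𝒞(h.Ct)) (cC : p ^ 3 ≤ Nat.card h.Ct) : Q ⊓ 𝒞(h.Ct) = h.Ct :=
  (eq_of_le_of_card_ge (le_inf h.Ct_le ab) (Nat.le_of_mul_le_mul_left (c := Nat.card h.Ct) (by
    rw [h.cnt _ h.Z_le_Ct h.Ct_le]
    exact (Nat.mul_le_mul_right p hQ).trans ((show p ^ 5 * p = p ^ 3 * p ^ 3 by ring).le.trans (Nat.mul_le_mul cC cC)))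
      Nat.card_pos)).symm

section
variable (he : e ∈ S) (heQ : e ∉ Q) (hD : Q ⊓ 𝒞(h.Ct) = h.Ct)
include he hD

theorem cm_mem_Ct (hx : x ∈ Q) : cm e x ∈ h.Ct := hD ▸ h.cm_mem_D he hx

theorem bf_symm' (hx : x ∈ Q) (hy : y ∈ Q) : bf p z e x y = bf p z e y x :=
  h.bf_symm he hx hy (comm_of_cen (hD.ge (h.cm_mem_Ct he hD hy)).2 (h.cm_mem_Ct he hD hx))

theorem bf_mul_val (hx : x ∈ Q) (hy : y ∈ Q) (k : ZMod p) : bf p z e (y * x ^ k.val) (y * x ^ k.val) =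
    bf p z e y y + 2 * k * bf p z e x y + k * k * bf p z e x x := by
  have hv := mul_mem hy (pow_mem hx k.val)
  rw [h.addOn_bf he hv _ hy _ (pow_mem hx _), (h.addOn_bf he hv).val hx, h.bf_symm' he hD hv hy, h.bf_symm' he hD hv hx,
    h.addOn_bf he hy _ hy _ (pow_mem hx _), (h.addOn_bf he hy).val hx, h.addOn_bf he hx _ hy _ (pow_mem hx _),
    (h.addOn_bf he hx).val hx, h.bf_symm' he hD hy hx]
  ring

include heQ

theorem exists_bf (hx : x ∈ Q) (hxC : x ∉ h.Ct) : ∃ y ∈ Q, bf p z e x y ≠ 0 := by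
  by_contra! k
  exact hxC (h.mem_Ct he heQ hx (h.mem_Z (h.cmQ he hx) fun y hy => (h.om_eq_zero hy (h.cmQ he hx)).1
    ((h.bf_symm' he hD hy hx).trans (k y hy))))

theorem rel6 (ex : ∀ x ∈ Q, x ^ p = 1) (pe : e ^ p = 1) (eC : e ∈ 𝒞(h.Ct)) (hx : x ∈ Q) (hxC : x ∉ h.Ct) (hy : y ∈ Q)
    (k : ZMod p) {α β δ : ℤ} (h1 : -bf p z e x x = k * α) (h2 : -bf p z e x y = k * β) (h3 : -bf p z e y y = k * δ) :
    ∃ y' ∈ S, Rel6 p α β δ x y' (cm e x) (cm e y') (z ^ (k.val : ℤ)) e := by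
  obtain ⟨u, hu, hxu⟩ := h.exists_om hx h.Z_le_Ct h.Ct_le hxC
  have hw := pow_mem hu (-om p z x y / om p z x u).val
  have hy' := mul_mem hy hw.1
  have e1 : cm e (y * u ^ (-om p z x y / om p z x u).val) = cm e y := by
    rw [cm_mul, cm_eq_one.2 (comm_of_cen eC (hD.le hw)), mul_one, ← (comm_of_cen (inv_mem hw.2) (h.cm_mem_Ct he hD hy)).eq,
      mul_inv_cancel_right]
  have e2 : Commute x (y * u ^ (-om p z x y / om p z x u).val) := by
    rw [← h.om_eq_zero hx hy', h.om_right hx _ hy _ hw.1, (h.om_right hx).val hu.1]; field_simp; ring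
  have e3 : ∀ w ∈ Q, bf p z e w (y * u ^ (-om p z x y / om p z x u).val) = bf p z e w y := fun w _ => by rw [bf, e1, bf]
  refine ⟨_, h.le hy', ?_⟩
  generalize y * u ^ (-om p z x y / om p z x u).val = y' at *
  have key : ∀ a ∈ Q, ∀ b ∈ Q, ∀ i : ℤ, -bf p z e a b = k * i → ⁅cm e b, a⁆ = (z ^ (k.val : ℤ)) ^ i := fun a ha b hb i c => by
    rw [← zpow_mul, h.comm_eq' (h.cmQ he hb) ha (i := k.val * i)]
    rw [h.om_anti ha (h.cmQ he hb), ← bf, c]; simp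
  have zz : ∀ a ∈ S, Commute (z ^ (k.val : ℤ)) a := fun a ha => (h.zc a ha).zpow_left _
  exact ⟨conj_eq_cm e x, conj_eq_cm e y', (comm_of_cen eC (h.cm_mem_Ct he hD hx)).symm, (comm_of_cen eC (h.cm_mem_Ct he hD hy')).symm,
    comm_of_cen (hD.ge (h.cm_mem_Ct he hD hy')).2 (h.cm_mem_Ct he hD hx), e2, zz x (h.le hx), zz y' (h.le hy'), zz e he,
    key x hx x hx α h1, key y' hy' x hx β (by rw [h.bf_symm' he hD hy' hx, e3 x hx, h2]), key x hx y' hy' β (by rw [e3 x hx, h2]),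
    key y' hy' y' hy' δ (by rw [e3 y' hy', h.bf_symm' he hD hy' hy, e3 y hy, h3]), ex x hx, ex y' hy', h.powZ (zpow_mem (mem_zpowers z) _), pe⟩

theorem six_of_two (hQ : Nat.card Q ≤ p ^ 5) (ex : ∀ x ∈ Q, x ^ p = 1) (pe : e ^ p = 1) (eC : e ∈ 𝒞(h.Ct)) : Six p S := by
  have hQ' := le_antisymm hQ h.big
  refine ⟨by rw [h.card_S, hQ', ← pow_succ'], e, he, ?_⟩
  by_cases hi : ∃ x ∈ Q, x ∉ h.Ct ∧ bf p z e x x = 0
  · obtain ⟨x, hx, hxC, h1⟩ := hi
    obtain ⟨y, hy, h2⟩ := h.exists_bf he heQ hD hx hxC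
    have h3 := h.bf_mul_val he hD hx hy (-bf p z e y y / (2 * bf p z e x y))
    have h4 := h.addOn_bf he hx _ hy _ (pow_mem hx (-bf p z e y y / (2 * bf p z e x y)).val)
    rw [(h.addOn_bf he hx).val hx, h1, mul_zero, add_zero] at h4
    obtain ⟨y', hy', r⟩ := h.rel6 he heQ hD ex pe eC hx hxC (mul_mem hy (pow_mem hx _)) (-bf p z e x y) (α := 0) (β := 1) (δ := 0)
      (by rw [h1]; simp) (by rw [h4]; simp) (by have := h.two_ne; rw [h3, h1]; field_simp; simp)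
    exact ⟨x, h.le hx, y', _, _, _, h.zval_ne_one (neg_ne_zero.2 h2), Or.inl ⟨hy', r⟩⟩
  push Not at hi
  have c3 : Nat.card h.Ct = p ^ 3 := by
    have := h.cnt _ h.Z_le_Ct h.Ct_le
    rw [hD, hQ', ← pow_succ, ← pow_two, show p ^ (5 + 1) = (p ^ 3) ^ 2 by ring] at this
    exact Nat.pow_left_injective two_ne_zero this
  obtain ⟨x, hx, hxC⟩ := SetLike.not_le_iff_exists.1 (h.not_le (by norm_num) c3.le)
  obtain ⟨y, hy, hyC⟩ := SetLike.not_le_iff_exists.1 (h.not_le (A := h.Ct ⊔ zpowers x) (n := 4) (by norm_num)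
    (by rw [h.card_sup hx h.Z_le_Ct h.Ct_le hxC, c3, ← pow_succ']))
  have h1 := hi x hx hxC
  have h2 := h.addOn_bf he hx _ hy _ (pow_mem hx (-bf p z e x y / bf p z e x x).val)
  rw [(h.addOn_bf he hx).val hx, div_mul_cancel₀ _ h1, add_neg_cancel] at h2
  have h3 : ∀ k : ℕ, y * x ^ (-bf p z e x y / bf p z e x x).val * x ^ k ∉ h.Ct := fun k c => hyC (by
    simpa using mul_mem (mul_mem (mem_sup_left c) (inv_mem (mem_sup_right (npow_mem_zpowers x k))))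
      (inv_mem (mem_sup_right (npow_mem_zpowers x (-bf p z e x y / bf p z e x x).val))))
  have h4 := mul_mem hy (pow_mem hx (-bf p z e x y / bf p z e x x).val)
  generalize y * x ^ (-bf p z e x y / bf p z e x x).val = w at *
  obtain ⟨y', hy', r⟩ := h.rel6 he heQ hD ex pe eC hx hxC h4 (-bf p z e x x) (α := 1) (β := 0)
    (δ := ((bf p z e w w / bf p z e x x).val : ℤ)) (by simp) (by rw [h2]; simp) (by simp; field_simp)
  refine ⟨x, h.le hx, y', _, _, _, h.zval_ne_one (neg_ne_zero.2 h1), Or.inr (Or.inl ⟨hy', _, fun ⟨r, hr⟩ => ?_, r⟩)⟩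
  refine hi _ (mul_mem h4 (pow_mem hx _)) (h3 r.val) ?_
  rw [h.bf_mul_val he hD hx h4, h2, ← hr]
  simp; field_simp; simp

end

theorem six_of_one (hQ : Nat.card Q ≤ p ^ 5) (ex : ∀ x ∈ Q, x ^ p = 1) (he : e ∈ S) (heQ : e ∉ Q) (pe : e ^ p = 1) (eC : e ∈ 𝒞(h.Ct))
    (hc : Nat.card h.Ct = p ^ 2) : Six p S := by
  have hQ' := le_antisymm hQ h.big
  have c2 := h.card_up_eq h.Z_le_Ct h.Ct_le hc he heQ (h.nCt he) (h.not_le (by norm_num) hc.le)
  have z2 := h.Z_le_Ct.trans (h.le_up h.Z_le_Ct h.Ct_le (h.nCt he))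
  have l2 := h.up_le h.Z_le_Ct h.Ct_le (e := e)
  have n2 := h.n_up h.Z_le_Ct h.Ct_le he heQ (h.nCt he)
  rw [hc, ← pow_succ'] at c2
  have c3 := h.card_up_eq z2 l2 hc he heQ (n2 he) (h.not_le (by norm_num) c2.le)
  have l3 := h.up_le z2 l2 (e := e)
  rw [c2, ← pow_succ'] at c3
  have m3 : ∀ x ∈ Q, cm e x ∈ h.up e z2 l2 := fun x hx => comm_mem_of_card_le h.pg l3 h.le (h.le.trans (h.n_up z2 l2 he heQ (n2 he))) he
    (h.n_up z2 l2 he heQ (n2 he) he) (h.nQ he) (by rw [c3, hQ', ← pow_succ']) hx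
  obtain ⟨a, ha, a3⟩ := SetLike.not_le_iff_exists.1 (h.not_le (by norm_num) c3.le)
  have hb := h.cmQ he ha
  have hc' := h.cmQ he hb
  have hd := h.cmQ he hc'
  have dC : cm e (cm e (cm e a)) ∈ h.Ct := ((h.mem_up _ _).1 ((h.mem_up _ _).1 (m3 a ha)).2).2
  have dZ : cm e (cm e (cm e a)) ∉ zpowers z := fun k => a3 ((h.mem_up _ _).2 ⟨ha, (h.mem_up _ _).2 ⟨hb, h.mem_Ct he heQ hc' k⟩⟩)
  have bd := (comm_of_cen (h.cm_mem_D he ha).2 dC).symm
  have cd := (comm_of_cen (h.cm_mem_D he hb).2 dC).symm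
  have ht : om p z a (cm e (cm e (cm e a))) ≠ 0 := fun k => by
    obtain ⟨x, hx, u, hu, e1⟩ := h.exists_cm he heQ (d := a) ⟨ha, by
      rw [← eq_sup_zpowers_of_relIndex h.Z_le_Ct ((idx_of_card h.Z_le_Ct (by rw [hc, h.card_Z, pow_two])).symm ▸ hp.out) dC dZ]
      exact mem_cen_sup (mem_cen_zpowers (h.zc a (h.le ha))) (mem_cen_zpowers ((h.om_eq_zero ha hd).1 k).symm)⟩
    exact a3 (e1 ▸ mul_mem (m3 x hx) (h.le_up z2 l2 (n2 he) (z2 hu)))
  have r1 := h.om_cm he ha hb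
  have r2 := h.om_cm he ha hc'
  rw [h.om_self hb, zero_add] at r1
  rw [(h.om_eq_zero hb hd).2 bd, add_zero] at r2
  have e1 := conj_eq_cm e a
  have e2 := conj_eq_cm e (cm e a)
  have e3 := conj_eq_cm e (cm e (cm e a))
  generalize cm e (cm e (cm e a)) = d at *
  generalize cm e (cm e a) = c at *
  generalize cm e a = b at *
  refine ⟨by rw [h.card_S, hQ', ← pow_succ'], e, he, a, h.le ha, b, c, d, z, h.z1, Or.inr (Or.inr ⟨?_, (om p z a b).val, (om p z a d).val,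
    fun k => ht (by simpa using (ZMod.intCast_zmod_eq_zero_iff_dvd _ p).2 k), e1, e2, e3, (comm_of_cen eC dC).symm, h.zc a (h.le ha),
    h.zc e he, h.comm_eq ha hb, h.comm_eq' ha hc' (by simp; linear_combination r1 - r2), h.comm_eq ha hd,
    h.comm_eq' hb hc' (by simp; linear_combination r2), bd, cd, ex a ha, h.zp, pe⟩)⟩
  by_contra k
  obtain rfl : p = 3 := by
    have := hp.out.two_le
    have := h.p2
    have : p ≠ 4 := fun k => absurd (k ▸ hp.out) (by norm_num)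
    omega
  have e4 : a * b * (b * c) * (b * c * (c * d)) = a := by
    have t : ∀ x y : G, e * (x * y) * e⁻¹ = e * x * e⁻¹ * (e * y * e⁻¹) := fun x y => by group
    calc _ = e * (e * (e * a * e⁻¹) * e⁻¹) * e⁻¹ := by rw [e1, t a b, e1, e2, t (a * b), t a b, t b c, e1, e2, e3]
      _ = (e * e * e) * a * (e * e * e)⁻¹ := by group
      _ = a := by rw [← pow_three', pe]; group
  have r := h.om_right ha
  have e5 := (congrArg (om 3 z a) e4).trans (h.om_self ha)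
  rw [r _ (mul_mem (mul_mem ha hb) (mul_mem hb hc')) _ (mul_mem (mul_mem hb hc') (mul_mem hc' hd)), r _ (mul_mem ha hb) _
    (mul_mem hb hc'), r _ (mul_mem hb hc') _ (mul_mem hc' hd), r _ ha _ hb, r _ hb _ hc', r _ hc' _ hd, h.om_self ha] at e5
  have h3 : (3 : ZMod 3) = 0 := rfl
  exact ht (by linear_combination e5 - (om 3 z a b + om 3 z a c) * h3)

end XQ

end CL.Fus.Xs
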