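/-
Extraspecial subgroup of index `p`: extension lemmas, and the case where the centre is not weakly closed in `Q`.
-/
import Cfsg.Agent.Fus.XsB

set_option autoImplicit false
set_option linter.unusedSectionVars false

namespace CL.Fus.Xs

open Cfsg Cfsg.FusionSystem Subgroup CL.Fus.Rk
open scoped commutatorElement

local notation "𝒩(" X ")" => Subgroup.normalizer ((X : Subgroup _) : Set _)
local notation "𝒞(" X ")" => Subgroup.centralizer ((X : Subgroup _) : Set _)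

variable {G : Type*} [Group G] {p : ℕ} {S Q A B E W X Y : Subgroup G} {a b e g k s t u w x y z : G} [hp : Fact p.Prime] [Finite G]

theorem fn_of (hE : E ≤ S) (c : ∀ g, E.map (cjh g) ≤ S → Nat.card ↥(S ⊓ 𝒩(E.map (cjh g))) ≤ Nat.card ↥(S ⊓ 𝒩(E))) :
    (groupFusionSystem S).IsFullyNormalized E := ⟨hE, fun _ hQ => by
  rw [GS.groupFusionSystem_eq] at hQ
  obtain ⟨-, h2, g, -, rfl⟩ := GS.isConj_iff.1 hQ
  exact c g h2⟩

theorem fn_of_normal (hE : E ≤ S) (hn : S ≤ 𝒩(E)) : (groupFusionSystem S).IsFullyNormalized E :=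
  fn_of hE fun _ _ => card_le_of_le (inf_le_left.trans (le_inf le_rfl hn))

theorem eq_one_of_mem (hw : w ^ p = 1) (hwX : w ∉ X) (h1 : u ∈ X) (h2 : u ∈ zpowers w) : u = 1 := by
  obtain ⟨i, rfl⟩ := mem_zpowers_iff.1 h2
  by_cases k : (p : ℤ) ∣ i
  · obtain ⟨j, rfl⟩ := k
    rw [zpow_mul, zpow_natCast, hw, one_zpow]
  · exact (hwX (mem_of_zpow_mem_of_not_dvd (hw ▸ one_mem X) h1 k)).elim

theorem conj_pow_eq_one (h : z ^ p = 1) (g : G) : (g * z * g⁻¹) ^ p = 1 := by rw [conj_pow, h, mul_one, mul_inv_cancel]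

theorem norm_of_conj (c : k * z * k⁻¹ ∈ zpowers z) : k ∈ 𝒩(zpowers z) := mem_normalizer_of_finite fun _ hx =>
  (zpowers_le.2 (mem_comap.2 c) : zpowers z ≤ (zpowers z).comap (cjh k)) hx

theorem mem_of_conj (c : k * z * k⁻¹ ∈ zpowers z) (e : k * w * k⁻¹ = z) : w ∈ zpowers z := by
  have := conj_mem_of_mem_normalizer (Subgroup.inv_mem _ (norm_of_conj c)) (mem_zpowers z)
  rwa [show k⁻¹ * z * k⁻¹⁻¹ = w by rw [← e]; group] at this

theorem mem_cen_of_eq (e : X ⊔ zpowers u = A) (h1 : x ∈ 𝒞(X)) (h2 : Commute u x) : x ∈ 𝒞(A) :=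
  e ▸ mem_cen_sup h1 (mem_cen_zpowers h2)

section Fusion
variable (hS : IsPGroup p S) (hF : (groupFusionSystem S).IsSaturated p)
include hS hF

theorem exists_cen (hz : z ∈ S) (zc : ∀ x ∈ S, Commute z x) (hw : g * z * g⁻¹ ∈ S) :
    ∃ k, k * (g * z * g⁻¹) * k⁻¹ = z ∧ ∀ x ∈ S, Commute (g * z * g⁻¹) x → k * x * k⁻¹ ∈ S := by
  have e : img (fun x => g⁻¹ * x * g⁻¹⁻¹) (zpowers (g * z * g⁻¹)) = zpowers z := by
    rw [img_conj, MonoidHom.map_zpowers]; congr 1; simp [mul_assoc]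
  have h1 : Mor (groupFusionSystem S) (zpowers (g * z * g⁻¹)) fun x => g⁻¹ * x * g⁻¹⁻¹ := mor_group_iff.2 ⟨zpowers_le.2 hw,
    fun x hx => zpowers_le.2 hz (e.le (mem_img_of_mem _ hx)), g⁻¹, fun _ _ => rfl⟩
  obtain ⟨f, hf, e'⟩ := h1.extend_centralizerIn (receptive_of_fullyCentralized hS hF (e.symm ▸ ⟨zpowers_le.2 hz, fun _ _ =>
    card_le_of_le fun x hx => ⟨hx.1, mem_cen_zpowers (zc x hx.1)⟩⟩))
  obtain ⟨-, h2, k, hk⟩ := mor_group_iff.1 hf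
  refine ⟨k, by rw [← hk _ (mem_sup_left (mem_zpowers _)), e' _ (mem_zpowers _)]; group, fun x hx c => ?_⟩
  have : x ∈ zpowers (g * z * g⁻¹) ⊔ centralizerIn S (zpowers (g * z * g⁻¹)) := mem_sup_right ⟨hx, mem_cen_zpowers c⟩
  exact hk x this ▸ h2 x this

theorem lift (hE : (groupFusionSystem S).IsFullyNormalized E) (hA : A ≤ E) (hB : B ≤ A) (hY : Y ≤ frat E)
    (h1 : S ⊓ 𝒩(E) ≤ secC E A) (h2 : S ⊓ 𝒩(E) ≤ secC A B) (h3 : S ⊓ 𝒩(E) ≤ secC B Y) (kE : k ∈ 𝒩(E)) (kA : k ∈ 𝒩(A))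
    (kB : k ∈ 𝒩(B)) (kY : k ∈ 𝒩(Y)) : ∃ g ∈ normalizer ((S ⊓ 𝒩(E) : Subgroup G) : Set G), g⁻¹ * k ∈ 𝒞(E) := by
  have hpE := hS.to_le hE.1
  have l : secC E A ⊓ secC A B ⊓ secC B Y ≤ 𝒩(E) := fun _ hx => hx.1.1.1
  have t : Tr p (secC E A ⊓ secC A B ⊓ secC B Y) E ⊥ := (Tr.trans hpE (Tr.of_le (inf_le_left.trans inf_le_left)) (Tr.trans
    (hpE.to_le hA) (Tr.of_le (inf_le_left.trans inf_le_right)) (Tr.of_le inf_le_right) hB) hA).of_frat' hpE hY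
  have l' := le_inf (le_inf h1 h2) h3
  have n : ∀ X Y : Subgroup G, k ∈ 𝒩(X) → k ∈ 𝒩(Y) → zpowers k ≤ 𝒩(secC X Y) := fun X Y a b =>
    le_normalizer_secC (zpowers_le.2 a) (zpowers_le.2 b)
  have h4 := (sylIn_aut hS hF hE).2.2 _ (t.isPGroup l) (GS.autInducedBy_mono l' E) (GS.autInducedBy_mono l E)
  rw [← img_quoAut l, ← img_quoAut inf_le_right] at h4
  exact ext_of_cen hS hF (fullyCentralized_of_fullyNormalized hS hF hE) k kE fun a ha => ((quoAut E).mem_iff (sup_le inf_le_right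
    (centralizer_le_normalizer _)) le_sup_right (mul_mem (mul_mem kE ha.2) (Subgroup.inv_mem _ kE))).1 (img_mono _ le_sup_left (h4
      (mem_img_of_mem _ (conj_mem_of_mem_normalizer (CL.Grp.le_normalizer_inf' (CL.Grp.le_normalizer_inf' (n _ _ kE kA) (n _ _ kA kB))
        (n _ _ kB kY) (mem_zpowers k)) (l' ha)))))

theorem torus (hW : (groupFusionSystem S).IsFullyNormalized W) (cW : Nat.card W = p ^ 2) (el : ∀ x ∈ W, x ^ p = 1) (hz : z ∈ W)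
    (z1 : z ≠ 1) (zc : ∀ x ∈ S, Commute z x) (ht : t ∈ S ⊓ 𝒩(W)) (ht' : t ∉ 𝒞(W)) (hg : g ∈ 𝒩(W)) (hg' : g * z * g⁻¹ ∉ zpowers z)
    (l m : ℕ) (hd : (p : ℤ) ∣ l * m - 1) : ∃ k ∈ normalizer ((S ⊓ 𝒩(W) : Subgroup G) : Set G),
      k * z * k⁻¹ = z ^ l ∧ k * (g * z * g⁻¹) * k⁻¹ = (g * z * g⁻¹) ^ m := by
  have hZ := zpowers_le.2 hz
  have cZ := card_zpowers_of_pow_eq_one (el z hz) z1
  have nZ : ∀ x ∈ S, x ∈ 𝒞(zpowers z) := fun x hx => mem_cen_zpowers (zc x hx)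
  have h1 : S ⊓ 𝒩(W) ≤ secC W (zpowers z) := fun a ha => ⟨ha.2, centralizer_le_normalizer _ (nZ a ha.1), fun x hx =>
    comm_mem_of_card_le hS hZ hW.1 (fun y hy => centralizer_le_normalizer _ (nZ y (hW.1 hy))) ha.1
      (centralizer_le_normalizer _ (nZ a ha.1)) ha.2 (by rw [cW, cZ, pow_two]) hx⟩
  have e : ∀ x : W, x ∈ zpowers (⟨z, hz⟩ : W) ↔ (x : G) ∈ zpowers z := fun x => by
    rw [← (zpowers _).mem_map_iff_mem W.subtype_injective, MonoidHom.map_zpowers]; rfl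
  obtain ⟨k, -, k1, k2, -⟩ := exists_torus_of_card_sq cW (fun v => Subtype.ext (el v v.2)) W.normalizerMonoidHom (t := ⟨t, ht.2⟩)
    (g := ⟨g, hg⟩) (z := ⟨z, hz⟩) ⟨Subtype.ext (el z hz), fun k => z1 (congrArg Subtype.val k),
      Subtype.ext (conj_eq_of_mem_centralizer (nZ t ht.1) (mem_zpowers z)), fun x => (e _).2 ((h1 ht).2.2 x x.2)⟩
    (fun k => ht' (mem_centralizer_of_conj_eq fun x hx => by
      have := congrArg Subtype.val (DFunLike.congr_fun k (⟨x, hx⟩ : W)); exact this))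
    (fun k => hg' ((e _).1 k)) l m hd
  have k3 : k * z * (k : G)⁻¹ = z ^ l := congrArg Subtype.val k1
  have k4 : k * (g * z * g⁻¹) * (k : G)⁻¹ = (g * z * g⁻¹) ^ m := congrArg Subtype.val k2
  have kZ : (k : G) ∈ 𝒩(zpowers z) := norm_of_conj (k3.symm ▸ npow_mem_zpowers z l)
  obtain ⟨n, hn, c⟩ := lift hS hF hW hZ le_rfl bot_le h1 (fun a ha => cen_le_secC le_rfl le_rfl (nZ a ha.1))
    (fun a ha => (secC_bot _).ge (nZ a ha.1)) k.2 kZ kZ (le_normalizer_bot (mem_top _))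
  have c' : ∀ x ∈ W, n * x * n⁻¹ = k * x * (k : G)⁻¹ := fun x hx => by
    conv_lhs => rw [← conj_eq_of_mem_centralizer c hx]
    group
  exact ⟨n, hn, (c' z hz).trans k3, (c' _ (conj_mem_of_mem_normalizer hg hz)).trans k4⟩

end Fusion

namespace XQ
variable (h : XQ p S Q z)
include h

theorem lg_conj {l : ℕ} (c : k * z * k⁻¹ = z ^ l) (hu : u ∈ zpowers z) : lg p z (k * u * k⁻¹) = l * lg p z u := by
  obtain ⟨i, rfl⟩ := mem_zpowers_iff.1 hu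
  rw [← conj_zpow, c, ← zpow_natCast, ← zpow_mul, lg_zpow h.zp h.z1, lg_zpow h.zp h.z1]; simp

theorem om_conj' {l : ℕ} (c : k * z * k⁻¹ = z ^ l) (hx : x ∈ Q) (hy : y ∈ Q) :
    om p z (k * x * k⁻¹) (k * y * k⁻¹) = l * om p z x y := by
  rw [om, ← conjugate_commutatorElement, h.lg_conj c (h.comm_mem hx hy), om]

theorem lam_conj {l : ℕ} (c : k * z * k⁻¹ = z ^ l) (hx : x ∈ Q) : lam p z (k * x * k⁻¹) = l * lam p z x := by
  rw [lam, conj_pow, h.lg_conj c (h.pow x hx), lam]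

theorem Z_le_ker : zpowers z ≤ h.addOn_lam.ker := fun _ hu => ⟨h.Z_le hu, (h.lam_eq_zero (h.Z_le hu)).2 (h.powZ hu)⟩

theorem D_le_ker (he : e ∈ S) (heQ : e ∉ Q) : Q ⊓ 𝒞(h.Ct) ≤ h.addOn_lam.ker := fun d hd => by
  obtain ⟨x, hx, u, hu, rfl⟩ := h.exists_cm he heQ hd
  exact mul_mem ⟨h.cmQ he hx, h.lam_cm he hx⟩ (h.Z_le_ker hu)

theorem card_cen_ker (hl : ¬ Q ≤ h.addOn_lam.ker) : Nat.card ↥(Q ⊓ 𝒞(h.addOn_lam.ker)) = p ^ 2 := by
  have h1 := h.cnt _ h.Z_le_ker h.addOn_lam.ker_le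
  rw [le_antisymm h.addOn_lam.card_le (mul_card_le_of_lt h.pgQ (lt_of_le_not_ge h.addOn_lam.ker_le hl))] at h1
  exact Nat.eq_of_mul_eq_mul_left Nat.card_pos (h1.trans (by ring))

theorem card_W (hw : w ∈ Q) (hwZ : w ∉ zpowers z) : Nat.card ↥(zpowers z ⊔ zpowers w) = p ^ 2 := by
  rw [h.card_sup hw le_rfl h.Z_le hwZ, h.card_Z, pow_two]

theorem card_cen (hw : w ∈ Q) (hwZ : w ∉ zpowers z) : Nat.card Q = p * Nat.card ↥(Q ⊓ 𝒞(zpowers z ⊔ zpowers w)) := by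
  have := h.cnt _ le_sup_left (sup_le h.Z_le (zpowers_le.2 hw))
  rw [h.card_W hw hwZ] at this
  exact Nat.eq_of_mul_eq_mul_right hp.out.pos (this.symm.trans (by ring))

theorem not_ab' (hZ : zpowers z ≤ A) (hA : A ≤ Q) (c : Nat.card Q ≤ p * Nat.card A) : ¬ A ≤ 𝒞(A) := fun k => by
  have h1 := (h.ab_card hZ hA k).trans (Nat.mul_le_mul_right p c)
  have h2 : Nat.card A ≤ p ^ 2 := Nat.le_of_mul_le_mul_left (h1.trans_eq (by ring)) Nat.card_pos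
  exact h.not_le (n := 3) (by norm_num) (c.trans ((Nat.mul_le_mul_left p h2).trans_eq (by ring))) le_rfl

theorem adjust (he : e ∈ S) (hu : u ∈ h.Ct) (ha : a ∈ Q) (h2 : om p z a u ≠ 0) : ∃ j : ℕ, Commute u (e * a ^ j) := by
  have h3 := pow_mem ha (-lg p z (cm e u) / om p z a u).val
  refine ⟨(-lg p z (cm e u) / om p z a u).val, cm_eq_one.1 ((h.lg_eq_zero (h.cm_Ct (mul_mem he (h.le h3)) hu)).1 ?_)⟩
  have h5 := (h.om_right hu.1).val ha (-lg p z (cm e u) / om p z a u)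
  generalize a ^ (-lg p z (cm e u) / om p z a u).val = b at *
  rw [show cm (e * b) u = u⁻¹ * (e * (b * u * b⁻¹) * e⁻¹) by simp only [cm]; group, h.conj_eq hu.1 h3, ← conj_mul,
    ← ((h.zc e he).zpow_left _).eq, mul_inv_cancel_right, ← mul_assoc, ← cm, h.addOn_lg _ (h.cm_Ct he hu) _ (zpow_mem (mem_zpowers z) _),
    lg_zpow h.zp h.z1, h.om_anti hu.1 h3, h5, h.om_anti ha hu.1]
  simp; field_simp; simp

variable (hF : (groupFusionSystem S).IsSaturated p)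
include hF

theorem two_aux (hw : g * z * g⁻¹ ∈ Q) (hwZ : g * z * g⁻¹ ∉ zpowers z) : ∃ k, k * (g * z * g⁻¹) * k⁻¹ = z ∧ k * z * k⁻¹ ∈ h.Ct ∧
    k * z * k⁻¹ ∉ zpowers z ∧ Nat.card h.Ct ≤ p ^ 3 ∧
    (¬ Q ≤ h.addOn_lam.ker → Q ⊓ 𝒞(h.addOn_lam.ker) = zpowers z ⊔ zpowers (k * z * k⁻¹)) ∧ ((∀ x ∈ Q, x ^ p = 1) → Six p S) := by
  obtain ⟨k, k1, k2⟩ := exists_cen h.pg hF (h.le h.zQ) h.zc (h.le hw)
  have c1 := h.card_cen hw hwZ
  have wC : g * z * g⁻¹ ∈ Q ⊓ 𝒞(zpowers z ⊔ zpowers (g * z * g⁻¹)) :=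
    ⟨hw, mem_cen_sup (mem_cen_zpowers (h.zc _ (h.le hw))) (mem_cen_zpowers (Commute.refl _))⟩
  have zC := h.Z_le_cen ((sup_le h.Z_le (zpowers_le.2 hw)).trans h.le)
  have hC : ∀ x ∈ Q ⊓ 𝒞(zpowers z ⊔ zpowers (g * z * g⁻¹)), x ∈ Q ∧ k * x * k⁻¹ ∈ S := fun x hx =>
    ⟨hx.1, k2 x (h.le hx.1) (comm_of_cen hx.2 (mem_sup_right (mem_zpowers _)))⟩
  generalize Q ⊓ 𝒞(zpowers z ⊔ zpowers (g * z * g⁻¹)) = C at *
  have lC : C ≤ Q := fun x hx => (hC x hx).1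
  have na := h.not_ab' zC lC c1.le
  have vZ : k * z * k⁻¹ ∉ zpowers z := fun c => hwZ (mem_of_conj c k1)
  have vp := conj_pow_eq_one h.zp k
  have eZ : (zpowers z).map (cjh k) = zpowers (k * z * k⁻¹) := MonoidHom.map_zpowers _ _
  have lR : C.map (cjh k) ≤ S := by rintro _ ⟨x, hx, rfl⟩; exact (hC x hx).2
  have cR : ⁅C.map (cjh k), C.map (cjh k)⁆ ≤ zpowers (k * z * k⁻¹) := by
    rw [← map_commutator, ← eZ]; exact map_mono ((commutator_mono lC lC).trans h.comm)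
  have pR : ∀ x ∈ C.map (cjh k), x ^ p ∈ zpowers (k * z * k⁻¹) := by
    rintro _ ⟨x, hx, rfl⟩; rw [← map_pow, ← eZ]; exact mem_map_of_mem _ (h.pow x (lC hx))
  have pR' : (∀ x ∈ Q, x ^ p = 1) → ∀ x ∈ C.map (cjh k), x ^ p = 1 := by
    rintro ex _ ⟨x, hx, rfl⟩; rw [← map_pow, ex x (lC hx), map_one]
  have vQ : k * z * k⁻¹ ∈ Q := h.commQ (commutator_mono lR lR (by
    rw [← map_commutator]; exact mem_map_of_mem (cjh k) (h.Z_le_comm lC na (mem_zpowers z))))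
  have vR : k * z * k⁻¹ ∈ C.map (cjh k) := mem_map_of_mem (cjh k) (zC (mem_zpowers z))
  have zR : z ∈ C.map (cjh k) := k1 ▸ mem_map_of_mem (cjh k) wC
  have vc : ∀ x ∈ C.map (cjh k), Commute (k * z * k⁻¹) x := by
    rintro _ ⟨x, hx, rfl⟩; exact (h.zc x (h.le (lC hx))).map (cjh k)
  have naR : ¬ C.map (cjh k) ≤ 𝒞(C.map (cjh k)) := by
    rwa [GS.centralizer_map_conj, map_le_map_iff_of_injective (MulAut.conj k).injective]
  rw [← GS.card_map_conj C k] at c1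
  refine ⟨k, k1, ?_⟩
  generalize C.map (cjh k) = R at *
  generalize k * z * k⁻¹ = v at *
  have ab : Q ⊓ R ≤ 𝒞(Q ⊓ R) := fun x hx => mem_cen fun y hy => commutatorElement_eq_one_iff_commute.1
    (eq_one_of_mem vp vZ (h.comm_mem hy.1 hx.1) (cR (commutator_mem_commutator hy.2 hx.2)))
  have nR : ¬ R ≤ Q := fun c => naR (by rwa [inf_eq_right.2 c] at ab)
  have iA : (Q ⊓ R).relIndex R = p := by rw [inf_relIndex_right]; exact relIndex_eq_of_not_le h.nQ h.le lR h.idx nR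
  have c2 := card_of_relIndex inf_le_right iA
  have zA : zpowers z ≤ Q ⊓ R := zpowers_le.2 ⟨h.zQ, zR⟩
  have c3 : Nat.card ↥(Q ⊓ R) ≤ p ^ 3 := Nat.le_of_mul_le_mul_left ((h.ab_card zA inf_le_left ab).trans_eq (by rw [c1, c2]; ring))
    Nat.card_pos
  have cQ : Nat.card Q ≤ p ^ 5 := by
    rw [c1, c2]; exact (Nat.mul_le_mul_left p (Nat.mul_le_mul_left p c3)).trans_eq (by ring)
  have cQ' := le_antisymm cQ h.big
  have c4 : Nat.card ↥(Q ⊓ R) = p ^ 3 := Nat.eq_of_mul_eq_mul_left hp.out.pos (Nat.eq_of_mul_eq_mul_left hp.out.pos (by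
    rw [← c2, ← c1, cQ']; ring))
  obtain ⟨e, heR, heQ⟩ := SetLike.not_le_iff_exists.1 nR
  have he := lR heR
  obtain ⟨a, ha, hae⟩ : ∃ a ∈ Q ⊓ R, ¬ Commute a e := by
    by_contra! c
    exact naR (ab_of_idx inf_le_right iA fun x hx => mem_cen_of_eq (eq_sup_zpowers_of_relIndex inf_le_right (iA ▸ hp.out) heR
      fun c => heQ c.1) (ab hx) (c x hx).symm)
  have h1 : cm e a ∈ zpowers v := cR (inv_mul_conj_mem_commutator ha.2 heR)
  have aC : a ∉ h.Ct := fun c => hae (cm_eq_one.1 (eq_one_of_mem vp vZ (h.cm_Ct he c) h1))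
  have vC : v ∈ h.Ct := h.mem_Ct he heQ vQ (cm_eq_one.2 (vc e heR) ▸ one_mem _)
  have WC : zpowers z ⊔ zpowers v ≤ h.Ct := sup_le h.Z_le_Ct (zpowers_le.2 vC)
  have WD : zpowers z ⊔ zpowers v ≤ Q ⊓ 𝒞(h.Ct) := sup_le (h.Z_le_cen (h.Ct_le.trans h.le)) (zpowers_le.2 (by_contra fun c =>
    hae (cm_eq_one.1 (eq_one_of_mem vp c (h.cm_mem_D he ha.1) h1))))
  have WR : R ≤ 𝒞(zpowers z ⊔ zpowers v) := fun x hx => mem_cen_sup (mem_cen_zpowers (h.zc x (lR hx))) (mem_cen_zpowers (vc x hx))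
  have cW := h.card_W vQ vZ
  have cD : p ^ 3 ≤ Nat.card ↥(Q ⊓ 𝒞(h.Ct)) := by
    rw [pow_succ', ← cW]
    exact mul_card_le_of_lt (h.pgQ.to_le inf_le_left) (lt_of_le_of_ne WD fun c => aC ((h.cen_cen h.Z_le_Ct h.Ct_le).le
      ⟨ha.1, c ▸ WR ha.2⟩))
  have cC : Nat.card h.Ct ≤ p ^ 3 := Nat.le_of_mul_le_mul_right (((Nat.mul_le_mul_left _ cD).trans_eq
    (h.cnt _ h.Z_le_Ct h.Ct_le)).trans_eq (by rw [cQ']; ring)) (pow_pos hp.out.pos 3)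
  refine ⟨vC, vZ, cC, fun hl => eq_of_le_of_card_ge (fun x hx => ?_) (cW.trans (h.card_cen_ker hl).symm).le, fun ex => ?_⟩
  · have WA : zpowers z ⊔ zpowers v ≤ Q ⊓ R := sup_le zA (zpowers_le.2 ⟨vQ, vR⟩)
    have e1 : Q ⊓ R = Q ⊓ 𝒞(Q ⊓ R) := eq_of_le_of_card_ge (le_inf inf_le_left ab) (Nat.le_of_mul_le_mul_left
      ((h.cnt _ zA inf_le_left).trans (by rw [cQ', c4]; ring)).le Nat.card_pos)
    refine ((CL.Grp.eq_or_eq_of_relIndex_prime (le_inf WA WC) inf_le_left ((idx_of_card WA (by rw [c4, cW, pow_succ'])).symm ▸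
      hp.out)).resolve_right fun c => aC (c.ge ha).2).le ⟨e1.ge ⟨hx.1, cen_mono (X := Q ⊓ R) (Y := h.addOn_lam.ker) (fun y hy => ⟨hy.1, (h.lam_eq_zero hy.1).2
        (eq_one_of_mem vp vZ (h.pow y hy.1) (pR y hy.2))⟩) hx.2⟩, (h.cen_cen h.Z_le_Ct h.Ct_le).le
        ⟨hx.1, cen_mono (h.D_le_ker he heQ) hx.2⟩⟩
  obtain c | c := WC.eq_or_lt
  · exact h.six_of_one cQ ex he heQ (pR' ex e heR) (c ▸ WR heR) (c ▸ cW)
  have c5 : Nat.card h.Ct = p * Nat.card ↥(zpowers z ⊔ zpowers v) := le_antisymm (by rwa [cW, ← pow_succ'])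
    (mul_card_le_of_lt (h.pgQ.to_le h.Ct_le) c)
  have iW := idx_of_card WC c5
  have hD := h.D_eq cQ (ab_of_idx WC iW (WD.trans inf_le_right)) (by rw [c5, cW, pow_succ'])
  obtain ⟨u, hu, huW⟩ := exists_of_relIndex iW
  have eC := eq_sup_zpowers_of_relIndex WC (by rw [iW]; exact hp.out) hu huW
  have h2 : om p z a u ≠ 0 := fun c => aC (hD.le ⟨ha.1, mem_cen_of_eq eC (WR ha.2)
    ((h.om_eq_zero ha.1 hu.1).1 c).symm⟩)
  obtain ⟨j, hj⟩ := h.adjust he hu ha.1 h2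
  have h3 := pow_mem ha j
  have h4 := mul_mem heR h3.2
  exact h.six_of_two (lR h4) (fun c => heQ ((Q.mul_mem_cancel_right h3.1).1 c)) hD cQ ex (pR' ex _ h4) (mem_cen_of_eq eC (WR h4) hj)

theorem case_two (hw : g * z * g⁻¹ ∈ Q) (hwZ : g * z * g⁻¹ ∉ zpowers z) : Six p S := by
  obtain ⟨k, -, vC, vZ, cC, k1, k2⟩ := h.two_aux hF hw hwZ
  refine k2 fun x hx => (h.lam_eq_zero hx).1 (by_contra fun hl => ?_)
  have hl' : ¬ Q ≤ h.addOn_lam.ker := fun c => hl (c hx).2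
  obtain ⟨n, n1, uC, uZ, -, n2, -⟩ := h.two_aux hF vC.1 vZ
  have WC : zpowers z ⊔ zpowers (k * z * k⁻¹) ≤ h.Ct := sup_le h.Z_le_Ct (zpowers_le.2 vC)
  have nW := h.n_of_le_Ct le_sup_left WC
  have e1 := (k1 hl').symm.trans (n2 hl')
  have e2 := h.cen_cen h.Z_le_ker h.addOn_lam.ker_le
  have el : ∀ y ∈ zpowers z ⊔ zpowers (k * z * k⁻¹), y ^ p = 1 := fun y hy => (omZ_sup (omZ_zpowers h.zp)
    (omZ_zpowers (conj_pow_eq_one h.zp k)) (zpowers_le.2 (mem_cen_zpowers (h.zc _ (h.le vC.1)).symm)) hy).2.2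
  obtain ⟨t, ht, t1, t2⟩ := torus h.pg hF (fn_of_normal (WC.trans (h.Ct_le.trans h.le)) nW) (h.card_W vC.1 vZ) el
    (mem_sup_left (mem_zpowers z)) h.z1 h.zc ⟨h.le hx, nW (h.le hx)⟩ (fun c => hl (e2.le ⟨hx, k1 hl' ▸ c⟩).2) (g := n)
    (mem_normalizer_of_finite fun y hy => (sup_le (zpowers_le.2 (mem_comap.2 (e1.ge (mem_sup_right (mem_zpowers _)))))
      (zpowers_le.2 (mem_comap.2 (mem_sup_left (n1.symm ▸ mem_zpowers z : n * (k * z * k⁻¹) * n⁻¹ ∈ _)))) : _ ≤ comap (cjh n) _) hy)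
    uZ (p - 1) (p - 1) dvd_pred_mul_pred_sub_one
  rw [inf_eq_left.2 nW] at ht
  have h1 := conj_mem_of_mem_normalizer (h.norm_Q cC ht) hx
  have h2 := h.om_conj' t1 hx uC.1
  have h3 : ((p - 1 : ℕ) : ZMod p) = -1 := by rw [Nat.cast_pred hp.out.pos, ZMod.natCast_self, zero_sub]
  rw [t2, (h.om_right h1).pow uC.1, h3] at h2
  have h4 := mul_mem (Subgroup.inv_mem _ hx) h1
  have h5 : x⁻¹ * (t * x * t⁻¹) ∈ h.addOn_lam.ker := e2.le ⟨h4, n2 hl' ▸ mem_cen_sup (mem_cen_zpowers (h.zc _ (h.le h4)))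
    (mem_cen_zpowers ((h.om_eq_zero uC.1 h4).1 (by
      rw [h.om_right uC.1 _ (Subgroup.inv_mem _ hx) _ h1, (h.om_right uC.1).inv hx, h.om_anti h1 uC.1, h.om_anti hx uC.1]
      linear_combination h2)))⟩
  have h6 := h5.2
  rw [h.addOn_lam _ (Subgroup.inv_mem _ hx) _ h1, h.addOn_lam.inv hx, h.lam_conj t1 hx, h3] at h6
  exact hl ((mul_eq_zero.1 (by linear_combination -h6 : 2 * lam p z x = 0)).resolve_left h.two_ne)

end XQ

end CL.Fus.Xs
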