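/-
Extraspecial subgroup of index `p`: the case where the centre is weakly closed in `Q`.
-/
import Cfsg.Agent.Fus.XsC

set_option autoImplicit false
set_option linter.unusedSectionVars false

namespace CL.Fus.Xs

open Cfsg Cfsg.FusionSystem Subgroup CL.Fus.Rk
open scoped commutatorElement

local notation "𝒩(" X ")" => Subgroup.normalizer ((X : Subgroup _) : Set _)
local notation "𝒞(" X ")" => Subgroup.centralizer ((X : Subgroup _) : Set _)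

variable {G : Type*} [Group G] {p : ℕ} {S Q A B E W X Y : Subgroup G} {a b c e g k s t u v w x y z : G} {φ : G → ZMod p}

/-- a function precomposed with a conjugation -/
def cj (φ : G → ZMod p) (k u : G) : ZMod p := φ (k * u * k⁻¹)

theorem cj_mul (φ : G → ZMod p) (k y u : G) : cj φ (k * y) u = cj φ k (y * u * y⁻¹) := by simp only [cj, mul_inv_rev, mul_assoc]

/-- conjugates of nontrivial elements of `⟨z⟩` -/
def Pt (z u : G) : Prop := u ≠ 1 ∧ ∃ k, k * u * k⁻¹ ∈ zpowers z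

theorem Pt.conj (h : Pt z u) (k : G) : Pt z (k * u * k⁻¹) := by
  obtain ⟨h1, g, h2⟩ := h
  exact ⟨by simpa using h1, g * k⁻¹, by simpa [mul_assoc] using h2⟩

variable [hp : Fact p.Prime] [Finite G]

theorem quad_two (hp2 : p ≠ 2) {α β : ZMod p} (ha : α ≠ 0) (hb : β ≠ 0) (r s t : ZMod p) :
    ∃ a b : ZMod p, α * a ^ 2 + r * a + (β * b ^ 2 + s * b + t) = 0 := by
  obtain ⟨a, b, h⟩ := FiniteField.exists_root_sum_quadratic (Polynomial.degree_quadratic (b := r) (c := 0) ha)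
    (Polynomial.degree_quadratic (b := s) (c := t) hb) (by rw [ZMod.card]; exact hp.out.eq_two_or_odd.resolve_left hp2)
  exact ⟨a, b, by simpa using h⟩

theorem mem_zpowers_of_mem (hz : z ^ p = 1) (hu : u ∈ zpowers z) (h1 : u ≠ 1) : z ∈ zpowers u :=
  by_contra fun k => h1 (eq_one_of_mem hz k (mem_zpowers u) hu)

theorem back (hz : z ^ p = 1) (hv : k * v * k⁻¹ ∈ zpowers z) (h1 : v ≠ 1) : k⁻¹ * z * k⁻¹⁻¹ ∈ zpowers v := by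
  obtain ⟨i, hi⟩ := mem_zpowers_iff.1 (mem_zpowers_of_mem hz hv (by simpa using h1))
  exact mem_zpowers_iff.2 ⟨i, by rw [← hi, conj_zpow]; group⟩

theorem mem_of_sup (he : e ^ p = 1) (heQ : e ∉ Q) (hA : A ≤ Q) (hn : e ∈ 𝒩(A)) (hv : v ∈ A ⊔ zpowers e) (hQ : v ∈ Q) : v ∈ A := by
  obtain ⟨a, ha, b, hb, rfl⟩ := (mem_sup_of_le_normalizer' (zpowers_le.2 hn)).1 hv
  rwa [eq_one_of_mem he heQ ((Q.mul_mem_cancel_left (hA ha)).1 hQ) hb, mul_one]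

theorem XQ.exists_phi (h : XQ p S Q z) (he : e ∈ S) (heQ : e ∉ Q) :
    ∃ φ : G → ZMod p, AddOn S φ ∧ (∀ u ∈ S, φ u = 0 ↔ u ∈ Q) ∧ φ e = 1 := by
  obtain ⟨f, q⟩ := quo Q
  have h1 : f e ^ p = 1 := by rw [← q.hom.map_pow (h.nQ he)]; exact (q.ker _ (h.nQ (pow_mem he p))).2 (h.powQ he)
  have h2 : f e ≠ 1 := fun k => heQ ((q.ker _ (h.nQ he)).1 k)
  have h3 : ∀ u ∈ S, ∃ i : ℤ, f u = f e ^ i := fun u hu => by
    obtain ⟨a, ⟨i, rfl⟩, b, hb, rfl⟩ := (mem_sup_of_le_normalizer (zpowers_le.2 (h.nQ he))).1 (((sup_comm _ Q).trans (h.sup he heQ)).ge hu)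
    exact ⟨i, by beta_reduce; rw [q.hom.map_mul (zpow_mem (h.nQ he) i) (le_normalizer hb), (q.ker _ (le_normalizer hb)).2 hb, mul_one,
      q.hom.map_zpow (h.nQ he)]⟩
  refine ⟨fun u => lg p (f e) (f u), fun x hx y hy => ?_, fun u hu => ?_, by simpa using lg_zpow h1 h2 1⟩
  · obtain ⟨i, hi⟩ := h3 x hx
    obtain ⟨j, hj⟩ := h3 y hy
    beta_reduce
    rw [q.hom.map_mul (h.nQ hx) (h.nQ hy), hi, hj, ← zpow_add, lg_zpow h1 h2, lg_zpow h1 h2, lg_zpow h1 h2, Int.cast_add]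
  · obtain ⟨i, hi⟩ := h3 u hu
    beta_reduce
    rw [← q.ker _ (h.nQ hu), hi, lg_zpow h1 h2, zpow_eq_one_iff_dvd h1 h2, ZMod.intCast_zmod_eq_zero_iff_dvd]

/-- an elementary abelian subgroup containing a conjugate of `z` outside `Q` -/
structure One (p : ℕ) (S Q : Subgroup G) (z : G) (E : Subgroup G) (g e : G) (φ : G → ZMod p) : Prop extends XQ p S Q z where
  wc : ∀ k, k * z * k⁻¹ ∈ Q → k * z * k⁻¹ ∈ zpowers z
  lE : E ≤ S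
  zE : z ∈ E
  gE : g ∈ 𝒩(E)
  ge : g * z * g⁻¹ = e
  eQ : e ∉ Q
  ab : E ≤ 𝒞(E)
  el : ∀ x ∈ E, x ^ p = 1
  cen : ∀ x ∈ S, Commute e x → x ∈ E
  add : AddOn S φ
  ker : ∀ u ∈ S, φ u = 0 ↔ u ∈ Q
  phe : φ e = 1

theorem XQ.norm_of_wc (h : XQ p S Q z) (wc : ∀ k, k * z * k⁻¹ ∈ Q → k * z * k⁻¹ ∈ zpowers z) (hu : u ∈ zpowers z) (h1 : u ≠ 1)
    (c : k * u * k⁻¹ ∈ Q) : k ∈ 𝒩(zpowers z) := norm_of_conj (wc k ((zpowers_le.2 (mem_comap.2 c) : zpowers u ≤ Q.comap (cjh k))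
      (mem_zpowers_of_mem h.zp hu h1)))

theorem XQ.exists_one (h : XQ p S Q z) (hF : (groupFusionSystem S).IsSaturated p) (wc : ∀ k, k * z * k⁻¹ ∈ Q → k * z * k⁻¹ ∈ zpowers z)
    (hE : E ≤ S) (hc : S ⊓ 𝒞(E) ≤ E) (hg : g ∈ 𝒩(E)) (hg' : g ∉ 𝒩(zpowers z)) : ∃ φ, One p S Q z E g (g * z * g⁻¹) φ := by
  have zE : z ∈ E := hc ⟨h.le h.zQ, mem_cen fun y hy => (h.zc y (hE hy)).symm⟩
  have eE := conj_mem_of_mem_normalizer hg zE
  have eQ : g * z * g⁻¹ ∉ Q := fun k => hg' (norm_of_conj (wc g k))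
  obtain ⟨φ, h1, h2, h3⟩ := h.exists_phi (hE eE) eQ
  obtain ⟨k, k1, k2⟩ := exists_cen h.pg hF (h.le h.zQ) h.zc (hE eE)
  have k3 : k ∉ 𝒩(zpowers z) := fun c => eQ (h.Z_le (mem_of_conj (conj_mem_of_mem_normalizer c (mem_zpowers z)) k1))
  have l1 : E ≤ S ⊓ 𝒞(zpowers (g * z * g⁻¹)) := fun x hx => ⟨hE hx, mem_cen_zpowers (by
    have := (h.zc _ (hE (conj_mem_of_mem_normalizer (Subgroup.inv_mem _ hg) hx))).map (cjh g)
    simpa [mul_assoc] using this)⟩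
  have ep := conj_pow_eq_one h.zp g
  have k4 : ∀ x ∈ Q ⊓ 𝒞(zpowers (g * z * g⁻¹)), k * x * k⁻¹ ∈ S := fun x hx => k2 x (h.le hx.1) (comm_of_cen hx.2 (mem_zpowers _))
  have a1 : Q ⊓ 𝒞(zpowers (g * z * g⁻¹)) ≤ 𝒞(Q ⊓ 𝒞(zpowers (g * z * g⁻¹))) := by_contra fun c => by
    have l : (Q ⊓ 𝒞(zpowers (g * z * g⁻¹))).map (cjh k) ≤ S := by rintro _ ⟨x, hx, rfl⟩; exact k4 x hx
    exact k3 (norm_of_conj (wc k (h.commQ (commutator_mono l l (by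
      rw [← map_commutator]; exact mem_map_of_mem (cjh k) (h.Z_le_comm inf_le_left c (mem_zpowers z)))))))
  have a2 : ∀ x ∈ Q ⊓ 𝒞(zpowers (g * z * g⁻¹)), x ^ p = 1 := fun x hx => by_contra fun c =>
    k3 (h.norm_of_wc wc (h.pow x hx.1) c (conj_pow (a := k) ▸ h.powQ (k4 x hx)))
  have e1 : Q ⊓ 𝒞(zpowers (g * z * g⁻¹)) ⊔ zpowers (g * z * g⁻¹) = S ⊓ 𝒞(zpowers (g * z * g⁻¹)) :=
    eq_sup_zpowers_of_relIndex (inf_le_inf_right _ h.le) (by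
      rw [← inf_eq_right.2 h.le, inf_comm S, inf_assoc, inf_relIndex_right, relIndex_eq_of_not_le h.nQ h.le inf_le_left h.idx
        fun c => eQ (c (l1 eE))]; exact hp.out) (l1 eE) fun c => eQ c.1
  have a3 := omZ_sup (p := p) (fun x hx => ⟨hx, a1 hx, a2 x hx⟩) (omZ_zpowers ep) (inf_le_right : Q ⊓ _ ≤ _)
  rw [e1] at a3
  exact ⟨φ, h, wc, hE, zE, hg, rfl, eQ, fun x hx => cen_mono l1 (a3 (l1 hx)).2.1, fun x hx => (a3 (l1 hx)).2.2,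
    fun x hx c => hc ⟨hx, cen_mono l1 (a3 ⟨hx, mem_cen_zpowers c⟩).2.1⟩, h1, h2, h3⟩

namespace One
variable (h : One p S Q z E g e φ)
include h

theorem eE : e ∈ E := h.ge ▸ conj_mem_of_mem_normalizer h.gE h.zE

theorem eS : e ∈ S := h.lE h.eE

theorem ep : e ^ p = 1 := h.el e h.eE

theorem ZE : zpowers z ≤ E := zpowers_le.2 h.zE

theorem comE (hx : x ∈ E) (hy : y ∈ E) : Commute x y := comm_of_cen (h.ab hy) hx

theorem pt_e : Pt z e := h.ge ▸ Pt.conj ⟨h.z1, 1, by simp⟩ g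

theorem pt_cm (x : G) : Pt z (cm e x * e) := conj_eq_cm' e x ▸ h.pt_e.conj _

theorem tan (hu : Pt z u) (c : k * u * k⁻¹ ∈ Q) : k * u * k⁻¹ ∈ zpowers z := by
  obtain ⟨h1, n, h2⟩ := hu
  have e : k * n⁻¹ * (n * u * n⁻¹) * (k * n⁻¹)⁻¹ = k * u * k⁻¹ := by group
  exact e ▸ conj_mem_of_mem_normalizer (h.norm_of_wc h.wc h2 (by simpa using h1) (e.symm ▸ c)) h2

theorem mem_Z_of_pt (hu : Pt z u) (c : u ∈ Q) : u ∈ zpowers z := by simpa using h.tan (k := 1) hu (by simpa using c)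

theorem addOn_cj (hk : k ∈ 𝒩(E)) : AddOn E (cj φ k) := fun x hx y hy => by
  rw [cj, ← conj_mul, h.add _ (h.lE (conj_mem_of_mem_normalizer hk hx)) _ (h.lE (conj_mem_of_mem_normalizer hk hy)), cj, cj]

theorem cj_eq_zero (hk : k ∈ 𝒩(E)) (hu : u ∈ E) : cj φ k u = 0 ↔ k * u * k⁻¹ ∈ Q :=
  h.ker _ (h.lE (conj_mem_of_mem_normalizer hk hu))

theorem tan' (hk : k ∈ 𝒩(E)) (hu : u ∈ E) (pt : Pt z u) (c : cj φ k u = 0) : k⁻¹ * z * k⁻¹⁻¹ ∈ zpowers u :=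
  back h.zp (h.tan pt ((h.cj_eq_zero hk hu).1 c)) pt.1

theorem line (hk : k ∈ 𝒩(E)) (hc : c ∈ E) (pt : ∀ j : ℕ, Pt z (c ^ j * e)) :
    cj φ k c = 0 ∨ k⁻¹ * z * k⁻¹⁻¹ ∈ zpowers c ⊔ zpowers e := or_iff_not_imp_left.2 fun h1 => by
  refine zpowers_le.2 (mul_mem (mem_sup_left (npow_mem_zpowers c _)) (mem_sup_right (mem_zpowers e)))
    (h.tan' hk (mul_mem (pow_mem hc _) h.eE) (pt (-cj φ k e / cj φ k c).val) ?_)
  rw [h.addOn_cj hk _ (pow_mem hc _) _ h.eE, (h.addOn_cj hk).val hc, div_mul_cancel₀ _ h1, neg_add_cancel]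

theorem decomp (hv : v ∈ S) : v * (e ^ (φ v).val)⁻¹ ∈ Q := (h.ker _ (mul_mem hv (Subgroup.inv_mem _ (pow_mem h.eS _)))).1 (by
  rw [h.add _ hv _ (Subgroup.inv_mem _ (pow_mem h.eS _)), h.add.inv (pow_mem h.eS _), h.add.val h.eS, h.phe]; ring)

theorem mem_of_sup' (hA : A ≤ Q) (hE : A ≤ E) (hv : v ∈ A ⊔ zpowers e) (hQ : v ∈ Q) : v ∈ A :=
  mem_of_sup h.ep h.eQ hA (centralizer_le_normalizer _ (cen_mono hE (h.ab h.eE))) hv hQ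

theorem sup_E : Q ⊓ E ⊔ zpowers e = E := eq_sup_zpowers_of_relIndex inf_le_right (by
  rw [inf_relIndex_right, relIndex_eq_of_not_le h.nQ h.le h.lE h.idx fun c => h.eQ (c h.eE)]; exact hp.out) h.eE fun c => h.eQ c.1

theorem inf_le_Ct : Q ⊓ E ≤ h.Ct := fun _ hx => h.mem_Ct h.eS h.eQ hx.1 (cm_eq_one.2 (h.comE hx.2 h.eE) ▸ one_mem _)

theorem norm_E (hx : x ∈ Q) (c : cm e x ∈ E) : x ∈ 𝒩(E) := inv_mem_iff.1 (mem_normalizer_of_finite fun _ hy =>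
  (sup_le (fun _ hy => (conj_mem_of_mem_normalizer (h.norm (le_inf h.Z_le h.ZE) inf_le_left (Subgroup.inv_mem _ hx)) hy).2)
    (zpowers_le.2 (mem_comap.2 ((conj_eq_cm' e x).symm ▸ mul_mem c h.eE : x⁻¹ * e * x⁻¹⁻¹ ∈ E))) :
      Q ⊓ E ⊔ zpowers e ≤ E.comap (cjh x⁻¹)) (h.sup_E.ge hy))

theorem conj_ge (x : G) : (g⁻¹ * x)⁻¹ * z * (g⁻¹ * x)⁻¹⁻¹ = cm e x * e := by rw [← conj_eq_cm', ← h.ge]; group

theorem pt_line (hc : Commute (cm e x) x) (j : ℕ) : Pt z (cm e x ^ j * e) := by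
  have e1 : ∀ j : ℕ, (x ^ j)⁻¹ * e * (x ^ j)⁻¹⁻¹ = cm e x ^ j * e := fun j => by
    induction j with
    | zero => simp
    | succ j ih => rw [pow_succ x, show (x ^ j * x)⁻¹ * e * (x ^ j * x)⁻¹⁻¹ = x⁻¹ * ((x ^ j)⁻¹ * e * (x ^ j)⁻¹⁻¹) * x⁻¹⁻¹ by group, ih,
        ← conj_mul, conj_eq_cm' e x, ← (hc.pow_left j).inv_right.eq, mul_inv_cancel_right, pow_succ, mul_assoc]
  exact e1 j ▸ h.pt_e.conj _

theorem cj_z : cj φ g⁻¹ z ≠ 0 := fun c => h.eQ (h.Z_le (by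
  simpa [h.ge] using h.tan' (Subgroup.inv_mem _ h.gE) h.zE ⟨h.z1, 1, by simp⟩ c))

theorem cj_e : cj φ g⁻¹ e = 0 := (h.cj_eq_zero (Subgroup.inv_mem _ h.gE) h.eE).2 (by simpa [← h.ge, mul_assoc] using h.zQ)

theorem cj_cm (hx : x ∈ Q) (c : cm e x ∈ E) (hxE : x ∉ E) : cj φ g⁻¹ (cm e x) ≠ 0 := fun k => by
  have h1 := h.tan' (Subgroup.inv_mem _ h.gE) (mul_mem c h.eE) (h.pt_cm x) (by
    rw [h.addOn_cj (Subgroup.inv_mem _ h.gE) _ c _ h.eE, k, h.cj_e, add_zero])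
  rw [inv_inv, h.ge] at h1
  have h2 := mem_zpowers_of_mem (h.el _ (mul_mem c h.eE)) h1 h.pt_e.1
  exact hxE (h.cen x (h.le hx) (cm_eq_one.1 (eq_one_of_mem h.ep h.eQ (h.cmQ h.eS hx)
    (((zpowers e).mul_mem_cancel_right (mem_zpowers e)).1 h2))).symm)

theorem pearl (hy : ¬ h.Ct ≤ E) : Q ⊓ E = zpowers z ∧ Nat.card h.Ct = p ^ 2 := by
  obtain ⟨y, hy, hyE⟩ := SetLike.not_le_iff_exists.1 hy
  have h1 := h.cm_Ct h.eS hy
  have h2 : cm e y ≠ 1 := fun k => hyE (h.cen y (h.le hy.1) (cm_eq_one.1 k).symm)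
  have h3 : ∀ x ∈ Q, cm e x ∈ E → cm e x ∈ zpowers z := fun x hx c => by
    have hk := mul_mem (Subgroup.inv_mem _ h.gE) (h.norm_E hx c)
    have h4 := h.line hk (h.ZE h1) (h.pt_line (h.commZ h1 (h.le hy.1)))
    rw [h.conj_ge] at h4
    obtain h4 | h4 := h4
    · have := h.tan' hk (h.ZE h1) ⟨h2, 1, by simpa using h1⟩ h4
      rw [h.conj_ge] at this
      exact (h.eQ ((Q.mul_mem_cancel_left (h.cmQ h.eS hx)).1 (h.Z_le (zpowers_le.2 h1 this)))).elim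
    · exact zpowers_le.2 h1 (h.mem_of_sup' (zpowers_le.2 (h.Z_le h1)) (zpowers_le.2 (h.ZE h1))
        ((Subgroup.mul_mem_cancel_right _ (mem_sup_right (mem_zpowers e))).1 h4) (h.cmQ h.eS hx))
  have h4 : ∀ d ∈ Q ⊓ 𝒞(h.Ct), d ∈ E → d ∈ zpowers z := fun d hd c => by
    obtain ⟨x, hx, u, hu, rfl⟩ := h.exists_cm h.eS h.eQ hd
    exact mul_mem (h3 x hx ((E.mul_mem_cancel_right (h.ZE hu)).1 c)) hu
  have ad : AddOn h.Ct fun x => lg p z (cm e x) := fun x hx y hy => by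
    beta_reduce
    rw [cm_mul, ← (h.commZ (h.cm_Ct h.eS hx) (h.le (Subgroup.inv_mem _ hy.1))).eq, mul_inv_cancel_right,
      h.addOn_lg _ (h.cm_Ct h.eS hx) _ (h.cm_Ct h.eS hy)]
  have h5 : Nat.card h.Ct ≤ p * Nat.card ↥(Q ⊓ E) := ad.card_le.trans (Nat.mul_le_mul_left p (card_le_of_le fun x hx =>
    ⟨hx.1.1, h.cen x (h.le hx.1.1) (cm_eq_one.1 ((h.lg_eq_zero (h.cm_Ct h.eS hx.1)).1 hx.2)).symm⟩))
  have h6 := idx_of_card h.inf_le_Ct (le_antisymm h5 (mul_card_le_of_lt (h.pgQ.to_le h.Ct_le)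
    (lt_of_le_not_ge h.inf_le_Ct fun k => hyE (k hy).2)))
  have ab : Q ⊓ E ≤ 𝒞(Q ⊓ E) := fun x hx => cen_mono inf_le_right (h.ab hx.2)
  obtain ⟨u, u1, u2, u3⟩ := h.exists_fix (A := zpowers z) (inf_le_left.trans h.le) (CL.Grp.le_normalizer_inf' h.nQ
    (CL.Grp.le_normalizer_centralizer' h.nCt)) fun k => h.not_ab' (le_inf h.Z_le h.ZE) inf_le_left ((card_le_of_le (fun x hx =>
      (h.cen_cen h.Z_le_Ct h.Ct_le).le ⟨hx, mem_cen fun y hy => h.commZ (k hy) (h.le hx)⟩)).trans h5) ab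
  have h7 := eq_sup_zpowers_of_relIndex h.inf_le_Ct (by rw [h6]; exact hp.out) (⟨u1.1, u3⟩ : u ∈ h.Ct) fun k => u2 (h4 u u1 k.2)
  have h8 : Q ⊓ E = zpowers z := le_antisymm (fun x hx => h4 x ⟨hx.1, mem_cen_of_eq h7 (ab hx)
    (comm_of_cen u1.2 (h.inf_le_Ct hx)).symm⟩ hx.2) (le_inf h.Z_le h.ZE)
  exact ⟨h8, by rw [card_of_relIndex h.inf_le_Ct h6, h8, h.card_Z, pow_two]⟩

variable (hC : h.Ct ≤ E)
include hC

theorem Ct_le_D : h.Ct ≤ Q ⊓ 𝒞(h.Ct) := fun _ hx => ⟨hx.1, cen_mono hC (h.ab (hC hx))⟩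

theorem aniso (hx : x ∈ Q) (hc : cm e x ∈ h.Ct) (hxC : x ∉ h.Ct) : ¬ Commute (cm e x) x := fun co => by
  have gi := Subgroup.inv_mem _ h.gE
  have ad := h.addOn_cj gi
  have hcE := hC hc
  have cZ : cm e x ∉ zpowers z := fun k => hxC (h.mem_Ct h.eS h.eQ hx k)
  have c1 : cm e x ≠ 1 := fun k => cZ (k ▸ one_mem _)
  have h1 := h.cj_cm hx hcE fun k => hxC (h.inf_le_Ct ⟨hx, k⟩)
  have lQ := zpowers_le.2 hc.1
  have h2 : ∀ y ∈ h.up e h.Z_le_Ct h.Ct_le, cj φ g⁻¹ (cm e x) + om p z y (cm e x) * cj φ g⁻¹ z = 0 ∨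
      (cm e y ∈ zpowers (cm e x) ∧ om p z y (cm e x) = 0) := fun y hy => by
    obtain ⟨hy, hy'⟩ := (h.mem_up _ _).1 hy
    refine (h.line (mul_mem gi (h.norm_E hy (hC hy'))) hcE (h.pt_line co)).imp (fun k => ?_) fun k => ?_
    · rwa [cj_mul, h.conj_eq hc.1 hy,
        ad _ hcE _ (zpow_mem h.zE _), ad.zpow h.zE, Int.cast_natCast, ZMod.natCast_zmod_val] at k
    · rw [h.conj_ge] at k
      have k1 := h.mem_of_sup' lQ (zpowers_le.2 hcE) ((Subgroup.mul_mem_cancel_right _ (mem_sup_right (mem_zpowers e))).1 k) hy'.1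
      exact ⟨k1, (h.bf_symm h.eS hy hx (h.comE (hC hy') hcE)).trans ((h.om_eq_zero hx hy'.1).2
        (comm_of_cen (mem_cen_zpowers co) k1).symm)⟩
  have h3 : ∀ y ∈ h.up e h.Z_le_Ct h.Ct_le, cm e y ∈ zpowers (cm e x) := fun y hy => ((h2 y hy).resolve_left fun k => by
    have k1 := h.om_left hc.1 hy.1 hy.1
    obtain k2 | ⟨-, k2⟩ := h2 _ (mul_mem hy hy)
    · exact h1 (by rw [k1] at k2; linear_combination 2 * k - k2)
    · exact h1 ((mul_eq_zero.1 (by rw [k1] at k2; linear_combination 2 * k - cj φ g⁻¹ z * k2)).resolve_left h.two_ne)).1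
  have h4 : ∀ u ∈ Q ⊓ E, Commute u x := fun u hu => by
    obtain ⟨y, hy, w, hw, rfl⟩ := h.exists_cm h.eS h.eQ (h.Ct_le_D hC (h.inf_le_Ct hu))
    exact (comm_of_cen (mem_cen_zpowers co) (h3 y ((h.mem_up _ _).2 ⟨hy, (Subgroup.mul_mem_cancel_right _ (h.Z_le_Ct hw)).1
      (h.inf_le_Ct hu)⟩))).mul_left (h.commZ hw (h.le hx))
  have xE := h.norm_E hx hcE
  have h5 : ∀ v ∈ E, ∀ j : ℤ, x⁻¹ ^ j * v * (x⁻¹ ^ j)⁻¹ = v * (cm e x ^ (φ v).val) ^ j := fun v hv => by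
    refine conj_zpow_eq_mul_zpow ?_ (by rw [← (co.pow_left _).inv_right.eq, mul_inv_cancel_right])
    have k1 : v * (e ^ (φ v).val)⁻¹ ∈ Q ⊓ E := ⟨h.decomp (h.lE hv), E.mul_mem hv (Subgroup.inv_mem _ (pow_mem h.eE _))⟩
    calc _ = x⁻¹ * (v * (e ^ (φ v).val)⁻¹) * x⁻¹⁻¹ * (x⁻¹ * e * x⁻¹⁻¹) ^ (φ v).val := by rw [conj_pow]; group
      _ = _ := by rw [← (h4 _ k1).inv_right.eq, mul_inv_cancel_right, conj_eq_cm', (h.comE hcE h.eE).mul_pow,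
        ((h.comE hcE h.eE).pow_pow _ _).eq]; group
  have c'E := conj_mem_of_mem_normalizer h.gE hcE
  have h6 : ∀ j : ℤ, (g * x⁻¹ ^ (-j) * g⁻¹)⁻¹ * z * (g * x⁻¹ ^ (-j) * g⁻¹)⁻¹⁻¹ = z * ((g * cm e x * g⁻¹) ^ (cj φ g⁻¹ z).val) ^ j :=
    fun j => calc _ = g * (x⁻¹ ^ j * (g⁻¹ * z * g⁻¹⁻¹) * (x⁻¹ ^ j)⁻¹) * g⁻¹ := by group
      _ = _ := by rw [h5 _ (conj_mem_of_mem_normalizer gi h.zE), conj_pow, conj_zpow, cj]; group
  have h7 : φ (g * cm e x * g⁻¹) ≠ 0 := fun k => by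
    have k1 := (h.ker _ (h.lE c'E)).1 k
    have k2 := h.wc _ (h6 1 ▸ mul_mem h.zQ (zpow_mem (pow_mem k1 _) 1))
    rw [h6, zpow_one, Subgroup.mul_mem_cancel_left _ (mem_zpowers z), ← zpow_natCast] at k2
    refine cZ (h.mem_Z_of_pt ⟨c1, g, mem_of_zpow_mem_of_not_dvd (h.el _ c'E ▸ one_mem _) k2 fun k3 => h.cj_z ?_⟩ hc.1)
    simpa using (ZMod.intCast_zmod_eq_zero_iff_dvd _ p).2 k3
  have h8 : ∀ j : ℤ, (j : ZMod p) ≠ 0 → z * ((g * cm e x * g⁻¹) ^ (cj φ g⁻¹ z).val) ^ j ∈ zpowers (cm e x) ⊔ zpowers e := fun j hj =>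
    h6 j ▸ (h.line (mul_mem (mul_mem h.gE (zpow_mem (Subgroup.inv_mem _ xE) _)) gi) hcE (h.pt_line co)).resolve_left fun k => by
      rw [cj, show g * x⁻¹ ^ (-j) * g⁻¹ * cm e x * (g * x⁻¹ ^ (-j) * g⁻¹)⁻¹ =
        g * (x⁻¹ ^ (-j) * (g⁻¹ * cm e x * g⁻¹⁻¹) * (x⁻¹ ^ (-j))⁻¹) * g⁻¹ by group, h5 _ (conj_mem_of_mem_normalizer gi hcE),
        ← conj_mul, ← conj_zpow, ← conj_pow, show g * (g⁻¹ * cm e x * g⁻¹⁻¹) * g⁻¹ = cm e x by group, h.add _ (h.lE hcE) _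
        (zpow_mem (pow_mem (h.lE c'E) _) _), h.add.zpow (pow_mem (h.lE c'E) _), h.add.val (h.lE c'E), (h.ker _ (h.lE hcE)).2 hc.1] at k
      rw [cj] at h1
      simp [hj, h1, h7, -inv_inv] at k
  have h9 := mul_mem (mul_mem (h8 1 (by simp)) (Subgroup.inv_mem _ (h8 2 (by exact_mod_cast h.two_ne)))) (h8 1 (by simp))
  rw [show ∀ w : G, z * w ^ (1 : ℤ) * (z * w ^ (2 : ℤ))⁻¹ * (z * w ^ (1 : ℤ)) = z from fun w => by group] at h9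
  exact cZ (mem_zpowers_of_mem (h.el _ hcE) (h.mem_of_sup' lQ (zpowers_le.2 hcE) h9 h.zQ) h.z1)

theorem D_eq' : Q ⊓ 𝒞(h.Ct) = h.Ct := le_antisymm (by_contra fun k => by
  obtain ⟨u, u1, u2, u3⟩ := h.exists_fix (inf_le_left.trans h.le) (CL.Grp.le_normalizer_inf' h.nQ
    (CL.Grp.le_normalizer_centralizer' h.nCt)) k
  exact h.aniso hC u1.1 (u3 e h.eS) u2 (comm_of_cen u1.2 (u3 e h.eS))) (h.Ct_le_D hC)

theorem bf_ne (hx : x ∈ Q) (hxC : x ∉ h.Ct) : bf p z e x x ≠ 0 := fun k =>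
  h.aniso hC hx (h.cm_mem_Ct h.eS (h.D_eq' hC) hx) hxC ((h.om_eq_zero hx (h.cmQ h.eS hx)).1 k).symm

theorem card_Q : Nat.card Q ≤ p ^ 5 := by
  have hD := h.D_eq' hC
  suffices k : Nat.card Q ≤ p * (p * Nat.card h.Ct) by
    have h1 := h.cnt _ h.Z_le_Ct h.Ct_le
    rw [hD] at h1
    have h2 : Nat.card h.Ct ≤ p ^ 3 := Nat.le_of_mul_le_mul_left (h1.le.trans ((Nat.mul_le_mul_right p k).trans_eq (by ring))) Nat.card_pos
    exact k.trans ((Nat.mul_le_mul_left p (Nat.mul_le_mul_left p h2)).trans_eq (by ring))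
  by_contra! k
  have l : ∀ A : Subgroup G, Nat.card Q ≤ p * (p * Nat.card A) → ∃ x ∈ A, x ∉ h.Ct := fun A c => SetLike.not_le_iff_exists.1 fun d =>
    k.not_ge (c.trans (Nat.mul_le_mul_left p (Nat.mul_le_mul_left p (card_le_of_le d))))
  have m : ∀ n, n ≤ p * n := fun n => Nat.le_mul_of_pos_left n hp.out.pos
  obtain ⟨a, ha, a1⟩ := l Q ((m _).trans (m _))
  have A1 := h.addOn_bf h.eS ha
  obtain ⟨b, hb, b1⟩ := l A1.ker (A1.card_le.trans (m _))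
  have A2 := (h.addOn_bf h.eS hb.1).mono A1.ker_le
  obtain ⟨c, hc, c1⟩ := l A2.ker (A1.card_le.trans (Nat.mul_le_mul_left p A2.card_le))
  obtain ⟨i, j, r⟩ := quad_two h.p2 (h.bf_ne hC ha a1) (h.bf_ne hC hb.1 b1) 0 0 (bf p z e c c)
  have h1 := mul_mem hc.1.1 (pow_mem ha i.val)
  have h2 := mul_mem h1 (pow_mem hb.1 j.val)
  have h3 : ∀ w ∈ Q, bf p z e w (c * a ^ i.val) = bf p z e w c + i * bf p z e w a := fun w hw => by
    rw [h.addOn_bf h.eS hw _ hc.1.1 _ (pow_mem ha _), (h.addOn_bf h.eS hw).val ha]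
  have h4 : c * a ^ i.val * b ^ j.val ∈ h.Ct := by_contra fun d => h.bf_ne hC h2 d (by
    rw [h.bf_mul_val h.eS hD hb.1 h1, h.bf_mul_val h.eS hD ha hc.1.1, h3 b hb.1, hc.1.2, hc.2, h.bf_symm' h.eS hD hb.1 ha, hb.2]
    linear_combination r)
  have h5 := h.addOn_bf h.eS hc.1.1 _ h1 _ (pow_mem hb.1 j.val)
  rw [h3 c hc.1.1, (h.addOn_bf h.eS hc.1.1).val hb.1, h.bf_symm' h.eS hD hc.1.1 ha, h.bf_symm' h.eS hD hc.1.1 hb.1, hc.1.2, hc.2, bf,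
    h.om_anti (h.cmQ h.eS h2) hc.1.1, h.om_Z (h.cm_Ct h.eS h4) hc.1.1] at h5
  exact h.bf_ne hC hc.1.1 c1 (by linear_combination -h5)

end One

end CL.Fus.Xs
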