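/-
Extraspecial subgroup of index `p`: the unitary case.
-/
import Cfsg.Agent.Fus.XsD

set_option autoImplicit false
set_option linter.unusedSectionVars false

namespace CL.Fus.Xs

open Cfsg Cfsg.FusionSystem Subgroup CL.Fus.Rk
open scoped commutatorElement

local notation "𝒩(" X ")" => Subgroup.normalizer ((X : Subgroup _) : Set _)
local notation "𝒞(" X ")" => Subgroup.centralizer ((X : Subgroup _) : Set _)

variable {G : Type*} [Group G] {p : ℕ} {S Q A B E W X Y : Subgroup G} {a b c e g k s t u v w x y z : G} {φ : G → ZMod p}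
  [hp : Fact p.Prime] [Finite G]

namespace One
variable (h : One p S Q z E g e φ) (hC : h.Ct ≤ E)
include h hC

theorem cmE (hx : x ∈ Q) : cm e x ∈ E := hC (h.cm_mem_Ct h.eS (h.D_eq' hC) hx)

theorem nE : S ≤ 𝒩(E) := h.sup h.eS h.eQ ▸ sup_le (fun _ hx => h.norm_E hx (h.cmE hC hx)) (zpowers_le.2 (le_normalizer h.eE))

theorem card_Ct : Nat.card h.Ct ≤ p ^ 3 := by
  have h1 := h.cnt _ h.Z_le_Ct h.Ct_le
  rw [h.D_eq' hC] at h1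
  exact Nat.mul_self_le_mul_self_iff.1 (h1.le.trans ((Nat.mul_le_mul_right p (h.card_Q hC)).trans_eq (by ring)))

theorem norm_Ct (hk : k ∈ 𝒩(E)) (kZ : k ∈ 𝒩(zpowers z)) : k ∈ 𝒩(h.Ct) := mem_normalizer_of_finite fun u hu =>
  h.inf_le_Ct ⟨(h.cj_eq_zero hk (hC hu)).1 (by_contra fun c => by
    obtain ⟨x, hx, w, hw, e1⟩ := h.exists_cm h.eS h.eQ (h.Ct_le_D hC (pow_mem hu (-cj φ k e / cj φ k u).val))
    have ad := h.addOn_cj hk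
    have h1 := ad.val (hC hu) (-cj φ k e / cj φ k u)
    have h2 := mul_mem (h.cmE hC hx) h.eE
    rw [e1, ad _ (h.cmE hC hx) _ (h.ZE hw), (h.cj_eq_zero hk (h.ZE hw)).2 (h.Z_le (conj_mem_of_mem_normalizer kZ hw)), add_zero,
      div_mul_cancel₀ _ c] at h1
    have h3 := conj_mem_of_mem_normalizer (Subgroup.inv_mem _ kZ) (h.tan (h.pt_cm x) ((h.cj_eq_zero hk h2).1 (by
      rw [ad _ (h.cmE hC hx) _ h.eE, h1, neg_add_cancel])))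
    exact h.eQ ((Q.mul_mem_cancel_left (h.cmQ h.eS hx)).1 (h.Z_le (by simpa [mul_assoc] using h3)))),
    conj_mem_of_mem_normalizer hk (hC hu)⟩

theorem L_le : Q ⊓ 𝒞(h.addOn_lam.ker) ≤ h.Ct := fun _ hx =>
  (h.cen_cen h.Z_le_Ct h.Ct_le).le ⟨hx.1, cen_mono (h.D_le_ker h.eS h.eQ) hx.2⟩

theorem norm_L (hF : (groupFusionSystem S).IsSaturated p) (hk : k ∈ 𝒩(E)) (kZ : k ∈ 𝒩(zpowers z)) :
    k ∈ normalizer ((Q ⊓ 𝒞(h.addOn_lam.ker) : Subgroup G) : Set G) := by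
  obtain ⟨n, hn, c⟩ := lift h.pg hF (fn_of_normal h.lE (h.nE hC)) hC h.Z_le_Ct bot_le (fun a ha => ⟨ha.2, h.nCt ha.1, fun x hx =>
    h.inf_le_Ct ⟨h.commQ (inv_mul_conj_mem_commutator (h.lE hx) ha.1), E.mul_mem (E.inv_mem hx) (conj_mem_of_mem_normalizer ha.2 hx)⟩⟩)
    (fun a ha => ⟨h.nCt ha.1, h.nZ ha.1, fun x hx => h.cm_Ct ha.1 hx⟩) (fun a ha => (secC_bot _).ge (mem_cen_zpowers (h.zc a ha.1)))
    hk (h.norm_Ct hC hk kZ) kZ (le_normalizer_bot (mem_top _))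
  rw [inf_eq_left.2 (h.nE hC)] at hn
  have h1 := h.norm_Q (h.card_Ct hC) hn
  have h2 : n ∈ 𝒩(h.addOn_lam.ker) := mem_normalizer_of_finite fun x hx => ⟨conj_mem_of_mem_normalizer h1 hx.1,
    (h.lam_eq_zero (conj_mem_of_mem_normalizer h1 hx.1)).2 (conj_pow_eq_one ((h.lam_eq_zero hx.1).1 hx.2) n)⟩
  simpa using Subgroup.mul_mem _ (CL.Grp.le_normalizer_inf' (zpowers_le.2 h1) (CL.Grp.le_normalizer_centralizer' (zpowers_le.2 h2))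
    (mem_zpowers n)) (centralizer_le_normalizer _ (cen_mono ((h.L_le hC).trans hC) c))

theorem exists_notMem (c : Nat.card Q ≤ p * Nat.card A) : ∃ x ∈ A, x ∉ h.Ct := SetLike.not_le_iff_exists.1 fun d =>
  h.not_le (n := 4) (by norm_num) (c.trans ((Nat.mul_le_mul_left p ((card_le_of_le d).trans (h.card_Ct hC))).trans_eq (by ring))) le_rfl

theorem orbit (hk : k ∈ 𝒩(E)) (h1 : cj φ k z ≠ 0) : ∃ x ∈ Q, k * z * k⁻¹ ∈ zpowers (cm e x * e) := by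
  have hD := h.D_eq' hC
  have ki := Subgroup.inv_mem _ hk
  have ad := h.addOn_cj ki
  have h2 : cj φ k⁻¹ z ≠ 0 := fun c => h1 ((h.cj_eq_zero hk h.zE).2 (h.Z_le (by
    simpa using h.tan' ki h.zE ⟨h.z1, 1, by simp⟩ c)))
  have h3 : ∀ x ∈ Q, ∀ y ∈ Q, cj φ k⁻¹ (cm e (x * y)) = cj φ k⁻¹ (cm e x) + cj φ k⁻¹ (cm e y) - bf p z e y x * cj φ k⁻¹ z :=
    fun x hx y hy => by
      rw [cm_mul, h.conj_eq (h.cmQ h.eS hx) (Q.inv_mem hy), ad _ (mul_mem (h.cmE hC hx) (zpow_mem h.zE _)) _ (h.cmE hC hy),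
        ad _ (h.cmE hC hx) _ (zpow_mem h.zE _), ad.zpow h.zE, Int.cast_natCast, ZMod.natCast_zmod_val, h.om_anti (h.cmQ h.eS hx)
        (Q.inv_mem hy), (h.om_right (h.cmQ h.eS hx)).inv hy, h.om_anti hy (h.cmQ h.eS hx), bf]
      ring
  have h4 : ∀ x ∈ Q, ∀ n : ℕ, 2 * cj φ k⁻¹ (cm e (x ^ n)) = 2 * n * cj φ k⁻¹ (cm e x) - n * (n - 1) * bf p z e x x * cj φ k⁻¹ z :=
    fun x hx n => by
      induction n with
      | zero => simp [cm, ad.one]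
      | succ n ih => rw [pow_succ, h3 _ (pow_mem hx n) x hx, (h.addOn_bf h.eS hx).pow hx]; push_cast; linear_combination ih
  obtain ⟨a, ha, a1⟩ := h.exists_notMem hC (A := Q) (Nat.le_mul_of_pos_left _ hp.out.pos)
  obtain ⟨b, hb, b1⟩ := h.exists_notMem hC (h.addOn_bf h.eS ha).card_le
  obtain ⟨i, j, r⟩ := quad_two h.p2 (neg_ne_zero.2 (mul_ne_zero (h.bf_ne hC ha a1) h2)) (neg_ne_zero.2 (mul_ne_zero (h.bf_ne hC hb.1 b1) h2))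
    (2 * cj φ k⁻¹ (cm e a) + bf p z e a a * cj φ k⁻¹ z) (2 * cj φ k⁻¹ (cm e b) + bf p z e b b * cj φ k⁻¹ z) (2 * cj φ k⁻¹ e)
  have h5 := mul_mem (pow_mem ha i.val) (pow_mem hb.1 j.val)
  refine ⟨_, h5, (by simpa using h.tan' ki (mul_mem (h.cmE hC h5) h.eE) (h.pt_cm _) · : _ → _) (mul_left_cancel₀ h.two_ne ?_)⟩
  have h6 := h4 a ha i.val
  have h7 := h4 b hb.1 j.val
  rw [ZMod.natCast_zmod_val] at h6 h7
  rw [ad _ (h.cmE hC h5) _ h.eE, h3 _ (pow_mem ha _) _ (pow_mem hb.1 _), (h.addOn_bf h.eS (pow_mem hb.1 _)).val ha,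
    h.bf_symm' h.eS hD (pow_mem hb.1 _) ha, (h.addOn_bf h.eS ha).val hb.1, hb.2]
  linear_combination h6 + h7 + r

theorem exp_p (hF : (groupFusionSystem S).IsSaturated p) (hx : x ∈ Q) : x ^ p = 1 := (h.lam_eq_zero hx).1 (by_contra fun hl => by
  have gi := Subgroup.inv_mem _ h.gE
  have ad := h.addOn_cj gi
  have cL := h.card_cen_ker fun c => hl (c hx).2
  have nL := fun k => h.norm_L hC hF (k := k)
  have lL := h.L_le hC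
  have zL := h.Z_le_cen (h.addOn_lam.ker_le.trans h.le)
  have eK := h.cen_cen h.Z_le_ker h.addOn_lam.ker_le
  have lK : h.Ct ≤ h.addOn_lam.ker := (h.Ct_le_D hC).trans (h.D_le_ker h.eS h.eQ)
  obtain ⟨b, hb, b1⟩ := h.exists_notMem hC h.addOn_lam.card_le
  have hxK : x ∉ h.addOn_lam.ker := fun c => hl c.2
  have lQ := h.addOn_lam.ker_le
  generalize h.addOn_lam.ker = K at *
  generalize Q ⊓ 𝒞(K) = L at *
  have iL := idx_of_card zL (by rw [cL, h.card_Z, pow_two])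
  have eL : ∀ c ∈ L, c ∉ zpowers z → zpowers z ⊔ zpowers c = L := fun c => eq_sup_zpowers_of_relIndex zL (by rw [iL]; exact hp.out)
  obtain ⟨c, hc, cZ, c0⟩ : ∃ c ∈ L, c ∉ zpowers z ∧ cj φ g⁻¹ c = 0 := by
    obtain ⟨c, hc, cZ⟩ := exists_of_relIndex iL
    refine ⟨c * z ^ (-cj φ g⁻¹ c / cj φ g⁻¹ z).val, mul_mem hc (zL (npow_mem_zpowers z _)), fun k =>
      cZ ((Subgroup.mul_mem_cancel_right _ (npow_mem_zpowers z _)).1 k), ?_⟩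
    rw [ad _ (hC (lL hc)) _ (pow_mem h.zE _), ad.val h.zE, div_mul_cancel₀ _ h.cj_z, add_neg_cancel]
  have cE := hC (lL hc)
  have cQ := (lL hc).1
  have c1 := (h.cj_eq_zero gi cE).1 c0
  have key : ∀ x ∈ Q, x ∉ h.Ct → ∃ i : ℤ, g⁻¹ * (c * z ^ ((om p z x⁻¹ c).val : ℤ) * cm e x ^ i) * g⁻¹⁻¹ ∈ L ∧
      (om p z x⁻¹ c = 0 ↔ (p : ℤ) ∣ i) := fun x hx xC => by
    have xi := Q.inv_mem hx
    have h0 : ∀ y ∈ Q, y ∉ h.Ct → cj φ g⁻¹ (cm e y) ≠ 0 := fun y hy k => h.cj_cm hy (h.cmE hC hy) fun d => k (h.inf_le_Ct ⟨hy, d⟩)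
    have xE := h.nE hC (h.le hx)
    have e1 : g⁻¹ * x * g * z * (g⁻¹ * x * g)⁻¹ = g⁻¹ * (cm e x⁻¹ * e) * g⁻¹⁻¹ := by rw [← conj_eq_cm', ← h.ge]; group
    obtain ⟨y₁, hy₁, k₁⟩ := h.orbit hC (mul_mem (mul_mem gi xE) h.gE) (by
      rw [cj, e1]; change cj φ g⁻¹ _ ≠ 0; rw [ad _ (h.cmE hC xi) _ h.eE, h.cj_e, add_zero]; exact h0 _ xi fun d => xC (inv_mem_iff.1 d))
    obtain ⟨y₂, hy₂, k₂⟩ := h.orbit hC gi h.cj_z
    have hy := mul_mem (Q.inv_mem hy₁) hy₂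
    have k₃ := mem_zpowers_of_mem (h.el _ (mul_mem (h.cmE hC hy₁) h.eE)) k₁ fun d => h.z1 (conj_eq_one_iff.1 d)
    have k₄ : g⁻¹ * x⁻¹ * g * (y₁⁻¹ * y₂) * g⁻¹ * z * (g⁻¹ * x⁻¹ * g * (y₁⁻¹ * y₂) * g⁻¹)⁻¹ ∈ zpowers z := by
      obtain ⟨i, hi⟩ := mem_zpowers_iff.1 k₂
      obtain ⟨j, hj⟩ := mem_zpowers_iff.1 k₃
      rw [← conj_eq_cm', conj_zpow] at hi hj
      refine mem_zpowers_iff.2 ⟨j * i, ?_⟩
      calc _ = g⁻¹ * x⁻¹ * g * (g⁻¹ * x * g * z ^ j * (g⁻¹ * x * g)⁻¹) ^ i * (g⁻¹ * x⁻¹ * g)⁻¹ := by rw [conj_zpow]; group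
        _ = g⁻¹ * x⁻¹ * g * (y₁⁻¹ * y₂) * (y₂⁻¹ * e ^ i * y₂⁻¹⁻¹) * (g⁻¹ * x⁻¹ * g * (y₁⁻¹ * y₂))⁻¹ := by rw [hj, conj_zpow]; group
        _ = _ := by rw [hi]; group
    have k₅ := conj_mem_of_mem_normalizer (nL _ (mul_mem (mul_mem (mul_mem (mul_mem gi (Subgroup.inv_mem _ xE)) h.gE)
      (h.nE hC (h.le hy))) gi) (norm_of_conj k₄)) hc
    obtain ⟨i, hi⟩ : ∃ i : ℤ, y₁⁻¹ * y₂ * (g⁻¹ * c * g⁻¹⁻¹) * (y₁⁻¹ * y₂)⁻¹ = g⁻¹ * c * g⁻¹⁻¹ * z ^ i := ⟨_, h.conj_eq c1 hy⟩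
    have e2 : g⁻¹ * x⁻¹ * g * (y₁⁻¹ * y₂) * g⁻¹ * c * (g⁻¹ * x⁻¹ * g * (y₁⁻¹ * y₂) * g⁻¹)⁻¹ =
        g⁻¹ * (c * z ^ ((om p z x⁻¹ c).val : ℤ) * cm e x ^ i) * g⁻¹⁻¹ * z ^ i :=
      calc _ = g⁻¹ * x⁻¹ * g * (y₁⁻¹ * y₂ * (g⁻¹ * c * g⁻¹⁻¹) * (y₁⁻¹ * y₂)⁻¹) * g⁻¹ * x * g := by group
        _ = g⁻¹ * (x⁻¹ * c * x⁻¹⁻¹ * (x⁻¹ * (g * z * g⁻¹) * x⁻¹⁻¹) ^ i) * g := by rw [hi, conj_zpow, conj_zpow]; group
        _ = g⁻¹ * (c * z ^ ((om p z x⁻¹ c).val : ℤ) * cm e x ^ i) * g⁻¹⁻¹ * (g⁻¹ * e * g⁻¹⁻¹) ^ i := by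
          rw [h.ge, conj_eq_cm' e, h.conj_eq cQ xi, (h.comE (h.cmE hC hx) h.eE).mul_zpow, conj_zpow]; group
        _ = _ := by rw [← h.ge]; group
    rw [e2, Subgroup.mul_mem_cancel_right _ (zL (zpow_mem (mem_zpowers z) i))] at k₅
    have k₆ := (h.cj_eq_zero gi (mul_mem (mul_mem cE (zpow_mem h.zE _)) (zpow_mem (h.cmE hC hx) i))).2 (lL k₅).1
    rw [ad _ (mul_mem cE (zpow_mem h.zE _)) _ (zpow_mem (h.cmE hC hx) i), ad _ cE _ (zpow_mem h.zE _), c0, ad.zpow h.zE,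
      ad.zpow (h.cmE hC hx), Int.cast_natCast, ZMod.natCast_zmod_val, zero_add] at k₆
    refine ⟨i, k₅, ?_⟩
    rw [← ZMod.intCast_zmod_eq_zero_iff_dvd]
    exact ⟨fun d => (mul_eq_zero.1 (by rw [d] at k₆; linear_combination k₆)).resolve_right (h0 x hx xC),
      fun d => (mul_eq_zero.1 (by rw [d] at k₆; linear_combination k₆)).resolve_right h.cj_z⟩
  have mK : ∀ x ∈ Q, om p z x⁻¹ c = 0 ↔ x ∈ K := fun x hx => (h.om_eq_zero (Q.inv_mem hx) cQ).trans ⟨fun d => eK.le ⟨hx, mem_cen_of_eq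
    (eL c hc cZ) (mem_cen_zpowers (h.zc x (h.le hx))) (Commute.inv_left_iff.1 d).symm⟩, fun d => (comm_of_cen (eK.ge d).2 hc).symm.inv_left⟩
  obtain ⟨i, i1, i2⟩ := key b (lQ hb) b1
  obtain ⟨j, rfl⟩ := i2.1 ((mK b (lQ hb)).2 hb)
  rw [(mK b (lQ hb)).2 hb, zpow_mul, zpow_natCast (cm e b), h.el _ (h.cmE hC (lQ hb)), one_zpow, ZMod.val_zero, Nat.cast_zero, zpow_zero,
    mul_one, mul_one] at i1
  have e3 := eL _ i1 fun d => cZ (by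
    have : c ∈ zpowers e := by simpa [← h.ge, mul_assoc] using (MonoidHom.map_zpowers (cjh g) z).le (mem_map_of_mem (cjh g) d)
    exact eq_one_of_mem h.ep h.eQ cQ this ▸ one_mem _)
  have fin : ∀ x ∈ Q, x ∉ K → bf p z e b x = 0 := fun x hx xK => by
    obtain ⟨i, i1, i2⟩ := key x hx fun d => xK (lK d)
    have m := mem_map_of_mem (cjh g) (e3.ge i1)
    rw [Subgroup.map_sup, MonoidHom.map_zpowers, MonoidHom.map_zpowers, sup_comm] at m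
    have m' := h.mem_of_sup' (zpowers_le.2 cQ) (zpowers_le.2 cE) (by simpa [← h.ge, mul_assoc] using m)
      (mul_mem (mul_mem cQ (zpow_mem h.zQ ((om p z x⁻¹ c).val : ℤ))) (zpow_mem (h.cmQ h.eS hx) i))
    have m2 := mem_of_zpow_mem_of_not_dvd (h.el _ (h.cmE hC hx) ▸ one_mem L) ((L.mul_mem_cancel_left (mul_mem hc
      (zL (zpow_mem (mem_zpowers z) _)))).1 (zpowers_le.2 hc m')) fun d => xK ((mK x hx).1 (i2.2 d))
    exact (h.om_eq_zero (lQ hb) (h.cmQ h.eS hx)).2 (comm_of_cen (eK.ge hb).2 m2).symm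
  have h1 := fin _ (mul_mem hx (lQ hb)) fun d => hxK ((K.mul_mem_cancel_right hb).1 d)
  rw [h.addOn_bf h.eS (lQ hb) _ hx _ (lQ hb), fin x hx hxK, zero_add] at h1
  exact h.bf_ne hC (lQ hb) b1 h1)

theorem case_one (hF : (groupFusionSystem S).IsSaturated p) : Six p S :=
  h.six_of_two h.eS h.eQ (h.D_eq' hC) (h.card_Q hC) (fun _ => h.exp_p hC hF) h.ep (cen_mono hC (h.ab h.eE))

end One

end CL.Fus.Xs
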