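/-
Extraspecial subgroup of index `p`: the case of pearls, and the classification of the groups.
-/
import Cfsg.Agent.Fus.XsE
import Cfsg.Agent.Fgs.MaxClass

set_option autoImplicit false
set_option linter.unusedSectionVars false

namespace CL.Fus.Xs

open Cfsg Cfsg.FusionSystem Subgroup CL.Fus.Rk
open scoped commutatorElement

local notation "𝒩(" X ")" => Subgroup.normalizer ((X : Subgroup _) : Set _)
local notation "𝒞(" X ")" => Subgroup.centralizer ((X : Subgroup _) : Set _)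

variable {G : Type*} [Group G] {p : ℕ} {S Q A B E N U W X Y : Subgroup G} {a b c e g k s t u v w x y z : G} {φ : G → ZMod p}
  {l m : ℕ} [hp : Fact p.Prime] [Finite G]

theorem exists_wt (hB : B ≤ U) (hi : B.relIndex U = p) (hn : U ≤ 𝒩(B)) (kB : k ∈ 𝒩(B)) (kU : k ∈ 𝒩(U)) : ∃ j, Rk.Wt k U B j := by
  obtain ⟨x, hx, hxB⟩ := exists_of_relIndex hi
  have e := eq_sup_zpowers_of_relIndex hB (by rw [hi]; exact hp.out) hx hxB
  obtain ⟨_, ⟨i, rfl⟩, b, hb, e'⟩ := (mem_sup_of_le_normalizer (zpowers_le.2 (hn hx))).1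
    (((sup_comm _ B).trans e).ge (conj_mem_of_mem_normalizer kU hx))
  exact ⟨i, e ▸ wt_sup (hn hx) kB (by rw [← e']; simpa using hb)⟩

theorem exists_prim (p : ℕ) [hp : Fact p.Prime] : ∃ l m : ℕ, (p : ℤ) ∣ l * m - 1 ∧ ∀ n : ℕ, (l : ZMod p) ^ n = 1 → p - 1 ∣ n := by
  obtain ⟨g, hg⟩ := IsCyclic.exists_ofOrder_eq_natCard (α := (ZMod p)ˣ)
  refine ⟨(g : ZMod p).val, ((g⁻¹ : (ZMod p)ˣ) : ZMod p).val, (ZMod.intCast_zmod_eq_zero_iff_dvd _ p).1 (by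
    push_cast; rw [ZMod.natCast_zmod_val, ZMod.natCast_zmod_val, mul_inv_cancel₀ g.ne_zero, sub_self]), fun n hn => ?_⟩
  rw [Nat.card_eq_fintype_card, ZMod.card_units] at hg
  rw [← hg, orderOf_dvd_iff_pow_eq_one, ← Units.val_inj]
  simpa using hn

/-- one step of the series of `S`-invariant subgroups of `Q`, with the weight of `k` -/
structure Lv (p : ℕ) (S Q : Subgroup G) (z e k : G) (l i : ℕ) (B U : Subgroup G) : Prop where
  le : B ≤ U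
  zU : zpowers z ≤ U
  lQ : U ≤ Q
  nB : S ≤ 𝒩(B)
  nU : S ≤ 𝒩(U)
  kB : k ∈ 𝒩(B)
  kU : k ∈ 𝒩(U)
  idx : B.relIndex U = p
  card : Nat.card U = p ^ (i + 1)
  mem : ∀ x ∈ Q, cm e x ∈ B → x ∈ U
  wt : Rk.Wt k U B ((l : ℤ) ^ (i + 1))

namespace One
variable (h : One p S Q z E g e φ) (hc : Nat.card h.Ct = p ^ 2)
include h hc

theorem card_norm (hN : N ≤ S) (hz : z ∈ N) (hQ : ¬ N ≤ Q) : Nat.card ↥(S ⊓ 𝒩(N)) ≤ p * Nat.card N := by
  obtain ⟨a, ha, haQ⟩ := SetLike.not_le_iff_exists.1 hQ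
  have hZ : zpowers z ≤ Q ⊓ N := zpowers_le.2 ⟨h.zQ, hz⟩
  have h1 := h.card_up hZ inf_le_left (hN ha) haQ
  have ad := h.add.mono (inf_le_left : S ⊓ 𝒩(N) ≤ S)
  have h2 := card_le_of_le (fun x hx => (h.mem_up hZ inf_le_left).2 ⟨(h.ker x hx.1.1).1 hx.2, h.cmQ (hN ha) ((h.ker x hx.1.1).1 hx.2), by
    have := N.mul_mem (conj_mem_of_mem_normalizer (Subgroup.inv_mem _ hx.1.2) ha) (N.inv_mem ha)
    rwa [conj_eq_cm', mul_inv_cancel_right] at this⟩ : ad.ker ≤ h.up a hZ inf_le_left)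
  rw [card_of_relIndex (p := p) (X := Q ⊓ N) inf_le_right (by
    rw [inf_relIndex_right]; exact relIndex_eq_of_not_le h.nQ h.le hN h.idx hQ)]
  refine ad.card_le.trans (Nat.mul_le_mul_left p (h2.trans (Nat.le_of_mul_le_mul_right (h1.trans_eq ?_) hp.out.pos)))
  rw [hc]; ring

theorem fn (hE : (groupFusionSystem S).IsCentric E) (hN : E ≤ N) (lt : N < S) : (groupFusionSystem S).IsFullyNormalized N :=
  fn_of lt.le fun k hk => by
    have h1 : z ∈ N.map (cjh k) := map_mono hN (hE.2 _ (GS.groupFusionSystem_eq S ▸ GS.isConj_iff.2 ⟨hE.1, (map_mono hN).trans hk, k,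
      mem_top k, rfl⟩) ⟨h.le h.zQ, mem_cen fun y hy => (h.zc y (hk (map_mono hN hy))).symm⟩)
    refine (h.card_norm hc hk h1 fun c => h.eQ (h.Z_le ?_)).trans ?_
    · have := conj_mem_of_mem_normalizer (Subgroup.inv_mem _ (norm_of_conj (h.wc k (c (mem_map_of_mem (cjh k) (hN h.zE))))))
        (h.tan h.pt_e (c (mem_map_of_mem (cjh k) (hN h.eE))))
      simpa [mul_assoc] using this
    · rw [GS.card_map_conj]
      exact mul_card_le_of_lt (h.pg.to_le inf_le_left) (lt_normalizerIn h.pg lt)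

theorem idx_Z : (zpowers z).relIndex h.Ct = p := idx_of_card h.Z_le_Ct (by rw [hc, h.card_Z, pow_two])

theorem Ct_le_D' : h.Ct ≤ Q ⊓ 𝒞(h.Ct) := le_inf h.Ct_le
  (ab_of_idx h.Z_le_Ct (h.idx_Z hc) ((h.Z_le_cen (h.Ct_le.trans h.le)).trans inf_le_right))

theorem idx_D : (Q ⊓ 𝒞(h.Ct)).relIndex Q = p := idx_of_card inf_le_left (Nat.eq_of_mul_eq_mul_right hp.out.pos
  ((h.cnt _ h.Z_le_Ct h.Ct_le).symm.trans (by rw [hc]; ring)))

omit hc in
theorem D_le_comm : Q ⊓ 𝒞(h.Ct) ≤ ⁅S, S⁆ := fun d hd => by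
  obtain ⟨x, hx, u, hu, rfl⟩ := h.exists_cm h.eS h.eQ hd
  exact mul_mem (inv_mul_conj_mem_commutator (h.le hx) h.eS) (commutator_mono h.le h.le (h.Z_le_comm le_rfl h.not_ab hu))

variable (hP : Q ⊓ E = zpowers z)
include hP

theorem exists_u : ∃ u ∈ h.Ct, u ∉ zpowers z ∧ u ∉ E ∧ cm e u ≠ 1 := by
  obtain ⟨u, hu, k⟩ := exists_of_relIndex (h.idx_Z hc)
  exact ⟨u, hu, k, fun c => k (hP.le ⟨hu.1, c⟩), fun c => k (hP.le ⟨hu.1, h.cen u (h.le hu.1) (cm_eq_one.1 c).symm⟩)⟩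

variable (hF : (groupFusionSystem S).IsSaturated p) (hE : (groupFusionSystem S).IsCentric E)
include hF hE

theorem base (hd : (p : ℤ) ∣ l * m - 1) : E ≤ S ⊓ 𝒩(E) ∧ h.Ct ≤ S ⊓ 𝒩(E) ∧
    ∃ k ∈ normalizer ((S ⊓ 𝒩(E) : Subgroup G) : Set G), k ∈ 𝒩(h.Ct) ∧ k * z * k⁻¹ = z ^ l ∧ k * e * k⁻¹ = e ^ m := by
  obtain ⟨u, hu, uZ, uE, u1⟩ := h.exists_u hc hP
  have l1 : h.Ct ≤ S ⊓ 𝒩(E) := fun x hx => ⟨h.le hx.1, h.norm_E hx.1 (h.ZE (h.cm_Ct h.eS hx))⟩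
  obtain ⟨k, hk, k1, k2⟩ := torus h.pg hF (h.fn hc hE le_rfl (lt_of_le_not_ge h.lE fun c => uE (c (h.le hu.1)))) (by
    rw [← h.sup_E, hP, card_sup_zpowers_of_normalizer (h.nZ h.eS) (fun c => h.eQ (h.Z_le c)) (h.ep ▸ one_mem _), h.card_Z, pow_two])
    h.el h.zE h.z1 h.zc (l1 hu) (fun c => uE (h.cen u (h.le hu.1) (comm_of_cen c h.eE))) h.gE (fun c => h.eQ (h.Z_le (h.ge ▸ c))) l m hd
  refine ⟨le_inf h.lE le_normalizer, l1, k, hk, mem_normalizer_of_finite fun y hy => ?_, k1, h.ge ▸ k2⟩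
  have hv := conj_mem_of_mem_normalizer hk (l1 hy)
  have key : ∀ v ∈ S ⊓ 𝒩(E), v ∈ Q → v ∈ h.Ct := fun v hv c => h.mem_Ct h.eS h.eQ c (hP.le ⟨h.cmQ h.eS c, by
    have := E.mul_mem (conj_mem_of_mem_normalizer (Subgroup.inv_mem _ hv.2) h.eE) (E.inv_mem h.eE)
    rwa [conj_eq_cm', mul_inv_cancel_right] at this⟩)
  refine key _ hv (by_contra fun c => ?_)
  have c1 : φ (k * y * k⁻¹) ≠ 0 := fun d => c ((h.ker _ hv.1).1 d)
  have h1 := pow_mem hv (φ (k * y * k⁻¹))⁻¹.val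
  have h2 := h.decomp h1.1
  rw [h.add.val hv.1, inv_mul_cancel₀ c1, ZMod.val_one, pow_one] at h2
  obtain ⟨x, hx, w, hw, e1⟩ := h.exists_cm h.eS h.eQ (h.Ct_le_D' hc (key _ (mul_mem h1 (Subgroup.inv_mem _ ⟨h.eS, le_normalizer h.eE⟩)) h2))
  obtain ⟨j, rfl⟩ := mem_powers_iff_mem_zpowers.2 (zpowers_le.2 (mem_zpowers_of_mem h.zp (h.cm_Ct h.eS hu) u1) hw)
  have h3 := ((h.pt_line (h.commZ (h.cm_Ct h.eS hu) (h.le hu.1)) j).conj x⁻¹).conj k⁻¹
  beta_reduce at hw e1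
  rw [show ∀ a b : G, x⁻¹ * (a * b) * x⁻¹⁻¹ = x⁻¹ * a * x⁻¹⁻¹ * (x⁻¹ * b * x⁻¹⁻¹) from fun a b => by group, conj_eq_cm' e, ← (h.commZ hw (h.le (Q.inv_mem hx))).eq, mul_inv_cancel_right, ← mul_assoc _ (cm e x),
    (h.commZ hw (h.le (h.cmQ h.eS hx))).eq, ← e1, inv_mul_cancel_right, conj_pow,
    show ∀ a : G, k⁻¹ * (k * a * k⁻¹) * k⁻¹⁻¹ = a from fun a => by group] at h3
  have h4 := mem_of_zpow_mem h.pgQ hy.1 (m := ((φ (k * y * k⁻¹))⁻¹.val : ℕ)) (by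
    rw [zpow_natCast]; exact h.mem_Z_of_pt h3 (pow_mem hy.1 _)) fun d => c1 (by simpa using (ZMod.intCast_zmod_eq_zero_iff_dvd _ p).2 d)
  exact c (h.Z_le (conj_mem_of_mem_normalizer (norm_of_conj (k1.symm ▸ npow_mem_zpowers z l)) h4))

theorem step (lt : N < S) (hN : E ≤ N) (hC : h.Ct ≤ N) (kN : k ∈ 𝒩(N)) (kC : k ∈ 𝒩(h.Ct)) :
    ∃ n ∈ normalizer ((S ⊓ 𝒩(N) : Subgroup G) : Set G), n⁻¹ * k ∈ 𝒞(N) := by
  obtain ⟨u, hu, uZ, uE, u1⟩ := h.exists_u hc hP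
  have pN := h.pg.to_le lt.le
  have iU : (Q ⊓ N).relIndex N = p := by
    rw [inf_relIndex_right]; exact relIndex_eq_of_not_le h.nQ h.le lt.le h.idx fun c => h.eQ (c (hN h.eE))
  have h1 : Q ⊓ N ≤ Q ⊓ 𝒞(h.Ct) := by_contra fun c => lt.ne (eq_of_sup_frat lt.le (by
    have := (CL.Grp.eq_or_eq_of_relIndex_prime le_sup_left (sup_le inf_le_left inf_le_left) (by rw [h.idx_D hc]; exact hp.out)).resolve_left
      fun d => c (sup_eq_left.1 d)
    exact (h.sup h.eS h.eQ).ge.trans (sup_le (this.ge.trans (sup_le ((h.D_le_comm.trans (commutator_le_frat h.pg)).trans le_sup_right)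
      (inf_le_right.trans le_sup_left))) (zpowers_le.2 (mem_sup_left (hN h.eE))))))
  have h2 : Q ⊓ N = N ⊓ 𝒞(h.Ct) := ((CL.Grp.eq_or_eq_of_relIndex_prime (le_inf inf_le_right (h1.trans inf_le_right)) inf_le_left
    (by rw [iU]; exact hp.out)).resolve_right fun c => u1 (cm_eq_one.2 (comm_of_cen (c.ge (hN h.eE)).2 hu))).symm
  have kU : k ∈ normalizer ((Q ⊓ N : Subgroup G) : Set G) := h2 ▸ CL.Grp.le_normalizer_inf' (zpowers_le.2 kN)
    (CL.Grp.le_normalizer_centralizer' (zpowers_le.2 kC)) (mem_zpowers k)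
  have nU : S ⊓ 𝒩(N) ≤ normalizer ((Q ⊓ N : Subgroup G) : Set G) := CL.Grp.le_normalizer_inf' (inf_le_left.trans h.nQ) inf_le_right
  have nY := CL.Grp.le_normalizer_commutator' nU inf_le_right
  have zY : zpowers z ≤ ⁅Q ⊓ N, N⁆ := zpowers_le.2 (zpowers_le.2 (inv_mul_conj_mem_commutator (⟨hu.1, hC hu⟩ : u ∈ Q ⊓ N) (hN h.eE))
    (mem_zpowers_of_mem h.zp (h.cm_Ct h.eS hu) u1))
  have eM : e ∈ S ⊓ 𝒩(N) := ⟨h.eS, le_normalizer (hN h.eE)⟩
  refine lift h.pg hF (h.fn hc hE hN lt) inf_le_right le_rfl ((commutator_mono inf_le_right le_rfl).trans (commutator_le_frat pN))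
    (fun a ha => ⟨ha.2, nU ha, fun x hx => ⟨h.commQ (inv_mul_conj_mem_commutator (lt.le hx) ha.1), N.mul_mem (N.inv_mem hx)
      (conj_mem_of_mem_normalizer ha.2 hx)⟩⟩) (fun a ha => ⟨nU ha, nU ha, fun x hx => Subgroup.mul_mem _ (Subgroup.inv_mem _ hx)
        (conj_mem_of_mem_normalizer (nU ha) hx)⟩) (fun a ha => ?_) kN kU kU (CL.Grp.le_normalizer_commutator' (zpowers_le.2 kU)
          (zpowers_le.2 kN) (mem_zpowers k))
  have h3 := Subgroup.mul_mem _ ha (Subgroup.inv_mem _ (pow_mem eM (φ a).val))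
  simpa using (secC (Q ⊓ N) ⁅Q ⊓ N, N⁆).mul_mem ⟨nU h3, nY h3, fun x hx => zY (h.cmZ hx.1 (h.decomp ha.1))⟩
    (pow_mem (⟨nU eM, nY eM, fun x hx => inv_mul_conj_mem_commutator hx (hN h.eE)⟩ : e ∈ secC (Q ⊓ N) ⁅Q ⊓ N, N⁆) (φ a).val)

theorem exists_torus (hd : (p : ℤ) ∣ l * m - 1) : ∃ k ∈ 𝒩(S), k ∈ 𝒩(h.Ct) ∧ k * z * k⁻¹ = z ^ l ∧ k * e * k⁻¹ = e ^ m := by
  suffices key : ∀ n (N : Subgroup G), N ≤ S → Nat.card S ≤ Nat.card N + n → E ≤ N → h.Ct ≤ N →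
      (∃ k ∈ 𝒩(N), k ∈ 𝒩(h.Ct) ∧ k * z * k⁻¹ = z ^ l ∧ k * e * k⁻¹ = e ^ m) →
      ∃ k ∈ 𝒩(S), k ∈ 𝒩(h.Ct) ∧ k * z * k⁻¹ = z ^ l ∧ k * e * k⁻¹ = e ^ m by
    obtain ⟨h1, h2, h3⟩ := h.base hc hP hF hE hd
    exact key _ _ inf_le_left (Nat.le_add_left _ _) h1 h2 h3
  intro n
  induction n with
  | zero => exact fun N hN c _ _ k => eq_of_le_of_card_ge hN c ▸ k
  | succ n ih =>
    rintro N hN c h1 h2 ⟨k, k1, k2, k3, k4⟩
    obtain rfl | lt := hN.eq_or_lt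
    · exact ⟨k, k1, k2, k3, k4⟩
    obtain ⟨a, ha, a1⟩ := h.step hc hP hF hE lt h1 h2 k1 k2
    have lt' : N < S ⊓ 𝒩(N) := lt_normalizerIn h.pg lt
    have c' : ∀ x ∈ N, a * x * a⁻¹ = k * x * k⁻¹ := fun x hx => by
      conv_lhs => rw [← conj_eq_of_mem_centralizer a1 hx]
      group
    have := Nat.card_pos (α := N)
    have := mul_card_le_of_lt (h.pg.to_le inf_le_left) lt'
    have := Nat.mul_le_mul_right (Nat.card N) hp.out.two_le
    exact ih _ inf_le_left (by omega) (h1.trans lt'.le) (h2.trans lt'.le) ⟨a, ha, mem_normalizer_of_finite fun x hx =>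
      c' x (h2 hx) ▸ conj_mem_of_mem_normalizer k2 hx, (c' z (h1 h.zE)).trans k3, (c' e (h1 h.eE)).trans k4⟩

omit hP hF hE in
theorem lv_succ (hd : (p : ℤ) ∣ l * m - 1) (kQ : k ∈ 𝒩(Q)) (k2 : k * e * k⁻¹ = e ^ m) {i : ℕ} (t : Lv p S Q z e k l i B U)
    (ne : ¬ Q ≤ U) : Lv p S Q z e k l (i + 1) U (h.up e t.zU t.lQ) := by
  have c1 := h.card_up_eq t.zU t.lQ hc h.eS h.eQ (t.nU h.eS) ne
  have l1 := h.le_up t.zU t.lQ (t.nU h.eS)
  have n1 := h.n_up t.zU t.lQ h.eS h.eQ (t.nU h.eS)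
  have l2 := h.up_le t.zU t.lQ (e := e)
  have i1 := idx_of_card l1 c1
  have cU := comm_le_of_idx h.pg l1 (l2.trans h.le) t.nU n1 i1
  have cB := comm_le_of_idx h.pg t.le (t.lQ.trans h.le) t.nB t.nU t.idx
  have hm : ¬ (p : ℤ) ∣ m := fun d => Int.natCast_dvd_natCast.not.2 hp.out.not_dvd_one (by
    simpa using (dvd_sub (d.mul_left l) hd))
  have k1 : k ∈ normalizer ((h.up e t.zU t.lQ : Subgroup G) : Set G) := mem_normalizer_of_finite fun x hx => by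
    have h1 := conj_mem_of_mem_normalizer kQ hx.1
    have h2 : e ∈ commSub (zpowers e) U (zpowers_le.2 (t.nU h.eS)) {(k * x * k⁻¹)⁻¹} := mem_of_zpow_mem_of_not_dvd (h.ep ▸ one_mem _)
      (m := m) ⟨zpow_mem (mem_zpowers e) _, fun _ d => by
        have := conj_mem_of_mem_normalizer (Subgroup.inv_mem _ (t.nU (pow_mem h.eS m))) (conj_mem_of_mem_normalizer t.kU ((h.mem_up _ _).1 hx).2)
        rw [d, zpow_natCast, ← k2]
        convert this using 1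
        rw [← k2, cm]; group⟩ hm
    have := conj_mem_of_mem_normalizer (t.nU h.eS) (h2.2 _ rfl)
    exact (h.mem_up _ _).2 ⟨h1, by convert this using 1; rw [cm]; group⟩
  obtain ⟨j, hj⟩ := exists_wt l1 i1 ((l2.trans h.le).trans t.nU) t.kU k1
  refine ⟨l1, t.zU.trans l1, l2, t.nU, n1, t.kU, k1, i1, by rw [c1, t.card, ← pow_succ'], fun x hx c => (h.mem_up _ _).2 ⟨hx, c⟩,
    hj.congr ?_ fun x hx => i1 ▸ pow_mem_of_relIndex l1 ((l2.trans h.le).trans t.nU) hx⟩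
  obtain ⟨x, hx, xU⟩ := exists_of_relIndex i1
  have xS := h.le (l2 hx)
  have h1 : ⁅x, e⁆ ∈ U := cU (commutator_mem_commutator hx h.eS)
  have h2 := Rk.Wt.comm (N := B) (N₂ := ⊥) hj (wt_sup (x := e) (i := m) (le_normalizer_bot (mem_top e)) (le_normalizer_bot (mem_top k))
    (by rw [k2, zpow_natCast, inv_mul_cancel]; exact one_mem _)) t.kB bot_le ((commutator_mono le_rfl (sup_le bot_le
      (zpowers_le.2 h.eS))).trans cB) (by simp) hx (mem_sup_right (mem_zpowers e)) (t.nB xS) (t.nB h.eS)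
    (cB (commutator_mem_commutator h1 xS)) (cB (commutator_mem_commutator h1 h.eS))
  have h3 : (p : ℤ) ∣ j * m - l ^ (i + 1) := by_contra fun d => xU (inv_mem_iff.1 (t.mem _ (Q.inv_mem (l2 hx)) (by
    rw [cm, inv_mul_conj_eq_commutator, inv_inv]; exact mem_of_wt h.pg (h.le (t.lQ h1)) h2 (t.wt _ h1) d)))
  exact (show (l : ℤ) * (j * m - l ^ (i + 1)) - j * (l * m - 1) = j - l ^ (i + 1 + 1) by ring) ▸ dvd_sub (h3.mul_left l) (hd.mul_left j)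

theorem pearl_main : Six p S ∨ (11 ≤ p ∧ Nat.card S = p ^ (p - 1) ∧ (∀ x : S, x ^ p = 1) ∧ Group.nilpotencyClass S = p - 2) := by
  obtain ⟨l, m, hd, prim⟩ := exists_prim p
  obtain ⟨k, kS, kC, k1, k2⟩ := h.exists_torus hc hP hF hE hd
  have kQ := h.norm_Q (hc.le.trans (Nat.pow_le_pow_right hp.out.pos (by norm_num))) kS
  have kZ := norm_of_conj (k1.symm ▸ npow_mem_zpowers z l)
  have t0 : Lv p S Q z e k l 0 ⊥ (zpowers z) := ⟨bot_le, le_rfl, h.Z_le, le_top.trans le_normalizer_bot, h.nZ,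
    le_normalizer_bot (mem_top k), kZ, by rw [relIndex_bot_left, h.card_Z], by rw [h.card_Z, zero_add, pow_one], fun x hx c =>
      hP.le ⟨hx, h.cen x (h.le hx) (cm_eq_one.1 c).symm⟩, by
        simpa using wt_sup (N := ⊥) (x := z) (g := k) (i := l) (le_normalizer_bot (mem_top _)) (le_normalizer_bot (mem_top _))
          (by rw [k1, zpow_natCast, inv_mul_cancel]; exact one_mem _)⟩
  have t1 := h.lv_succ hc hd kQ k2 t0 (h.not_le (n := 1) (by norm_num) t0.card.le)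
  obtain ⟨a, ha⟩ := IsPGroup.iff_card.1 h.pgQ
  have a5 : 5 ≤ a := (Nat.pow_le_pow_iff_right hp.out.one_lt).1 (ha ▸ h.big)
  have ind : ∀ i, i + 2 ≤ a → ∃ B U, zpowers z ≤ B ∧ Lv p S Q z e k l (i + 1) B U := fun i hi => by
    induction i with
    | zero => exact ⟨_, _, le_rfl, t1⟩
    | succ i ih =>
      obtain ⟨B, U, -, t⟩ := ih (by omega)
      exact ⟨_, _, t.zU, h.lv_succ hc hd kQ k2 t fun c => absurd ((Nat.pow_le_pow_iff_right hp.out.one_lt).1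
        (ha.ge.trans ((card_le_of_le c).trans t.card.le))) (by omega)⟩
  obtain ⟨a, rfl⟩ : ∃ b, a = b + 2 := ⟨a - 2, by omega⟩
  obtain ⟨B, U, zB, t⟩ := ind a le_rfl
  obtain rfl := eq_of_le_of_card_ge t.lQ (ha.trans t.card.symm).le
  have eD : U ⊓ 𝒞(h.Ct) = B := eq_of_le_of_card_ge (fun d hd => by
    obtain ⟨x, hx, u, hu, rfl⟩ := h.exists_cm h.eS h.eQ hd
    exact mul_mem (comm_le_of_idx h.pg t.le h.le t.nB h.nQ t.idx (inv_mul_conj_mem_commutator hx h.eS)) (zB hu))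
    (Nat.eq_of_mul_eq_mul_left hp.out.pos ((card_of_relIndex t.le t.idx).symm.trans (card_of_relIndex inf_le_left (h.idx_D hc)))).le
  obtain ⟨u, hu, uZ, uE, u1⟩ := h.exists_u hc hP
  obtain ⟨x, hx, xD⟩ := exists_of_relIndex (h.idx_D hc)
  have eC := eq_sup_zpowers_of_relIndex h.Z_le_Ct (by rw [h.idx_Z hc]; exact hp.out) hu uZ
  have h1 : om p z x u ≠ 0 := fun c => xD ⟨hx, mem_cen_of_eq eC (mem_cen_zpowers (h.zc x (h.le hx))) ((h.om_eq_zero hx hu.1).1 c).symm⟩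
  have h2 := eD.ge (t.wt x hx)
  have h3 := t1.wt u (h.Ct_le_up _ _ h.eS hu)
  have hx' := conj_mem_of_mem_normalizer kQ hx
  have h4 := h.om_conj' k1 hx hu.1
  have h5 := h.om_right hx' _ (zpow_mem hu.1 ((l : ℤ) ^ (0 + 1 + 1))) _ (h.Z_le h3)
  have h6 := h.om_right hu.1 _ (zpow_mem hx ((l : ℤ) ^ (a + 1 + 1))) _ h2.1
  rw [mul_inv_cancel_left, h4, (h.om_right hx').zpow hu.1, h.om_anti (h.Z_le h3) hx', h.om_Z h3 hx'] at h5
  rw [mul_inv_cancel_left, (h.om_right hu.1).zpow hx, (h.om_eq_zero hu.1 h2.1).2 (comm_of_cen h2.2 hu), h.om_anti hx' hu.1,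
    h.om_anti hx hu.1] at h6
  have l0 : (l : ZMod p) ≠ 0 := fun c => by
    have := (ZMod.intCast_zmod_eq_zero_iff_dvd _ p).2 hd
    simp [c] at this
  have h7 : (l : ZMod p) ^ (a + 3) = 1 := mul_right_cancel₀ (mul_ne_zero l0 h1) (by
    push_cast at h5 h6; linear_combination (l : ZMod p) ^ 2 * h6 - h5)
  have cS : Nat.card S = p ^ (a + 3) := by rw [h.card_S, ha, ← pow_succ']
  have mc : CL.Fgs.MaxCl p (a + 3) S := ⟨cS, by omega, CL.Grp.nilpotencyClass_eq_of_card_centralizer_le (a + 1) S cS ⟨e, h.eS⟩ (by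
    rw [← card_map_of_injective S.subtype_injective]
    refine (card_le_of_le (K := E) ?_).trans_eq (by
      rw [← h.sup_E, hP, card_sup_zpowers_of_normalizer (h.nZ h.eS) (fun c => h.eQ (h.Z_le c)) (h.ep ▸ one_mem _), h.card_Z, pow_two])
    rintro _ ⟨y, hy, rfl⟩
    exact h.cen _ y.2 (congrArg Subtype.val (mem_centralizer_iff.1 hy _ rfl)))⟩
  have e1 : ∀ y : S, y ∈ (⊤ : Subgroup S).lowerCentralSeries 1 → y ^ p = 1 := fun y hy => by
    have c1 : ((⊤ : Subgroup S).lowerCentralSeries 1).map S.subtype = ⁅S, S⁆ := commutator_self_eq_map S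
    have c2 := eq_of_le_of_card_ge h.D_le_comm (by
      rw [← c1, card_map_of_injective S.subtype_injective, mc.card_lcs le_rfl]
      exact Nat.le_of_mul_le_mul_left (by rw [← card_of_relIndex inf_le_left (h.idx_D hc), ha, ← pow_succ']; rfl) hp.out.pos)
    have c3 := h.D_le_ker h.eS h.eQ (c2.ge (c1.le (mem_map_of_mem _ hy)))
    exact Subtype.ext ((h.lam_eq_zero c3.1).1 c3.2)
  have h8 : a + 3 ≤ p + 1 := by_contra fun c => by
    obtain ⟨y, y1, y2⟩ := SetLike.exists_of_lt (mc.lcs_succ_lt (j := 1) (by omega))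
    exact mc.pow_notMem_lcs le_rfl (by omega) y1 y2 (e1 y y1 ▸ one_mem _)
  have h9 : a + 3 = p - 1 := by
    obtain ⟨r, hr⟩ := prim _ h7
    have := hp.out.two_le
    obtain _ | _ | r := r
    · omega
    · omega
    · rw [mul_add, mul_add] at hr; omega
  have ex : ∀ y ∈ U, y ^ p = 1 := fun y hy => (h.lam_eq_zero hy).1 ((eq_sup_zpowers_of_relIndex inf_le_left (by
    rw [h.idx_D hc]; exact hp.out) hx xD).ge.trans (sup_le (h.D_le_ker h.eS h.eQ) (zpowers_le.2 ⟨hx, by_contra fun c => ?_⟩)) hy).2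
  swap
  · have r1 := h.addOn_lam _ (zpow_mem hx ((l : ℤ) ^ (a + 1 + 1))) _ h2.1
    rw [mul_inv_cancel_left, h.lam_conj k1 hx, h.addOn_lam.zpow hx, (h.D_le_ker h.eS h.eQ h2).2] at r1
    have r2 := Nat.le_of_dvd two_pos (prim 2 (mul_right_cancel₀ c (by
      push_cast at r1; linear_combination (l : ZMod p) * r1 + lam p z x * h7)))
    omega
  obtain rfl | p7 := eq_or_ne p 7
  · obtain ⟨j, hj⟩ := h.adjust h.eS hu hx h1
    have r1 := mul_mem h.eS (h.le (pow_mem hx j))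
    refine Or.inl (h.six_of_one (by rw [ha]; exact Nat.pow_le_pow_right (by norm_num) (by omega)) ex r1
      (fun c => h.eQ ((U.mul_mem_cancel_right (pow_mem hx j)).1 c)) ?_ (mem_cen_of_eq eC (mem_cen_zpowers (h.zc _ r1)) hj) hc)
    have := CL.Fgs.mul_pow_mem_of_lcs (j := 0) (N := ⊥) (fun c hc => mem_bot.2 (e1 c hc)) (mc.lcs_eq_bot (by omega)).le
      (⟨e, h.eS⟩ : S) (y := ⟨x ^ j, h.le (pow_mem hx j)⟩) (mem_top _)
    have r2 := congrArg Subtype.val (mem_bot.1 this)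
    simpa [h.ep, ex _ (pow_mem hx j)] using r2
  refine Or.inr ⟨?_, h9 ▸ cS, fun y => ?_, by rw [mc.cl]; omega⟩
  · by_contra c
    have : p = 8 ∨ p = 9 ∨ p = 10 := by omega
    obtain rfl | rfl | rfl := this <;> exact absurd hp.out (by norm_num)
  · have := CL.Fgs.mul_pow_mem_of_lcs (j := 0) (N := ⊥) (fun c hc => mem_bot.2 (e1 c hc)) (mc.lcs_eq_bot (by omega)).le
      (⟨_, h.le (h.decomp y.2)⟩ : S) (y := ⟨e ^ (φ y).val, pow_mem h.eS _⟩) (mem_top _)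
    have r2 := congrArg Subtype.val (mem_bot.1 this)
    refine Subtype.ext ?_
    simpa [ex _ (h.decomp y.2), h.el _ (pow_mem h.eE _)] using r2

end One

theorem XQ.main (h : XQ p S Q z) (hF : (groupFusionSystem S).IsSaturated p) (hO : (groupFusionSystem S).core = ⊥) :
    Six p S ∨ (11 ≤ p ∧ Nat.card S = p ^ (p - 1) ∧ (∀ x : S, x ^ p = 1) ∧ Group.nilpotencyClass S = p - 2) := by
  by_cases wc : ∀ k, k * z * k⁻¹ ∈ Q → k * z * k⁻¹ ∈ zpowers z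
  swap
  · push Not at wc
    obtain ⟨k, h1, h2⟩ := wc
    exact Or.inl (h.case_two hF h1 h2)
  obtain ⟨E, hE, g, hg, hg'⟩ : ∃ E : Subgroup G, (groupFusionSystem S).IsEssential p E ∧ ∃ g ∈ normalizer (E : Set G),
      g ∉ normalizer ((zpowers z : Subgroup G) : Set G) := by
    by_contra! c
    exact h.z1 (zpowers_eq_bot.1 (eq_bot_of_inv h.pg hF hO (h.Z_le.trans h.le) (fun E hE => ⟨zpowers_le.2 (IsCentric.centralizerIn_le
      hE.1 ⟨h.le h.zQ, mem_cen fun y hy => (h.zc y (hE.1.1 hy)).symm⟩), c E hE⟩) fun _ => h.norm_Z))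
  obtain ⟨φ, t⟩ := h.exists_one hF wc hE.1.1 (IsCentric.centralizerIn_le hE.1) hg hg'
  by_cases hC : t.Ct ≤ E
  · exact Or.inl (t.case_one hC hF)
  · exact t.pearl_main (t.pearl hC).2 (t.pearl hC).1 hF hE.1

end CL.Fus.Xs
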