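/-
The `p`-subgroups of `G₂(q)` (octonion model) have order at most `q ^ 6`.
-/
import Cfsg.Agent.Known.Cov2

set_option autoImplicit false

namespace CL.Fus.Xs

open Cfsg.Lie CL.Blk.Zorn CL.Cov MvPolynomial QuadraticMap
open scoped Pointwise

variable {F : Type*} [Field F]

/-- the natural action on the octonions -/
@[reducible] noncomputable def octAct (F : Type*) [Field F] : MulAction (G2 F) (Fin 8 → F) := MulAction.compHom _ (act F)

theorem exists_fixed {p : ℕ} [Fact p.Prime] [Finite F] {P : Subgroup (G2 F)} (hP : IsPGroup p P) (s : Set (Fin 8 → F))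
    (hs : ∀ g ∈ P, ∀ x ∈ s, act F g x ∈ s) (h0 : 0 ∈ s) (hp : p ∣ Nat.card s) :
    ∃ v ∈ s, v ≠ 0 ∧ ∀ g ∈ P, act F g v = v := by
  let : MulAction P s :=
    { smul := fun g x => ⟨act F g x, hs g g.2 _ x.2⟩
      one_smul := fun x => Subtype.ext (congrArg (· x.1) (map_one (act F)))
      mul_smul := fun g h x => Subtype.ext (congrArg (· x.1) (map_mul (act F) g.1 h.1)) }
  obtain ⟨v, hv, h1⟩ := hP.exists_fixed_point_of_prime_dvd_card_of_fixed_point s hp (a := ⟨0, h0⟩)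
    fun g => Subtype.ext (map_zero (act F g))
  exact ⟨v, v.2, fun e => h1 (Subtype.ext e.symm), fun g hg => congrArg Subtype.val (hv ⟨g, hg⟩)⟩

theorem orel_sing {v : Fin 8 → F} (h0 : v ≠ 0) (h1 : v 0 + v 7 = 0) (h2 : nrm8 F v = 0) :
    ∃ t : F, t ≠ 0 ∧ ORel v (t • ![0, 0, 0, 1, 0, 0, 0, 0]) := by
  have a1 : ∃ y, ORel v y ∧ y 3 ≠ 0 := by
    by_contra! h
    have e3 := h _ (ORel.refl v)
    have e1 := h _ (orel_sw13 v)
    have e2 := h _ (orel_sw23 v)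
    have e6 := h _ (orel_tau v)
    have e4 := h _ ((orel_tau v).trans (orel_sw13 _))
    have e5 := h _ ((orel_tau v).trans (orel_sw23 _))
    simp at e1 e2 e4 e5 e6
    rw [nrm8_apply, e1, e2, e3] at h2
    have e0 : v 0 = 0 := pow_eq_zero_iff two_ne_zero |>.1 (by linear_combination v 0 * h1 - h2)
    exact h0 (ext8 e0 e1 e2 e3 e4 e5 e6 (by simpa [e0] using h1))
  obtain ⟨y, r1, a1⟩ := a1
  obtain ⟨y, r2, a1, a4, a5⟩ := orel_B a1
  obtain ⟨y, r3, a3, a4, a5, a1, a2⟩ := orel_C a1 a4 a5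
  have r := (r1.trans r2).trans r3
  have b1 := r.tr.trans h1
  have b2 := r.nrm.trans h2
  rw [nrm8_apply, a1, a2] at b2
  refine ⟨y 3, a3, r.trans ?_⟩
  convert orel_low (y 0 / y 3) y using 1
  apply ext8 <;> simp [a1, a2, a4, a5] <;> field_simp
  · ring
  · linear_combination b2
  · linear_combination -b1

theorem eq_of_agree {g h : G2 F} (h1 : act F g ![0, 1, 0, 0, 0, 0, 0, 0] = act F h ![0, 1, 0, 0, 0, 0, 0, 0])
    (h2 : act F g ![0, 0, 1, 0, 0, 0, 0, 0] = act F h ![0, 0, 1, 0, 0, 0, 0, 0])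
    (h3 : act F g ![0, 0, 0, 1, 0, 0, 0, 0] = act F h ![0, 0, 0, 1, 0, 0, 0, 0])
    (h6 : act F g ![0, 0, 0, 0, 0, 0, 1, 0] = act F h ![0, 0, 0, 0, 0, 0, 1, 0]) : g = h := by
  have m : ∀ {x y}, act F g x = act F h x → act F g y = act F h y → act F g (zornMul x y) = act F h (zornMul x y) :=
    fun e e' => by rw [isAut_act, isAut_act, e, e']
  refine act_injective (LinearMap.ext fun x => ?_)
  have : x = x 0 • zornMul ![0, 0, 0, 1, 0, 0, 0, 0] ![0, 0, 0, 0, 0, 0, 1, 0] + x 1 • ![0, 1, 0, 0, 0, 0, 0, 0] +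
      x 2 • ![0, 0, 1, 0, 0, 0, 0, 0] + x 3 • ![0, 0, 0, 1, 0, 0, 0, 0] +
      x 4 • zornMul ![0, 0, 1, 0, 0, 0, 0, 0] ![0, 0, 0, 1, 0, 0, 0, 0] +
      x 5 • zornMul ![0, 0, 0, 1, 0, 0, 0, 0] ![0, 1, 0, 0, 0, 0, 0, 0] + x 6 • ![0, 0, 0, 0, 0, 0, 1, 0] +
      x 7 • zornMul ![0, 0, 0, 0, 0, 0, 1, 0] ![0, 0, 0, 1, 0, 0, 0, 0] := by
    apply ext8 <;> simp only [Pi.add_apply, Pi.smul_apply, zm0, zm1, zm2, zm3, zm4, zm5, zm6, zm7] <;> simp
  rw [this]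
  simp only [map_add, map_smul, h1, h2, h3, h6, m h3 h6, m h2 h3, m h3 h1, m h6 h3]

theorem act_plane {g : G2 F} (h3 : act F g ![0, 0, 0, 1, 0, 0, 0, 0] = ![0, 0, 0, 1, 0, 0, 0, 0])
    (h6 : act F g ![0, 0, 0, 0, 0, 0, 1, 0] = ![0, 0, 0, 0, 0, 0, 1, 0]) (a b : F) :
    ∃ c d, act F g ![0, a, b, 0, 0, 0, 0, 0] = ![0, c, d, 0, 0, 0, 0, 0] := by
  have e0 := isAut_act g ![0, 0, 0, 1, 0, 0, 0, 0] ![0, 0, 0, 0, 0, 0, 1, 0]
  rw [h3, h6, show zornMul ![0, 0, 0, 1, 0, 0, 0, 0] ![0, 0, 0, 0, 0, 0, 1, 0] = ![(1 : F), 0, 0, 0, 0, 0, 0, 0] by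
    apply ext8 <;> simp [zm0, zm1, zm2, zm3, zm4, zm5, zm6, zm7]] at e0
  have e1 := isAut_act g ![1, 0, 0, 0, 0, 0, 0, 0] ![0, a, b, 0, 0, 0, 0, 0]
  have e2 := isAut_act g ![0, a, b, 0, 0, 0, 0, 0] ![1, 0, 0, 0, 0, 0, 0, 0]
  have e3 := polar_act g ![0, a, b, 0, 0, 0, 0, 0] ![0, 0, 0, 0, 0, 0, 1, 0]
  rw [e0, show zornMul ![1, 0, 0, 0, 0, 0, 0, 0] ![0, a, b, 0, 0, 0, 0, 0] = ![0, a, b, 0, 0, 0, 0, 0] by
    apply ext8 <;> simp [zm0, zm1, zm2, zm3, zm4, zm5, zm6, zm7]] at e1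
  rw [e0, show zornMul ![0, a, b, 0, 0, 0, 0, 0] ![1, 0, 0, 0, 0, 0, 0, 0] = 0 by
    apply ext8 <;> simp [zm0, zm1, zm2, zm3, zm4, zm5, zm6, zm7], map_zero] at e2
  rw [h6, polar_nrm8, polar_nrm8] at e3
  generalize act F g ![0, a, b, 0, 0, 0, 0, 0] = w at *
  refine ⟨w 1, w 2, ext8 ?_ rfl rfl ?_ ?_ ?_ ?_ ?_⟩
  · simpa [zm0] using (congrFun e2 0).symm
  · simpa using e3
  · simpa [zm4] using congrFun e1 4
  · simpa [zm5] using congrFun e1 5
  · simpa [zm6] using congrFun e1 6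
  · simpa [zm7] using congrFun e1 7

variable {p : ℕ} [Fact p.Prime] [Fintype F] [CharP F p]

theorem dvd_card : p ∣ Nat.card F := by
  obtain ⟨n, -, h⟩ := FiniteField.card F p
  rw [Nat.card_eq_fintype_card, h]; exact dvd_pow_self p n.ne_zero

theorem card_le_of_fix₂ {P : Subgroup (G2 F)} (hP : IsPGroup p P)
    (h3 : ∀ g ∈ P, act F g ![0, 0, 0, 1, 0, 0, 0, 0] = ![0, 0, 0, 1, 0, 0, 0, 0])
    (h6 : ∀ g ∈ P, act F g ![0, 0, 0, 0, 0, 0, 1, 0] = ![0, 0, 0, 0, 0, 0, 1, 0]) : Nat.card P ≤ Nat.card F := by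
  obtain ⟨_, ⟨⟨a, b⟩, rfl⟩, h0, hu⟩ := exists_fixed hP (Set.range fun x : F × F => ![0, x.1, x.2, 0, 0, 0, 0, 0])
    (by
      rintro g hg _ ⟨x, rfl⟩
      obtain ⟨c, d, e⟩ := act_plane (h3 g hg) (h6 g hg) x.1 x.2
      exact ⟨(c, d), e.symm⟩) ⟨0, by apply ext8 <;> simp⟩ (by
      rw [Nat.card_range_of_injective fun x y e => Prod.ext (congrFun e 1) (congrFun e 2), Nat.card_prod]
      exact dvd_card.mul_left _)
  obtain ⟨a', b', hd⟩ : ∃ a' b', a * b' - b * a' = 1 := by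
    by_cases ha : a = 0
    · have hb : b ≠ 0 := fun hb => h0 (by apply ext8 <;> simp [ha, hb])
      exact ⟨-b⁻¹, 0, by field_simp; ring⟩
    · exact ⟨0, a⁻¹, by field_simp; ring⟩
  simp only at hu
  have key : ∀ g : P, ∃ l : F, act F g ![0, a', b', 0, 0, 0, 0, 0] =
      l • ![0, a, b, 0, 0, 0, 0, 0] + ![0, a', b', 0, 0, 0, 0, 0] := fun g => by
    obtain ⟨c, d, e⟩ := act_plane (h3 g g.2) (h6 g g.2) a' b'
    have e1 := isAut_act g.1 ![0, a, b, 0, 0, 0, 0, 0] ![0, a', b', 0, 0, 0, 0, 0]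
    rw [hu g g.2, e, show zornMul ![0, a, b, 0, 0, 0, 0, 0] ![0, a', b', 0, 0, 0, 0, 0] = ![0, 0, 0, 0, 0, 0, 1, 0] by
      apply ext8 <;> simp [zm0, zm1, zm2, zm3, zm4, zm5, zm6, zm7, hd], h6 g g.2] at e1
    have e2 : 1 = a * d - b * c := by simpa [zm6] using congrFun e1 6
    refine ⟨c * b' - d * a', e.trans ?_⟩
    apply ext8 <;> simp
    · linear_combination -c * hd - a' * e2
    · linear_combination -d * hd - b' * e2
  choose l hl using key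
  refine Nat.card_le_card_of_injective l fun g h e => Subtype.ext ?_
  have e1 : act F g ![0, a, b, 0, 0, 0, 0, 0] = act F h ![0, a, b, 0, 0, 0, 0, 0] := (hu g g.2).trans (hu h h.2).symm
  have e2 : act F g ![0, a', b', 0, 0, 0, 0, 0] = act F h ![0, a', b', 0, 0, 0, 0, 0] := by rw [hl, hl, e]
  refine eq_of_agree ?_ ?_ ((h3 g g.2).trans (h3 h h.2).symm) ((h6 g g.2).trans (h6 h h.2).symm)
  · rw [show ![0, 1, 0, 0, 0, 0, 0, 0] = b' • ![0, a, b, 0, 0, 0, 0, 0] - b • ![0, a', b', 0, 0, 0, 0, 0] by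
      apply ext8 <;> simp
      · linear_combination -hd
      · ring, map_sub, map_sub, map_smul, map_smul, map_smul, map_smul, e1, e2]
  · rw [show ![0, 0, 1, 0, 0, 0, 0, 0] = a • ![0, a', b', 0, 0, 0, 0, 0] - a' • ![0, a, b, 0, 0, 0, 0, 0] by
      apply ext8 <;> simp
      · ring
      · linear_combination -hd, map_sub, map_sub, map_smul, map_smul, map_smul, map_smul, e1, e2]

theorem card_le_of_fix₁ {P : Subgroup (G2 F)} (hP : IsPGroup p P)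
    (h3 : ∀ g ∈ P, act F g ![0, 0, 0, 1, 0, 0, 0, 0] = ![0, 0, 0, 1, 0, 0, 0, 0]) : Nat.card P ≤ Nat.card F ^ 6 := by
  let := octAct F
  have h1 := card_le_of_fix₂ (P := (MulAction.stabilizer P ![(0 : F), 0, 0, 0, 0, 0, 1, 0]).map P.subtype)
    ((hP.to_subgroup _).map _) (by rintro _ ⟨g, -, rfl⟩; exact h3 g g.2) (by rintro _ ⟨g, hg, rfl⟩; exact hg)
  rw [Subgroup.card_map_of_injective P.subtype_injective] at h1
  have h2 : (MulAction.stabilizer P ![(0 : F), 0, 0, 0, 0, 0, 1, 0]).index ≤ Nat.card F ^ 5 := by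
    rw [MulAction.index_stabilizer, ← Nat.card_coe_set_eq, show Nat.card F ^ 5 = Nat.card (Fin 5 → F) by simp [Nat.card_fun]]
    have key : ∀ w : MulAction.orbit P ![(0 : F), 0, 0, 0, 0, 0, 1, 0],
        w.1 7 = -w.1 0 ∧ w.1 6 = 1 ∧ w.1 3 = -w.1 0 ^ 2 - w.1 1 * w.1 4 - w.1 2 * w.1 5 := by
      rintro ⟨_, g, rfl⟩
      obtain ⟨e1, e2⟩ := act_tr_nrm g.1 ![(0 : F), 0, 0, 0, 0, 0, 1, 0]
      have e3 := polar_act g.1 ![0, 0, 0, 1, 0, 0, 0, 0] ![(0 : F), 0, 0, 0, 0, 0, 1, 0]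
      rw [h3 g g.2, polar_nrm8, polar_nrm8] at e3
      rw [nrm8_apply, nrm8_apply] at e2
      change act F g.1 _ 7 = -act F g.1 _ 0 ∧ act F g.1 _ 6 = 1 ∧
        act F g.1 _ 3 = -act F g.1 _ 0 ^ 2 - act F g.1 _ 1 * act F g.1 _ 4 - act F g.1 _ 2 * act F g.1 _ 5
      generalize act F g.1 ![(0 : F), 0, 0, 0, 0, 0, 1, 0] = w at *
      simp at e1 e2 e3
      exact ⟨by linear_combination e1, e3, by linear_combination w 0 * e1 - e2 - w 3 * e3⟩
    refine Nat.card_le_card_of_injective (fun w => ![w.1 0, w.1 1, w.1 2, w.1 4, w.1 5]) fun w w' e => Subtype.ext ?_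
    have e0 : w.1 0 = w'.1 0 := congrFun e 0
    have e1 : w.1 1 = w'.1 1 := congrFun e 1
    have e2 : w.1 2 = w'.1 2 := congrFun e 2
    have e4 : w.1 4 = w'.1 4 := congrFun e 3
    have e5 : w.1 5 = w'.1 5 := congrFun e 4
    exact ext8 e0 e1 e2 (by rw [(key w).2.2, (key w').2.2, e0, e1, e2, e4, e5]) e4 e5 ((key w).2.1.trans (key w').2.1.symm)
      (by rw [(key w).1, (key w').1, e0])
  rw [← (MulAction.stabilizer P ![(0 : F), 0, 0, 0, 0, 0, 1, 0]).index_mul_card, pow_succ]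
  exact Nat.mul_le_mul h2 h1

/-- the `p`-subgroups of `G₂(q)` have order at most `q ^ 6`. -/
theorem card_le_G2 {P : Subgroup (G2 F)} (hP : IsPGroup p P) : Nat.card P ≤ Nat.card F ^ 6 := by
  classical
  obtain ⟨v, hv, h0, h1⟩ := exists_fixed hP {x | x 0 + x 7 = 0 ∧ nrm8 F x = 0}
    (fun g _ x hx => ⟨(act_tr_nrm g x).1.trans hx.1, (act_tr_nrm g x).2.trans hx.2⟩) ⟨by simp, map_zero _⟩ (by
      have hm : ∀ i j : Fin 8, (X i * X j : MvPolynomial (Fin 8) F).totalDegree ≤ 2 := fun i j =>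
        (totalDegree_mul _ _).trans (by simp)
      have := char_dvd_card_solutions_of_add_lt p (f₁ := (X 0 + X 7 : MvPolynomial (Fin 8) F))
        (f₂ := X 0 * X 7 - (X 1 * X 4 + X 2 * X 5 + X 3 * X 6)) (by
          have a1 : (X 0 + X 7 : MvPolynomial (Fin 8) F).totalDegree ≤ 1 := (totalDegree_add _ _).trans (by simp)
          have a2 := (totalDegree_sub (X 0 * X 7 : MvPolynomial (Fin 8) F) _).trans (max_le (hm 0 7)
            ((totalDegree_add _ _).trans (max_le ((totalDegree_add _ _).trans (max_le (hm 1 4) (hm 2 5))) (hm 3 6))))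
          rw [Fintype.card_fin]; omega)
      rw [← Nat.card_eq_fintype_card] at this
      convert this using 3
      simp [nrm8_apply])
  obtain ⟨t, ht, k, hk⟩ := orel_sing h0 hv.1 hv.2
  rw [← Subgroup.card_map_of_injective (f := (MulAut.conj k).toMonoidHom) (MulAut.conj k).injective]
  refine card_le_of_fix₁ (hP.map _) ?_
  rintro _ ⟨g, hg, rfl⟩
  refine smul_right_injective _ ht ?_
  change t • act F (k * g * k⁻¹) _ = t • _
  rw [← map_smul, ← hk, map_mul, map_mul, Module.End.mul_apply, Module.End.mul_apply, act_inv_act, h1 g hg]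

theorem not_pow_seven_dvd_G2 (p : ℕ) [Fact p.Prime] : ¬ p ^ 7 ∣ Nat.card (Cfsg.Lie.G2 (ZMod p)) := fun h => by
  obtain ⟨P, hP⟩ := Sylow.exists_subgroup_card_pow_prime p h
  have := card_le_G2 (IsPGroup.of_card hP)
  rw [hP, Nat.card_zmod] at this
  exact absurd ((Nat.pow_le_pow_iff_right (Fact.out : p.Prime).one_lt).1 this) (by decide)

end CL.Fus.Xs
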