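/-
The Sylow `p`-subgroups of `SL₄(p)` and `SU₄(p)` by generators and relations.
-/
import Cfsg.Agent.Fus.XsDefs
import Cfsg.Agent.Fus.Rk3S
import Cfsg.Agent.Cls.SLnCard
import Cfsg.Agent.Cls.UniGroup

set_option autoImplicit false
set_option linter.unusedSectionVars false

namespace CL.Fus.Xs

open Cfsg Subgroup Matrix CL.Fus.Rk
open scoped commutatorElement

variable {G G' : Type*} [Group G] [Group G'] {p : ℕ} {α β δ : ℤ} {x y c d z e : G} {x' y' c' d' z' e' : G'}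

/-- the subgroup generated by six elements -/
def gen6 (x y c d z e : G) : Subgroup G := zpowers z ⊔ zpowers d ⊔ zpowers c ⊔ zpowers e ⊔ zpowers y ⊔ zpowers x

theorem map_gen6 (f : G →* G') : (gen6 x y c d z e).map f = gen6 (f x) (f y) (f c) (f d) (f z) (f e) := by
  simp only [gen6, Subgroup.map_sup, MonoidHom.map_zpowers]

theorem Rel6.prod (h : Rel6 p α β δ x y c d z e) (h' : Rel6 p α β δ x' y' c' d' z' e') :
    Rel6 p α β δ (x, x') (y, y') (c, c') (d, d') (z, z') (e, e') :=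
  ⟨Prod.ext h.ex h'.ex, Prod.ext h.ey h'.ey, h.ec.prod h'.ec, h.ed.prod h'.ed, h.cd.prod h'.cd, h.xy.prod h'.xy,
    h.zx.prod h'.zx, h.zy.prod h'.zy, h.ze.prod h'.ze, Prod.ext h.cx h'.cx, Prod.ext h.cy h'.cy, Prod.ext h.dx h'.dx,
    Prod.ext h.dy h'.dy, Prod.ext h.px h'.px, Prod.ext h.py h'.py, Prod.ext h.pz h'.pz, Prod.ext h.pe h'.pe⟩

theorem Rel6.symm (h : Rel6 p α β δ x y c d z e) : Rel6 p δ β α y x d c z e :=
  ⟨h.ey, h.ex, h.ed, h.ec, h.cd.symm, h.xy.symm, h.zy, h.zx, h.ze, h.dy, h.dx, h.cy, h.cx, h.py, h.px, h.pz, h.pe⟩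

theorem r6_conj (h : ⁅c, x⁆ = z ^ α) : c * x * c⁻¹ = z ^ α * x := by rw [← h, commutatorElement_def]; group

theorem r6_swap (h : ⁅c, x⁆ = z ^ α) : ⁅x, c⁆ = z ^ (-α) := by rw [← commutatorElement_inv, h, _root_.zpow_neg]

theorem r6_two (h1 : ⁅c, x⁆ = z ^ α) (h2 : ⁅c, y⁆ = z ^ β) (zx : Commute z x) (zy : Commute z y) (i j : ℤ) :
    ⁅c, x ^ i * y ^ j⁆ = z ^ (α * i + β * j) := by
  have h3 : c * (x ^ i * y ^ j) * c⁻¹ = (c * x * c⁻¹) ^ i * (c * y * c⁻¹) ^ j := by rw [conj_zpow, conj_zpow]; group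
  rw [commutatorElement_def, h3, r6_conj h1, r6_conj h2, (zx.zpow_left α).mul_zpow, (zy.zpow_left β).mul_zpow,
    ← _root_.zpow_mul, ← _root_.zpow_mul, _root_.zpow_add, mul_assoc (z ^ (α * i)), ← mul_assoc (x ^ i),
    ← (zx.zpow_zpow (β * j) i).eq]
  group

theorem Rel6.c_eq (h : Rel6 p α β δ x y c d z e) : c = x⁻¹ * (e * x * e⁻¹) := by rw [h.ex, inv_mul_cancel_left]

theorem Rel6.zc (h : Rel6 p α β δ x y c d z e) : Commute z c :=
  h.c_eq ▸ h.zx.inv_right.mul_right ((h.ze.mul_right h.zx).mul_right h.ze.inv_right)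

theorem Rel6.pc (h : Rel6 p α β δ x y c d z e) : c ^ p ∈ zpowers z := by
  have h1 : ∀ n : ℕ, ∃ m : ℤ, (x * c) ^ n = z ^ m * (x ^ n * c ^ n) := fun n => by
    induction n with
    | zero => exact ⟨0, by simp⟩
    | succ n ih =>
      obtain ⟨m, ih⟩ := ih
      have h2 := r6_conj (r6_two h.cx h.cx h.zx h.zx n 0)
      rw [zpow_zero, mul_one, zpow_natCast, mul_inv_eq_iff_eq_mul] at h2
      refine ⟨m + (α * n + α * 0), ?_⟩
      rw [pow_succ', ih, ← mul_assoc, ← ((h.zx.mul_right h.zc).zpow_left m).eq, _root_.zpow_add]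
      generalize α * n + α * 0 = k at h2 ⊢
      calc z ^ m * (x * c) * (x ^ n * c ^ n) = z ^ m * (x * (c * x ^ n) * c ^ n) := by simp only [mul_assoc]
        _ = z ^ m * (x * z ^ k * x ^ n * c * c ^ n) := by rw [h2]; simp only [mul_assoc]
        _ = _ := by rw [← (h.zx.zpow_left k).eq, pow_succ', pow_succ']; simp only [mul_assoc]
  obtain ⟨m, hm⟩ := h1 p
  rw [← h.ex, conj_pow, h.px, one_mul, mul_one, mul_inv_cancel] at hm
  rw [eq_inv_of_mul_eq_one_right hm.symm]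
  exact inv_mem (zpow_mem (mem_zpowers z) m)

theorem Rel6.gen_le (h : Rel6 p α β δ x y c d z e) (h1 : α = 1 ∨ β = 1) {S : Subgroup G} (hx : x ∈ S) (hy : y ∈ S)
    (he : e ∈ S) : gen6 x y c d z e ≤ S := by
  have hc : c ∈ S := h.c_eq ▸ mul_mem (inv_mem hx) (mul_mem (mul_mem he hx) (inv_mem he))
  have hd : d ∈ S := h.symm.c_eq ▸ mul_mem (inv_mem hy) (mul_mem (mul_mem he hy) (inv_mem he))
  have k : ∀ w ∈ S, ⁅c, w⁆ ∈ S := fun w hw => mul_mem (mul_mem (mul_mem hc hw) (inv_mem hc)) (inv_mem hw)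
  have hz : z ∈ S := by
    rcases h1 with rfl | rfl
    · simpa [h.cx] using k x hx
    · simpa [h.cy] using k y hy
  simp only [gen6, sup_le_iff, zpowers_le, *, and_self]

variable [hp : Fact p.Prime] [Finite G] [Finite G']

theorem Rel6.x_norm (h : Rel6 p α β δ x y c d z e) {V : Subgroup G}
    (hV : V = zpowers z ⊔ zpowers d ⊔ zpowers c ⊔ zpowers e) : x ∈ normalizer (V : Set G) := by
  have k1 : z ∈ V := hV ▸ mem_sup_left (mem_sup_left (mem_sup_left (mem_zpowers z)))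
  have k2 : d ∈ V := hV ▸ mem_sup_left (mem_sup_left (mem_sup_right (mem_zpowers d)))
  have k3 : c ∈ V := hV ▸ mem_sup_left (mem_sup_right (mem_zpowers c))
  have k4 : e ∈ V := hV ▸ mem_sup_right (mem_zpowers e)
  have k5 : x * c * x⁻¹ ∈ V := r6_conj (r6_swap h.cx) ▸ mul_mem (zpow_mem k1 _) k3
  have h4 : zpowers z ⊔ zpowers d ⊔ zpowers c ⊔ zpowers e ≤ V.comap (cjh x) := by
    refine sup_le (sup_le (sup_le (zpowers_le.2 ?_) (zpowers_le.2 ?_)) (zpowers_le.2 ?_)) (zpowers_le.2 ?_) <;>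
      change x * _ * x⁻¹ ∈ V
    · rwa [← h.zx.eq, mul_inv_cancel_right]
    · exact r6_conj (r6_swap h.dx) ▸ mul_mem (zpow_mem k1 _) k2
    · exact k5
    · have : x * e * x⁻¹ = (x * c * x⁻¹)⁻¹ * e := by
        calc x * e * x⁻¹ = x * (e * x * e⁻¹)⁻¹ * e := by group
          _ = _ := by rw [h.ex]; group
      exact this ▸ mul_mem (inv_mem k5) k4
  exact mem_normalizer_of_finite fun w hw => mem_comap.1 (h4 (hV ▸ hw))

theorem Rel6.card (h : Rel6 p α β δ x y c d z e) (hz : z ≠ 1) (hnd : ¬ (p : ℤ) ∣ α * δ - β * β) :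
    Nat.card (gen6 x y c d z e) = p ^ 6 := by
  have zd := h.symm.zc
  have h0 : ∀ {a b : G} {n : ℤ}, ⁅a, b⁆ = z ^ n → n = α * δ - β * β ∨ n = -(α * δ - β * β) → ¬ Commute a b :=
    fun k hn k' => hnd (by
      rw [commutatorElement_eq_one_iff_commute.2 k', eq_comm, ← orderOf_dvd_iff_zpow_eq_one,
        orderOf_eq_prime h.pz hz] at k
      rcases hn with rfl | rfl
      exacts [k, (dvd_neg.1 k)])
  have h00 : ∀ {a b : G} {n : ℤ}, ⁅a, b⁆ = z ^ n → n = 0 → Commute a b := fun k hn =>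
    commutatorElement_eq_one_iff_commute.1 (by rw [k, hn, zpow_zero])
  have zw : ∀ i j : ℤ, Commute z (x ^ i * y ^ j) := fun i j => (h.zx.zpow_right i).mul_right (h.zy.zpow_right j)
  have h1 : d ∉ zpowers z := fun k => h0 (r6_two h.dx h.dy h.zx h.zy (-β) α) (Or.inl (by ring))
    (comm_of_cen (mem_cen_zpowers (zw _ _)) k)
  have h2 : c ∉ zpowers z ⊔ zpowers d := fun k => h0 (r6_two h.cx h.cy h.zx h.zy δ (-β)) (Or.inl (by ring))
    (comm_of_cen (mem_cen_sup (mem_cen_zpowers (zw _ _))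
      (mem_cen_zpowers (h00 (r6_two h.dx h.dy h.zx h.zy δ (-β)) (by ring)))) k)
  have n1 : ∀ w, Commute z w → w ∈ normalizer (zpowers z : Set G) := fun w k =>
    centralizer_le_normalizer _ (mem_cen_zpowers k)
  have h3 : e ∉ zpowers z ⊔ zpowers d ⊔ zpowers c := fun k => h2 (mem_sup_left (by
    have k1 : ∀ (w : G) (n : ℤ), Commute z w → ⁅x⁻¹, w⁆ = z ^ n → w⁻¹ * (x⁻¹ * w * x⁻¹⁻¹) ∈ zpowers z := fun w n zw hw => by
      rw [r6_conj hw, (zw.zpow_left n).eq, inv_mul_cancel_left]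
      exact zpow_mem (mem_zpowers z) n
    have k2 : ∀ (w : G) (n : ℤ), ⁅w, x⁆ = z ^ n → ⁅x⁻¹, w⁆ = z ^ n := fun w n hw => by
      have := r6_swap (r6_two hw hw h.zx h.zx (-1) 0)
      rw [zpow_zero, mul_one, _root_.zpow_neg_one] at this
      rw [this]; congr 1; ring
    have := (sup_le (sup_le (zpowers_le.2 ⟨mem_sup_left (mem_sup_left (mem_zpowers z)), fun _ k =>
        k ▸ k1 z 0 (Commute.refl z) (k2 z 0 (by rw [zpow_zero, commutatorElement_eq_one_iff_commute.2 h.zx]))⟩)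
      (zpowers_le.2 ⟨mem_sup_left (mem_sup_right (mem_zpowers d)), fun _ k => k ▸ k1 d β zd (k2 d β h.dx)⟩))
      (zpowers_le.2 ⟨mem_sup_right (mem_zpowers c), fun _ k => k ▸ k1 c α h.zc (k2 c α h.cx)⟩) :
      zpowers z ⊔ zpowers d ⊔ zpowers c ≤ commSub (zpowers z ⊔ zpowers d ⊔ zpowers c) (zpowers z)
        (sup_le (sup_le le_normalizer (zpowers_le.2 (n1 d zd))) (zpowers_le.2 (n1 c h.zc))) {x⁻¹}) k |>.2 x⁻¹ rfl
    have e1 : e⁻¹ * (x⁻¹ * e * x⁻¹⁻¹) = c := by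
      calc e⁻¹ * (x⁻¹ * e * x⁻¹⁻¹) = e⁻¹ * (x⁻¹ * (e * x * e⁻¹)) * e := by group
        _ = c := by rw [← h.c_eq, mul_assoc, ← h.ec.eq, inv_mul_cancel_left]
    rwa [e1] at this))
  have cV : ∀ w, Commute z w → Commute d w → Commute c w → Commute e w →
      w ∈ centralizer ((zpowers z ⊔ zpowers d ⊔ zpowers c ⊔ zpowers e : Subgroup G) : Set G) := fun w a1 a2 a3 a4 =>
    mem_cen_sup (mem_cen_sup (mem_cen_sup (mem_cen_zpowers a1) (mem_cen_zpowers a2)) (mem_cen_zpowers a3))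
      (mem_cen_zpowers a4)
  have h4 : y ∉ zpowers z ⊔ zpowers d ⊔ zpowers c ⊔ zpowers e := fun k => h1 (by
    rw [h.symm.c_eq, ← (comm_of_cen (cV e h.ze h.ed.symm h.ec.symm (Commute.refl e)) k).eq, mul_inv_cancel_right,
      inv_mul_cancel]
    exact one_mem _)
  have h5 : x ∉ zpowers z ⊔ zpowers d ⊔ zpowers c ⊔ zpowers e ⊔ zpowers y := fun k =>
    h0 (r6_two (r6_swap h.cx) (r6_swap h.dx) h.zc zd δ (-β)) (Or.inr (by ring)) (comm_of_cen (mem_cen_sup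
      (cV _ ((h.zc.zpow_right _).mul_right (zd.zpow_right _))
        ((h.cd.symm.zpow_right _).mul_right (Commute.self_zpow d _))
        ((Commute.self_zpow c _).mul_right (h.cd.zpow_right _)) ((h.ec.zpow_right _).mul_right (h.ed.zpow_right _)))
      (mem_cen_zpowers (h00 (r6_two (r6_swap h.cy) (r6_swap h.dy) h.zc zd δ (-β)) (by ring)))) k)
  have n5 : x ∈ normalizer ((zpowers z ⊔ zpowers d ⊔ zpowers c ⊔ zpowers e ⊔ zpowers y : Subgroup G) : Set G) :=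
    Subgroup.normalizer_inf_normalizer_le_normalizer_sup _ _
      ⟨h.x_norm rfl, centralizer_le_normalizer _ (mem_cen_zpowers h.xy.symm)⟩
  rw [gen6, card_sup_zpowers_of_normalizer n5 h5 (h.px ▸ one_mem _),
    card_sup_zpowers_of_normalizer (h.symm.x_norm (by rw [sup_right_comm (zpowers z)])) h4 (h.py ▸ one_mem _),
    card_sup_zpowers_of_normalizer (centralizer_le_normalizer _ (mem_cen_sup (mem_cen_sup (mem_cen_zpowers h.ze)
      (mem_cen_zpowers h.ed.symm)) (mem_cen_zpowers h.ec.symm))) h3 (h.pe ▸ one_mem _),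
    card_sup_zpowers_of_normalizer (centralizer_le_normalizer _ (mem_cen_sup (mem_cen_zpowers h.zc)
      (mem_cen_zpowers h.cd.symm))) h2 (mem_sup_left h.pc),
    card_sup_zpowers_of_normalizer (n1 d zd) h1 h.symm.pc, card_zpowers_of_pow_eq_one h.pz hz]
  ring

theorem Rel6.nonempty_equiv (h : Rel6 p α β δ x y c d z e) (h' : Rel6 p α β δ x' y' c' d' z' e') (hz : z ≠ 1)
    (hz' : z' ≠ 1) (hnd : ¬ (p : ℤ) ∣ α * δ - β * β) : Nonempty (gen6 x y c d z e ≃* gen6 x' y' c' d' z' e') := by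
  have k := (h.prod h').card (fun k => hz (congrArg Prod.fst k)) hnd
  have e1 := MulEquiv.ofBijective _ ((Nat.bijective_iff_surjective_and_card _).2
    ⟨(MonoidHom.fst G G').subgroupMap_surjective (gen6 (x, x') (y, y') (c, c') (d, d') (z, z') (e, e')), by
      rw [map_gen6, k]; exact (h.card hz hnd).symm⟩)
  have e2 := MulEquiv.ofBijective _ ((Nat.bijective_iff_surjective_and_card _).2
    ⟨(MonoidHom.snd G G').subgroupMap_surjective (gen6 (x, x') (y, y') (c, c') (d, d') (z, z') (e, e')), by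
      rw [map_gen6, k]; exact (h'.card hz' hnd).symm⟩)
  rw [map_gen6] at e1 e2
  exact ⟨e1.symm.trans e2⟩

theorem Rel6.equiv_of (h : Rel6 p α β δ x y c d z e) (h' : Rel6 p α β δ x' y' c' d' z' e') (hz : z ≠ 1)
    (hz' : z' ≠ 1) (hnd : ¬ (p : ℤ) ∣ α * δ - β * β) (h1 : α = 1 ∨ β = 1) {S : Subgroup G} (hx : x ∈ S) (hy : y ∈ S)
    (he : e ∈ S) (hc : Nat.card S = p ^ 6) : Nonempty (S ≃* gen6 x' y' c' d' z' e') :=
  eq_of_le_of_card_ge (h.gen_le h1 hx hy he) (by rw [h.card hz hnd, hc]) ▸ h.nonempty_equiv h' hz hz' hnd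

section Model
variable {K : Type*} [Field K]

/-- upper unitriangular matrices -/
def ut4 (a b c d e f : K) : SpecialLinearGroup (Fin 4) K :=
  ⟨!![1, a, d, f; 0, 1, b, e; 0, 0, 1, c; 0, 0, 0, 1], by simp [det_succ_column_zero, Fin.sum_univ_succ]⟩

theorem ut4_mul (a b c d e f a' b' c' d' e' f' : K) : ut4 a b c d e f * ut4 a' b' c' d' e' f' =
    ut4 (a + a') (b + b') (c + c') (d + a * b' + d') (e + b * c' + e') (f + a * e' + d * c' + f') := Subtype.ext (by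
  change !![_, _, _, _; _, _, _, _; _, _, _, _; _, _, _, _] * !![_, _, _, _; _, _, _, _; _, _, _, _; _, _, _, _] =
    !![_, _, _, _; _, _, _, _; _, _, _, _; _, _, _, _]
  ext i j
  fin_cases i <;> fin_cases j <;> simp [Matrix.mul_apply, Fin.sum_univ_four] <;> ring)

theorem ut4_zero : ut4 (0 : K) 0 0 0 0 0 = 1 := Subtype.ext (by
  change !![_, _, _, _; _, _, _, _; _, _, _, _; _, _, _, _] = 1
  ext i j
  fin_cases i <;> fin_cases j <;> simp)

theorem ut4_zpow {a b c : K} (f : K) (h1 : a * b = 0) (h2 : b * c = 0) (n : ℤ) :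
    ut4 a b c 0 0 f ^ n = ut4 (n * a) (n * b) (n * c) 0 0 (n * f) := by
  let φ : Multiplicative K →* SpecialLinearGroup (Fin 4) K := MonoidHom.mk'
    (fun t => ut4 (t.toAdd * a) (t.toAdd * b) (t.toAdd * c) 0 0 (t.toAdd * f)) fun s t => by
      rw [ut4_mul, toAdd_mul]
      congr 1
      · ring
      · ring
      · ring
      · linear_combination (-s.toAdd * t.toAdd) * h1
      · linear_combination (-s.toAdd * t.toAdd) * h2
      · ring
  simpa [φ] using (φ.map_zpow (Multiplicative.ofAdd 1) n).symm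

theorem ut4_pow [CharP K p] {a b c : K} (f : K) (h1 : a * b = 0) (h2 : b * c = 0) : ut4 a b c 0 0 f ^ p = 1 := by
  rw [← zpow_natCast, ut4_zpow f h1 h2]
  simp [ut4_zero]

theorem ut4_ne {f : K} (h : f ≠ 0) : ut4 0 0 0 0 0 f ≠ 1 := fun k =>
  h (by simpa [ut4] using congrFun (congrFun (congrArg Subtype.val k) 0) 3)

omit [Finite G] in
theorem r6_comm {a b w : G} (h : a * b = w * b * a) : ⁅a, b⁆ = w := by
  rw [commutatorElement_def, h, mul_inv_cancel_right, mul_inv_cancel_right]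

theorem rel6_sl [CharP K p] : Rel6 p 0 1 0 (ut4 (0 : K) 0 1 0 0 0) (ut4 1 0 0 0 0 0) (ut4 0 0 0 0 1 0)
    (ut4 0 0 0 (-1) 0 0) (ut4 0 0 0 0 0 (-1)) (ut4 0 1 0 0 0 0) := by
  refine ⟨mul_inv_eq_of_eq_mul ?_, mul_inv_eq_of_eq_mul ?_, ?_, ?_, ?_, ?_, ?_, ?_, ?_, r6_comm ?_, r6_comm ?_,
    r6_comm ?_, r6_comm ?_, ut4_pow _ (by simp) (by simp), ut4_pow _ (by simp) (by simp),
    ut4_pow _ (by simp) (by simp), ut4_pow _ (by simp) (by simp)⟩ <;>
  simp [Commute, SemiconjBy, ut4_mul]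

theorem rel6_su [CharP K p] {a : K} (ha : a * a = -δ) : Rel6 p 1 0 δ (ut4 1 0 (-1) 0 0 0) (ut4 a 0 a 0 0 0)
    (ut4 0 0 0 (-a) (-a) a) (ut4 0 0 0 (-(a * a)) (a * a) (-(a * a * a))) (ut4 0 0 0 0 0 (2 * a))
    (ut4 0 a 0 0 0 0) := by
  refine ⟨mul_inv_eq_of_eq_mul ?_, mul_inv_eq_of_eq_mul ?_, ?_, ?_, ?_, ?_, ?_, ?_, ?_, r6_comm ?_, r6_comm ?_,
    r6_comm ?_, r6_comm ?_, ut4_pow _ (by simp) (by simp), ut4_pow _ (by simp) (by simp),
    ut4_pow _ (by simp) (by simp), ut4_pow _ (by simp) (by simp)⟩ <;>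
  simp only [Commute, SemiconjBy, ut4_zpow _ (mul_zero (0 : K)) (mul_zero 0), ut4_mul] <;> congr 1 <;>
  first | ring1 | linear_combination (-2 * a) * ha

end Model

theorem r6_fact {n m : ℕ} (h : n = p ^ 6 * m) (hm : ¬ p ∣ m) : p ^ 6 = p ^ n.factorization p := by
  rw [h, Nat.factorization_mul (pow_ne_zero _ hp.out.ne_zero) (fun k => hm (by rw [k]; exact dvd_zero p)), hp.out.factorization_pow,
    Finsupp.add_apply, Finsupp.single_eq_same, Nat.factorization_eq_zero_of_not_dvd hm]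

theorem r6_sub (n : ℕ) : ¬ p ∣ p ^ (n + 1) - 1 := fun k => hp.out.one_lt.ne' (Nat.dvd_one.1 ((Nat.dvd_sub_iff_right
    (Nat.one_le_pow _ _ hp.out.pos) (dvd_pow_self p n.succ_ne_zero)).1 k))

theorem Rel6.sylow_SL (hp2 : p ≠ 2) (h : Rel6 p 0 1 0 x y c d z e) (hz : z ≠ 1) {S : Subgroup G} (hx : x ∈ S)
    (hy : y ∈ S) (he : e ∈ S) (hc : Nat.card S = p ^ 6) : ∃ P : Sylow p (Matrix.SpecialLinearGroup (Fin 4) (ZMod p)),
    Nonempty (S ≃* (P : Subgroup (Matrix.SpecialLinearGroup (Fin 4) (ZMod p)))) := by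
  have _ := hp2
  have hnd : ¬ (p : ℤ) ∣ 0 * 0 - 1 * 1 := fun k => hp.out.one_lt.ne' (Nat.dvd_one.1 (Int.natCast_dvd.1 k))
  have h2 := ut4_ne (neg_ne_zero.2 (one_ne_zero : (1 : ZMod p) ≠ 0))
  refine ⟨Sylow.ofCard _ ((rel6_sl.card h2 hnd).trans (r6_fact (by rw [CL.SLn.card_SL_four, ZMod.card]) fun k => ?_)),
    h.equiv_of rel6_sl hz h2 hnd (Or.inr rfl) hx hy he hc⟩
  exact (hp.out.dvd_mul.1 k).elim (fun k => (hp.out.dvd_mul.1 k).elim (r6_sub 1) (r6_sub 2)) (r6_sub 3)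

theorem Rel6.sylow_SU (hp2 : p ≠ 2) {δ : ℤ} (hδ : ¬ IsSquare (-(δ : ZMod p))) (h : Rel6 p 1 0 δ x y c d z e)
    (hz : z ≠ 1) {S : Subgroup G} (hx : x ∈ S) (hy : y ∈ S) (he : e ∈ S) (hc : Nat.card S = p ^ 6) :
    ∃ (K : Type) (_ : Field K) (_ : Fintype K), Fintype.card K = p ^ 2 ∧ ∃ P : Sylow p ↥(Cfsg.SU 4 K p),
      Nonempty (S ≃* (P : Subgroup ↥(Cfsg.SU 4 K p))) := by
  have : Fact (∀ r : ZMod p, r ^ 2 ≠ -(δ : ZMod p) + 0 * r) :=
    ⟨fun r k => hδ ⟨r, by rw [← sq, k, zero_mul, add_zero]⟩⟩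
  obtain ⟨K, _, _, _, hK, a, ha⟩ : ∃ (K : Type) (_ : Field K) (_ : Fintype K) (_ : Algebra (ZMod p) K),
      Fintype.card K = p ^ 2 ∧ ∃ a : K, a * a = algebraMap (ZMod p) K (-δ) :=
    ⟨QuadraticAlgebra (ZMod p) (-δ) 0, inferInstance, .ofEquiv _ (QuadraticAlgebra.equivProd _ _).symm, inferInstance,
      by rw [Fintype.ofEquiv_card, Fintype.card_prod, ZMod.card, sq], QuadraticAlgebra.omega, by
        rw [QuadraticAlgebra.omega_mul_omega_eq_mk]; rfl⟩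
  have : CharP K p := charP_of_injective_algebraMap (algebraMap (ZMod p) K).injective p
  have d0 : -(δ : ZMod p) ≠ 0 := fun k => hδ (k ▸ IsSquare.zero)
  have a0 : a ≠ 0 := fun k => d0 ((map_eq_zero (algebraMap (ZMod p) K)).1 (by rw [← ha, k, mul_zero]))
  have hb := Uni.isBar_bar hK
  have hσ : Uni.bar hK a = -a := by
    have h1 := (ZMod.pow_div_two_eq_neg_one_or_one p d0).resolve_left fun k => hδ ((ZMod.euler_criterion p d0).2 k)
    have h2 : p = 2 * (p / 2) + 1 := (Nat.two_mul_div_two_add_one_of_odd (hp.out.odd_of_ne_two hp2)).symm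
    rw [Uni.bar_apply]
    calc a ^ p = a ^ (2 * (p / 2) + 1) := by rw [← h2]
      _ = -a := by rw [pow_succ, pow_mul, sq, ha, ← map_pow, h1]; simp
  have hnd : ¬ (p : ℤ) ∣ 1 * δ - 0 * 0 := fun k => d0 (by
    rw [neg_eq_zero, ZMod.intCast_zmod_eq_zero_iff_dvd]; simpa using k)
  have h2 : ut4 0 0 0 0 0 (2 * a) ≠ 1 := ut4_ne (mul_ne_zero (fun k => hp2 ((Nat.prime_dvd_prime_iff_eq hp.out
    Nat.prime_two).1 ((CharP.cast_eq_zero_iff K p 2).1 (by exact_mod_cast k)))) a0)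
  have r := rel6_su (p := p) (δ := δ) (a := a) (by rw [ha]; simp)
  let B : (Fin 4 → K) →ₛₗ[Uni.bar hK] (Fin 4 → K) →ₗ[K] K :=
    (Uni.stdB (Uni.bar hK) (Fin 4)).comp (LinearMap.funLeft K K Fin.rev)
  have hB' : ∀ u v, B u v = Uni.bar hK (u 3) * v 0 + Uni.bar hK (u 2) * v 1 + Uni.bar hK (u 1) * v 2 +
      Uni.bar hK (u 0) * v 3 := fun u v => (Uni.stdB_apply _ _).trans (Fin.sum_univ_four _)
  have hB : Uni.IsHerm B p := by
    refine ⟨hb, fun u v => ?_, fun u hu => funext fun i => ?_⟩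
    · simp only [hB', map_add, map_mul, hb.bar_bar]; ring
    · have := hu (Pi.single i.rev 1)
      fin_cases i <;> simpa [hB'] using this
  obtain ⟨φ⟩ := hB.nonempty_suEquiv (n := 4) (by simp)
  let f : SpecialLinearGroup (Fin 4) K →* ((Fin 4 → K) ≃ₗ[K] (Fin 4 → K)) :=
    (Uni.glEquiv (Fin 4) K).toMonoidHom.comp SpecialLinearGroup.toGL
  have hf : Function.Injective f := (Uni.glEquiv (Fin 4) K).injective.comp SpecialLinearGroup.toGL_injective
  have hm : ∀ s t w : K, Uni.bar hK s = -w → Uni.bar hK t = -t → Uni.bar hK w = -s → s * t = 0 → t * w = 0 →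
      ut4 s t w 0 0 0 ∈ (Uni.SUG B).comap f := fun s t w k1 k2 k3 k4 k5 =>
    Uni.mem_SUG.2 ⟨fun u v => by
      change B ((ut4 s t w 0 0 0).1 *ᵥ u) ((ut4 s t w 0 0 0).1 *ᵥ v) = _
      simp [hB', ut4, dotProduct, Fin.sum_univ_four, k1, k2, k3]
      linear_combination (-(Uni.bar hK (u 3) * v 2)) * k4 - Uni.bar hK (u 2) * v 3 * k5, (Uni.dt_glEquiv _).trans (ut4 s t w 0 0 0).2⟩
  have hle := map_le_iff_le_comap.2 (r.gen_le (Or.inl rfl) (hm 1 0 (-1) (by simp) (by simp) (by simp) (by simp) (by simp))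
    (hm a 0 a hσ (by simp) hσ (by simp) (by simp)) (hm 0 a 0 (by simp) hσ (by simp) (by simp) (by simp)))
  obtain ⟨e1⟩ := h.equiv_of r hz h2 hnd (Or.inl rfl) hx hy he hc
  have e2 := ((e1.trans (Subgroup.equivMapOfInjective _ f hf)).trans (subgroupOfEquivOfLe hle).symm).trans
    (φ.subgroupMap _)
  refine ⟨K, inferInstance, inferInstance, hK, Sylow.ofCard _ (((Nat.card_congr e2.toEquiv).symm.trans hc).trans
    (r6_fact (m := (p ^ 2 - 1) * (p ^ 3 + 1) * (p ^ 4 - 1)) ?_ fun k => ?_)), ⟨e2⟩⟩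
  · refine mul_left_cancel₀ (Nat.succ_ne_zero p) ((Uni.card_SU hK (by norm_num)).trans ?_)
    simp [Uni.guOrder, Finset.prod_range_succ, show ¬ Even 3 by decide, show Even 2 by decide]
    ring
  · exact (hp.out.dvd_mul.1 k).elim (fun k => (hp.out.dvd_mul.1 k).elim (r6_sub 1) fun k =>
      hp.out.one_lt.ne' (Nat.dvd_one.1 ((Nat.dvd_add_right (dvd_pow_self p three_ne_zero)).1 k))) (r6_sub 3)

end CL.Fus.Xs
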