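/-
The Sylow `p`-subgroup of `G₂(p)`, `p ≥ 5`, by generators and relations (helper15).
-/
import Cfsg.Agent.Fus.XsDefs
import Cfsg.Agent.Fus.Rk3S
import Cfsg.Agent.Known.Cov2

set_option autoImplicit false
set_option linter.unusedSectionVars false

namespace CL.Fus.Xs

open Cfsg Subgroup CL.Fus.Rk CL.Grp Cfsg.Lie CL.Blk.Zorn
open scoped commutatorElement

variable {G G' : Type*} [Group G] [Group G'] {p : ℕ} {s t : ℤ} {a b c d z e : G} {a' b' c' d' z' e' : G'}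

theorem r7_cz {x y : G} (h : e * x * e⁻¹ = x * y) (ze : Commute z e) (zx : Commute z x) : Commute z y := by
  have : y = x⁻¹ * (e * x * e⁻¹) := by rw [h, inv_mul_cancel_left]
  rw [this]
  exact zx.inv_right.mul_right ((ze.mul_right zx).mul_right ze.inv_right)

theorem r7_mem {x y : G} {S : Subgroup G} (h : e * x * e⁻¹ = x * y) (he : e ∈ S) (hx : x ∈ S) : y ∈ S := by
  have : y = x⁻¹ * (e * x * e⁻¹) := by rw [h, inv_mul_cancel_left]
  rw [this]
  exact mul_mem (inv_mem hx) (mul_mem (mul_mem he hx) (inv_mem he))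

theorem Rel7.zb (h : Rel7 p s t a b c d z e) : Commute z b := r7_cz h.ea h.ze h.za

theorem Rel7.zc (h : Rel7 p s t a b c d z e) : Commute z c := r7_cz h.eb h.ze h.zb

theorem Rel7.zd (h : Rel7 p s t a b c d z e) : Commute z d := r7_cz h.ec h.ze h.zc

theorem r7_zero {x y : G} (h : Commute x y) : ⁅x, y⁆ = z ^ (0 : ℤ) := by rw [h.commutator_eq, zpow_zero]

theorem r7_symm {x y : G} {n : ℤ} (h : ⁅x, y⁆ = z ^ n) : ⁅y, x⁆ = z ^ (-n) := by
  rw [← commutatorElement_inv, h, zpow_neg]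

theorem r7_left {x y w : G} {m n : ℤ} (h1 : ⁅x, w⁆ = z ^ m) (h2 : ⁅y, w⁆ = z ^ n) (zx : Commute z x) :
    ⁅x * y, w⁆ = z ^ (m + n) := by
  rw [comm_mul_left_of_commute (h2 ▸ zx.symm.zpow_right n), h1, h2, ← zpow_add, add_comm]

theorem r7_right {x y w : G} {m n : ℤ} (h1 : ⁅w, x⁆ = z ^ m) (h2 : ⁅w, y⁆ = z ^ n) (zx : Commute z x) :
    ⁅w, x * y⁆ = z ^ (m + n) := by
  rw [comm_mul_right_of_commute (h2 ▸ zx.symm.zpow_right n), h1, h2, ← zpow_add]

theorem r7_conj {x y : G} {n : ℤ} {K : Subgroup G} (h : ⁅x, y⁆ = z ^ n) (hz : z ∈ K) (hy : y ∈ K) :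
    x * y * x⁻¹ ∈ K := by
  have : x * y * x⁻¹ = ⁅x, y⁆ * y := by rw [commutatorElement_def, inv_mul_cancel_right]
  rw [this, h]
  exact mul_mem (zpow_mem hz n) hy

theorem r7_sub {x y : G} {n : ℤ} (h : ⁅x, y⁆ = z ^ n) (zx : Commute z x) : x⁻¹ * (y * x * y⁻¹) ∈ zpowers z := by
  have : x⁻¹ * (y * x * y⁻¹) = x⁻¹ * ⁅y, x⁆ * x := by rw [commutatorElement_def]; group
  rw [this, r7_symm h, mul_assoc, (zx.zpow_left _).eq, inv_mul_cancel_left]
  exact zpow_mem (mem_zpowers z) _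

theorem r7_congr (pz : z ^ p = 1) {m n : ℤ} (h : (m : ZMod p) = n) : z ^ m = z ^ n := by
  obtain ⟨k, hk⟩ := (ZMod.intCast_eq_intCast_iff_dvd_sub m n p).1 h
  rw [show n = m + p * k by rw [← hk]; ring, zpow_add, zpow_mul, zpow_natCast, pz, one_zpow, mul_one]

theorem Rel7.chz (h : Rel7 p s t a b c d z e) {m s' t' : ℤ} (hs : (s : ZMod p) = (m * s' : ℤ))
    (ht : (t : ZMod p) = (m * t' : ℤ)) : Rel7 p s' t' a b c d (z ^ m) e :=
  ⟨h.ea, h.eb, h.ec, h.ed, h.za.zpow_left m, h.ze.zpow_left m, by rw [h.ab, ← zpow_mul, r7_congr h.pz hs],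
    by rw [h.ac, ← zpow_mul, r7_congr h.pz ht], by rw [h.ad, ← zpow_mul, r7_congr h.pz ht],
    by rw [h.bc, zpow_neg, zpow_neg, ← zpow_mul, r7_congr h.pz ht], h.bd, h.cd, h.pa,
    by rw [← zpow_natCast, ← zpow_mul, mul_comm, zpow_mul, zpow_natCast, h.pz, one_zpow], h.pe⟩

/-- the subgroup generated by six elements -/
def gen7 (a b c d z e : G) : Subgroup G := zpowers z ⊔ zpowers d ⊔ zpowers c ⊔ zpowers b ⊔ zpowers a ⊔ zpowers e

theorem map_gen7 (f : G →* G') : (gen7 a b c d z e).map f = gen7 (f a) (f b) (f c) (f d) (f z) (f e) := by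
  simp only [gen7, Subgroup.map_sup, MonoidHom.map_zpowers]

theorem Rel7.prod (h : Rel7 p s t a b c d z e) (h' : Rel7 p s t a' b' c' d' z' e') :
    Rel7 p s t (a, a') (b, b') (c, c') (d, d') (z, z') (e, e') :=
  ⟨Prod.ext h.ea h'.ea, Prod.ext h.eb h'.eb, Prod.ext h.ec h'.ec, h.ed.prod h'.ed, h.za.prod h'.za, h.ze.prod h'.ze,
    Prod.ext h.ab h'.ab, Prod.ext h.ac h'.ac, Prod.ext h.ad h'.ad, Prod.ext h.bc h'.bc, h.bd.prod h'.bd,
    h.cd.prod h'.cd, Prod.ext h.pa h'.pa, Prod.ext h.pz h'.pz, Prod.ext h.pe h'.pe⟩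

theorem Rel7.gen_le (h : Rel7 p 1 t a b c d z e) {S : Subgroup G} (ha : a ∈ S) (he : e ∈ S) :
    gen7 a b c d z e ≤ S := by
  have hb := r7_mem h.ea he ha
  have hc := r7_mem h.eb he hb
  have hz : z ∈ S := by
    rw [← zpow_one z, ← h.ab]
    exact mul_mem (mul_mem (mul_mem ha hb) (inv_mem ha)) (inv_mem hb)
  exact sup_le (sup_le (sup_le (sup_le (sup_le (zpowers_le.2 hz) (zpowers_le.2 (r7_mem h.ec he hc)))
    (zpowers_le.2 hc)) (zpowers_le.2 hb)) (zpowers_le.2 ha)) (zpowers_le.2 he)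

variable [hp : Fact p.Prime]

theorem r7_pow (hp2 : p ≠ 2) {x y : G} {n : ℤ} (h : ⁅x, y⁆ = z ^ n) (zx : Commute z x) (zy : Commute z y)
    (pz : z ^ p = 1) : (x * y) ^ p = x ^ p * y ^ p := by
  obtain ⟨k, hk⟩ := prime_dvd_choose_two hp.out hp2
  rw [mul_pow_of_commute_comm (r7_symm h ▸ zx.symm.zpow_right _) (r7_symm h ▸ zy.symm.zpow_right _), r7_symm h, hk,
    pow_mul, ← zpow_natCast (z ^ (-n)), ← zpow_mul, mul_comm (-n), zpow_mul, zpow_natCast, pz, one_zpow, one_pow,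
    mul_one]

theorem r7_pnext (hp2 : p ≠ 2) {x y : G} {n : ℤ} (k : e * x * e⁻¹ = x * y) (h : ⁅x, y⁆ = z ^ n) (zx : Commute z x)
    (zy : Commute z y) (pz : z ^ p = 1) (px : x ^ p = 1) : y ^ p = 1 := by
  have := r7_pow hp2 h zx zy pz
  rw [← k, conj_pow, px, mul_one, mul_inv_cancel, one_mul] at this
  exact this.symm

theorem Rel7.pb (hp2 : p ≠ 2) (h : Rel7 p s t a b c d z e) : b ^ p = 1 :=
  r7_pnext hp2 h.ea h.ab h.za h.zb h.pz h.pa

theorem Rel7.pc (hp2 : p ≠ 2) (h : Rel7 p s t a b c d z e) : c ^ p = 1 :=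
  r7_pnext hp2 h.eb h.bc h.zb h.zc h.pz (h.pb hp2)

theorem Rel7.pd (hp2 : p ≠ 2) (h : Rel7 p s t a b c d z e) : d ^ p = 1 :=
  r7_pnext hp2 h.ec (r7_zero h.cd) h.zc h.zd h.pz (h.pc hp2)

theorem Rel7.step (hp2 : p ≠ 2) (h : Rel7 p s t a b c d z e) :
    Rel7 p (s + 2 * t) t (a * c) (z ^ (-t) * b * d) c d z e := by
  have zz : Commute z (z ^ (-t) * b) := ((Commute.refl z).zpow_right _).mul_right h.zb
  have z0 : Commute z (z ^ (-t)) := (Commute.refl z).zpow_right _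
  refine ⟨?_, ?_, h.ec, h.ed, h.za.mul_right h.zc, h.ze, ?_, ?_, ?_, ?_,
    ((h.zd.zpow_left _).mul_left h.bd).mul_left (Commute.refl d), h.cd, ?_, h.pz, h.pe⟩
  · calc e * (a * c) * e⁻¹ = (e * a * e⁻¹) * (e * c * e⁻¹) := by group
      _ = a * (⁅b, c⁆ * c) * b * d := by rw [h.ea, h.ec, commutatorElement_def]; group
      _ = _ := by rw [h.bc, (h.zc.zpow_left _).eq]; simp only [mul_assoc]
  · calc e * (z ^ (-t) * b * d) * e⁻¹ = (e * z ^ (-t) * e⁻¹) * (e * b * e⁻¹) * (e * d * e⁻¹) := by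
          generalize z ^ (-t) = w; group
      _ = _ := by
          rw [h.eb, ← (h.ze.zpow_left _).eq, h.ed.eq, mul_inv_cancel_right, mul_inv_cancel_right, mul_assoc _ d c,
            ← h.cd.eq]
          simp only [mul_assoc]
  · rw [r7_left (r7_right (r7_right (r7_zero (h.za.zpow_left _).symm) h.ab z0) h.ad zz)
      (r7_right (r7_right (r7_zero (h.zc.zpow_left _).symm) (r7_symm h.bc) z0) (r7_zero h.cd) zz) h.za]
    congr 1
    ring
  · rw [r7_left h.ac (r7_zero (Commute.refl c)) h.za, add_zero]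
  · rw [r7_left h.ad (r7_zero h.cd) h.za, add_zero]
  · rw [r7_left (r7_left (r7_zero (h.zc.zpow_left _)) h.bc z0) (r7_zero h.cd.symm) zz, add_zero, zero_add]
  · rw [r7_pow hp2 h.ac h.za h.zc h.pz, h.pa, h.pc hp2, mul_one]

theorem Rel7.steps (hp2 : p ≠ 2) (h : Rel7 p s t a b c d z e) {S : Subgroup G} (ha : a ∈ S) (he : e ∈ S) (k : ℕ) :
    ∃ a₁ ∈ S, ∃ b₁, Rel7 p (s + 2 * k * t) t a₁ b₁ c d z e := by
  induction k with
  | zero => exact ⟨a, ha, b, by simpa using h⟩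
  | succ k ih =>
    obtain ⟨a₁, h1, b₁, r⟩ := ih
    refine ⟨a₁ * c, mul_mem h1 (r7_mem h.eb he (r7_mem h.ea he ha)), z ^ (-t) * b₁ * d, ?_⟩
    convert r.step hp2 using 1
    push_cast
    ring

theorem r7_ne (pz : z ^ p = 1) (hz : z ≠ 1) (ht : ¬ (p : ℤ) ∣ t) : z ^ t ≠ 1 := fun k =>
  ht (orderOf_eq_prime pz hz ▸ orderOf_dvd_iff_zpow_eq_one.2 k)

theorem r7_six (h5 : 5 ≤ p) : (6 : ZMod p) ≠ 0 := fun k => by
  have h : p ∣ 2 * 3 := (ZMod.natCast_eq_zero_iff 6 p).1 (by exact_mod_cast k)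
  rcases hp.out.dvd_mul.1 h with h | h <;> have := Nat.le_of_dvd (by norm_num) h <;> omega

theorem Rel7.norm (h5 : 5 ≤ p) (h : Rel7 p s t a b c d z e) (ht : ¬ (p : ℤ) ∣ t) (hz : z ≠ 1) {S : Subgroup G}
    (ha : a ∈ S) (he : e ∈ S) : ∃ a₁ ∈ S, ∃ b₁ z₁, z₁ ≠ 1 ∧ Rel7 p 1 6 a₁ b₁ c d z₁ e := by
  have h6 := r7_six h5
  have h2 : (2 : ZMod p) ≠ 0 := fun k => h6 (by linear_combination 3 * k)
  have ht' : (t : ZMod p) ≠ 0 := fun k => ht ((ZMod.intCast_zmod_eq_zero_iff_dvd t p).1 k)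
  obtain ⟨a₁, h1, b₁, r⟩ := h.steps (by omega) ha he (((t : ZMod p) / 6 - s) / (2 * t)).val
  obtain ⟨m, hm⟩ := ZMod.intCast_surjective ((t : ZMod p) / 6)
  refine ⟨a₁, h1, b₁, z ^ m, r7_ne h.pz hz fun k => ?_, r.chz ?_ ?_⟩
  · rw [(ZMod.intCast_zmod_eq_zero_iff_dvd m p).2 k] at hm
    exact div_ne_zero ht' h6 hm.symm
  · push_cast
    rw [hm, ZMod.natCast_zmod_val]
    field_simp
    ring
  · push_cast
    rw [hm]
    field_simp

variable [Finite G] [Finite G']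

theorem Rel7.card (hp2 : p ≠ 2) (h : Rel7 p s t a b c d z e) (ht : ¬ (p : ℤ) ∣ t) (hz : z ≠ 1) :
    Nat.card (gen7 a b c d z e) = p ^ 6 := by
  have h0 := r7_ne h.pz hz ht
  have nad : ¬ Commute a d := fun k => h0 (h.ad ▸ k.commutator_eq)
  have nbc : ¬ Commute b c := fun k => h0 (by
    have := h.bc ▸ k.commutator_eq
    rwa [zpow_neg, inv_eq_one] at this)
  have n1 : ∀ x, Commute z x → x ∈ normalizer (zpowers z : Set G) := fun x k =>
    centralizer_le_normalizer _ (mem_cen_zpowers k)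
  have h1 : d ∉ zpowers z := fun k => nad (comm_of_cen (mem_cen_zpowers h.za) k).symm
  have h2 : c ∉ zpowers z ⊔ zpowers d := fun k =>
    nbc (comm_of_cen (mem_cen_sup (mem_cen_zpowers h.zb) (mem_cen_zpowers h.bd.symm)) k).symm
  have h3 : b ∉ zpowers z ⊔ zpowers d ⊔ zpowers c := fun k => nbc (comm_of_cen (mem_cen_sup (mem_cen_sup
    (mem_cen_zpowers h.zc) (mem_cen_zpowers h.cd.symm)) (mem_cen_zpowers (Commute.refl c))) k)
  have h4 : a ∉ zpowers z ⊔ zpowers d ⊔ zpowers c ⊔ zpowers b := fun k => nad (comm_of_cen (mem_cen_sup (mem_cen_sup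
    (mem_cen_sup (mem_cen_zpowers h.zd) (mem_cen_zpowers (Commute.refl d))) (mem_cen_zpowers h.cd))
    (mem_cen_zpowers h.bd)) k)
  obtain ⟨Q, hQ⟩ : ∃ Q, Q = zpowers z ⊔ zpowers d ⊔ zpowers c ⊔ zpowers b ⊔ zpowers a := ⟨_, rfl⟩
  have h5 : e ∉ zpowers z ⊔ zpowers d ⊔ zpowers c ⊔ zpowers b ⊔ zpowers a := fun k => h1 (by
    have m : ∀ {x : G} {n : ℤ}, ⁅x, c⁆ = z ^ n → Commute z x → zpowers x ≤ commSub (normalizer (zpowers z : Set G))
        (zpowers z) le_rfl {c} := fun h1 h2 => zpowers_le.2 ⟨n1 _ h2, fun _ k => k ▸ r7_sub h1 h2⟩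
    have w := ((sup_le (sup_le (sup_le (sup_le (m (r7_zero h.zc) (Commute.refl z)) (m (r7_zero h.cd.symm) h.zd))
      (m (r7_zero (Commute.refl c)) h.zc)) (m h.bc h.zb)) (m h.ac h.za)) k).2 c rfl
    have w2 := conj_mem_of_mem_normalizer (n1 e h.ze) w
    rw [show e * (e⁻¹ * (c * e * c⁻¹)) * e⁻¹ = c * (e * c * e⁻¹)⁻¹ by group, h.ec, h.cd.eq, mul_inv_rev,
      mul_inv_cancel_left] at w2
    exact (Subgroup.inv_mem_iff _).1 w2)
  have k3 : zpowers z ⊔ zpowers d ⊔ zpowers c ≤ (zpowers z ⊔ zpowers d ⊔ zpowers c).comap (cjh b) := by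
    have k1 : z ∈ zpowers z ⊔ zpowers d ⊔ zpowers c := mem_sup_left (mem_sup_left (mem_zpowers z))
    exact sup_le (sup_le (zpowers_le.2 (r7_conj (r7_zero h.zb.symm) k1 k1)) (zpowers_le.2 (r7_conj (r7_zero h.bd) k1
      (mem_sup_left (mem_sup_right (mem_zpowers d)))))) (zpowers_le.2 (r7_conj h.bc k1 (mem_sup_right (mem_zpowers c))))
  have k4 : zpowers z ⊔ zpowers d ⊔ zpowers c ⊔ zpowers b ≤
      (zpowers z ⊔ zpowers d ⊔ zpowers c ⊔ zpowers b).comap (cjh a) := by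
    have k1 : z ∈ zpowers z ⊔ zpowers d ⊔ zpowers c ⊔ zpowers b :=
      mem_sup_left (mem_sup_left (mem_sup_left (mem_zpowers z)))
    exact sup_le (sup_le (sup_le (zpowers_le.2 (r7_conj (r7_zero h.za.symm) k1 k1)) (zpowers_le.2 (r7_conj h.ad k1
      (mem_sup_left (mem_sup_left (mem_sup_right (mem_zpowers d))))))) (zpowers_le.2 (r7_conj h.ac k1
      (mem_sup_left (mem_sup_right (mem_zpowers c)))))) (zpowers_le.2 (r7_conj h.ab k1 (mem_sup_right (mem_zpowers b))))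
  have k5 : Q ≤ Q.comap (cjh e) := by
    have mz : z ∈ Q := hQ ▸ mem_sup_left (mem_sup_left (mem_sup_left (mem_sup_left (mem_zpowers z))))
    have md : d ∈ Q := hQ ▸ mem_sup_left (mem_sup_left (mem_sup_left (mem_sup_right (mem_zpowers d))))
    have mc : c ∈ Q := hQ ▸ mem_sup_left (mem_sup_left (mem_sup_right (mem_zpowers c)))
    have mb : b ∈ Q := hQ ▸ mem_sup_left (mem_sup_right (mem_zpowers b))
    have ma : a ∈ Q := hQ ▸ mem_sup_right (mem_zpowers a)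
    have m : ∀ {x y : G}, e * x * e⁻¹ = x * y → x ∈ Q → y ∈ Q → zpowers x ≤ Q.comap (cjh e) := fun h1 h2 h3 =>
      zpowers_le.2 (show e * _ * e⁻¹ ∈ Q from h1 ▸ mul_mem h2 h3)
    refine hQ.le.trans (sup_le (sup_le (sup_le (sup_le ?_ ?_) (m h.ec mc md)) (m h.eb mb mc)) (m h.ea ma mb))
    · exact zpowers_le.2 (r7_conj (r7_zero h.ze.symm) mz mz)
    · exact zpowers_le.2 (r7_conj (r7_zero h.ed) mz md)
  subst hQ
  rw [gen7, card_sup_zpowers_of_normalizer (mem_normalizer_of_finite fun x hx => mem_comap.1 (k5 hx)) h5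
      (h.pe ▸ one_mem _),
    card_sup_zpowers_of_normalizer (mem_normalizer_of_finite fun x hx => mem_comap.1 (k4 hx)) h4 (h.pa ▸ one_mem _),
    card_sup_zpowers_of_normalizer (mem_normalizer_of_finite fun x hx => mem_comap.1 (k3 hx)) h3
      (h.pb hp2 ▸ one_mem _),
    card_sup_zpowers_of_normalizer (centralizer_le_normalizer _ (mem_cen_sup (mem_cen_zpowers h.zc)
      (mem_cen_zpowers h.cd.symm))) h2 (h.pc hp2 ▸ one_mem _),
    card_sup_zpowers_of_normalizer (n1 d h.zd) h1 (h.pd hp2 ▸ one_mem _), card_zpowers_of_pow_eq_one h.pz hz]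
  ring

theorem Rel7.nonempty_equiv (hp2 : p ≠ 2) (h : Rel7 p s t a b c d z e) (h' : Rel7 p s t a' b' c' d' z' e')
    (ht : ¬ (p : ℤ) ∣ t) (hz : z ≠ 1) (hz' : z' ≠ 1) : Nonempty (gen7 a b c d z e ≃* gen7 a' b' c' d' z' e') := by
  have k := (h.prod h').card hp2 ht fun k => hz (congrArg Prod.fst k)
  have e1 := MulEquiv.ofBijective _ ((Nat.bijective_iff_surjective_and_card _).2
    ⟨(MonoidHom.fst G G').subgroupMap_surjective (gen7 (a, a') (b, b') (c, c') (d, d') (z, z') (e, e')), by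
      rw [map_gen7, k]; exact (h.card hp2 ht hz).symm⟩)
  have e2 := MulEquiv.ofBijective _ ((Nat.bijective_iff_surjective_and_card _).2
    ⟨(MonoidHom.snd G G').subgroupMap_surjective (gen7 (a, a') (b, b') (c, c') (d, d') (z, z') (e, e')), by
      rw [map_gen7, k]; exact (h'.card hp2 ht hz').symm⟩)
  rw [map_gen7] at e1 e2
  exact ⟨e1.symm.trans e2⟩

section Model
variable {F : Type*} [Field F]

/-- the root elements `E₁₃(s)` -/
def r7A (s : F) : (Fin 8 → F) →ₗ[F] (Fin 8 → F) where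
  toFun x := ![x 0, x 1 + s * x 3, x 2, x 3, x 4, x 5, x 6 - s * x 4, x 7]
  map_add' x y := by apply ext8 <;> simp <;> ring
  map_smul' c x := by apply ext8 <;> simp <;> ring

/-- the root elements `E₁₂(s)` -/
def r7Z (s : F) : (Fin 8 → F) →ₗ[F] (Fin 8 → F) where
  toFun x := ![x 0, x 1 + s * x 2, x 2, x 3, x 4, x 5 - s * x 4, x 6, x 7]
  map_add' x y := by apply ext8 <;> simp <;> ring
  map_smul' c x := by apply ext8 <;> simp <;> ring

/-- short root elements -/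
def r7E (s : F) : (Fin 8 → F) →ₗ[F] (Fin 8 → F) where
  toFun x := ![x 0 + s * x 6, x 1, x 2, x 3 + s * x 7 - (x 0 + s * x 6) * s, x 4 + s * x 2, x 5 - s * x 1, x 6,
    x 7 - s * x 6]
  map_add' x y := by apply ext8 <;> simp <;> ring
  map_smul' c x := by apply ext8 <;> simp <;> ring

theorem r7A_apply (s : F) (x : Fin 8 → F) :
    r7A s x = ![x 0, x 1 + s * x 3, x 2, x 3, x 4, x 5, x 6 - s * x 4, x 7] := rfl

theorem r7Z_apply (s : F) (x : Fin 8 → F) :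
    r7Z s x = ![x 0, x 1 + s * x 2, x 2, x 3, x 4, x 5 - s * x 4, x 6, x 7] := rfl

theorem r7E_apply (s : F) (x : Fin 8 → F) : r7E s x = ![x 0 + s * x 6, x 1, x 2,
    x 3 + s * x 7 - (x 0 + s * x 6) * s, x 4 + s * x 2, x 5 - s * x 1, x 6, x 7 - s * x 6] := rfl

theorem r7_par (f : F → (Fin 8 → F) →ₗ[F] (Fin 8 → F)) (h0 : ∀ x, f 0 x = x)
    (h1 : ∀ s t x, f (s + t) x = f s (f t x)) (h2 : ∀ s, IsAut (f s)) (s : F) :
    ∃ g : G2 F, ∀ n : ℤ, act F (g ^ n) = f (n * s) := by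
  let ρ : Multiplicative F →* ((Fin 8 → F) →ₗ[F] (Fin 8 → F)) :=
    ⟨⟨fun s => f s.toAdd, LinearMap.ext h0⟩, fun s t => LinearMap.ext (h1 _ _)⟩
  refine ⟨toG2 ρ (fun s => h2 _) (Multiplicative.ofAdd s), fun n => ?_⟩
  rw [← map_zpow, act_toG2, ← ofAdd_zsmul, zsmul_eq_mul]
  rfl

theorem r7_next (u v : G2 F) (f : (Fin 8 → F) → (Fin 8 → F))
    (h : ∀ x, act F u (f (act F v x)) = act F v (act F u x)) :
    ∃ w : G2 F, (∀ x, act F w x = f x) ∧ v * u * v⁻¹ = u * w := by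
  refine ⟨u⁻¹ * (v * u * v⁻¹), fun x => ?_, (mul_inv_cancel_left _ _).symm⟩
  have e : act F v (act F v⁻¹ x) = x := by simpa only [inv_inv] using act_inv_act v⁻¹ x
  simp only [map_mul, Module.End.mul_apply]
  rw [← h, act_inv_act, e]

theorem r7_comm {u v w : G2 F} (h : ∀ x, act F u (act F v x) = act F w (act F v (act F u x))) : ⁅u, v⁆ = w := by
  have : u * v = w * v * u := act_injective (LinearMap.ext fun x => by
    simp only [map_mul, Module.End.mul_apply, h x])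
  rw [commutatorElement_def, this]
  group

theorem r7_commute {u v : G2 F} (h : ∀ x, act F u (act F v x) = act F v (act F u x)) : Commute u v :=
  act_injective (LinearMap.ext fun x => by simp only [map_mul, Module.End.mul_apply, h x])

theorem r7_model (p : ℕ) [CharP F p] : ∃ a b c d z e : G2 F, z ≠ 1 ∧ Rel7 p 1 6 a b c d z e := by
  obtain ⟨a, ha⟩ := r7_par (F := F) r7A (fun x => by apply ext8 <;> simp [r7A_apply])
    (fun s t x => by apply ext8 <;> simp [r7A_apply] <;> ring) (fun s x y => by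
      apply ext8 <;> simp [r7A_apply, zm0, zm1, zm2, zm3, zm4, zm5, zm6, zm7] <;> ring) 1
  obtain ⟨z, hz⟩ := r7_par (F := F) r7Z (fun x => by apply ext8 <;> simp [r7Z_apply])
    (fun s t x => by apply ext8 <;> simp [r7Z_apply] <;> ring) (fun s x y => by
      apply ext8 <;> simp [r7Z_apply, zm0, zm1, zm2, zm3, zm4, zm5, zm6, zm7] <;> ring) 1
  obtain ⟨e, he⟩ := r7_par (F := F) r7E (fun x => by apply ext8 <;> simp [r7E_apply])
    (fun s t x => by apply ext8 <;> simp [r7E_apply] <;> ring) (fun s x y => by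
      apply ext8 <;> simp [r7E_apply, zm0, zm1, zm2, zm3, zm4, zm5, zm6, zm7] <;> ring) (-1)
  have pw : ∀ {g : G2 F} {f : F → (Fin 8 → F) →ₗ[F] (Fin 8 → F)} {s : F}, (∀ n : ℤ, act F (g ^ n) = f (n * s)) →
      g ^ p = 1 := fun {g f s} h => act_injective (by
    rw [← zpow_natCast, h, ← zpow_zero g, h, Int.cast_natCast, CharP.cast_eq_zero, Int.cast_zero])
  have a1 : ∀ x, act F a x = ![x 0, x 1 + x 3, x 2, x 3, x 4, x 5, x 6 - x 4, x 7] := fun x => by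
    rw [← zpow_one a, ha]; simp [r7A_apply]
  have zn : ∀ (n : ℤ) x, act F (z ^ n) x = ![x 0, x 1 + n * x 2, x 2, x 3, x 4, x 5 - n * x 4, x 6, x 7] :=
    fun n x => by rw [hz, mul_one, r7Z_apply]
  have z1 : ∀ x, act F z x = ![x 0, x 1 + x 2, x 2, x 3, x 4, x 5 - x 4, x 6, x 7] := fun x => by
    rw [← zpow_one z, zn]; simp
  have e1 : ∀ x, act F e x = ![x 0 - x 6, x 1, x 2, x 3 - x 7 + (x 0 - x 6), x 4 - x 2, x 5 + x 1, x 6, x 7 + x 6] :=
    fun x => by rw [← zpow_one e, he]; apply ext8 <;> simp [r7E_apply] <;> ring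
  obtain ⟨b, b1, ea⟩ := r7_next a e (fun x => ![x 0 + x 2 + x 4, x 1 - x 0 - x 2 - x 4 - x 6 + x 7, x 2,
    x 3 + x 2 + x 4, x 4, x 5 - x 0 + x 3 - x 6 + x 7, x 6 - x 2, x 7 - x 2 - x 4]) fun x => by
      simp only [a1, e1]; apply ext8 <;> simp only [Matrix.cons_val] <;> ring
  obtain ⟨c, c1, eb⟩ := r7_next b e (fun x => ![x 0 + 2 * x 2, x 1 + 3 * x 2 - 2 * x 6, x 2,
    x 3 + 6 * x 2 + 2 * x 4, x 4, x 5 - 2 * x 0 - 4 * x 2 - 3 * x 4 - 6 * x 6 + 2 * x 7, x 6, x 7 - 2 * x 2])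
    fun x => by simp only [b1, e1]; apply ext8 <;> simp only [Matrix.cons_val] <;> ring
  obtain ⟨d, d1, ec⟩ := r7_next c e (fun x => ![x 0, x 1, x 2, x 3 + 6 * x 2, x 4, x 5 - 6 * x 6, x 6, x 7])
    fun x => by simp only [c1, e1]; apply ext8 <;> simp only [Matrix.cons_val] <;> ring
  refine ⟨a, b, c, d, z, e, fun k => ?_, ea, eb, ec, r7_commute fun x => ?_, r7_commute fun x => ?_,
    r7_commute fun x => ?_, r7_comm fun x => ?_, r7_comm fun x => ?_, r7_comm fun x => ?_, r7_comm fun x => ?_,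
    r7_commute fun x => ?_, r7_commute fun x => ?_, pw ha, pw hz, pw he⟩
  · have := congrFun (z1 (Pi.single 2 1)) 1
    rw [k, map_one] at this
    simp at this
  all_goals
    simp only [zn, a1, b1, c1, d1, e1, z1]
    apply ext8 <;> simp only [Matrix.cons_val] <;> push_cast <;> ring

end Model

theorem Rel7.sylow_G2 (h7 : ¬ p ^ 7 ∣ Nat.card (Cfsg.Lie.G2 (ZMod p))) (h5 : 5 ≤ p) (h : Rel7 p s t a b c d z e)
    (ht : ¬ (p : ℤ) ∣ t) (hz : z ≠ 1) {S : Subgroup G} (ha : a ∈ S) (he : e ∈ S) (hc : Nat.card S = p ^ 6) :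
    ∃ P : Sylow p ↥(Cfsg.Lie.G2 (ZMod p)), Nonempty (S ≃* (P : Subgroup ↥(Cfsg.Lie.G2 (ZMod p)))) := by
  have hp2 : p ≠ 2 := by omega
  have h6 : ¬ (p : ℤ) ∣ 6 := fun k => r7_six h5 (by exact_mod_cast (ZMod.intCast_zmod_eq_zero_iff_dvd 6 p).2 k)
  obtain ⟨a₁, h1, b₁, z₁, hz₁, r⟩ := h.norm h5 ht hz ha he
  obtain ⟨a', b', c', d', z', e', hz', r'⟩ := r7_model (F := ZMod p) p
  have e1 : gen7 a₁ b₁ c d z₁ e = S := eq_of_le_of_card_ge (r.gen_le h1 he) (by rw [r.card hp2 h6 hz₁, hc])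
  have k := r'.card hp2 h6 hz'
  refine ⟨Sylow.ofCard _ (k.trans ?_), e1 ▸ r.nonempty_equiv hp2 r' h6 hz₁ hz'⟩
  congr 1
  have h0 : Nat.card (Cfsg.Lie.G2 (ZMod p)) ≠ 0 := Nat.card_pos.ne'
  have := (hp.out.pow_dvd_iff_le_factorization h0).1 (k ▸ card_subgroup_dvd_card _)
  have := mt (hp.out.pow_dvd_iff_le_factorization (k := 7) h0).2 h7
  omega

end CL.Fus.Xs
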